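/-
Aschbacher's criterion for strong embedding (notes/s1175_h7_zstar.md, notes/s1175_h6_tower.md), the elementary
facts: the hypothesis as fixed-point data of the class `D` of `z`, odd products, fusion control, exchanging
involutions, and the line of a maximal 2-subgroup with two fixed points.
-/
import Cfsg.Agent.InvolCalc.StronglyEmbedded
import Mathlib.GroupTheory.GroupAction.Quotient

set_option autoImplicit false
set_option linter.unusedSectionVars false
set_option linter.style.haveILetI false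

namespace Cfsg.Lib.BenderSE.Crit2

open Subgroup MulAction Cfsg.Lib.InvolCalc Cfsg.Lib.StrongEmb

/-- The criterion's hypothesis on a transitive action: every member of the class `D` of `z` fixes exactly one
point, every 2-group fixing a point centralises a member of `D` fixing that point, and a product of two
commuting members of `D` fixes at most one point. -/
structure Crit (G α : Type*) [Group G] [MulAction G α] (z : G) : Prop where
  ord : orderOf z = 2
  uniq : ∀ d : G, IsConj z d → ∃! x : α, d • x = x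
  central : ∀ (x : α) (P : Subgroup G), IsPGroup 2 P → (∀ g ∈ P, g • x = x) →
    ∃ d, IsConj z d ∧ d • x = x ∧ ∀ g ∈ P, Commute d g
  comm : ∀ d e : G, IsConj z d → IsConj z e → Commute d e → d ≠ e →
    ∀ x y : α, (d * e) • x = x → (d * e) • y = y → x = y

variable {G α : Type*} [Group G] [MulAction G α] {z : G}

/-- the fixed points of a subgroup -/
def fixSet (α : Type*) [MulAction G α] (P : Subgroup G) : Set α := {x | ∀ g ∈ P, g • x = x}

theorem fixSet_anti {P P' : Subgroup G} (h : P ≤ P') : fixSet α P' ⊆ fixSet α P :=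
  fun _ hx g hg => hx g (h hg)

/-- a 2-group fixing two points, maximal as such -/
def MaxPair (α : Type*) [MulAction G α] (U : Subgroup G) : Prop :=
  IsPGroup 2 U ∧ (fixSet α U).Nontrivial ∧
    ∀ V : Subgroup G, IsPGroup 2 V → U ≤ V → (fixSet α V).Nontrivial → V = U

section Elementary

variable (h : Crit G α z)
include h

theorem orderOf_conj {d : G} (hd : IsConj z d) : orderOf d = 2 := by
  obtain ⟨g, rfl⟩ := isConj_iff.1 hd
  rw [show g * z * g⁻¹ = MulAut.conj g z by simp [MulAut.conj_apply], MulEquiv.orderOf_eq, h.ord]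

theorem centre_unique {d : G} (hd : IsConj z d) {x y : α} (hx : d • x = x) (hy : d • y = y) : x = y :=
  (h.uniq d hd).unique hx hy

/-- commuting members of `D` fix the same point -/
theorem centre_eq_of_commute {d e : G} (hd : IsConj z d) (he : IsConj z e) (hc : Commute d e)
    {x y : α} (hx : d • x = x) (hy : e • y = y) : x = y := by
  refine centre_unique h hd hx ?_
  refine centre_unique h he ?_ hy
  rw [smul_smul, ← hc.eq, mul_smul, hy]

/-- all reflections of the dihedral group of two members of `D` are in `D` -/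
theorem isConj_rot {d e : G} (hd : IsConj z d) (he : IsConj z e) (n : ℤ) : IsConj z ((d * e) ^ n * d) := by
  have hd2 := orderOf_conj h hd
  have he2 := orderOf_conj h he
  have hre : e = (d * e) ^ (-1 : ℤ) * d := snd_eq' hd2 he2
  have hrot := conj_rot hd2 he2
  generalize d * e = r at hre hrot ⊢
  rcases Int.even_or_odd n with ⟨i, rfl⟩ | ⟨i, rfl⟩
  · exact hd.trans (isConj_iff.2 ⟨r ^ i, by rw [hrot, two_mul]⟩)
  · refine he.trans (isConj_iff.2 ⟨r ^ (i + 1), ?_⟩)
    rw [hre, show r ^ (i + 1) * (r ^ (-1 : ℤ) * d) * (r ^ (i + 1))⁻¹ =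
      r ^ (-1 : ℤ) * (r ^ (i + 1) * d * (r ^ (i + 1))⁻¹) by group, hrot, ← mul_assoc, ← zpow_add]
    congr 2
    ring

/-- members of `D` with different points have a product of odd order -/
theorem odd_product {d e : G} (hd : IsConj z d) (he : IsConj z e) {x y : α} (hx : d • x = x)
    (hy : e • y = y) (hxy : x ≠ y) [Finite G] : Odd (orderOf (d * e)) := by
  rw [← Nat.not_even_iff_odd]
  intro hev
  have hd2 := orderOf_conj h hd
  have he2 := orderOf_conj h he
  obtain ⟨hw, hwd, hwe⟩ := central_spec hd2 he2 hev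
  set k := orderOf (d * e) / 2
  set w := (d * e) ^ k with hwdef
  have hwx : w • x = x := centre_unique h hd (x := w • x) (by rw [smul_smul, ← hwd.eq, mul_smul, hx]) hx
  have hwy : w • y = y := centre_unique h he (x := w • y) (by rw [smul_smul, ← hwe.eq, mul_smul, hy]) hy
  have hwD : IsConj z (w * d) := by
    have h1 := isConj_rot h hd he (k : ℤ)
    rwa [zpow_natCast] at h1
  have hne : w * d ≠ d := fun e' => ne_one_of_order_two hw (mul_eq_right.1 e')
  have hwdd : Commute (w * d) d := hwd.mul_left (Commute.refl d)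
  refine hxy (h.comm (w * d) d hwD hd hwdd hne x y ?_ ?_)
  all_goals rw [mul_assoc, sq_of_order_two hd2, mul_one]
  · exact hwx
  · exact hwy

/-- the member of `D` exchanging two members with different points -/
theorem exists_midpoint [Finite G] {d e : G} (hd : IsConj z d) (he : IsConj z e) {x y : α}
    (hx : d • x = x) (hy : e • y = y) (hxy : x ≠ y) :
    ∃ v, IsConj z v ∧ v • x = y ∧ v • y = x ∧ v * d * v = e ∧
      ∀ g, Commute g d → Commute g e → Commute g v := by
  have hd2 := orderOf_conj h hd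
  have he2 := orderOf_conj h he
  obtain ⟨k, hk⟩ := odd_product h hd he hx hy hxy
  set v' := (d * e) ^ (k : ℤ) * d with hv'
  have hv'D : IsConj z v' := isConj_rot h hd he k
  have hv'2 : orderOf v' = 2 := orderOf_conj h hv'D
  have hconj : v' * d * v' = e := by
    calc v' * d * v' = (d * e) ^ (k : ℤ) * (d * d) * (d * e) ^ (k : ℤ) * d := by rw [hv']; group
      _ = (d * e) ^ (-1 : ℤ) * d := by
        rw [sq_of_order_two hd2, mul_one, ← zpow_add, show (k : ℤ) + k = -1 + ((orderOf (d * e) : ℕ) : ℤ) by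
          rw [hk]; push_cast; ring, zpow_add, zpow_natCast, pow_orderOf_eq_one, mul_one]
      _ = e := (snd_eq' hd2 he2).symm
  have hswap : e * v' = v' * d := by
    rw [← hconj, mul_assoc, sq_of_order_two hv'2, mul_one]
  have hvx : v' • x = y :=
    centre_unique h he (x := v' • x) (by rw [smul_smul, hswap, mul_smul, hx]) hy
  refine ⟨v', hv'D, hvx, ?_, hconj, fun g hgd hge => ((hgd.mul_right hge).zpow_right _).mul_right hgd⟩
  rw [← hvx, smul_smul, sq_of_order_two hv'2, one_smul]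

/-- two commuting members of `D` cannot exchange the same two points -/
theorem odd_swappers [Finite G] {t t' : G} (ht : IsConj z t) (ht' : IsConj z t') {x y : α} (hxy : x ≠ y)
    (htx : t • x = y) (hty : t • y = x) (ht'x : t' • x = y) (ht'y : t' • y = x) : Odd (orderOf (t * t')) := by
  obtain ⟨p, hp, -⟩ := h.uniq t ht
  obtain ⟨p', hp', -⟩ := h.uniq t' ht'
  by_cases hpp : p = p'
  swap
  · exact odd_product h ht ht' hp hp' hpp
  subst hpp
  rw [← Nat.not_even_iff_odd]
  intro hev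
  have ht2 := orderOf_conj h ht
  have ht'2 := orderOf_conj h ht'
  obtain ⟨hw, hwt, hwt'⟩ := central_spec ht2 ht'2 hev
  set k := orderOf (t * t') / 2
  set w := (t * t') ^ k with hwdef
  have hfix : ∀ q : α, (t * t') • q = q → w • q = q := fun q hq =>
    mem_stabilizer_iff.1 (pow_mem (mem_stabilizer_iff.2 hq) k)
  have hwx : w • x = x := hfix x (by rw [mul_smul, ht'x, hty])
  have hwy : w • y = y := hfix y (by rw [mul_smul, ht'y, htx])
  have hwD : IsConj z (w * t) := by
    have h1 := isConj_rot h ht ht' (k : ℤ)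
    rwa [zpow_natCast] at h1
  have hne : w * t ≠ t := fun e' => ne_one_of_order_two hw (mul_eq_right.1 e')
  refine hxy (h.comm (w * t) t hwD ht (hwt.mul_left (Commute.refl t)) hne x y ?_ ?_)
  all_goals rw [mul_assoc, sq_of_order_two ht2, mul_one]
  · exact hwx
  · exact hwy

/-- the centraliser of a 2-group exchanges any two of its fixed points by a member of `D` -/
theorem exists_swap_fix [Finite G] {P : Subgroup G} (hP : IsPGroup 2 P) {x y : α} (hx : x ∈ fixSet α P)
    (hy : y ∈ fixSet α P) (hxy : x ≠ y) :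
    ∃ v, IsConj z v ∧ (∀ g ∈ P, Commute v g) ∧ v • x = y ∧ v • y = x := by
  obtain ⟨d, hd, hdx, hdP⟩ := h.central x P hP hx
  obtain ⟨e, he, hey, heP⟩ := h.central y P hP hy
  obtain ⟨v, hv, hvx, hvy, -, hvc⟩ := exists_midpoint h hd he hdx hey hxy
  exact ⟨v, hv, fun g hg => (hvc g (hdP g hg).symm (heP g hg).symm).symm, hvx, hvy⟩

/-- a point stabiliser controls the fusion of its 2-subgroups -/
theorem control [Finite G] {x : α} {P : Subgroup G} (hP : IsPGroup 2 P) {g : G}
    (hPx : x ∈ fixSet α P) (hPg : ∀ p ∈ P, (g * p * g⁻¹) • x = x) :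
    ∃ m : G, m • x = x ∧ ∀ p ∈ P, m * p * m⁻¹ = g * p * g⁻¹ := by
  by_cases hgx : g⁻¹ • x = x
  · exact ⟨g, by conv_lhs => rw [← hgx, smul_inv_smul], fun p _ => rfl⟩
  have hy : g⁻¹ • x ∈ fixSet α P := fun p hp => by
    rw [eq_inv_smul_iff, smul_smul, smul_smul]
    exact hPg p hp
  obtain ⟨v, -, hvP, hvx, -⟩ := exists_swap_fix h hP hPx hy (Ne.symm hgx)
  refine ⟨g * v, by rw [mul_smul, hvx, smul_inv_smul], fun p hp => ?_⟩
  rw [show g * v * p * (g * v)⁻¹ = g * (v * p * v⁻¹) * g⁻¹ by group, (hvP p hp).eq, mul_inv_cancel_right]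

/-- a member of `D` is not in a 2-group with two fixed points, nor is a product of two commuting ones -/
theorem not_conj_of_fix {u : G} {x y : α} (hx : u • x = x) (hy : u • y = y) (hxy : x ≠ y) : ¬ IsConj z u :=
  fun hu => hxy (centre_unique h hu hx hy)

end Elementary

section Line

theorem exists_maxPair [Finite G] {V : Subgroup G} (hV : IsPGroup 2 V) (hfix : (fixSet α V).Nontrivial) :
    ∃ U : Subgroup G, MaxPair α U ∧ V ≤ U := by
  classical
  obtain ⟨U, hVU, hU⟩ := (Finite.exists_le_maximal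
    (p := fun W : Subgroup G => IsPGroup 2 W ∧ (fixSet α W).Nontrivial) (a := V) ⟨hV, hfix⟩)
  exact ⟨U, ⟨hU.1.1, hU.1.2, fun W hW hUW hWf => le_antisymm (hU.2 ⟨hW, hWf⟩ hUW) hUW⟩, hVU⟩

variable {U : Subgroup G}

/-- every involution normalising `U` with two fixed points on the line of `U` lies in `U` -/
theorem mem_of_two_fix [Finite G] (hU : MaxPair α U) {i : G} (hi : i ∈ normalizer (U : Set G))
    (hi2 : IsPGroup 2 (zpowers i)) {x y : α} (hx : x ∈ fixSet α U) (hy : y ∈ fixSet α U) (hxy : x ≠ y)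
    (hix : i • x = x) (hiy : i • y = y) : i ∈ U := by
  have hV : IsPGroup 2 (U ⊔ zpowers i : Subgroup G) := hU.1.to_sup_of_normal_left' hi2 (zpowers_le.2 hi)
  have hle : U ⊔ zpowers i ≤ stabilizer G x ⊓ stabilizer G y := sup_le
    (fun g hg => mem_inf.2 ⟨mem_stabilizer_iff.2 (hx g hg), mem_stabilizer_iff.2 (hy g hg)⟩)
    (zpowers_le.2 (mem_inf.2 ⟨mem_stabilizer_iff.2 hix, mem_stabilizer_iff.2 hiy⟩))
  have hfix : (fixSet α (U ⊔ zpowers i : Subgroup G)).Nontrivial :=
    ⟨x, fun g hg => (mem_inf.1 (hle hg)).1, y, fun g hg => (mem_inf.1 (hle hg)).2, hxy⟩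
  have h1 := hU.2.2 _ hV le_sup_left hfix
  exact h1.le (mem_sup_right (mem_zpowers i))

/-- `U` is the only 2-subgroup above it in the stabiliser of two points of its line -/
theorem eq_of_le_pair [Finite G] (hU : MaxPair α U) {V : Subgroup G} (hV : IsPGroup 2 V) (hUV : U ≤ V)
    {x y : α} (hxy : x ≠ y) (hVxy : V ≤ stabilizer G x ⊓ stabilizer G y) : V = U :=
  hU.2.2 V hV hUV ⟨x, fun _ hg => (mem_inf.1 (hVxy hg)).1, y, fun _ hg => (mem_inf.1 (hVxy hg)).2, hxy⟩

/-- the normaliser of `U` is transitive on the line of `U` -/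
theorem normalizer_transitive [Finite G] (h : Crit G α z) (hU : MaxPair α U) {x y : α}
    (hx : x ∈ fixSet α U) (hy : y ∈ fixSet α U) :
    ∃ g ∈ normalizer (U : Set G), g • x = y := by
  by_cases hxy : x = y
  · exact ⟨1, one_mem _, by rw [one_smul, hxy]⟩
  obtain ⟨v, -, hvU, hvx, -⟩ := exists_swap_fix h hU.1 hx hy hxy
  exact ⟨v, centralizer_le_normalizer _ (mem_centralizer_iff.2 fun g hg => (hvU g hg).eq.symm), hvx⟩

/-- The line: modulo `U` the normaliser of `U` has the stabiliser of a point strongly embedded. -/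
theorem line_stronglyEmbedded [Finite G] (h : Crit G α z) (hU : MaxPair α U) {x : α} (hx : x ∈ fixSet α U) :
    Cfsg.IsStronglyEmbedded (((stabilizer G x).subgroupOf (normalizer (U : Set G))).map
      (QuotientGroup.mk' (U.subgroupOf (normalizer (U : Set G))))) := by
  set N := normalizer (U : Set G)
  set UN := U.subgroupOf N
  set π := QuotientGroup.mk' UN
  set K := (stabilizer G x).subgroupOf N
  have hker : π.ker ≤ K := by
    rw [QuotientGroup.ker_mk']
    exact fun g hg => mem_subgroupOf.2 (mem_stabilizer_iff.2 (hx _ (mem_subgroupOf.1 hg)))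
  have hmemK : ∀ g : N, π g ∈ K.map π ↔ g ∈ K := fun g => by
    rw [← mem_comap, comap_map_eq_self hker]
  have hfixN : ∀ g : N, ∀ {q : α}, q ∈ fixSet α U → (g : G) • q ∈ fixSet α U := fun g q hq p hp => by
    have h1 : (g : G)⁻¹ * p * g ∈ U := by simpa using (mem_normalizer_iff''.1 g.2 p).1 hp
    calc p • (g : G) • q = (g : G) • ((g : G)⁻¹ * p * g) • q := by simp only [smul_smul]; congr 1; group
      _ = (g : G) • q := by rw [hq _ h1]
  obtain ⟨a, ha, b, hb, hab⟩ := hU.2.1
  obtain ⟨y, hy, hyx⟩ : ∃ y ∈ fixSet α U, y ≠ x := by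
    by_cases hax : a = x
    · exact ⟨b, hb, fun e => hab (hax.trans e.symm)⟩
    · exact ⟨a, ha, hax⟩
  refine ⟨fun htop => ?_, ?_, fun q hq => ?_⟩
  · obtain ⟨g, hg, hgxy⟩ := normalizer_transitive h hU hx hy
    have h1 : (⟨g, hg⟩ : N) ∈ K := (hmemK _).1 (htop ▸ Subgroup.mem_top _)
    exact hyx (hgxy.symm.trans (mem_stabilizer_iff.1 (mem_subgroupOf.1 h1)))
  · obtain ⟨d, hd, hdx, hdU⟩ := h.central x U hU.1 hx
    have hdN : d ∈ N := centralizer_le_normalizer _ (mem_centralizer_iff.2 fun g hg => (hdU g hg).eq.symm)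
    have hd2 := orderOf_conj h hd
    set w := π ⟨d, hdN⟩
    have hw1 : w ≠ 1 := fun e => by
      have h1 : (⟨d, hdN⟩ : N) ∈ π.ker := e
      rw [QuotientGroup.ker_mk', mem_subgroupOf] at h1
      exact not_conj_of_fix h hdx (hy _ h1) hyx.symm hd
    have hw2 : orderOf w = 2 := order_two_of_mul_self
      (by rw [← map_mul, show (⟨d, hdN⟩ : N) * ⟨d, hdN⟩ = 1 from Subtype.ext (sq_of_order_two hd2), map_one]) hw1
    have hwK : w ∈ K.map π := mem_map_of_mem _ (mem_subgroupOf.2 (mem_stabilizer_iff.2 hdx))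
    rw [even_iff_two_dvd, ← hw2, ← Subgroup.orderOf_mk w hwK]
    exact orderOf_dvd_natCard _
  · obtain ⟨g, rfl⟩ := QuotientGroup.mk'_surjective UN q
    have hgK : g ∉ K := fun e => hq ((hmemK g).2 e)
    rw [← Nat.not_even_iff_odd]
    intro hev
    obtain ⟨w, hw, hw2⟩ := exists_involution_of_even hev
    obtain ⟨hwK, g', hg', hwg⟩ := mem_inf.1 hw
    obtain ⟨i, hiK, hi⟩ := hwK
    obtain ⟨j, hjK, rfl⟩ := hg'
    have hi' : g⁻¹ * i * g ∈ K := (hmemK _).1 (by
      rw [map_mul, map_mul, map_inv, hi, ← hwg]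
      show (π g)⁻¹ * (MulAut.conj (π g) (π j)) * π g ∈ K.map π
      rw [MulAut.conj_apply, show (π g)⁻¹ * (π g * π j * (π g)⁻¹) * π g = π j by group]
      exact mem_map_of_mem _ hjK)
    have hix : (i : G) • x = x := mem_stabilizer_iff.1 (mem_subgroupOf.1 hiK)
    have higx : (i : G) • (g : G) • x = (g : G) • x := by
      have h1 := mem_stabilizer_iff.1 (mem_subgroupOf.1 hi')
      simp only [Subgroup.coe_mul, Subgroup.coe_inv, mul_smul, inv_smul_eq_iff] at h1
      exact h1
    have hgx : (g : G) • x ≠ x := fun e => hgK (mem_subgroupOf.2 (mem_stabilizer_iff.2 e))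
    have hi2U : (i : G) * i ∈ U := by
      have h1 : i * i ∈ π.ker := by rw [MonoidHom.mem_ker, map_mul, hi, sq_of_order_two hw2]
      rwa [QuotientGroup.ker_mk', mem_subgroupOf] at h1
    have hip : IsPGroup 2 (zpowers (i : G)) := by
      obtain ⟨k, hk⟩ := hU.1 ⟨_, hi2U⟩
      have hk' : ((i : G) * i) ^ 2 ^ k = 1 := congrArg Subtype.val hk
      have hk2 : (i : G) ^ 2 ^ (k + 1) = 1 := by
        rw [pow_succ', pow_mul, pow_two]; exact hk'
      obtain ⟨l, -, hl⟩ := (Nat.dvd_prime_pow Nat.prime_two).1 (orderOf_dvd_of_pow_eq_one hk2)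
      exact IsPGroup.of_card (n := l) (by rw [Nat.card_zpowers, hl])
    have hiU := mem_of_two_fix hU i.2 hip hx (hfixN g hx) hgx.symm hix higx
    apply ne_one_of_order_two hw2
    rw [← hi]
    exact (QuotientGroup.eq_one_iff i).2 (mem_subgroupOf.2 hiU)

end Line

/-- the hypotheses of the criterion give the fixed-point form on the cosets -/
theorem crit_of_hyps [Finite G] (M : Subgroup G) (hz : orderOf z = 2) (hzM : z ∈ M)
    (h1 : ∃ S : Sylow 2 G, z ∈ S ∧ ∀ s ∈ S, Commute s z) (h2 : ∀ g : G, g * z * g⁻¹ ∈ M → g ∈ M)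
    (h3 : ∀ g : G, Commute z (g * z * g⁻¹) → g * z * g⁻¹ ≠ z →
      centralizer ({z * (g * z * g⁻¹)} : Set G) ≤ M) : Crit G (G ⧸ M) z := by
  have hM : ∀ g : G, g • ((1 : G) : G ⧸ M) = ((1 : G) : G ⧸ M) ↔ g ∈ M := fun g => by
    rw [← mem_stabilizer_iff, stabilizer_quotient]
  have huniq : ∀ d, IsConj z d → ∃! x : G ⧸ M, d • x = x := by
    intro d hd
    obtain ⟨g, rfl⟩ := isConj_iff.1 hd
    refine ⟨g • ((1 : G) : G ⧸ M), by
      show (g * z * g⁻¹) • g • ((1 : G) : G ⧸ M) = g • ((1 : G) : G ⧸ M)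
      rw [mul_smul, mul_smul, inv_smul_smul, (hM z).2 hzM], fun y hy => ?_⟩
    obtain ⟨k, rfl⟩ := exists_smul_eq G ((1 : G) : G ⧸ M) y
    have h4 : (k⁻¹ * g) * z * (k⁻¹ * g)⁻¹ ∈ M := by
      refine (hM _).1 ?_
      rw [show (k⁻¹ * g) * z * (k⁻¹ * g)⁻¹ = k⁻¹ * (g * z * g⁻¹) * k by group, mul_smul, mul_smul,
        inv_smul_eq_iff]
      exact hy
    have h5 := h2 _ h4
    conv_rhs => rw [show g = k * (k⁻¹ * g) by group, mul_smul, (hM _).2 h5]
  obtain ⟨S, hzS, hS⟩ := h1
  have hSM : (S : Subgroup G) ≤ M := fun s hs =>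
    h2 s (by rw [(hS s hs).eq, mul_inv_cancel_right]; exact hzM)
  have hcentral : ∀ (x : G ⧸ M) (P : Subgroup G), IsPGroup 2 P → (∀ g ∈ P, g • x = x) →
      ∃ d, IsConj z d ∧ d • x = x ∧ ∀ g ∈ P, Commute d g := by
    intro x P hP hPx
    haveI : Fact (Nat.Prime 2) := ⟨Nat.prime_two⟩
    obtain ⟨k, rfl⟩ := exists_smul_eq G ((1 : G) : G ⧸ M) x
    set P' := P.map (MulAut.conj k⁻¹).toMonoidHom with hP'
    have hP'M : P' ≤ M := by
      rintro _ ⟨p, hp, rfl⟩
      refine (hM _).1 ?_
      show (k⁻¹ * p * k⁻¹⁻¹) • _ = _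
      rw [inv_inv, mul_smul, mul_smul, inv_smul_eq_iff]
      exact hPx p hp
    set SM : Sylow 2 M := S.subtype hSM
    obtain ⟨R, hR⟩ := ((hP.map _).of_equiv (subgroupOfEquivOfLe hP'M).symm :
      IsPGroup 2 (P'.subgroupOf M)).exists_le_sylow
    obtain ⟨m, hm⟩ := exists_smul_eq M SM R
    refine ⟨k * (m : G) * z * (k * (m : G))⁻¹, isConj_iff.2 ⟨k * (m : G), rfl⟩, ?_, fun p hp => ?_⟩
    · rw [show k * (m : G) * z * (k * (m : G))⁻¹ = k * ((m : G) * z * (m : G)⁻¹) * k⁻¹ by group, mul_smul,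
        mul_smul, inv_smul_smul, (hM _).2 (mul_mem (mul_mem m.2 hzM) (inv_mem m.2))]
    · have hmem : k⁻¹ * p * k ∈ P' := ⟨p, hp, by simp [MulAut.conj_apply]⟩
      have hr : (⟨_, hP'M hmem⟩ : M) ∈ (R : Subgroup M) := hR (mem_subgroupOf.2 hmem)
      rw [← hm, Sylow.coe_subgroup_smul, Subgroup.mem_smul_pointwise_iff_exists] at hr
      obtain ⟨s, hs, hsp⟩ := hr
      have hs' : (s : G) ∈ (S : Subgroup G) := mem_subgroupOf.1 hs
      have hsp' : (m : G) * s * (m : G)⁻¹ = k⁻¹ * p * k := congrArg Subtype.val hsp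
      have hpe : p = (k * (m : G)) * s * (k * (m : G))⁻¹ := by
        rw [show (k * (m : G)) * s * (k * (m : G))⁻¹ = k * ((m : G) * s * (m : G)⁻¹) * k⁻¹ by group, hsp']
        group
      rw [hpe]
      exact (hS s hs').symm.map (MulAut.conj (k * (m : G))).toMonoidHom
  refine ⟨hz, huniq, hcentral, fun d e hd he hde hne x y hx hy => ?_⟩
  -- reduce to `d = z`
  obtain ⟨g, rfl⟩ := isConj_iff.1 hd
  obtain ⟨g', rfl⟩ := isConj_iff.1 he
  set e' := g⁻¹ * (g' * z * g'⁻¹) * g with he'
  have hze : g * (z * e') * g⁻¹ = g * z * g⁻¹ * (g' * z * g'⁻¹) := by rw [he']; group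
  have hcommz : Commute z e' := by
    have h4 := hde.map (MulAut.conj g⁻¹).toMonoidHom
    simpa [he', MulAut.conj_apply, mul_assoc] using h4
  have hne' : e' ≠ z := fun e => hne <| calc
    g * z * g⁻¹ = g * e' * g⁻¹ := by rw [e]
    _ = g' * z * g'⁻¹ := by rw [he']; group
  have hconj : (g⁻¹ * g') * z * (g⁻¹ * g')⁻¹ = e' := by rw [he']; group
  have hCM := h3 (g⁻¹ * g') (by rw [hconj]; exact hcommz) (by rw [hconj]; exact hne')
  rw [hconj] at hCM
  set w := z * e'
  have hpt : ∀ q : G ⧸ M, w • q = q → q = ((1 : G) : G ⧸ M) := by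
    intro q hq
    have hw1 : w ≠ 1 := fun e1 => hne' (by
      rw [eq_inv_of_mul_eq_one_right e1, inv_of_order_two hz])
    have hw2 : w * w = 1 := by
      rw [show w * w = z * (e' * z) * e' by simp only [w]; group, ← hcommz.eq,
        show z * (z * e') * e' = (z * z) * (e' * e') by group, sq_of_order_two hz, one_mul,
        ← hconj, show g⁻¹ * g' * z * (g⁻¹ * g')⁻¹ * (g⁻¹ * g' * z * (g⁻¹ * g')⁻¹) =
          g⁻¹ * g' * (z * z) * (g⁻¹ * g')⁻¹ by group, sq_of_order_two hz, mul_one, mul_inv_cancel]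
    have hwz : IsPGroup 2 (zpowers w) :=
      IsPGroup.of_card (n := 1) (by rw [Nat.card_zpowers, order_two_of_mul_self hw2 hw1, pow_one])
    obtain ⟨f, hf, hfq, hfc⟩ := hcentral q (zpowers w) hwz fun k hk =>
      mem_stabilizer_iff.1 ((zpowers_le.2 (mem_stabilizer_iff.2 hq)) hk)
    have hfM : f ∈ M := hCM (mem_centralizer_singleton_iff.2 (hfc w (mem_zpowers w)).eq)
    exact (huniq f hf).unique hfq ((hM f).2 hfM)
  have key : ∀ q : G ⧸ M, (g * z * g⁻¹ * (g' * z * g'⁻¹)) • q = q → q = g • ((1 : G) : G ⧸ M) := by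
    intro q hq
    rw [← hze, mul_smul, mul_smul] at hq
    rw [← hpt (g⁻¹ • q) (eq_inv_smul_iff.2 hq), smul_inv_smul]
  rw [key x hx, key y hy]

end Cfsg.Lib.BenderSE.Crit2
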