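/-
Aschbacher's criterion, the classes of involutions (notes/s1175_h7_exact.md, E1 and E2): the members
centralising a 2-group with two fixed points are one class under its centraliser, `D` is the set of
involutions with exactly one fixed point, and the incidence count of a line.
-/
import Cfsg.Agent.BenderSE.Criterion2.Basic

set_option autoImplicit false
set_option linter.unusedSectionVars false
set_option linter.style.haveILetI false

namespace Cfsg.Lib.BenderSE.Crit2

open Subgroup MulAction Cfsg.Lib.InvolCalc Cfsg.Lib.StrongEmb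

variable {G α : Type*} [Group G] [MulAction G α] {z : G}

/-- the members of the class of `z` at `x` centralising `u` -/
def membersAt (z u : G) (x : α) : Set G := {d | IsConj z d ∧ Commute u d ∧ d • x = x}

theorem isPGroup_zpowers_of_two {u : G} (hu : orderOf u = 2) : IsPGroup 2 (zpowers u) :=
  IsPGroup.of_card (n := 1) (by rw [Nat.card_zpowers, hu, pow_one])

theorem mem_fixSet_zpowers {u : G} {x : α} (hx : u • x = x) : x ∈ fixSet α (zpowers u) :=
  fun _ hg => mem_stabilizer_iff.1 (zpowers_le.2 (mem_stabilizer_iff.2 hx) hg)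

/-- the central involution of an even dihedral group times one of the two generators -/
theorem central_cases [Finite G] {t e : G} (ht : orderOf t = 2) (he : orderOf e = 2)
    (hev : Even (orderOf (t * e))) :
    IsConj e ((t * e) ^ (orderOf (t * e) / 2) * e) ∨ IsConj e ((t * e) ^ (orderOf (t * e) / 2) * t) := by
  have hte : e = (t * e) ^ (-1 : ℤ) * t := snd_eq' ht he
  have hrot := conj_rot ht he
  set k := orderOf (t * e) / 2
  rcases Nat.even_or_odd k with ⟨i, hi⟩ | ⟨i, hi⟩
  · refine Or.inl (isConj_iff.2 ⟨(t * e) ^ (i : ℤ), ?_⟩)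
    generalize t * e = r at hte hrot ⊢
    rw [hte, show r ^ (i : ℤ) * (r ^ (-1 : ℤ) * t) * (r ^ (i : ℤ))⁻¹ =
      r ^ (-1 : ℤ) * (r ^ (i : ℤ) * t * (r ^ (i : ℤ))⁻¹) by group, hrot, hi, ← zpow_natCast, ← mul_assoc,
      ← mul_assoc, ← zpow_add, ← zpow_add]
    congr 2
    push_cast
    ring
  · refine Or.inr (isConj_iff.2 ⟨(t * e) ^ ((i : ℤ) + 1), ?_⟩)
    generalize t * e = r at hte hrot ⊢
    rw [hte, show r ^ ((i : ℤ) + 1) * (r ^ (-1 : ℤ) * t) * (r ^ ((i : ℤ) + 1))⁻¹ =
      r ^ (-1 : ℤ) * (r ^ ((i : ℤ) + 1) * t * (r ^ ((i : ℤ) + 1))⁻¹) by group, hrot, hi, ← zpow_natCast,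
      ← mul_assoc, ← zpow_add]
    congr 2
    push_cast
    ring

section Classes

variable (h : Crit G α z)
include h

theorem smul_smul_self {d : G} (hd : IsConj z d) (x : α) : d • d • x = x := by
  rw [smul_smul, sq_of_order_two (orderOf_conj h hd), one_smul]

/-- a member centralising `g` has its point fixed by `g` -/
theorem smul_centre {d g : G} (hd : IsConj z d) (hgd : Commute g d) {x : α} (hx : d • x = x) :
    g • x = x :=
  centre_unique h hd (x := g • x) (by rw [smul_smul, ← hgd.eq, mul_smul, hx]) hx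

/-- the centre of a conjugate -/
theorem conj_centre {d d' g : G} (hd' : IsConj z d') (hconj : g * d * g⁻¹ = d') {x y : α} (hx : d • x = x)
    (hy : d' • y = y) : g • x = y :=
  centre_unique h hd' (by rw [← hconj, mul_smul, mul_smul, inv_smul_smul, hx]) hy

variable [Finite G]

/-- only one member of `D` exchanges `d` and `e` -/
theorem swapper_unique {d e v w : G} (hd : IsConj z d) (he : IsConj z e) {x y : α} (hdx : d • x = x)
    (hey : e • y = y) (hxy : x ≠ y) (hv : IsConj z v) (hw : IsConj z w) (hvx : v • x = y) (hwx : w • x = y)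
    (hvd : v * d * v = e) (hwd : w * d * w = e) : v = w := by
  obtain ⟨m, hm, hmx, hmy, hmd, hmc⟩ := exists_midpoint h hd he hdx hey hxy
  suffices key : ∀ w', IsConj z w' → w' • x = y → w' * d * w' = e → w' = m by
    rw [key v hv hvx hvd, key w hw hwx hwd]
  intro w' hw' hw'x hw'd
  have h1 := sq_of_order_two (orderOf_conj h hm)
  have h2 := sq_of_order_two (orderOf_conj h hw')
  have hw'e : w' * e * w' = d := by
    rw [← hw'd, show w' * (w' * d * w') * w' = (w' * w') * d * (w' * w') by group, h2, one_mul, mul_one]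
  have hme : m * e * m = d := by
    rw [← hmd, show m * (m * d * m) * m = (m * m) * d * (m * m) by group, h1, one_mul, mul_one]
  have hmm : m⁻¹ = m := inv_eq_of_mul_eq_one_right h1
  have hww : w'⁻¹ = w' := inv_eq_of_mul_eq_one_right h2
  have c1 : Commute (w' * m) d := by
    refine mul_inv_eq_iff_eq_mul.1 ?_
    rw [mul_inv_rev, hmm, hww, show w' * m * d * (m * w') = w' * (m * d * m) * w' by group, hmd, hw'e]
  have c2 : Commute (w' * m) e := by
    refine mul_inv_eq_iff_eq_mul.1 ?_
    rw [mul_inv_rev, hmm, hww, show w' * m * e * (m * w') = w' * (m * e * m) * w' by group, hme, hw'd]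
  have c3 : Commute w' m := by
    have h3 : w' * m * m = m * (w' * m) := (hmc _ c1 c2).eq
    show w' * m = m * w'
    calc w' * m = (w' * m * m) * m := by rw [mul_assoc (w' * m), h1, mul_one]
      _ = m * w' * (m * m) := by rw [h3]; group
      _ = m * w' := by rw [h1, mul_one]
  have hsq : (w' * m) ^ 2 = 1 := by rw [pow_two, c3.symm.mul_mul_mul_comm, h2, h1, one_mul]
  have hw'y : w' • y = x := by rw [← hw'x, smul_smul_self h hw']
  have hodd := odd_swappers h hw' hm hxy hw'x hw'y hmx hmy
  have h4 : w' * m = 1 := by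
    rw [← orderOf_eq_one_iff]
    rcases (Nat.dvd_prime Nat.prime_two).1 (orderOf_dvd_of_pow_eq_one hsq) with e' | e'
    · exact e'
    · exact absurd (e' ▸ hodd) (by decide)
  rw [eq_inv_of_mul_eq_one_left h4, hmm]

/-- an involution moving `x` centralises a member moving `x` to the same point -/
theorem exists_swap_commute {u : G} (hu : orderOf u = 2) {d : G} (hd : IsConj z d) {x : α} (hdx : d • x = x)
    (hux : u • x ≠ x) : ∃ v, IsConj z v ∧ Commute u v ∧ v • x = u • x ∧ v * d * v = u * d * u := by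
  have huu := sq_of_order_two hu
  have hui : u⁻¹ = u := inv_eq_of_mul_eq_one_right huu
  have he : IsConj z (u * d * u) := hd.trans (isConj_iff.2 ⟨u, by rw [hui]⟩)
  have hey : (u * d * u) • (u • x) = u • x := by
    rw [mul_smul, mul_smul, smul_smul u u, huu, one_smul, hdx]
  obtain ⟨v, hv, hvx, hvy, hvd, -⟩ := exists_midpoint h hd he hdx hey hux.symm
  refine ⟨v, hv, ?_, hvx, hvd⟩
  have hv' : IsConj z (u * v * u) := hv.trans (isConj_iff.2 ⟨u, by rw [hui]⟩)
  have hv'x : (u * v * u) • x = u • x := by rw [mul_smul, mul_smul, hvy]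
  have hv'd : u * v * u * d * (u * v * u) = u * d * u := by
    rw [show u * v * u * d * (u * v * u) = u * (v * (u * d * u) * v) * u by group, ← hvd,
      show v * (v * d * v) * v = (v * v) * d * (v * v) by group, sq_of_order_two (orderOf_conj h hv),
      one_mul, mul_one, hvd]
  have heq := swapper_unique h hd he hdx hey hux.symm hv' hv hv'x hvx hv'd hvd
  show u * v = v * u
  calc u * v = (u * v * u) * u := by rw [mul_assoc (u * v), huu, mul_one]
    _ = v * u := by rw [heq]

/-- E2: the members centralising a 2-group with two fixed points are conjugate in its centraliser -/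
theorem members_conj {P : Subgroup G} (hP : IsPGroup 2 P) (hfix : (fixSet α P).Nontrivial) {d d' : G}
    (hd : IsConj z d) (hd' : IsConj z d') (hPd : ∀ g ∈ P, Commute g d) (hPd' : ∀ g ∈ P, Commute g d') :
    ∃ g : G, (∀ p ∈ P, Commute g p) ∧ g * d * g⁻¹ = d' := by
  have step : ∀ d₁ d₂ : G, IsConj z d₁ → IsConj z d₂ → (∀ g ∈ P, Commute g d₁) → (∀ g ∈ P, Commute g d₂) →
      ∀ x y : α, d₁ • x = x → d₂ • y = y → x ≠ y →
      ∃ g : G, (∀ p ∈ P, Commute g p) ∧ g * d₁ * g⁻¹ = d₂ := by
    intro d₁ d₂ h1 h2 c1 c2 x y hx hy hxy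
    obtain ⟨v, hv, -, -, hvd, hvc⟩ := exists_midpoint h h1 h2 hx hy hxy
    exact ⟨v, fun p hp => (hvc p (c1 p hp) (c2 p hp)).symm,
      by rw [inv_of_order_two (orderOf_conj h hv), hvd]⟩
  obtain ⟨c, hc, -⟩ := h.uniq d hd
  obtain ⟨c', hc', -⟩ := h.uniq d' hd'
  by_cases hcc : c = c'
  swap
  · exact step d d' hd hd' hPd hPd' c c' hc hc' hcc
  subst hcc
  obtain ⟨b, hb, hbc⟩ := hfix.exists_ne c
  obtain ⟨e, he, heb, heP⟩ := h.central b P hP hb
  have hPe : ∀ g ∈ P, Commute g e := fun g hg => (heP g hg).symm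
  obtain ⟨g₁, hg₁, hg₁d⟩ := step d e hd he hPd hPe c b hc heb hbc.symm
  obtain ⟨g₂, hg₂, hg₂e⟩ := step e d' he hd' hPe hPd' b c heb hc' hbc
  refine ⟨g₂ * g₁, fun p hp => (hg₂ p hp).mul_left (hg₁ p hp), ?_⟩
  rw [show g₂ * g₁ * d * (g₂ * g₁)⁻¹ = g₂ * (g₁ * d * g₁⁻¹) * g₂⁻¹ by group, hg₁d, hg₂e]

/-- E2 for an element: the products with the members centralising it are conjugate under its centraliser -/
theorem partner_conj {u : G} (hu : orderOf u = 2) {a b : α} (hua : u • a = a) (hub : u • b = b) (hab : a ≠ b)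
    {d d' : G} (hd : IsConj z d) (hd' : IsConj z d') (hud : Commute u d) (hud' : Commute u d') :
    ∃ g : G, Commute g u ∧ g * d * g⁻¹ = d' ∧ g * (u * d) * g⁻¹ = u * d' := by
  have hc : ∀ {w : G}, Commute u w → ∀ g ∈ zpowers u, Commute g w := by
    rintro w hw _ ⟨j, rfl⟩
    exact hw.zpow_left j
  obtain ⟨g, hg, hgd⟩ := members_conj h (isPGroup_zpowers_of_two hu)
    ⟨a, mem_fixSet_zpowers hua, b, mem_fixSet_zpowers hub, hab⟩ hd hd' (hc hud) (hc hud')
  have hgu := hg u (mem_zpowers u)
  exact ⟨g, hgu, hgd, by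
    rw [show g * (u * d) * g⁻¹ = (g * u) * d * g⁻¹ by group, hgu.eq,
      show u * g * d * g⁻¹ = u * (g * d * g⁻¹) by group, hgd]⟩

omit [Finite G] in
/-- a member exchanging the same points as a commuting involution gives it two fixed points -/
theorem mul_fix_of_swap {u v : G} (hu : orderOf u = 2) (huv : Commute u v) {x : α} (hvx : v • x = u • x) :
    (u * v) • x = x ∧ (u * v) • u • x = u • x := by
  have h1 : (u * v) • x = x := by rw [mul_smul, hvx, smul_smul, sq_of_order_two hu, one_smul]
  refine ⟨h1, ?_⟩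
  rw [smul_smul, mul_assoc, ← huv.eq, mul_smul, h1]

variable [FaithfulSMul G α]

theorem exists_moved {u : G} (hu : u ≠ 1) : ∃ x : α, u • x ≠ x := by
  by_contra hno
  push Not at hno
  exact hu (eq_of_smul_eq_smul fun x : α => by rw [hno x, one_smul])

/-- (c): a member times a commuting involution with two fixed points has two fixed points -/
theorem mul_two_fix {u : G} (hu : orderOf u = 2) {a b : α} (hua : u • a = a) (hub : u • b = b) (hab : a ≠ b)
    {d : G} (hd : IsConj z d) (hud : Commute u d) :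
    ∃ x y : α, x ≠ y ∧ (u * d) • x = x ∧ (u * d) • y = y := by
  obtain ⟨x, hx⟩ := exists_moved h (α := α) (ne_one_of_order_two hu)
  obtain ⟨e, he, hex, -⟩ := h.central x ⊥ IsPGroup.of_bot fun g hg => by rw [mem_bot.1 hg, one_smul]
  obtain ⟨v, hv, huv, hvx, -⟩ := exists_swap_commute h hu he hex hx
  obtain ⟨h1, h2⟩ := mul_fix_of_swap h hu huv hvx
  obtain ⟨g, -, -, hg⟩ := partner_conj h hu hua hub hab hv hd huv hud
  refine ⟨g • x, g • u • x, fun e' => hx (smul_left_cancel g e'.symm), ?_, ?_⟩
  · rw [← hg, mul_smul, mul_smul, inv_smul_smul, h1]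
  · rw [← hg, mul_smul, mul_smul, inv_smul_smul, h2]

/-- (c): a member times a commuting involution with two fixed points is not a member -/
theorem mul_not_conj {u : G} (hu : orderOf u = 2) {a b : α} (hua : u • a = a) (hub : u • b = b) (hab : a ≠ b)
    {d : G} (hd : IsConj z d) (hud : Commute u d) : ¬ IsConj z (u * d) := by
  obtain ⟨x, y, hxy, hx, hy⟩ := mul_two_fix h hu hua hub hab hd hud
  exact not_conj_of_fix h hx hy hxy

/-- (a): an involution with exactly one fixed point is a member -/
theorem conj_of_unique_fix {t : G} (ht : orderOf t = 2) {a : α} (hta : t • a = a)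
    (honly : ∀ x : α, t • x = x → x = a) : IsConj z t := by
  by_contra htD
  obtain ⟨b, hb⟩ := exists_moved h (α := α) (ne_one_of_order_two ht)
  have hab : b ≠ a := fun e => hb (e ▸ hta)
  obtain ⟨e, he, heb, -⟩ := h.central b ⊥ IsPGroup.of_bot fun g hg => by rw [mem_bot.1 hg, one_smul]
  have he2 := orderOf_conj h he
  have hev : Even (orderOf (t * e)) := by
    rw [← Nat.not_odd_iff_even]
    intro ho
    obtain ⟨v, hv, hvt, -⟩ := midpoint ht he2 ho
    exact htD (he.trans (isConj_iff.2 ⟨v⁻¹, by rw [inv_inv, inv_of_order_two hv, ← hvt,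
      show v * (v * t * v) * v = (v * v) * t * (v * v) by group, sq_of_order_two hv, one_mul, mul_one]⟩))
  obtain ⟨hw, hwt, hwe⟩ := central_spec ht he2 hev
  have hcases := central_cases ht he2 hev
  set w := (t * e) ^ (orderOf (t * e) / 2)
  have hwa : w • a = a := honly _ (by rw [smul_smul, ← hwt.eq, mul_smul, hta])
  have hwb : w • b = b := smul_centre h he hwe heb
  rcases hcases with hc | hc
  · have hne : w * e ≠ e := fun e' => ne_one_of_order_two hw (mul_eq_right.1 e')
    refine hab (h.comm (w * e) e (he.trans hc) he (hwe.mul_left (Commute.refl e)) hne b a ?_ ?_)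
    all_goals rw [mul_assoc, sq_of_order_two he2, mul_one]
    · exact hwb
    · exact hwa
  · obtain ⟨x, y, hxy, hx, hy⟩ :=
      mul_two_fix h hw hwa hwb hab.symm (he.trans hc) ((Commute.refl w).mul_right hwt)
    rw [← mul_assoc, sq_of_order_two hw, one_mul] at hx hy
    exact hxy ((honly x hx).trans (honly y hy).symm)

/-- (b): the product of two commuting members is a member -/
theorem conj_mul_of_commute {d e : G} (hd : IsConj z d) (he : IsConj z e) (hde : Commute d e) (hne : d ≠ e) :
    IsConj z (d * e) := by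
  obtain ⟨a, ha, -⟩ := h.uniq d hd
  obtain ⟨b, hb, -⟩ := h.uniq e he
  have hab := centre_eq_of_commute h hd he hde ha hb
  subst hab
  have hd2 := sq_of_order_two (orderOf_conj h hd)
  have he2 := sq_of_order_two (orderOf_conj h he)
  have h2 : orderOf (d * e) = 2 := order_two_of_mul_self (by rw [hde.symm.mul_mul_mul_comm, hd2, he2, one_mul])
    fun e' => hne (by rw [eq_inv_of_mul_eq_one_left e', inv_eq_of_mul_eq_one_right he2])
  exact conj_of_unique_fix h h2 (a := a) (by rw [mul_smul, hb, ha]) fun x hx =>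
    h.comm d e hd he hde hne x a hx (by rw [mul_smul, hb, ha])

theorem odd_card_points [Finite α] : Odd (Nat.card α) := by
  classical
  haveI := Fintype.ofFinite α
  obtain ⟨a, ha, hu⟩ := h.uniq z (IsConj.refl z)
  have h2 : (MulAction.toPerm z : Equiv.Perm α) ^ 2 ^ 1 = 1 := by
    refine Equiv.ext fun x => ?_
    show z • z • x = x
    rw [smul_smul, sq_of_order_two h.ord, one_smul]
  haveI : Fact (Nat.Prime 2) := ⟨Nat.prime_two⟩
  rw [Nat.card_eq_fintype_card, Nat.odd_iff]
  have hs : (MulAction.toPerm z : Equiv.Perm α).supportᶜ = {a} := by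
    ext x
    simp only [Finset.mem_compl, Equiv.Perm.mem_support, not_not, Finset.mem_singleton, MulAction.toPerm_apply]
    exact ⟨fun hx => hu x hx, fun hx => hx ▸ ha⟩
  have := Equiv.Perm.card_compl_support_modEq (p := 2) h2
  rw [hs, Finset.card_singleton] at this
  exact this.symm

/-- an involution outside `D` has two fixed points -/
theorem exists_two_fix [Finite α] {u : G} (hu : orderOf u = 2) (huD : ¬ IsConj z u) :
    ∃ a b : α, a ≠ b ∧ u • a = a ∧ u • b = b := by
  classical
  haveI := Fintype.ofFinite α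
  obtain ⟨a, ha⟩ : ∃ a : α, (MulAction.toPerm u : Equiv.Perm α) a = a := by
    haveI : Fact (Nat.Prime 2) := ⟨Nat.prime_two⟩
    refine Equiv.Perm.exists_fixed_point_of_prime (p := 2) (n := 1) ?_ (Equiv.ext fun x => ?_)
    · rw [← Nat.card_eq_fintype_card, ← even_iff_two_dvd]
      exact Nat.not_even_iff_odd.2 (odd_card_points h)
    · show u • u • x = x
      rw [smul_smul, sq_of_order_two hu, one_smul]
  by_contra hno
  push Not at hno
  exact huD (conj_of_unique_fix h hu ha fun x hx => by
    by_contra hxa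
    exact hno a x (Ne.symm hxa) ha hx)

end Classes

section Count

/-- conjugation carries the members at a point to those at its image -/
theorem card_membersAt_conj (g u : G) (x : α) :
    Nat.card (membersAt z (g * u * g⁻¹) (g • x)) = Nat.card (membersAt z u x) := by
  refine (Nat.card_congr (Equiv.subtypeEquiv (MulAut.conj g).toEquiv fun d => ?_)).symm
  show IsConj z d ∧ Commute u d ∧ d • x = x ↔
    IsConj z (g * d * g⁻¹) ∧ Commute (g * u * g⁻¹) (g * d * g⁻¹) ∧ (g * d * g⁻¹) • g • x = g • x
  refine and_congr ⟨fun h => h.trans (isConj_iff.2 ⟨g, rfl⟩), fun h => h.trans (isConj_iff.2 ⟨g⁻¹, by group⟩)⟩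
    (and_congr ⟨fun h => h.map (MulAut.conj g).toMonoidHom, fun h => ?_⟩ ?_)
  · have h1 := h.map (MulAut.conj g⁻¹).toMonoidHom
    simpa [mul_assoc] using h1
  · rw [mul_smul, mul_smul, inv_smul_smul]
    exact (smul_left_cancel_iff g).symm

theorem card_fixedBy_conj (g u : G) :
    Nat.card (fixedBy α (g * u * g⁻¹)) = Nat.card (fixedBy α u) := by
  refine (Nat.card_congr (Equiv.subtypeEquiv (MulAction.toPerm g) fun x => ?_)).symm
  show u • x = x ↔ (g * u * g⁻¹) • g • x = g • x
  rw [mul_smul, mul_smul, inv_smul_smul]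
  exact (smul_left_cancel_iff g).symm

variable (h : Crit G α z) [Finite G]
include h

/-- every fixed point of a 2-element carries as many members centralising it -/
theorem card_membersAt_eq {u : G} (hu : IsPGroup 2 (zpowers u)) {x y : α} (hx : u • x = x) (hy : u • y = y) :
    Nat.card (membersAt z u x) = Nat.card (membersAt z u y) := by
  by_cases hxy : x = y
  · rw [hxy]
  obtain ⟨v, -, hvu, hvx, -⟩ := exists_swap_fix h hu (mem_fixSet_zpowers hx) (mem_fixSet_zpowers hy) hxy
  have h1 := card_membersAt_conj (z := z) v u x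
  rw [(hvu u (mem_zpowers u)).eq, mul_inv_cancel_right, hvx] at h1
  exact h1.symm

/-- every point carries as many members -/
theorem card_membersAt_one (x y : α) :
    Nat.card (membersAt z (1 : G) x) = Nat.card (membersAt z (1 : G) y) :=
  card_membersAt_eq h (by rw [zpowers_one_eq_bot]; exact IsPGroup.of_bot) (one_smul G x) (one_smul G y)

/-- every pair is exchanged by as many members as fix a point -/
theorem card_swappers {x y : α} (hxy : x ≠ y) :
    Nat.card {v : G // IsConj z v ∧ v • x = y} = Nat.card (membersAt z (1 : G) y) := by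
  obtain ⟨d, hd, hdx, -⟩ := h.central x ⊥ IsPGroup.of_bot fun g hg => by rw [mem_bot.1 hg, one_smul]
  have himg : ∀ v : {v : G // IsConj z v ∧ v • x = y}, v.1 * d * v.1 ∈ membersAt z (1 : G) y := by
    rintro ⟨v, hv, hvx⟩
    refine ⟨hd.trans (isConj_iff.2 ⟨v, by rw [inv_of_order_two (orderOf_conj h hv)]⟩), Commute.one_left _, ?_⟩
    show (v * d * v) • y = y
    rw [mul_smul, mul_smul, ← hvx, smul_smul_self h hv, hdx]
  refine Nat.card_eq_of_bijective (fun v => ⟨_, himg v⟩) ⟨fun v w hvw => ?_, ?_⟩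
  · have h1 : v.1 * d * v.1 = w.1 * d * w.1 := congrArg Subtype.val hvw
    exact Subtype.ext (swapper_unique h hd (himg v).1 hdx (himg v).2.2 hxy v.2.1 w.2.1 v.2.2 w.2.2 rfl h1.symm)
  · rintro ⟨e, he, -, hey⟩
    obtain ⟨v, hv, hvx, -, hvd, -⟩ := exists_midpoint h hd he hdx hey hxy
    exact ⟨⟨v, hv, hvx⟩, Subtype.ext hvd⟩

/-- the members centralising `u`, by their centres -/
theorem card_members_centralising [Finite α] {u : G} (hu : IsPGroup 2 (zpowers u)) {a : α} (hua : u • a = a) :
    Nat.card {v : G // IsConj z v ∧ Commute u v} =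
      Nat.card (fixedBy α u) * Nat.card (membersAt z u a) := by
  classical
  haveI := Fintype.ofFinite α
  haveI := Fintype.ofFinite G
  have hb : Function.Bijective (fun p : Σ c : fixedBy α u, membersAt z u (c : α) =>
      (⟨p.2.1, p.2.2.1, p.2.2.2.1⟩ : {v : G // IsConj z v ∧ Commute u v})) := by
    refine ⟨?_, fun v => ?_⟩
    · rintro ⟨⟨c, hc⟩, v, hv⟩ ⟨⟨c', hc'⟩, v', hv'⟩ e
      have e1 : v = v' := congrArg Subtype.val e
      subst e1
      obtain rfl := centre_unique h hv.1 hv.2.2 hv'.2.2
      rfl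
    · obtain ⟨c, hc, -⟩ := h.uniq v.1 v.2.1
      exact ⟨⟨⟨c, smul_centre h v.2.1 v.2.2 hc⟩, ⟨v.1, v.2.1, v.2.2, hc⟩⟩, rfl⟩
  rw [← Nat.card_eq_of_bijective _ hb, Nat.card_sigma,
    Finset.sum_congr rfl (fun c _ => card_membersAt_eq h hu c.2 hua), Finset.sum_const, Finset.card_univ,
    smul_eq_mul]
  simp only [Nat.card_eq_fintype_card]

/-- THE COUNT: `k (n - f) = f κ_u ((f_v - 1) κ_v)` for a member `d` at `a` centralising `u` and `v = u d` -/
theorem incidence_count [Finite α] [FaithfulSMul G α] {u : G} (hu : orderOf u = 2) {a b : α} (hua : u • a = a)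
    (hub : u • b = b) (hab : a ≠ b) {d : G} (hd : IsConj z d) (hud : Commute u d) (hda : d • a = a) :
    Nat.card (membersAt z (1 : G) a) * (Nat.card α - Nat.card (fixedBy α u)) =
      Nat.card (fixedBy α u) * Nat.card (membersAt z u a) *
        ((Nat.card (fixedBy α (u * d)) - 1) * Nat.card (membersAt z (u * d) a)) := by
  classical
  haveI := Fintype.ofFinite α
  haveI := Fintype.ofFinite G
  have huu := sq_of_order_two hu
  have hui : u⁻¹ = u := inv_eq_of_mul_eq_one_right huu
  let V := {v : G // IsConj z v ∧ Commute u v}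
  let X := fun v : V => {x : α // (u * v.1) • x = x ∧ u • x ≠ x}
  let L := Σ x : {x : α // u • x ≠ x}, membersAt z (1 : G) (x : α)
  let Rt := Σ v : V, Σ x : X v, membersAt z (u * v.1) (x : α)
  have hvx : ∀ (v : V) (x : X v), v.1 • (x : α) = u • (x : α) := fun v x => by
    have h1 := congrArg (fun q => u • q) x.2.1
    simpa only [mul_smul, smul_smul u u, huu, one_smul] using h1
  have hconj : ∀ (v : V) (e : G), Commute (u * v.1) e → v.1 * e * v.1 = u * e * u := fun v e he => by
    have hvv := sq_of_order_two (orderOf_conj h v.2.1)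
    calc v.1 * e * v.1 = u * ((u * v.1) * e) * v.1 := by
          rw [show u * ((u * v.1) * e) = (u * u) * (v.1 * e) by group, huu, one_mul]
      _ = u * e * u * (v.1 * v.1) := by rw [he.eq]; group
      _ = u * e * u := by rw [hvv, mul_one]
  have hb : Function.Bijective (fun p : Rt =>
      (⟨⟨p.2.1.1, p.2.1.2.2⟩, ⟨p.2.2.1, p.2.2.2.1, Commute.one_left _, p.2.2.2.2.2⟩⟩ : L)) := by
    refine ⟨?_, ?_⟩
    · rintro ⟨v, ⟨x, hx⟩, ⟨e, he⟩⟩ ⟨v', ⟨x', hx'⟩, ⟨e', he'⟩⟩ heq
      obtain rfl : x = x' := congrArg (fun p : L => (p.1 : α)) heq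
      obtain rfl : e = e' := congrArg (fun p : L => (p.2 : G)) heq
      have hv : v.1 = v'.1 := by
        refine swapper_unique h he.1 (he.1.trans (isConj_iff.2 ⟨u, by rw [hui]⟩) : IsConj z (u * e * u))
          he.2.2 (y := u • x) ?_ hx.2.symm v.2.1 v'.2.1 (hvx v ⟨x, hx⟩) (hvx v' ⟨x, hx'⟩)
          (hconj v e he.2.1) (hconj v' e he'.2.1)
        rw [mul_smul, mul_smul, smul_smul u u, huu, one_smul, he.2.2]
      obtain rfl : v = v' := Subtype.ext hv
      rfl
    · rintro ⟨⟨x, hx⟩, ⟨e, he, -, hex⟩⟩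
      obtain ⟨v, hv, huv, hvx', hve⟩ := exists_swap_commute h hu he hex hx
      have hc : Commute (u * v) e := by
        have hvv := sq_of_order_two (orderOf_conj h hv)
        calc u * v * e = u * (v * e * v) * v := by rw [mul_assoc u (v * e * v), mul_assoc (v * e) v, hvv]; group
          _ = (u * u) * e * (u * v) := by rw [hve]; group
          _ = e * (u * v) := by rw [huu, one_mul]
      exact ⟨⟨⟨v, hv, huv⟩, ⟨x, (mul_fix_of_swap h hu huv hvx').1, hx⟩, ⟨e, he, hc, hex⟩⟩, rfl⟩
  have hL : Nat.card L = Nat.card (membersAt z (1 : G) a) * (Nat.card α - Nat.card (fixedBy α u)) := by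
    rw [Nat.card_sigma, Finset.sum_congr rfl (fun (x : {x : α // u • x ≠ x}) _ => card_membersAt_one h (x : α) a), Finset.sum_const,
      Finset.card_univ, smul_eq_mul, mul_comm]
    congr 1
    rw [← Nat.card_eq_fintype_card, Nat.card_coe_set_eq, ← Set.ncard_compl]
    exact Nat.card_coe_set_eq _
  have hin : ∀ v : V, Nat.card (Σ x : X v, membersAt z (u * v.1) (x : α)) =
      (Nat.card (fixedBy α (u * d)) - 1) * Nat.card (membersAt z (u * d) a) := by
    intro v
    obtain ⟨c, hc, hcu⟩ := h.uniq v.1 v.2.1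
    have huc : u • c = c := smul_centre h v.2.1 v.2.2 hc
    obtain ⟨g, -, hgd, hgv⟩ := partner_conj h hu hua hub hab hd v.2.1 hud v.2.2
    have hga : g • a = c := conj_centre h v.2.1 hgd hda hc
    have hwc : (u * v.1) • c = c := by rw [mul_smul, hc, huc]
    have hw2 : orderOf (u * v.1) = 2 := order_two_of_mul_self
      (by rw [v.2.2.symm.mul_mul_mul_comm, huu, sq_of_order_two (orderOf_conj h v.2.1), one_mul])
      fun e' => not_conj_of_fix h hua hub hab (by
        rw [eq_inv_of_mul_eq_one_left e', inv_of_order_two (orderOf_conj h v.2.1)]; exact v.2.1)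
    rw [Nat.card_sigma, Finset.sum_congr rfl (fun x _ =>
        card_membersAt_eq h (isPGroup_zpowers_of_two hw2) x.2.1 hwc),
      Finset.sum_const, Finset.card_univ, smul_eq_mul, ← Nat.card_eq_fintype_card, ← hga, ← hgv,
      card_membersAt_conj, ← card_fixedBy_conj g (u * d), hgv]
    congr 1
    have hset : {x : α | (u * v.1) • x = x ∧ u • x ≠ x} = fixedBy α (u * v.1) \ {c} := by
      ext x
      simp only [Set.mem_setOf_eq, Set.mem_diff, mem_fixedBy, Set.mem_singleton_iff]
      refine ⟨fun hx => ⟨hx.1, fun e => hx.2 (e ▸ huc)⟩, fun hx => ⟨hx.1, fun e => hx.2 (hcu x ?_)⟩⟩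
      show v.1 • x = x
      have h1 := hx.1
      rwa [v.2.2.eq, mul_smul, e] at h1
    show Nat.card ({x : α | (u * v.1) • x = x ∧ u • x ≠ x} : Set α) = _
    rw [Nat.card_coe_set_eq, hset, Set.ncard_sdiff_singleton_of_mem (show c ∈ fixedBy α (u * v.1) from hwc), ← Nat.card_coe_set_eq]
  rw [← hL, ← Nat.card_eq_of_bijective _ hb, Nat.card_sigma, Finset.sum_congr rfl (fun v _ => hin v),
    Finset.sum_const, Finset.card_univ, smul_eq_mul, ← Nat.card_eq_fintype_card,
    card_members_centralising h (isPGroup_zpowers_of_two hu) hua]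

end Count

/-- a simple group acts faithfully on the cosets of a proper subgroup -/
theorem faithful_cosets [IsSimpleGroup G] {M : Subgroup G} (hM : M ≠ ⊤) : FaithfulSMul G (G ⧸ M) := by
  refine ⟨fun {g g'} hg => ?_⟩
  have hker : g⁻¹ * g' ∈ M.normalCore := by
    rw [Subgroup.normalCore_eq_ker, MonoidHom.mem_ker]
    refine Equiv.ext fun q => ?_
    show (g⁻¹ * g') • q = q
    rw [mul_smul, ← hg q, inv_smul_smul]
  rcases IsSimpleGroup.eq_bot_or_eq_top_of_normal M.normalCore inferInstance with e | e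
  · rw [e, mem_bot] at hker
    exact (inv_mul_eq_one.1 hker)
  · exact absurd (top_le_iff.1 (e ▸ M.normalCore_le)) hM

end Cfsg.Lib.BenderSE.Crit2
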