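/-
Aschbacher's criterion, all lines of rank one (notes/s1175_h6_maxline.md M2): if no two commuting members of `D`
centralise an involution outside `D`, transfer shows that every involution is in `D`.
-/
import Cfsg.Agent.BenderSE.Thick.Dichotomy
import Cfsg.Agent.S0215
import Cfsg.Agent.Frobenius.UniqueSubgroup

set_option autoImplicit false
set_option linter.unusedSectionVars false
set_option linter.style.haveILetI false

namespace Cfsg.Lib.BenderSE.Crit2

open Subgroup Cfsg.Lib.Misc.FourConnected Cfsg.Lib.BenderSE.FourConn Cfsg.Lib.BenderSE.Thick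

universe u

/-- a 2-group without normal four group has a subgroup of index two with only one involution -/
theorem exists_index_two_one_involution {X : Type*} [Group X] [Finite X] (hX : IsPGroup 2 X)
    (hno : ∀ U : Subgroup X, U.Normal → ¬ IsKleinFour U) {z d : X} (hz : z * z = 1) (hz1 : z ≠ 1)
    (hzc : z ∈ center X) (hd : d * d = 1) (hd1 : d ≠ 1) (hdz : d ≠ z) :
    ∃ T : Subgroup X, T.index = 2 ∧ ∀ x ∈ T, x * x = 1 → x = 1 ∨ x = z := by
  classical
  haveI : Fact (Nat.Prime 2) := ⟨Nat.prime_two⟩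
  obtain ⟨A, ⟨hAn, hAc⟩, hmax⟩ := exists_maximal_of_wellFoundedGT
    (fun A : Subgroup X => A.Normal ∧ IsMulCommutative A) ⟨⊥, inferInstance, inferInstance⟩
  haveI := hAn
  haveI := hAc
  have hCA : centralizer (A : Set X) = A := Cfsg.Lib.PGroups.centralizer_eq_self_of_maximal_normal_abelian hX A hAc
    (fun B hB hBc hAB => le_antisymm (hmax ⟨hB, hBc⟩ hAB) hAB)
  have hcomm : ∀ x y : X, x ∈ A → y ∈ A → x * y = y * x := fun x y hx hy =>
    congrArg Subtype.val (hAc.is_comm.comm (⟨x, hx⟩ : A) ⟨y, hy⟩)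
  have hzA : z ∈ A := by
    rw [← hCA]; exact mem_centralizer_iff.2 fun y _ => (mem_center_iff.1 hzc y)
  have hzy : ∀ y : X, y * z = z * y := mem_center_iff.1 hzc
  -- one involution in `A`
  have hAinv : ∀ x ∈ A, x * x = 1 → x = 1 ∨ x = z := by
    by_contra h
    push Not at h
    obtain ⟨y, hyA, hyy, hy1, hyz⟩ := h
    let Ω : Subgroup X :=
      { carrier := {x | x ∈ A ∧ x * x = 1}
        one_mem' := ⟨one_mem _, one_mul 1⟩
        mul_mem' := fun {a b} ha hb => ⟨mul_mem ha.1 hb.1, by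
          rw [(show Commute b a from hcomm b a hb.1 ha.1).mul_mul_mul_comm, ha.2, hb.2, one_mul]⟩
        inv_mem' := fun {a} ha => ⟨inv_mem ha.1, by rw [← mul_inv_rev, ha.2, inv_one]⟩ }
    haveI : Ω.Normal := ⟨fun x hx g => ⟨hAn.conj_mem x hx.1 g, by
      rw [show g * x * g⁻¹ * (g * x * g⁻¹) = g * (x * x) * g⁻¹ by group, hx.2, mul_one, mul_inv_cancel]⟩⟩
    haveI : (zpowers z).Normal := ⟨fun x hx g => by
      obtain ⟨k, rfl⟩ := hx
      rw [((show Commute g z from hzy g).zpow_right k).eq, mul_inv_cancel_right]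
      exact zpow_mem (mem_zpowers z) k⟩
    have hlt : zpowers z < Ω := by
      refine lt_of_le_of_ne (zpowers_le.2 ⟨hzA, hz⟩) fun h => ?_
      have hy : y ∈ zpowers z := h ▸ ⟨hyA, hyy⟩
      obtain ⟨k, hk⟩ := mem_zpowers_iff.1 hy
      rw [← zpow_mod_orderOf, orderOf_eq_prime (by rw [pow_two, hz]) hz1] at hk
      rcases Int.emod_two_eq_zero_or_one k with h2 | h2 <;> rw [Nat.cast_ofNat, h2] at hk
      · exact hy1 (by rw [← hk, zpow_zero])
      · exact hyz (by rw [← hk, zpow_one])
    obtain ⟨U, hU, hZU, hUΩ, hUi⟩ := Cfsg.Lib.PGroups.exists_normal_relIndex_prime hX hlt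
    haveI : Nontrivial U := ⟨⟨⟨z, hZU (mem_zpowers z)⟩, 1, fun h => hz1 (congrArg Subtype.val h)⟩⟩
    refine hno U hU ⟨?_, (Monoid.exponent_eq_prime_iff Nat.prime_two).2
      fun g hg => orderOf_eq_prime (Subtype.ext (by rw [pow_two]; exact (hUΩ g.2).2)) hg⟩
    have := relIndex_mul_relIndex ⊥ (zpowers z) U bot_le hZU
    rw [relIndex_bot_left, relIndex_bot_left, hUi, Nat.card_zpowers,
      orderOf_eq_prime (by rw [pow_two, hz]) hz1] at this
    exact this.symm
  have hdA : d ∉ A := fun h => by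
    rcases hAinv d h hd with e | e
    exacts [hd1 e, hdz e]
  -- `A` is cyclic
  obtain ⟨a, rfl⟩ : ∃ a : X, A = zpowers a := by
    haveI : IsCyclic A := by
      rcases Cfsg.Lib.UniqueSub.isCyclic_or_quaternion (hX.to_subgroup A) (fun x y hx hy => by
        have h2 : ∀ w : A, orderOf w = 2 → (w : X) = z := fun w hw =>
          (hAinv w w.2 (by rw [← pow_two, ← hw, ← Subgroup.coe_pow, pow_orderOf_eq_one]; rfl)).resolve_left
            fun e => by rw [show w = 1 from Subtype.ext e, orderOf_one] at hw; omega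
        rw [show y = x from Subtype.ext ((h2 y hy).trans (h2 x hx).symm)]
        exact mem_zpowers x) with hc | ⟨-, n, ⟨e⟩⟩
      · exact hc
      rcases n with _ | n
      · haveI : IsCyclic (QuaternionGroup (2 ^ 0)) := by
          rw [pow_zero]; exact QuaternionGroup.quaternionGroup_one_isCyclic
        exact isCyclic_of_surjective e.symm e.symm.surjective
      · exfalso
        have h : QuaternionGroup.a 1 * QuaternionGroup.xa (n := 2 ^ (n + 1)) 0 =
            QuaternionGroup.xa 0 * QuaternionGroup.a 1 := by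
          rw [← e.apply_symm_apply (QuaternionGroup.a 1), ← e.apply_symm_apply (QuaternionGroup.xa 0),
            ← map_mul e, ← map_mul e, hAc.is_comm.comm]
        simp only [QuaternionGroup.a_mul_xa, QuaternionGroup.xa_mul_a, QuaternionGroup.xa.injEq] at h
        have h2 : ((2 : ℕ) : ZMod (2 * 2 ^ (n + 1))) = 0 := by
          push_cast; linear_combination -h
        rw [ZMod.natCast_eq_zero_iff] at h2
        have := Nat.le_of_dvd two_pos h2
        have := Nat.one_le_two_pow (n := n)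
        rw [pow_succ] at *
        omega
    obtain ⟨g, hg⟩ := IsCyclic.exists_generator (α := A)
    refine ⟨g, le_antisymm (fun x hx => ?_) (zpowers_le.2 g.2)⟩
    obtain ⟨k, hk⟩ := mem_zpowers_iff.1 (hg ⟨x, hx⟩)
    exact ⟨k, congrArg Subtype.val hk⟩
  have hnA : ∀ x : X, x * a = a * x → x ∈ zpowers a := fun x hx => by
    rw [← hCA, mem_centralizer_iff]
    rintro _ ⟨k, rfl⟩
    exact ((show Commute a x from hx.symm).zpow_left k).eq
  obtain ⟨n, hn⟩ := IsPGroup.iff_orderOf.1 hX a
  have hn0 : n ≠ 0 := fun e => by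
    rw [e, pow_zero, orderOf_eq_one_iff] at hn
    rw [hn, zpowers_one_eq_bot, mem_bot] at hzA
    exact hz1 hzA
  have hgen : ∀ s : X, ∃ r : ℕ, Odd r ∧ s * a * s⁻¹ = a ^ r := by
    intro s
    obtain ⟨r, hr⟩ := mem_powers_iff_mem_zpowers.2 (hAn.conj_mem a (mem_zpowers a) s)
    refine ⟨r, ?_, hr.symm⟩
    rw [← Nat.not_even_iff_odd]
    intro hev
    have h1 : orderOf (a ^ r) = orderOf a := by
      rw [show a ^ r = MulAut.conj s a from hr, MulEquiv.orderOf_eq]
    have h2 : (2 : ℕ) ∣ (orderOf a).gcd r :=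
      Nat.dvd_gcd (hn ▸ dvd_pow_self 2 hn0) (even_iff_two_dvd.1 hev)
    rw [orderOf_pow] at h1
    rcases Nat.div_eq_self.1 h1 with e | e
    · rw [hn] at e; exact absurd e (pow_ne_zero _ two_ne_zero)
    · rw [e] at h2; omega
  haveI hN4 : (zpowers (a ^ 4)).Normal := ⟨fun x hx s => by
    obtain ⟨k, rfl⟩ := hx
    obtain ⟨r, -, hr⟩ := hgen s
    show s * (a ^ 4) ^ k * s⁻¹ ∈ zpowers (a ^ 4)
    rw [← conj_zpow, ← conj_pow, hr, ← pow_mul, mul_comm, pow_mul]
    exact zpow_mem (pow_mem (mem_zpowers _) r) k⟩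
  set π := QuotientGroup.mk' (zpowers (a ^ 4)) with hπ
  set T := (centralizer ({π a} : Set (X ⧸ zpowers (a ^ 4)))).comap π with hTdef
  have hT : ∀ x, x ∈ T ↔ π (x * a * x⁻¹) = π a := fun x => by
    rw [hTdef, mem_comap, mem_centralizer_singleton_iff, map_mul, map_mul, map_inv, mul_inv_eq_iff_eq_mul]
  -- involutions of `T`
  have hTinv : ∀ f ∈ T, f * f = 1 → f = 1 ∨ f = z := by
    intro f hfT hff
    by_contra h
    push Not at h
    have hfA : f ∉ zpowers a := fun hA => by
      rcases hAinv f hA hff with e | e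
      exacts [h.1 e, h.2 e]
    have hfi : f⁻¹ = f := inv_eq_of_mul_eq_one_right hff
    set c := a⁻¹ * (f * a * f⁻¹) with hcdef
    have hc4 : c ∈ zpowers (a ^ 4) := by
      rw [← QuotientGroup.ker_mk' (zpowers (a ^ 4)), MonoidHom.mem_ker, ← hπ, hcdef, map_mul, map_inv,
        (hT f).1 hfT, inv_mul_cancel]
    obtain ⟨m, hm⟩ := mem_zpowers_iff.1 hc4
    have hfa : f * a * f⁻¹ = a * c := by rw [hcdef, mul_inv_cancel_left]
    have hca : Commute c a := by
      rw [← hm, ← zpow_natCast, ← zpow_mul]; exact ((Commute.refl a).zpow_left _)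
    have hfc : f * c * f⁻¹ = c * c ^ (4 * m) := by
      conv_lhs => rw [← hm, ← conj_zpow, ← conj_pow, hfa]
      rw [(hca.symm).mul_pow, (((hca.symm).pow_left 4).pow_right 4).mul_zpow, hm]
      congr 1
      rw [zpow_mul, zpow_ofNat]
    have hc2 : c * c = 1 := by
      have h1 : f * (f * a * f⁻¹) * f⁻¹ = a := by
        rw [show f * (f * a * f⁻¹) * f⁻¹ = (f * f) * a * (f * f)⁻¹ by group, hff]; group
      rw [hfa, show f * (a * c) * f⁻¹ = (f * a * f⁻¹) * (f * c * f⁻¹) by group, hfa, hfc, mul_assoc, mul_eq_left,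
        show c * (c * c ^ (4 * m)) = c ^ (2 + 4 * m) by
          rw [zpow_add, zpow_two, ← mul_assoc]] at h1
      have h2 : (orderOf c : ℤ) ∣ 2 + 4 * m := orderOf_dvd_iff_zpow_eq_one.2 h1
      obtain ⟨j, hj⟩ := IsPGroup.iff_orderOf.1 hX c
      rw [← pow_two, ← orderOf_dvd_iff_pow_eq_one, hj]
      rw [hj] at h2
      by_contra hnd
      have hj2 : 2 ≤ j := by
        by_contra hlt
        exact hnd ((Nat.pow_dvd_pow 2 (show j ≤ 1 by omega)).trans (by norm_num))
      have h4 : ((2 ^ 2 : ℕ) : ℤ) ∣ 2 + 4 * m :=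
        (Int.natCast_dvd_natCast.2 (Nat.pow_dvd_pow 2 hj2)).trans h2
      norm_num at h4
    have hcz : c = z := by
      refine (hAinv c ?_ hc2).resolve_left fun e => hfA (hnA f ?_)
      · rw [← hm, ← zpow_natCast, ← zpow_mul]; exact zpow_mem (mem_zpowers a) _
      · rw [e, mul_one] at hfa; exact mul_inv_eq_iff_eq_mul.1 hfa
    have ha4 : a ^ 4 ≠ 1 := fun e => hz1 (by rw [← hcz, ← hm, e, one_zpow])
    obtain ⟨V, hV, hzV, hfV, hVle⟩ := exists_klein hz hff hz1 h.1 (Ne.symm h.2) (hzy f).symm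
    refine hno V ⟨fun v hv s => ?_⟩ hV
    suffices hs : s * f * s⁻¹ ∈ V by
      exact hVle (V.comap (MulAut.conj s).toMonoidHom) (by
        show s * z * s⁻¹ ∈ V
        rw [hzy s, mul_inv_cancel_right]; exact hzV) (show MulAut.conj s f ∈ V from hs) hv
    obtain ⟨k, hk, hka⟩ := hgen s⁻¹
    rw [inv_inv] at hka
    have hfk : f * a ^ k * f⁻¹ = a ^ k * z := by
      rw [← conj_pow, hfa, hcz, ((show Commute a z from hzy a)).mul_pow]
      obtain ⟨i, rfl⟩ := hk
      rw [pow_succ z, pow_mul z, pow_two, hz, one_pow, one_mul]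
    set e' := s * f * s⁻¹ with he'
    have he'a : e' * a * e'⁻¹ = a * z := by
      calc e' * a * e'⁻¹ = s * (f * (s⁻¹ * a * s) * f⁻¹) * s⁻¹ := by rw [he']; group
        _ = (s * a ^ k * s⁻¹) * (s * z * s⁻¹) := by rw [hka, hfk]; group
        _ = a * z := by rw [hzy s, mul_inv_cancel_right, ← hka]; group
    obtain ⟨j, hj⟩ := mem_zpowers_iff.1 (hnA (e' * f) (mul_inv_eq_iff_eq_mul.1 (by
      rw [show e' * f * a * (e' * f)⁻¹ = e' * (f * a * f⁻¹) * e'⁻¹ by group, hfa, hcz,
        show e' * (a * z) * e'⁻¹ = e' * a * (z * e'⁻¹) by group, ← hzy e'⁻¹, ← mul_assoc, he'a, mul_assoc,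
        hz, mul_one])))
    have he'f : e' = a ^ j * f := by rw [hj, mul_assoc, hff, mul_one]
    have hsq : a ^ j * (a * z) ^ j = 1 := by
      have h2 : e' * e' = 1 := by
        rw [he', show s * f * s⁻¹ * (s * f * s⁻¹) = s * (f * f) * s⁻¹ by group, hff, mul_one, mul_inv_cancel]
      rw [he'f, show a ^ j * f * (a ^ j * f) = a ^ j * (f * a ^ j * f) by group] at h2
      nth_rewrite 2 [← hfi] at h2
      rwa [← conj_zpow, hfa, hcz] at h2
    rw [(show Commute a z from hzy a).mul_zpow, ← mul_assoc, ← zpow_add, ← two_mul] at hsq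
    rcases Int.even_or_odd j with ⟨i, hi⟩ | ⟨i, hi⟩
    · rw [show z ^ j = 1 by rw [hi, zpow_add, ← (Commute.refl z).mul_zpow, hz, one_zpow], mul_one] at hsq
      rcases hAinv (a ^ j) (zpow_mem (mem_zpowers a) j) (by rw [← zpow_add, ← two_mul]; exact hsq) with e | e
      · rw [he'f, e, one_mul]; exact hfV
      · rw [he'f, e]; exact mul_mem hzV hfV
    · exfalso
      rw [show z ^ j = z by rw [hi, zpow_add, zpow_mul, zpow_two, hz, one_zpow, one_mul, zpow_one]] at hsq
      have h4 : a ^ (4 * j) = 1 := by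
        rw [show (4 : ℤ) * j = 2 * j + 2 * j by ring, zpow_add,
          eq_inv_of_mul_eq_one_left hsq, inv_eq_of_mul_eq_one_right hz, hz]
      refine ha4 (orderOf_dvd_iff_pow_eq_one.1 ?_)
      rw [← Int.natCast_dvd_natCast]
      refine IsCoprime.dvd_of_dvd_mul_right ?_ (orderOf_dvd_iff_zpow_eq_one.2 h4)
      rw [hn]; push_cast
      refine IsCoprime.pow_left ⟨-i, 1, ?_⟩
      omega
  refine ⟨T, ?_, hTinv⟩
  -- the index
  have hdT : d ∉ T := fun h => by
    rcases hTinv d h hd with e | e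
    exacts [hd1 e, hdz e]
  have hor : ∀ x : X, π (x * a * x⁻¹) = π a ∨ π (x * a * x⁻¹) = (π a)⁻¹ := by
    intro x
    obtain ⟨r, hr, hra⟩ := hgen x
    have h4 : π a ^ 4 = 1 := by
      rw [← map_pow]; exact (QuotientGroup.eq_one_iff _).2 (mem_zpowers _)
    rw [hra, map_pow, ← Nat.div_add_mod r 4, pow_add, pow_mul, h4, one_pow, one_mul]
    rcases (by have := Nat.odd_iff.1 hr; omega : r % 4 = 1 ∨ r % 4 = 3) with e | e <;> rw [e]
    · exact Or.inl (pow_one _)
    · exact Or.inr (eq_inv_of_mul_eq_one_left (by rw [← pow_succ]; exact h4))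
  have hdinv : π (d * a * d⁻¹) = (π a)⁻¹ := (hor d).resolve_left fun h => hdT ((hT d).2 h)
  have hne : (π a)⁻¹ ≠ π a := fun h => hdT ((hT d).2 (hdinv.trans h))
  rw [Subgroup.index_eq_two_iff]
  refine ⟨d, fun b => ?_⟩
  have hbd : π (b * d * a * (b * d)⁻¹) = (π (b * a * b⁻¹))⁻¹ := by
    rw [show b * d * a * (b * d)⁻¹ = b * (d * a * d⁻¹) * b⁻¹ by group, map_mul, map_mul, hdinv]
    simp [map_mul, mul_assoc]
  rcases hor b with e | e
  · refine Or.inr ⟨(hT b).2 e, fun h' => hne ?_⟩
    rw [← e, ← hbd, (hT _).1 h']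
    exact e.symm
  · refine Or.inl ⟨(hT _).2 (by rw [hbd, e, inv_inv]), fun h' => hne ?_⟩
    rw [← e, (hT b).1 h']

variable {G : Type u} [Group G] [Finite G]

/-- ALL LINES OF RANK ONE -/
theorem false_of_rank_one [IsSimpleGroup G] (hna : ¬ IsMulCommutative G) (D : G → Prop)
    (hDconj : ∀ g x, D x → D (g * x * g⁻¹)) (hDinv : ∀ x, D x → orderOf x = 2)
    (S : Sylow 2 G) {z : G} (hzS : z ∈ (S : Subgroup G)) (hzD : D z)
    (hzc : ∀ y ∈ (S : Subgroup G), y * z = z * y)
    (hR1 : ∀ d d' e, D d → D d' → orderOf e = 2 → ¬ D e → d ≠ d' → Commute d d' → Commute e d →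
      Commute e d' → False)
    {u : G} (hu : orderOf u = 2) (huD : ¬ D u) : False := by
  classical
  haveI : Fact (Nat.Prime 2) := ⟨Nat.prime_two⟩
  have hno : ∀ N : Subgroup G, N.Normal → N.index ≠ 2 := by
    intro N hN h2
    rcases IsSimpleGroup.eq_bot_or_eq_top_of_normal N hN with e | e
    · rw [e, Subgroup.index_bot] at h2
      haveI : Fact (Nat.Prime 2) := ⟨Nat.prime_two⟩
      haveI := isCyclic_of_prime_card h2
      exact hna ⟨⟨IsCyclic.commGroup.mul_comm⟩⟩
    · rw [e, Subgroup.index_top] at h2; omega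
  have hz := hDinv z hzD
  obtain ⟨d, hdS, hdD, hdz⟩ : ∃ d ∈ (S : Subgroup G), D d ∧ d ≠ z := by
    by_contra h
    push Not at h
    obtain ⟨N, hN, hNodd, hcomm⟩ := Cfsg.Agent.S0215.result S z hz hzS
      fun g hg => h _ hg (hDconj g z hzD)
    rcases IsSimpleGroup.eq_bot_or_eq_top_of_normal N hN with e | e
    · have hzZ : z ∈ center G := mem_center_iff.2 fun g =>
        (commutatorElement_eq_one_iff_mul_comm.1 (show z * g * z⁻¹ * g⁻¹ = 1 from mem_bot.1 (e ▸ hcomm g))).symm
      rcases IsSimpleGroup.eq_bot_or_eq_top_of_normal (center G) inferInstance with e' | e'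
      · rw [e', mem_bot] at hzZ; exact ne_one_of_two hz hzZ
      · exact hna ⟨⟨fun a b => mem_center_iff.1 (e' ▸ mem_top b : b ∈ center G) a⟩⟩
    · rw [e, Subgroup.card_top] at hNodd
      exact hNodd.not_two_dvd_nat (hu ▸ orderOf_dvd_natCard u)
  have hd := hDinv d hdD
  -- into the centraliser of `w` in `S`
  have hinto : ∀ w : G, ((∀ y ∈ (S : Subgroup G), y * w * y⁻¹ = w) ∨
      ((S : Subgroup G) ⊓ centralizer ({w} : Set G)).relIndex (S : Subgroup G) = 2) →
      ∃ g, g * u * g⁻¹ ∈ (S : Subgroup G) ∧ Commute (g * u * g⁻¹) w := by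
    intro w hw
    rcases hw with h | h
    · obtain ⟨R, hR⟩ := (IsPGroup.of_card (n := 1) (by rw [pow_one, Nat.card_zpowers, hu]) :
        IsPGroup 2 (zpowers u)).exists_le_sylow
      obtain ⟨g, rfl⟩ := MulAction.exists_smul_eq G S R
      obtain ⟨s, hs, hse⟩ := hR (mem_zpowers u)
      have hgs : g⁻¹ * u * g⁻¹⁻¹ = s := by rw [← hse]; simp [mul_assoc]
      exact ⟨g⁻¹, hgs ▸ hs, hgs ▸ mul_inv_eq_iff_eq_mul.1 (h s hs)⟩
    · obtain ⟨g, hg, -⟩ := exists_extremal_conj hno S inf_le_left h hu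
      exact ⟨g, hg.1, mem_centralizer_singleton_iff.1 hg.2⟩
  have huconj : ∀ g, ¬ D (g * u * g⁻¹) := fun g h => huD (by
    simpa [mul_assoc] using hDconj g⁻¹ _ h)
  -- a normal four group containing `z` and a second member of `D`
  have caseA : ∀ W : Subgroup G, Base S W → z ∈ W → ∀ w ∈ W, D w → w ≠ z → False := by
    intro W hW hzW w hw hwD hwz
    obtain ⟨g, hgS, hgw⟩ := hinto w (hW.index_or hzW (ne_one_of_two hz) hzc hw)
    exact hR1 z w _ hzD hwD (by rw [orderOf_conj', hu]) (huconj g) hwz.symm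
      ((hzc w (hW.le hw)).symm) (hzc _ hgS) hgw
  by_cases hfour : ∃ W : Subgroup G, Base S W
  · obtain ⟨W, hW⟩ := hfour
    haveI := hW.klein
    obtain ⟨z', hz'W, hz', hz'c⟩ := hW.exists_z
    have hzW : z ∈ W := by
      by_contra hzW
      have hne : z' ≠ z := fun e => hzW (e ▸ hz'W)
      by_cases hz'D : D z'
      · obtain ⟨V, hV, hzV, hz'V, hVle⟩ := exists_klein (sq_of_two hz) (sq_of_two hz') (ne_one_of_two hz)
          (ne_one_of_two hz') hne.symm (hzc z' (hW.le hz'W)).symm
        refine caseA V ⟨hV, hVle _ hzS (hW.le hz'W), fun y hy v hv => ?_⟩ hzV z' hz'V hz'D hne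
        have hy' : V ≤ centralizer ({y} : Set G) := hVle _ (mem_centralizer_singleton_iff.2 (hzc y hy).symm)
          (mem_centralizer_singleton_iff.2 (hz'c y hy).symm)
        rw [← mem_centralizer_singleton_iff.1 (hy' hv), mul_inv_cancel_right]
        exact hv
      · exact hR1 z d z' hzD hdD hz' hz'D hdz.symm (hzc d hdS).symm (hzc z' (hW.le hz'W))
          (hz'c d hdS).symm
    obtain ⟨e, he, he1, hez⟩ := hW.exists_u (z := z)
    by_cases heD : D e
    · exact caseA W hW hzW e he heD hez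
    have heo : orderOf e = 2 := orderOf_eq_prime (by rw [pow_two]; exact sq_of_klein he) he1
    set T := (S : Subgroup G) ⊓ centralizer ({e} : Set G) with hT
    have hdT : d ∉ T := fun h => hR1 z d e hzD hdD heo heD hdz.symm (hzc d hdS).symm
      (hzc e (hW.le he)) (mem_centralizer_singleton_iff.1 h.2).symm
    have hTi : T.relIndex (S : Subgroup G) = 2 := (hW.index_or hzW (ne_one_of_two hz) hzc he).resolve_left
      fun h => hdT ⟨hdS, mem_centralizer_singleton_iff.2 (mul_inv_eq_iff_eq_mul.1 (h d hdS))⟩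
    have hde : d * e * d⁻¹ = e * z := (hW.comm_or hzW (ne_one_of_two hz) hzc hdS he).resolve_left
      fun h => hdT ⟨hdS, mem_centralizer_singleton_iff.2 (mul_inv_eq_iff_eq_mul.1 h)⟩
    have hTD : ∀ x ∈ T, D x → x = z := fun x hx hxD => by
      by_contra hne
      exact hR1 z x e hzD hxD heo heD (Ne.symm hne) (hzc x hx.1).symm (hzc e (hW.le he))
        (mem_centralizer_singleton_iff.1 hx.2).symm
    have hTc : ∀ x ∈ T, x * d = d * x → x * x = 1 → x = 1 ∨ x = z := fun x hx hxd hxx => by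
      by_cases hx1 : x = 1
      · exact Or.inl hx1
      have hxo : orderOf x = 2 := orderOf_eq_prime (by rw [pow_two]; exact hxx) hx1
      by_cases hxD : D x
      · exact Or.inr (hTD x hx hxD)
      · exact absurd (hR1 z d x hzD hdD hxo hxD hdz.symm (hzc d hdS).symm (hzc x hx.1) hxd) id
    obtain ⟨v, hv, hvd, hvv⟩ : ∃ v ∈ T, v * d = d * v ∧ v * v ≠ 1 := by
      by_contra h
      push Not at h
      have hWT : W ≤ T := fun x hx => ⟨hW.le hx, mem_centralizer_singleton_iff.2 (comm_of_klein x hx e he)⟩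
      haveI : (T.subgroupOf (S : Subgroup G)).Normal :=
        Subgroup.normal_of_index_eq_two (show T.relIndex (S : Subgroup G) = 2 from hTi)
      have hTn : (S : Subgroup G) ≤ normalizer (T : Set G) :=
        (normal_subgroupOf_iff_le_normalizer inf_le_left).1 inferInstance
      have hTW : ∀ x ∈ T, ∀ b ∈ W, x * b = b * x := by
        intro x hx b hb
        rcases klein_cases hW.klein he hzW he1 (ne_one_of_two hz) hez hb with rfl | rfl | rfl | rfl
        · rw [mul_one, one_mul]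
        · exact mem_centralizer_singleton_iff.1 hx.2
        · exact hzc x hx.1
        · exact Commute.mul_right (mem_centralizer_singleton_iff.1 hx.2) (hzc x hx.1)
      have hle := le_four_of_fixed hW inf_le_left hTn hTW hWT hdS (sq_of_two hd) hzW (ne_one_of_two hz) he hde
        (hzc d hdS) fun x hx hxd => hTc x hx hxd (h x hx hxd)
      have hcard := Subgroup.relIndex_mul_relIndex ⊥ T (S : Subgroup G) bot_le inf_le_left
      simp only [relIndex_bot_left, hTi] at hcard
      rw [show T = W from le_antisymm hle hWT, card_klein hW.klein] at hcard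
      obtain ⟨V, hV, hzV, hdV, hVle⟩ := exists_klein (sq_of_two hz) (sq_of_two hd) (ne_one_of_two hz)
        (ne_one_of_two hd) hdz.symm (hzc d hdS).symm
      have hVS := hVle _ hzS hdS
      have h2 : V.relIndex (S : Subgroup G) = 2 := by
        have h := Subgroup.relIndex_mul_relIndex ⊥ V (S : Subgroup G) bot_le hVS
        simp only [relIndex_bot_left, card_klein hV] at h
        omega
      haveI : (V.subgroupOf (S : Subgroup G)).Normal :=
        Subgroup.normal_of_index_eq_two (show V.relIndex (S : Subgroup G) = 2 from h2)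
      exact caseA V ⟨hV, hVS, fun y hy w hw => (mem_normalizer_iff.1
        ((normal_subgroupOf_iff_le_normalizer hVS).1 inferInstance hy) w).1 hw⟩ hzV d hdV hdD hdz
    obtain ⟨j, hj⟩ := IsPGroup.iff_orderOf.1 (S.2.to_le (inf_le_left : T ≤ S)) ⟨v, hv⟩
    rw [Subgroup.orderOf_mk] at hj
    obtain ⟨i, rfl⟩ : ∃ i, j = i + 2 := by
      refine ⟨j - 2, ?_⟩
      by_contra h
      refine hvv ?_
      rw [← pow_two]
      refine orderOf_dvd_iff_pow_eq_one.1 ?_
      rw [hj]
      exact ((Nat.pow_dvd_pow_iff_le_right one_lt_two).2 (show j ≤ 1 by omega)).trans (by norm_num)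
    have hww : v ^ 2 ^ i * v ^ 2 ^ i = z := by
      have hw2 : v ^ 2 ^ i * v ^ 2 ^ i = v ^ 2 ^ (i + 1) := by rw [← pow_add, pow_succ]; congr 1; ring
      rw [hw2]
      refine (hTc _ (pow_mem hv _) (Commute.pow_left hvd _).eq ?_).resolve_left fun e => ?_
      · rw [← pow_add, ← two_mul, ← pow_succ', ← hj, pow_orderOf_eq_one]
      · have := orderOf_dvd_of_pow_eq_one e
        rw [hj, Nat.pow_dvd_pow_iff_le_right one_lt_two] at this
        omega
    obtain ⟨g, hgT, hgS⟩ := exists_extremal_conj hno S inf_le_left hTi hd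
    have h1 := hTD _ hgT (hDconj g d hdD)
    have hgw : g * v ^ 2 ^ i * g⁻¹ ∈ (S : Subgroup G) :=
      hgS _ ⟨pow_mem hv.1 _, mem_centralizer_singleton_iff.2 (Commute.pow_left hvd _).eq⟩
    have hgzT : g * z * g⁻¹ ∈ T := by
      rw [← hww, show g * (v ^ 2 ^ i * v ^ 2 ^ i) * g⁻¹ = (g * v ^ 2 ^ i * g⁻¹) * (g * v ^ 2 ^ i * g⁻¹) by group]
      exact mem_subgroupOf.1 (Subgroup.mul_self_mem_of_index_two (H := T.subgroupOf (S : Subgroup G))
        (show T.relIndex (S : Subgroup G) = 2 from hTi) ⟨_, hgw⟩)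
    have h2 := hTD _ hgzT (hDconj g z hzD)
    exact hdz ((mul_right_injective g) (mul_right_cancel (h1.trans h2.symm)))
  · -- no normal four group
    obtain ⟨T, hT2, hTinv⟩ := exists_index_two_one_involution S.2
      (fun U hU hk => hfour ⟨U.map (S : Subgroup G).subtype, klein_map (Subgroup.subtype_injective _) hk,
        map_subtype_le _, by
          rintro y hy _ ⟨v, hv, rfl⟩
          exact ⟨_, hU.conj_mem v hv ⟨y, hy⟩, rfl⟩⟩)
      (z := ⟨z, hzS⟩) (d := ⟨d, hdS⟩) (Subtype.ext (sq_of_two hz))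
      (fun e => ne_one_of_two hz (congrArg Subtype.val e))
      (mem_center_iff.2 fun y => Subtype.ext (hzc y y.2)) (Subtype.ext (sq_of_two hd))
      (fun e => ne_one_of_two hd (congrArg Subtype.val e)) (fun e => hdz (congrArg Subtype.val e))
    obtain ⟨g, ⟨t, htT, hte⟩, -⟩ := exists_extremal_conj hno S (map_subtype_le T)
      (show (T.map (S : Subgroup G).subtype).relIndex (S : Subgroup G) = 2 by
        rw [relIndex, subgroupOf, comap_map_eq_self_of_injective (Subgroup.subtype_injective _)]; exact hT2) hu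
    rcases hTinv t htT (Subtype.ext (by
      show (t : G) * t = 1
      rw [show (t : G) = g * u * g⁻¹ from hte]; exact sq_of_two (by rw [orderOf_conj', hu]))) with e | e
    · have h2 : orderOf (g * u * g⁻¹) = 2 := by rw [orderOf_conj', hu]
      rw [← hte, e] at h2
      simp at h2
    · exact huconj g (by rw [← hte, e]; exact hzD)

end Cfsg.Lib.BenderSE.Crit2
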