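/-
Aschbacher's criterion (notes/s1175_h6_maxline.md M2 applied): without a strongly embedded subgroup some involution
outside the class of `z` centralises two commuting members of that class.
-/
import Cfsg.Agent.BenderSE.Criterion2.RankOne
import Cfsg.Agent.BenderSE.Dependents.CriterionBasic

set_option autoImplicit false
set_option linter.unusedSectionVars false
set_option linter.style.haveILetI false

namespace Cfsg.Lib.BenderSE.Crit2

open Subgroup Cfsg.Lib.BenderSE.CritDep

universe u

variable {G : Type u} [Group G] [Finite G]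

/-- a line of rank at least two -/
theorem exists_rank_two [IsSimpleGroup G] (M : Subgroup G) (hM : M ≠ ⊤) (z : G) (hz : orderOf z = 2) (hzM : z ∈ M)
    (h1 : ∃ S : Sylow 2 G, z ∈ S ∧ ∀ s ∈ S, Commute s z) (h2 : ∀ g : G, g * z * g⁻¹ ∈ M → g ∈ M)
    (hno : ¬ ∃ H : Subgroup G, Cfsg.IsStronglyEmbedded H) :
    ∃ d d' e, IsConj z d ∧ IsConj z d' ∧ orderOf e = 2 ∧ ¬ IsConj z e ∧ d ≠ d' ∧ Commute d d' ∧
      Commute e d ∧ Commute e d' := by
  by_contra h
  have hna : ¬ IsMulCommutative G := fun hc => by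
    haveI : M.Normal := ⟨fun m hm g => by rwa [hc.is_comm.comm g m, mul_inv_cancel_right]⟩
    rcases IsSimpleGroup.eq_bot_or_eq_top_of_normal M inferInstance with e | e
    · rw [e, mem_bot] at hzM
      rw [hzM, orderOf_one] at hz
      omega
    · exact hM e
  obtain ⟨u, hu, hud⟩ : ∃ u : G, orderOf u = 2 ∧ ¬ IsConj z u := by
    by_contra hall
    push Not at hall
    exact hno ⟨M, Pointed.embedded_of_class ⟨hz, h1, hzM, hM, h2⟩ fun t _ ht => hall t ht⟩
  obtain ⟨S, hzS, hS⟩ := h1
  exact false_of_rank_one hna (fun x => IsConj z x)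
    (fun g x hx => hx.trans (isConj_iff.2 ⟨g, rfl⟩))
    (fun x hx => by
      obtain ⟨g, rfl⟩ := isConj_iff.1 hx
      rw [show g * z * g⁻¹ = MulAut.conj g z from rfl, MulEquiv.orderOf_eq, hz])
    S hzS (IsConj.refl z) (fun y hy => (hS y hy).eq)
    (fun d d' e a b c f g i j k => h ⟨d, d', e, a, b, c, f, g, i, j, k⟩) hu hud

end Cfsg.Lib.BenderSE.Crit2
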