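/-
Aschbacher's criterion, the choice of the line (notes/s1175_h1_audit.md, A6): an involution centralising two
commuting members, of maximal clique, then maximal fixed point set, then maximal kernel.
-/
import Cfsg.Agent.BenderSE.Criterion2.Classes
import Cfsg.Agent.BenderSE.Criterion2.Reduction

set_option autoImplicit false
set_option linter.unusedSectionVars false
set_option linter.style.haveILetI false

namespace Cfsg.Lib.BenderSE.Crit2

open Subgroup MulAction Cfsg.Lib.InvolCalc

variable {G α : Type*} [Group G] [MulAction G α] {z : G}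

/-- an involution outside the class of `z` centralising two commuting members -/
def RankTwo (z u : G) : Prop :=
  orderOf u = 2 ∧ ¬ IsConj z u ∧
    ∃ d d', IsConj z d ∧ IsConj z d' ∧ d ≠ d' ∧ Commute d d' ∧ Commute u d ∧ Commute u d'

/-- a subgroup of members centralising `u` -/
def IsClique (z u : G) (A : Subgroup G) : Prop :=
  ∀ a ∈ A, Commute u a ∧ (a ≠ 1 → IsConj z a)

/-- the largest clique of `u` -/
noncomputable def cliqueNum (z u : G) : ℕ :=
  sSup {n | ∃ A : Subgroup G, IsClique z u A ∧ Nat.card A = n}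

/-- a 2-group fixing the fixed points of `u` and centralising it -/
def IsKernel (α : Type*) [MulAction G α] (u : G) (V : Subgroup G) : Prop :=
  IsPGroup 2 V ∧ ∀ g ∈ V, Commute g u ∧ ∀ x : α, u • x = x → g • x = x

/-- the largest kernel of `u` -/
noncomputable def kernelNum (α : Type*) [MulAction G α] (u : G) : ℕ :=
  sSup {n | ∃ V : Subgroup G, IsKernel α u V ∧ Nat.card V = n}

/-- `u` is chosen: the triple of clique, fixed points and kernel is lexicographically largest -/
structure Chosen (α : Type*) [MulAction G α] (z u : G) : Prop where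
  rank : RankTwo z u
  clique : ∀ v : G, RankTwo z v → cliqueNum z v ≤ cliqueNum z u
  fix : ∀ v : G, RankTwo z v → cliqueNum z v = cliqueNum z u →
    Nat.card (fixedBy α v) ≤ Nat.card (fixedBy α u)
  kernel : ∀ v : G, RankTwo z v → cliqueNum z v = cliqueNum z u →
    Nat.card (fixedBy α v) = Nat.card (fixedBy α u) → kernelNum α v ≤ kernelNum α u

variable [Finite G]

theorem finite_cliqueSet (z u : G) : {n | ∃ A : Subgroup G, IsClique z u A ∧ Nat.card A = n}.Finite :=
  (Set.finite_range fun A : Subgroup G => Nat.card A).subset fun _ ⟨A, _, hA⟩ => ⟨A, hA⟩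

theorem le_cliqueNum {u : G} {A : Subgroup G} (hA : IsClique z u A) : Nat.card A ≤ cliqueNum z u :=
  le_csSup (finite_cliqueSet z u).bddAbove ⟨A, hA, rfl⟩

theorem exists_clique (z u : G) : ∃ A : Subgroup G, IsClique z u A ∧ Nat.card A = cliqueNum z u :=
  Nat.sSup_mem (s := {n | ∃ A : Subgroup G, IsClique z u A ∧ Nat.card A = n})
    ⟨1, ⊥, fun a ha => by rw [mem_bot.1 ha]; exact ⟨Commute.one_right u, fun h => absurd rfl h⟩, card_bot⟩
    (finite_cliqueSet z u).bddAbove

theorem finite_kernelSet (α : Type*) [MulAction G α] (u : G) :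
    {n | ∃ V : Subgroup G, IsKernel α u V ∧ Nat.card V = n}.Finite :=
  (Set.finite_range fun A : Subgroup G => Nat.card A).subset fun _ ⟨A, _, hA⟩ => ⟨A, hA⟩

theorem le_kernelNum {u : G} {V : Subgroup G} (hV : IsKernel α u V) : Nat.card V ≤ kernelNum α u :=
  le_csSup (finite_kernelSet α u).bddAbove ⟨V, hV, rfl⟩

theorem exists_kernel (α : Type*) [MulAction G α] (u : G) :
    ∃ V : Subgroup G, IsKernel α u V ∧ Nat.card V = kernelNum α u :=
  Nat.sSup_mem (s := {n | ∃ V : Subgroup G, IsKernel α u V ∧ Nat.card V = n})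
    ⟨1, ⊥, ⟨IsPGroup.of_bot, fun g hg => by
      rw [mem_bot.1 hg]; exact ⟨Commute.one_left u, fun x _ => one_smul G x⟩⟩, card_bot⟩
    (finite_kernelSet α u).bddAbove

/-- a chosen involution exists -/
theorem exists_chosen (α : Type*) [MulAction G α] (z : G) (hex : ∃ u, RankTwo z u) :
    ∃ u, Chosen α z u := by
  classical
  obtain ⟨u, hu, hmax⟩ := Set.exists_max_image {u : G | RankTwo z u}
    (fun u => (toLex (cliqueNum z u, toLex (Nat.card (fixedBy α u), kernelNum α u)) : ℕ ×ₗ ℕ ×ₗ ℕ))
    (Set.toFinite _) hex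
  refine ⟨u, hu, fun v hv => ?_, fun v hv e => ?_, fun v hv e e' => ?_⟩
  · rcases Prod.Lex.le_iff.1 (hmax v hv) with h | h
    · exact h.le
    · exact h.1.le
  · rcases Prod.Lex.le_iff.1 (hmax v hv) with h | h
    · exact absurd e h.ne
    · rcases Prod.Lex.le_iff.1 h.2 with h' | h'
      · exact h'.le
      · exact h'.1.le
  · rcases Prod.Lex.le_iff.1 (hmax v hv) with h | h
    · exact absurd e h.ne
    · rcases Prod.Lex.le_iff.1 h.2 with h' | h'
      · exact absurd e' h'.ne
      · exact h'.2

/-- a chosen involution exists in the setting of the criterion -/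
theorem exists_chosen_of_crit {H : Type*} [Group H] [Finite H] [IsSimpleGroup H] (M : Subgroup H) (hM : M ≠ ⊤) (z : H)
    (hz : orderOf z = 2) (hzM : z ∈ M) (h1 : ∃ S : Sylow 2 H, z ∈ S ∧ ∀ s ∈ S, Commute s z)
    (h2 : ∀ g : H, g * z * g⁻¹ ∈ M → g ∈ M) (hno : ¬ ∃ K : Subgroup H, Cfsg.IsStronglyEmbedded K) :
    ∃ u, Chosen (H ⧸ M) z u := by
  obtain ⟨d, d', e, hd, hd', he, heD, hne, hc, hed, hed'⟩ := exists_rank_two M hM z hz hzM h1 h2 hno
  exact exists_chosen _ z ⟨e, he, heD, d, d', hd, hd', hne, hc, hed, hed'⟩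

section Consequences

variable [FaithfulSMul G α] (h : Crit G α z)
include h

/-- two commuting members and their product -/
theorem exists_clique_four {u d d' : G} (hd : IsConj z d) (hd' : IsConj z d') (hne : d ≠ d') (hc : Commute d d')
    (hud : Commute u d) (hud' : Commute u d') : ∃ A : Subgroup G, IsClique z u A ∧ 4 ≤ Nat.card A := by
  have hd2 := sq_of_order_two (orderOf_conj h hd)
  have hd'2 := sq_of_order_two (orderOf_conj h hd')
  have h1 : d ≠ 1 := ne_one_of_order_two (orderOf_conj h hd)
  have h1' : d' ≠ 1 := ne_one_of_order_two (orderOf_conj h hd')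
  have h3 : d * d' ≠ 1 := fun e => hne (by
    rw [eq_inv_of_mul_eq_one_left e, inv_eq_of_mul_eq_one_right hd'2])
  let A : Subgroup G :=
    { carrier := {1, d, d', d * d'}
      one_mem' := Or.inl rfl
      inv_mem' := by
        rintro x (rfl | rfl | rfl | rfl)
        · exact Or.inl inv_one
        · exact Or.inr (Or.inl (inv_eq_of_mul_eq_one_right hd2))
        · exact Or.inr (Or.inr (Or.inl (inv_eq_of_mul_eq_one_right hd'2)))
        · exact Or.inr (Or.inr (Or.inr (inv_eq_of_mul_eq_one_right (by
            rw [hc.symm.mul_mul_mul_comm, hd2, hd'2, one_mul]))))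
      mul_mem' := by
        have e1 : d * (d * d') = d' := by rw [← mul_assoc, hd2, one_mul]
        have e2 : d' * (d * d') = d := by rw [hc.eq, ← mul_assoc, hd'2, one_mul]
        have e3 : d * d' * d = d' := by rw [mul_assoc, ← hc.eq, e1]
        have e4 : d * d' * d' = d := by rw [mul_assoc, hd'2, mul_one]
        have e5 : d * d' * (d * d') = 1 := by rw [hc.symm.mul_mul_mul_comm, hd2, hd'2, one_mul]
        rintro x y (rfl | rfl | rfl | rfl) (rfl | rfl | rfl | rfl) <;>
          simp [hd2, hd'2, e1, e2, e3, e4, e5, hc.eq.symm] }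
  refine ⟨A, ?_, ?_⟩
  · rintro x (rfl | rfl | rfl | rfl)
    · exact ⟨Commute.one_right u, fun e => absurd rfl e⟩
    · exact ⟨hud, fun _ => hd⟩
    · exact ⟨hud', fun _ => hd'⟩
    · exact ⟨hud.mul_right hud', fun _ => conj_mul_of_commute h hd hd' hc hne⟩
  · classical
    have : ({1, d, d', d * d'} : Finset G).card = 4 := by
      rw [Finset.card_insert_of_notMem, Finset.card_insert_of_notMem, Finset.card_pair]
      · exact fun e => h1 (mul_eq_right.1 e.symm)
      · simpa [hne] using h1'
      · simp [h1.symm, h1'.symm, h3.symm]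
    rw [← this, ← Set.ncard_coe_finset, ← SetLike.coe_sort_coe, Nat.card_coe_set_eq]
    refine le_of_eq ?_
    show _ = ({1, d, d', d * d'} : Set G).ncard
    simp

/-- the clique number of a rank two involution is at least four -/
theorem four_le_cliqueNum {u : G} (hu : RankTwo z u) : 4 ≤ cliqueNum z u := by
  obtain ⟨-, -, d, d', hd, hd', hne, hc, hud, hud'⟩ := hu
  obtain ⟨A, hA, h4⟩ := exists_clique_four h hd hd' hne hc hud hud'
  exact h4.trans (le_cliqueNum hA)

/-- an involution with two fixed points centralising a maximal clique of a chosen one is of rank two with the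
same clique number and no larger fixed point set -/
theorem Chosen.of_clique {u : G} (hu : Chosen α z u) {A : Subgroup G} (hA : IsClique z u A)
    (hcard : Nat.card A = cliqueNum z u) {w : G} (hw : orderOf w = 2) (hwA : ∀ a ∈ A, Commute w a)
    {x y : α} (hxy : x ≠ y) (hwx : w • x = x) (hwy : w • y = y) :
    RankTwo z w ∧ cliqueNum z w = cliqueNum z u ∧
      Nat.card (fixedBy α w) ≤ Nat.card (fixedBy α u) := by
  classical
  have hnD : ¬ IsConj z w := fun e => hxy (centre_unique h e hwx hwy)
  have h4 := four_le_cliqueNum h hu.rank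
  have hex : ∃ d ∈ A, ∃ d' ∈ A, d ≠ 1 ∧ d' ≠ 1 ∧ d ≠ d' := by
    by_contra hno
    push Not at hno
    rcases eq_or_ne A ⊥ with e | e
    · rw [e, card_bot] at hcard; omega
    obtain ⟨d, hd, hd1⟩ := A.bot_or_exists_ne_one.resolve_left e
    have hsub : (A : Set G) ⊆ ({1, d} : Finset G) := fun a ha => by
      rcases eq_or_ne a 1 with rfl | ha1
      · simp
      · simp [(hno a ha d hd ha1 hd1)]
    have := Set.ncard_le_ncard hsub
    rw [← Nat.card_coe_set_eq, SetLike.coe_sort_coe, hcard, Set.ncard_coe_finset] at this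
    have := this.trans Finset.card_le_two
    omega
  obtain ⟨d, hd, d', hd', h1, h1', hne⟩ := hex
  have hdd : Commute d d' := by
    have e2 := sq_of_order_two (orderOf_conj h ((hA d hd).2 h1))
    have e2' := sq_of_order_two (orderOf_conj h ((hA d' hd').2 h1'))
    rcases eq_or_ne (d * d') 1 with e | e
    · rw [eq_inv_of_mul_eq_one_left e]; exact (Commute.refl d').inv_left
    · have e3 := eq_inv_of_mul_eq_one_left
        (sq_of_order_two (orderOf_conj h ((hA _ (mul_mem hd hd')).2 e)))
      rw [mul_inv_rev, inv_eq_of_mul_eq_one_right e2, inv_eq_of_mul_eq_one_right e2'] at e3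
      exact e3
  have hr : RankTwo z w := ⟨hw, hnD, d, d', (hA d hd).2 h1, (hA d' hd').2 h1', hne, hdd, hwA d hd, hwA d' hd'⟩
  have hq : cliqueNum z w = cliqueNum z u :=
    le_antisymm (hu.clique w hr) (hcard ▸ le_cliqueNum fun a ha => ⟨hwA a ha, (hA a ha).2⟩)
  exact ⟨hr, hq, hu.fix w hr hq⟩

/-- the involutions of the kernel of a chosen involution fix exactly its fixed points -/
theorem Chosen.kernel_fix [Finite α] {u : G} (hu : Chosen α z u) {A : Subgroup G} (hA : IsClique z u A)
    (hcard : Nat.card A = cliqueNum z u) {w : G} (hw : orderOf w = 2) (hwA : ∀ a ∈ A, Commute w a)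
    {x y : α} (hxy : x ≠ y) (hux : u • x = x) (huy : u • y = y)
    (hsub : ∀ p : α, u • p = p → w • p = p) :
    RankTwo z w ∧ cliqueNum z w = cliqueNum z u ∧ fixedBy α w = fixedBy α u := by
  obtain ⟨hr, hq, hf⟩ := hu.of_clique h hA hcard hw hwA hxy (hsub x hux) (hsub y huy)
  refine ⟨hr, hq, (Set.eq_of_subset_of_ncard_le (fun p hp => hsub p hp) ?_).symm⟩
  exact (Nat.card_coe_set_eq _).ge.trans (hf.trans (Nat.card_coe_set_eq _).le)

/-- the product with a member of the clique again centralises it and has no larger fixed point set -/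
theorem Chosen.partner {u : G} (hu : Chosen α z u) {A : Subgroup G} (hA : IsClique z u A)
    (hcard : Nat.card A = cliqueNum z u) (hAc : ∀ a ∈ A, ∀ b ∈ A, Commute a b)
    {x y : α} (hxy : x ≠ y) (hux : u • x = x) (huy : u • y = y) {e : G} (he : e ∈ A) (he1 : e ≠ 1) :
    RankTwo z (u * e) ∧ cliqueNum z (u * e) = cliqueNum z u ∧
      Nat.card (fixedBy α (u * e)) ≤ Nat.card (fixedBy α u) := by
  obtain ⟨p, p', hp, hp1, hp2⟩ := mul_two_fix h hu.rank.1 hux huy hxy ((hA e he).2 he1) (hA e he).1
  refine hu.of_clique h hA hcard ?_ (fun a ha => (hA a ha).1.mul_left (hAc e he a ha)) hp hp1 hp2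
  refine order_two_of_mul_self ?_ fun e' => hu.rank.2.1 ?_
  · rw [(hA e he).1.symm.mul_mul_mul_comm, sq_of_order_two hu.rank.1,
      sq_of_order_two (orderOf_conj h ((hA e he).2 he1)), one_mul]
  · rw [eq_inv_of_mul_eq_one_left e', inv_of_order_two (orderOf_conj h ((hA e he).2 he1))]
    exact (hA e he).2 he1

end Consequences

end Cfsg.Lib.BenderSE.Crit2
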