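/-
A 2-group with a central involution `z` has an involution outside `⟨z⟩` with at most two conjugates, or a
subgroup of index at most 2 whose only involution is `z` (used in Criterion2/Pure.lean).
-/
import Cfsg.Agent.PGroups.Bounds
import Cfsg.Agent.TwoLength.DerivedLength.Primitive

set_option autoImplicit false
set_option linter.unusedSectionVars false
set_option linter.style.haveILetI false

namespace Cfsg.Lib.BenderSE.Crit2

open Subgroup

universe u

variable {S : Type u} [Group S] [Finite S]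

theorem sq_eq_one_of_odd_pow {n : ℕ} (hS : IsPGroup 2 S) {x : S} (hn : Odd n) (h : x ^ n = 1) : x = 1 := by
  obtain ⟨k, hk⟩ := IsPGroup.iff_orderOf.1 hS x
  rcases k with - | k
  · exact orderOf_eq_one_iff.1 (by rw [hk, pow_zero])
  · have h1 : 2 ∣ n := (dvd_pow_self 2 (by omega : k + 1 ≠ 0)).trans (hk ▸ orderOf_dvd_of_pow_eq_one h)
    exact absurd (even_iff_two_dvd.2 h1) (Nat.not_even_iff_odd.2 hn)

/-- the dichotomy -/
theorem small_class_or_index_two (hS : IsPGroup 2 S) {z : S} (hz2 : orderOf z = 2) (hzc : z ∈ center S) :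
    (∃ w : S, w * w = 1 ∧ w ≠ 1 ∧ w ≠ z ∧ ∀ s, s * w * s⁻¹ = w ∨ s * w * s⁻¹ = w * z) ∨
      ∃ T : Subgroup S, T.index ≤ 2 ∧ ∀ x ∈ T, x * x = 1 → x = 1 ∨ x = z := by
  classical
  haveI : Fact (Nat.Prime 2) := ⟨Nat.prime_two⟩
  have hzz : z * z = 1 := by rw [← sq, ← hz2, pow_orderOf_eq_one]
  have hz1 : z ≠ 1 := fun e => by rw [e, orderOf_one] at hz2; omega
  by_cases hW : ∃ w : S, w * w = 1 ∧ w ≠ 1 ∧ w ≠ z ∧ ∀ s, s * w * s⁻¹ = w ∨ s * w * s⁻¹ = w * z
  · exact Or.inl hW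
  push Not at hW
  right
  obtain ⟨A, ⟨hAn, hAc⟩, hmax⟩ := exists_maximal_of_wellFoundedGT
    (fun A : Subgroup S => A.Normal ∧ IsMulCommutative A) ⟨⊥, inferInstance, inferInstance⟩
  haveI := hAn
  haveI := hAc
  have hCA : centralizer (A : Set S) = A := PGroups.centralizer_eq_self_of_maximal_normal_abelian hS A hAc
    (fun B hB hBc hAB => le_antisymm (hmax ⟨hB, hBc⟩ hAB) hAB)
  have hcomm : ∀ x ∈ A, ∀ y ∈ A, x * y = y * x := fun x hx y hy =>
    congrArg Subtype.val (hAc.is_comm.comm (⟨x, hx⟩ : A) ⟨y, hy⟩)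
  have hzA : z ∈ A := hCA ▸ mem_centralizer_iff.2 fun y _ => mem_center_iff.1 hzc y
  -- the only involution of `A` is `z`
  have hAinv : ∀ x ∈ A, x * x = 1 → x = 1 ∨ x = z := by
    intro x hx hxx
    by_contra hne
    push Not at hne
    let Ω : Subgroup S :=
      { carrier := {y | y ∈ A ∧ y * y = 1}
        one_mem' := ⟨one_mem _, one_mul 1⟩
        mul_mem' := fun {a b} ha hb => ⟨mul_mem ha.1 hb.1, by
          calc a * b * (a * b) = a * (b * a) * b := by simp only [mul_assoc]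
            _ = (a * a) * (b * b) := by rw [hcomm b hb.1 a ha.1]; simp only [mul_assoc]
            _ = 1 := by rw [ha.2, hb.2, one_mul]⟩
        inv_mem' := fun {a} ha => ⟨inv_mem ha.1, by rw [← mul_inv_rev, ha.2, inv_one]⟩ }
    haveI : Ω.Normal := ⟨fun y hy g => ⟨hAn.conj_mem y hy.1 g, by
      rw [show g * y * g⁻¹ * (g * y * g⁻¹) = g * (y * y) * g⁻¹ by group, hy.2, mul_one, mul_inv_cancel]⟩⟩
    let Z := zpowers z
    haveI : Z.Normal := ⟨fun y hy g => by
      rw [mem_center_iff.1 ((zpowers_le.2 hzc) hy) g, mul_inv_cancel_right]; exact hy⟩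
    have hZmem : ∀ y ∈ Z, y = 1 ∨ y = z := fun y hy => by
      obtain ⟨k, hk⟩ := mem_zpowers_iff.1 hy
      rw [← zpow_mod_orderOf, hz2] at hk
      rcases Int.emod_two_eq_zero_or_one k with h2 | h2 <;> rw [Nat.cast_ofNat, h2] at hk
      · exact Or.inl (by rw [← hk, zpow_zero])
      · exact Or.inr (by rw [← hk, zpow_one])
    have hlt : Z < Ω := by
      refine lt_of_le_of_ne (zpowers_le.2 ⟨hzA, hzz⟩) fun h => ?_
      rcases hZmem x (h ▸ ⟨hx, hxx⟩) with e | e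
      · exact hne.1 e
      · exact hne.2 e
    obtain ⟨U, hU, hZU, hUΩ, hUi⟩ := PGroups.exists_normal_relIndex_prime hS hlt
    obtain ⟨w, hwU, hwZ⟩ : ∃ w ∈ U, w ∉ Z := by
      by_contra hall
      push Not at hall
      rw [relIndex_eq_one.2 fun y hy => hall y hy] at hUi
      omega
    obtain ⟨s, hs1, hs2⟩ := hW w (hUΩ hwU).2 (fun e => hwZ (e ▸ one_mem _))
      (fun e => hwZ (e ▸ mem_zpowers z))
    have hi : (Z.subgroupOf U).index = 2 := hUi
    have hmem : w⁻¹ * (s * w * s⁻¹) ∈ Z := by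
      have h1 := (mul_mem_iff_of_index_two hi (a := (⟨w, hwU⟩ : U)⁻¹) (b := ⟨_, hU.conj_mem w hwU s⟩)).2 ?_
      · exact mem_subgroupOf.1 h1
      constructor
      · exact fun h => absurd (mem_subgroupOf.1 ((Z.subgroupOf U).inv_mem_iff.1 h)) hwZ
      · intro h
        refine absurd ?_ hwZ
        have h2 : Z.Normal := inferInstance
        have := h2.conj_mem _ (mem_subgroupOf.1 h) s⁻¹
        simpa [mul_assoc] using this
    rcases hZmem _ hmem with e | e
    · exact hs1 (inv_mul_eq_one.1 e).symm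
    · exact hs2 (inv_mul_eq_iff_eq_mul.1 e)
  haveI : IsCyclic A := by
    letI : CommGroup A := { (inferInstance : Group A) with mul_comm := hAc.is_comm.comm }
    refine TwoLength.isCyclic_of_few_involutions (hS.to_subgroup A) fun p q hp hq hp1 hq1 => ?_
    have h1 : ∀ r : A, r * r = 1 → r ≠ 1 → (r : S) = z := fun r hr hr1 =>
      (hAinv r r.2 (congrArg Subtype.val hr)).resolve_left fun e => hr1 (Subtype.ext e)
    exact Subtype.ext ((h1 p hp hp1).trans (h1 q hq hq1).symm)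
  obtain ⟨g, hg⟩ := IsCyclic.exists_generator (α := A)
  set a : S := (g : S) with ha
  have hAz : ∀ x ∈ A, ∃ k : ℤ, x = a ^ k := fun x hx => by
    obtain ⟨k, hk⟩ := mem_zpowers_iff.1 (hg ⟨x, hx⟩)
    exact ⟨k, (congrArg Subtype.val hk).symm⟩
  have haA : a ∈ A := g.2
  have hconj : ∀ s : S, ∃ k : ℤ, s * a * s⁻¹ = a ^ k := fun s => hAz _ (hAn.conj_mem a haA s)
  have hCa : ∀ c : S, c * a = a * c → c ∈ A := fun c hc => by
    rw [← hCA, mem_centralizer_iff]
    intro y hy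
    obtain ⟨k, rfl⟩ := hAz y hy
    exact ((show Commute a c from hc.symm).zpow_left k).eq
  have hcp : ∀ (s : S) (k i : ℤ), s * a * s⁻¹ = a ^ k → s * a ^ i * s⁻¹ = a ^ (k * i) := fun s k i h => by
    rw [← conj_zpow, h, zpow_mul]
  -- the subgroup acting as the identity on `⟨a⟩` modulo fourth powers
  have ha4 : ∀ s : S, ∀ x ∈ zpowers (a ^ 4), s * x * s⁻¹ ∈ zpowers (a ^ 4) := by
    intro s x hx
    obtain ⟨k, hk⟩ := hconj s
    obtain ⟨i, rfl⟩ := mem_zpowers_iff.1 hx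
    refine mem_zpowers_iff.2 ⟨k * i, ?_⟩
    rw [← zpow_natCast, ← zpow_mul, ← zpow_mul, hcp s k _ hk]
    congr 1
    push_cast
    ring
  let T : Subgroup S :=
    { carrier := {s | s * a * s⁻¹ * a⁻¹ ∈ zpowers (a ^ 4)}
      one_mem' := by simp
      mul_mem' := fun {s t} hs ht => by
        show s * t * a * (s * t)⁻¹ * a⁻¹ ∈ zpowers (a ^ 4)
        rw [show s * t * a * (s * t)⁻¹ * a⁻¹ = (s * (t * a * t⁻¹ * a⁻¹) * s⁻¹) * (s * a * s⁻¹ * a⁻¹) by group]
        exact mul_mem (ha4 s _ ht) hs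
      inv_mem' := fun {s} hs => by
        show s⁻¹ * a * s⁻¹⁻¹ * a⁻¹ ∈ zpowers (a ^ 4)
        have h1 := ha4 s⁻¹ _ (inv_mem hs)
        rwa [show s⁻¹ * (s * a * s⁻¹ * a⁻¹)⁻¹ * s⁻¹⁻¹ = s⁻¹ * a * s⁻¹⁻¹ * a⁻¹ by group] at h1 }
  refine ⟨T, ?_, fun x hxT hxx => ?_⟩
  · -- the action modulo fourth powers is `±1`
    have hTk : ∀ s : S, ∀ k : ℤ, s * a * s⁻¹ = a ^ k → (4 : ℤ) ∣ k - 1 → s ∈ T := by
      rintro s k hk ⟨i, hi⟩
      show s * a * s⁻¹ * a⁻¹ ∈ zpowers (a ^ 4)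
      refine mem_zpowers_iff.2 ⟨i, ?_⟩
      rw [hk, ← zpow_natCast, ← zpow_mul, ← zpow_neg_one, ← zpow_add]
      congr 1
      push_cast
      omega
    have hodd : ∀ s : S, ∀ k : ℤ, s * a * s⁻¹ = a ^ k → Odd k := by
      intro s k hk
      by_contra hne
      rw [Int.not_odd_iff_even] at hne
      obtain ⟨i, rfl⟩ := hne
      obtain ⟨n, hn⟩ := IsPGroup.iff_orderOf.1 hS a
      rcases n with - | n
      · rw [pow_zero, orderOf_eq_one_iff] at hn
        refine hz1 ?_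
        obtain ⟨j, hj⟩ := hAz z hzA
        rw [hj, hn, one_zpow]
      · have h1 : (s * a * s⁻¹) ^ 2 ^ n = 1 := by
          rw [hk, ← zpow_natCast, ← zpow_mul, show (i + i) * ((2 ^ n : ℕ) : ℤ) = ((2 ^ (n + 1) : ℕ) : ℤ) * i by
            push_cast; ring, zpow_mul, zpow_natCast, ← hn, pow_orderOf_eq_one, one_zpow]
        rw [conj_pow, conj_eq_one_iff, ← orderOf_dvd_iff_pow_eq_one, hn] at h1
        have := Nat.le_of_dvd (pow_pos (by norm_num) n) h1
        rw [pow_succ] at this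
        have := pow_pos (show 0 < 2 by norm_num) n
        omega
    have hprod : ∀ s t : S, s ∉ T → t ∉ T → s * t ∈ T := by
      intro s t hs ht
      obtain ⟨k, hk⟩ := hconj s
      obtain ⟨l, hl⟩ := hconj t
      refine hTk _ (k * l) ?_ ?_
      · rw [show s * t * a * (s * t)⁻¹ = s * (t * a * t⁻¹) * s⁻¹ by group, hl, hcp s k l hk]
      · obtain ⟨i, rfl⟩ := hodd s k hk
        obtain ⟨j, rfl⟩ := hodd t l hl
        have hi : Odd i := by
          by_contra h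
          obtain ⟨m, rfl⟩ := Int.not_odd_iff_even.1 h
          exact hs (hTk s _ hk ⟨m, by ring⟩)
        have hj : Odd j := by
          by_contra h
          obtain ⟨m, rfl⟩ := Int.not_odd_iff_even.1 h
          exact ht (hTk t _ hl ⟨m, by ring⟩)
        obtain ⟨m, rfl⟩ := hi
        obtain ⟨m', rfl⟩ := hj
        exact ⟨4 * m * m' + 3 * m + 3 * m' + 2, by ring⟩
    rw [index_eq_card]
    by_contra hgt
    push Not at hgt
    obtain ⟨q, hq, q', hq', hne⟩ : ∃ q : S ⧸ T, q ≠ ((1 : S) : S ⧸ T) ∧ ∃ q' : S ⧸ T, q' ≠ ((1 : S) : S ⧸ T) ∧ q ≠ q' := by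
      haveI := Fintype.ofFinite (S ⧸ T)
      rw [Nat.card_eq_fintype_card] at hgt
      obtain ⟨p, q, r, hpq, hpr, hqr⟩ := Fintype.two_lt_card_iff.1 hgt
      by_cases h1 : p = ((1 : S) : S ⧸ T)
      · exact ⟨q, fun e => hpq (h1.trans e.symm), r, fun e => hpr (h1.trans e.symm), hqr⟩
      · by_cases h2 : q = ((1 : S) : S ⧸ T)
        · exact ⟨p, h1, r, fun e => hqr (h2.trans e.symm), hpr⟩
        · exact ⟨p, h1, q, h2, hpq⟩
    obtain ⟨s, rfl⟩ := QuotientGroup.mk_surjective q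
    obtain ⟨t, rfl⟩ := QuotientGroup.mk_surjective q'
    have hsT : s ∉ T := fun h => hq (QuotientGroup.eq.2 (by rw [mul_one]; exact inv_mem h))
    have htT : t ∉ T := fun h => hq' (QuotientGroup.eq.2 (by rw [mul_one]; exact inv_mem h))
    refine hne (QuotientGroup.eq.2 ?_)
    rw [show s⁻¹ * t = (s * s)⁻¹ * (s * t) by group]
    exact mul_mem (inv_mem (hprod s s hsT hsT)) (hprod s t hsT htT)
  · by_cases hxA : x ∈ A
    · exact hAinv x hxA hxx
    exfalso
    obtain ⟨m, hm⟩ := mem_zpowers_iff.1 hxT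
    have hxk : x * a * x⁻¹ = a ^ (4 * m + 1) := by
      rw [zpow_add, zpow_one, zpow_mul]
      have h1 : (a ^ 4) ^ m = x * a * x⁻¹ * a⁻¹ := hm
      rw [show (a ^ (4 : ℤ)) ^ m = (a ^ 4) ^ m by norm_cast, h1, inv_mul_cancel_right]
    obtain ⟨s, hs1, hs2⟩ := hW x hxx (fun e => hxA (e ▸ one_mem _)) (fun e => hxA (e ▸ hzA))
    obtain ⟨j, hj⟩ := hconj s⁻¹
    set c := x⁻¹ * (s * x * s⁻¹) with hc
    -- `s x s⁻¹` acts on `⟨a⟩` as `x` does
    have hact : (s * x * s⁻¹) * a * (s * x * s⁻¹)⁻¹ = x * a * x⁻¹ := by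
      have hback : s * a ^ j * s⁻¹ = a := by rw [← hj]; group
      calc (s * x * s⁻¹) * a * (s * x * s⁻¹)⁻¹ = s * (x * (s⁻¹ * a * s⁻¹⁻¹) * x⁻¹) * s⁻¹ := by group
        _ = s * a ^ ((4 * m + 1) * j) * s⁻¹ := by rw [hj, hcp x _ j hxk]
        _ = (s * a ^ j * s⁻¹) ^ (4 * m + 1) := by rw [conj_zpow, ← zpow_mul, mul_comm]
        _ = x * a * x⁻¹ := by rw [hback, hxk]
    have hcA : c ∈ A := by
      apply hCa
      have h1 : c * a * c⁻¹ = a := by
        rw [hc, show x⁻¹ * (s * x * s⁻¹) * a * (x⁻¹ * (s * x * s⁻¹))⁻¹ =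
          x⁻¹ * ((s * x * s⁻¹) * a * (s * x * s⁻¹)⁻¹) * x by group, hact]
        group
      exact mul_inv_eq_iff_eq_mul.1 h1
    obtain ⟨i, hi⟩ := hAz c hcA
    have hxc : (x * c) * (x * c) = 1 := by
      rw [hc, mul_inv_cancel_left, show s * x * s⁻¹ * (s * x * s⁻¹) = s * (x * x) * s⁻¹ by group, hxx]
      group
    have hc2 : c * c = 1 := by
      have h1 : (a ^ (2 * i)) ^ (2 * m + 1) = 1 := by
        rw [← zpow_mul, show 2 * i * (2 * m + 1) = (4 * m + 1) * i + i by ring, zpow_add, ← hcp x _ i hxk, ← hi,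
          inv_eq_of_mul_eq_one_right hxx]
        exact (by group : x * c * x * c = x * c * (x * c)).trans hxc
      rw [hi, ← zpow_add, ← two_mul]
      obtain ⟨r, hr | hr⟩ := (2 * m + 1).eq_nat_or_neg
      · refine sq_eq_one_of_odd_pow hS (n := r) ?_ (by rw [← zpow_natCast, ← hr]; exact h1)
        rw [← Int.odd_coe_nat, ← hr]; exact ⟨m, rfl⟩
      · refine sq_eq_one_of_odd_pow hS (n := r) ?_ ?_
        · rw [← Int.odd_coe_nat, show (r : ℤ) = -(2 * m + 1) by omega]; exact ⟨-m - 1, by ring⟩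
        · rw [hr, zpow_neg, inv_eq_one, zpow_natCast] at h1; exact h1
    rcases hAinv c hcA hc2 with e | e
    · exact hs1 (inv_mul_eq_one.1 e).symm
    · exact hs2 (inv_mul_eq_iff_eq_mul.1 e)

end Cfsg.Lib.BenderSE.Crit2
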