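/-
Aschbacher's criterion, the pure case: if no involution with two fixed points centralises two commuting
members of `D`, a simple group has all its involutions in `D`.  This removes every line of rank one.
-/
import Cfsg.Agent.BenderSE.Criterion2.Basic
import Cfsg.Agent.BenderSE.Criterion2.TwoGroup
import Cfsg.Agent.InvolCalc.ZStarApps
import Cfsg.Agent.Transfer.ThompsonTransfer

set_option autoImplicit false
set_option linter.unusedSectionVars false
set_option linter.style.haveILetI false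

namespace Cfsg.Lib.BenderSE.Crit2

open Subgroup MulAction Cfsg.Lib.InvolCalc Cfsg.Lib.StrongEmb
open scoped Pointwise

/-- no involution with two fixed points centralises two commuting members of `D` -/
def IsPure (G α : Type*) [Group G] [MulAction G α] (z : G) : Prop :=
  ∀ (u : G) (x y : α), orderOf u = 2 → u • x = x → u • y = y → x ≠ y → ∀ d e : G, IsConj z d → IsConj z e →
    Commute d e → d ≠ e → Commute u d → Commute u e → False

variable {G α : Type*} [Group G] [MulAction G α] {z : G} [Finite G]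

/-- In the pure case every involution centralising two commuting members of `D` is in `D`. -/
theorem conj_of_commute_pair [Nontrivial α] (h : Crit G α z) (hp : IsPure G α z) {e : G}
    (he2 : orderOf e = 2) {d₁ d₂ : G} (h1 : IsConj z d₁) (h2 : IsConj z d₂) (h12 : Commute d₁ d₂)
    (hne : d₁ ≠ d₂) (he1 : Commute e d₁) (he2' : Commute e d₂) : IsConj z e := by
  classical
  haveI : Fact (Nat.Prime 2) := ⟨Nat.prime_two⟩
  by_contra heD
  obtain ⟨a, hd1a, -⟩ := h.uniq d₁ h1
  have hea : e • a = a := centre_unique h h1 (x := e • a) (by rw [smul_smul, ← he1.eq, mul_smul, hd1a]) hd1a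
  have honly : ∀ q : α, e • q = q → q = a := fun q hq => by
    by_contra hqa
    exact hp e q a he2 hq hea hqa d₁ d₂ h1 h2 h12 hne he1 he2'
  obtain ⟨b, hb⟩ := exists_ne a
  obtain ⟨f, hf, hfb, -⟩ := h.central b ⊥ IsPGroup.of_bot fun g hg => by rw [mem_bot.1 hg, one_smul]
  have hf2 := orderOf_conj h hf
  have hev : Even (orderOf (e * f)) := by
    rw [← Nat.not_odd_iff_even]
    intro ho
    obtain ⟨v, hv, hve, -⟩ := midpoint he2 hf2 ho
    exact heD (hf.trans (isConj_iff.2 ⟨v⁻¹, by rw [inv_inv, inv_of_order_two hv, ← hve,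
      show v * (v * e * v) * v = (v * v) * e * (v * v) by group, sq_of_order_two hv, one_mul, mul_one]⟩))
  obtain ⟨hw, hwe, hwf⟩ := central_spec he2 hf2 hev
  set k := orderOf (e * f) / 2
  set w := (e * f) ^ k with hwdef
  have hwa : w • a = a := honly _ (by rw [smul_smul, ← hwe.eq, mul_smul, hea])
  have hwb : w • b = b := centre_unique h hf (x := w • b) (by rw [smul_smul, ← hwf.eq, mul_smul, hfb]) hfb
  have hef : f = (e * f) ^ (-1 : ℤ) * e := snd_eq' he2 hf2
  have hrot := conj_rot he2 hf2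
  -- `w * e` is in `D`
  have hdD : IsConj z (w * e) := by
    rcases Nat.even_or_odd k with ⟨i, hi⟩ | ⟨i, hi⟩
    · exfalso
      have hwfD : IsConj z (w * f) := by
        refine hf.trans (isConj_iff.2 ⟨(e * f) ^ (i : ℤ), ?_⟩)
        rw [hwdef]
        generalize e * f = r at hef hrot ⊢
        rw [hef, show r ^ (i : ℤ) * (r ^ (-1 : ℤ) * e) * (r ^ (i : ℤ))⁻¹ =
          r ^ (-1 : ℤ) * (r ^ (i : ℤ) * e * (r ^ (i : ℤ))⁻¹) by group, hrot, hi, ← zpow_natCast, ← mul_assoc,
          ← mul_assoc, ← zpow_add, ← zpow_add]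
        congr 2
        push_cast
        ring
      have hne' : w * f ≠ f := fun e' => ne_one_of_order_two hw (mul_eq_right.1 e')
      refine hb (h.comm (w * f) f hwfD hf (hwf.mul_left (Commute.refl f)) hne' b a ?_ ?_)
      all_goals rw [mul_assoc, sq_of_order_two hf2, mul_one]
      · exact hwb
      · exact hwa
    · refine hf.trans (isConj_iff.2 ⟨(e * f) ^ ((i : ℤ) + 1), ?_⟩)
      rw [hwdef]
      generalize e * f = r at hef hrot ⊢
      rw [hef, show r ^ ((i : ℤ) + 1) * (r ^ (-1 : ℤ) * e) * (r ^ ((i : ℤ) + 1))⁻¹ =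
        r ^ (-1 : ℤ) * (r ^ ((i : ℤ) + 1) * e * (r ^ ((i : ℤ) + 1))⁻¹) by group, hrot, hi, ← zpow_natCast,
        ← mul_assoc, ← zpow_add]
      congr 2
      push_cast
      ring
  have hde : Commute (w * e) e := hwe.mul_left (Commute.refl e)
  have hdw : Commute (w * e) w := (Commute.refl w).mul_left hwe.symm
  set C := centralizer ({e} : Set G)
  have hCa : C ≤ stabilizer G a := fun g hg => mem_stabilizer_iff.2 (honly _ (by
    rw [smul_smul, (mem_centralizer_singleton_iff.1 hg).symm, mul_smul, hea]))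
  have hz2 : ∀ {g : G}, orderOf g = 2 → IsPGroup 2 (zpowers g) := fun hg =>
    IsPGroup.of_card (n := 1) (by rw [Nat.card_zpowers, hg, pow_one])
  have hpair : ∀ {p q : G}, Commute p q → orderOf p = 2 → orderOf q = 2 → p ∈ C → q ∈ C →
      IsPGroup 2 ((zpowers p ⊔ zpowers q).subgroupOf C) := by
    intro p q hpq hp2 hq2 hpC hqC
    refine ((hz2 hp2).to_sup_of_normal_left' (hz2 hq2) ?_).of_equiv
      (subgroupOfEquivOfLe (sup_le (zpowers_le.2 hpC) (zpowers_le.2 hqC))).symm
    refine zpowers_le.2 (centralizer_le_normalizer _ (mem_centralizer_iff.2 ?_))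
    rintro _ ⟨i, rfl⟩
    exact (hpq.zpow_left i).eq
  have hd1C : d₁ ∈ C := mem_centralizer_singleton_iff.2 he1.eq.symm
  have hd2C : d₂ ∈ C := mem_centralizer_singleton_iff.2 he2'.eq.symm
  have hwC : w ∈ C := mem_centralizer_singleton_iff.2 hwe.eq
  have hdC : w * e ∈ C := mem_centralizer_singleton_iff.2 hde.eq
  obtain ⟨Q, hQ⟩ := (hpair hdw (orderOf_conj h hdD) hw hdC hwC).exists_le_sylow
  obtain ⟨Q0, hQ0⟩ := (hpair h12 (orderOf_conj h h1) (orderOf_conj h h2) hd1C hd2C).exists_le_sylow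
  obtain ⟨g, hg⟩ := exists_smul_eq C Q0 Q
  set QG := (Q : Subgroup C).map C.subtype with hQG
  have hQGC : QG ≤ C := map_subtype_le _
  obtain ⟨c, hc, -, hcQ⟩ := h.central a QG (Q.isPGroup'.map _)
    fun q hq => mem_stabilizer_iff.1 (hCa (hQGC hq))
  have hwQ : w ∈ QG := ⟨⟨w, hwC⟩, hQ (mem_subgroupOf.2 (mem_sup_right (mem_zpowers w))), rfl⟩
  have hdQ : w * e ∈ QG := ⟨⟨w * e, hdC⟩, hQ (mem_subgroupOf.2 (mem_sup_left (mem_zpowers _))), rfl⟩
  by_cases hcd : c = w * e
  swap
  · exact hp w a b hw hwa hwb hb.symm c (w * e) hc hdD (hcQ _ hdQ) hcd (hcQ w hwQ).symm hdw.symm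
  have hmem : ∀ p, p ∈ zpowers d₁ ⊔ zpowers d₂ → (g : G) * p * (g : G)⁻¹ ∈ QG := by
    intro p hp'
    have hpC : p ∈ C := sup_le (zpowers_le.2 hd1C) (zpowers_le.2 hd2C) hp'
    refine ⟨g * ⟨p, hpC⟩ * g⁻¹, ?_, rfl⟩
    rw [← hg]
    exact Subgroup.smul_mem_pointwise_smul _ (MulAut.conj g) _ (hQ0 (mem_subgroupOf.2 hp'))
  obtain ⟨d, hd, hdQ', hdc⟩ : ∃ d, IsConj z d ∧ d ∈ QG ∧ d ≠ c := by
    by_cases h' : (g : G) * d₁ * (g : G)⁻¹ = c
    · exact ⟨_, h2.trans (isConj_iff.2 ⟨g, rfl⟩), hmem _ (mem_sup_right (mem_zpowers d₂)),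
        fun e' => hne (mul_left_cancel (mul_right_cancel (h'.trans e'.symm)))⟩
    · exact ⟨_, h1.trans (isConj_iff.2 ⟨g, rfl⟩), hmem _ (mem_sup_left (mem_zpowers d₁)), h'⟩
  have hwce : w = c * e := by rw [hcd, mul_assoc, sq_of_order_two he2, mul_one]
  have hdeC : Commute e d := (mem_centralizer_singleton_iff.1 (hQGC hdQ')).symm
  refine hp w a b hw hwa hwb hb.symm c d hc hd (hcQ d hdQ') hdc.symm (hcQ w hwQ).symm ?_
  rw [hwce]
  exact (hcQ d hdQ').mul_left hdeC

section Simple

/-- Thompson transfer in the form used here -/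
theorem false_of_index_two [IsSimpleGroup G] (hna : ¬ IsMulCommutative G) (S : Sylow 2 G) (T : Subgroup G)
    (hTS : T ≤ (S : Subgroup G)) (hT : T.relIndex (S : Subgroup G) = 2) {v : G} (hv : orderOf v = 2)
    (hout : ∀ g : G, g * v * g⁻¹ ∉ T) : False := by
  haveI : Fact (Nat.Prime 2) := ⟨Nat.prime_two⟩
  have hodd : Odd (S : Subgroup G).index := by
    rw [← Nat.not_even_iff_odd, even_iff_two_dvd]; exact S.not_dvd_index
  obtain ⟨M, hMn, hM2, hvM⟩ := Cfsg.Lib.Transfer.exists_index_two_not_mem T hodd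
    (by rw [← relIndex_mul_index hTS, hT]) hv (fun g => by
      have h := hout g⁻¹
      rwa [inv_inv] at h)
  rcases IsSimpleGroup.eq_bot_or_eq_top_of_normal M hMn with hM | hM
  · apply hna
    have h2 : Nat.card G = 2 := by
      have := M.card_mul_index
      rw [hM2, hM, card_bot, one_mul] at this
      exact this.symm
    haveI : IsCyclic G := isCyclic_of_prime_card h2
    exact IsCyclic.isMulCommutative
  · exact hvM (hM ▸ mem_top _)

variable [IsSimpleGroup G] [Nontrivial α]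

/-- THE PURE CASE: all involutions are in `D`. -/
theorem all_conj_of_pure (hna : ¬ IsMulCommutative G) (h : Crit G α z) (hp : IsPure G α z) {i : G}
    (hi : orderOf i = 2) : IsConj z i := by
  classical
  haveI : Fact (Nat.Prime 2) := ⟨Nat.prime_two⟩
  by_contra hiD
  have hpair := fun {e : G} (he : orderOf e = 2) {d₁ d₂ : G} (a1 : IsConj z d₁) (a2 : IsConj z d₂)
    (a3 : Commute d₁ d₂) (a4 : d₁ ≠ d₂) (a5 : Commute e d₁) (a6 : Commute e d₂) =>
    conj_of_commute_pair h hp he a1 a2 a3 a4 a5 a6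
  -- a commuting pair in `D`
  obtain ⟨e₀, he₀, he₀z, he₀ne⟩ : ∃ e, IsConj z e ∧ Commute z e ∧ e ≠ z := by
    by_contra hno
    push Not at hno
    have hiso : Cfsg.IsIsolatedInvolution z := ⟨h.ord, fun g hg => hno _ (isConj_iff.2 ⟨g, rfl⟩) hg⟩
    have hzc : z ∈ center G := by
      refine mem_center_iff.2 fun g => ?_
      have h1 := Cfsg.Lib.ZStarApps.zstarProp hiso g
      haveI : (Cfsg.pPrimeCore 2 G).Normal := inferInstance
      rcases IsSimpleGroup.eq_bot_or_eq_top_of_normal (Cfsg.pPrimeCore 2 G) inferInstance with hO | hO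
      · rw [hO, mem_bot, mul_inv_eq_one, mul_inv_eq_iff_eq_mul] at h1
        exact h1.symm
      · have hodd := Cfsg.Lib.ZStarApps.odd_card_pPrimeCore (G := G)
        rw [hO, card_top] at hodd
        exact absurd (even_iff_two_dvd.2 (h.ord ▸ orderOf_dvd_natCard z)) (Nat.not_even_iff_odd.2 hodd)
    rcases IsSimpleGroup.eq_bot_or_eq_top_of_normal (center G) inferInstance with hc | hc
    · rw [hc, mem_bot] at hzc
      exact ne_one_of_order_two h.ord hzc
    · exact hna ⟨⟨fun x y => mem_center_iff.1 (hc ▸ mem_top y : y ∈ center G) x⟩⟩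
  obtain ⟨a, hza, -⟩ := h.uniq z (IsConj.refl z)
  have he₀a : e₀ • a = a := by
    obtain ⟨b, hb, -⟩ := h.uniq e₀ he₀
    rwa [centre_eq_of_commute h (IsConj.refl z) he₀ he₀z hza hb]
  -- a Sylow subgroup inside the point stabiliser
  set M := stabilizer G a with hM
  have hP0 : IsPGroup 2 (zpowers z ⊔ zpowers e₀ : Subgroup G) := by
    refine (IsPGroup.of_card (n := 1) (by rw [Nat.card_zpowers, h.ord, pow_one])).to_sup_of_normal_left'
      (IsPGroup.of_card (n := 1) (by rw [Nat.card_zpowers, orderOf_conj h he₀, pow_one])) ?_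
    refine zpowers_le.2 (centralizer_le_normalizer _ (mem_centralizer_iff.2 ?_))
    rintro _ ⟨j, rfl⟩
    exact (he₀z.zpow_left j).eq
  have hP0M : zpowers z ⊔ zpowers e₀ ≤ M :=
    sup_le (zpowers_le.2 (mem_stabilizer_iff.2 hza)) (zpowers_le.2 (mem_stabilizer_iff.2 he₀a))
  obtain ⟨SM, hSM⟩ := (hP0.of_equiv (subgroupOfEquivOfLe hP0M).symm :
    IsPGroup 2 ((zpowers z ⊔ zpowers e₀).subgroupOf M)).exists_le_sylow
  set X := (SM : Subgroup M).map M.subtype with hX
  have hXM : X ≤ M := map_subtype_le _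
  have hXfix : a ∈ fixSet α X := fun g hg => mem_stabilizer_iff.1 (hXM hg)
  have hzX : z ∈ X := ⟨⟨z, mem_stabilizer_iff.2 hza⟩,
    hSM (mem_subgroupOf.2 (mem_sup_left (mem_zpowers z))), rfl⟩
  have he₀X : e₀ ∈ X := ⟨⟨e₀, mem_stabilizer_iff.2 he₀a⟩,
    hSM (mem_subgroupOf.2 (mem_sup_right (mem_zpowers e₀))), rfl⟩
  have hXmax : ∀ Y : Subgroup G, IsPGroup 2 Y → X ≤ Y → Y ≤ M → Y = X := by
    intro Y hY hXY hYM
    have h1 : (SM : Subgroup M) ≤ Y.subgroupOf M := fun w hw => hXY (mem_map_of_mem _ hw)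
    have h2 := SM.is_maximal' (hY.of_equiv (subgroupOfEquivOfLe hYM).symm) h1
    rw [hX, ← h2, map_subgroupOf_eq_of_le hYM]
  obtain ⟨S, hS⟩ := sylow_of_normalizer_le (p := 2) (SM.isPGroup'.map _) M hXM hXmax fun g hg => by
    rw [hM, mem_stabilizer_iff]
    have hga : (g • a) ∈ fixSet α X := fun p hp' => by
      have h1 : g⁻¹ * p * g ∈ X := (mem_normalizer_iff''.1 hg p).1 hp'
      calc p • g • a = g • (g⁻¹ * p * g) • a := by simp only [smul_smul]; congr 1; group
        _ = g • a := by rw [hXfix _ h1]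
    obtain ⟨c', hc', hc'ga, hc'X⟩ := h.central (g • a) X (SM.isPGroup'.map _) hga
    exact centre_eq_of_commute h hc' (IsConj.refl z) (hc'X z hzX) hc'ga hza
  set SG := (S : Subgroup G) with hSG
  have hXS : X = SG := hS.symm
  obtain ⟨c, hc, hca, hcX⟩ := h.central a X (SM.isPGroup'.map _) hXfix
  rw [hXS] at hXM hXfix hzX he₀X hXmax hcX
  have hc2 := orderOf_conj h hc
  have hcS : c ∈ SG := by
    have h1 : IsPGroup 2 (SG ⊔ zpowers c : Subgroup G) :=
      S.isPGroup'.to_sup_of_normal_left' (IsPGroup.of_card (n := 1) (by rw [Nat.card_zpowers, hc2, pow_one]))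
        (zpowers_le.2 (centralizer_le_normalizer _ (mem_centralizer_iff.2 fun g hg => (hcX g hg).eq.symm)))
    exact (S.is_maximal' h1 le_sup_left).le (mem_sup_right (mem_zpowers c))
  obtain ⟨d₀, hd₀, hd₀S, hd₀c⟩ : ∃ d, IsConj z d ∧ d ∈ SG ∧ d ≠ c := by
    by_cases h' : z = c
    · exact ⟨e₀, he₀, he₀X, fun e => he₀ne (e.trans h'.symm)⟩
    · exact ⟨z, IsConj.refl z, hzX, h'⟩
  -- an involution of `S` outside `D`
  obtain ⟨v, hvS, hv, hvD⟩ : ∃ v ∈ SG, orderOf v = 2 ∧ ¬ IsConj z v := by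
    obtain ⟨R, hR⟩ := (IsPGroup.of_card (n := 1)
      (show Nat.card (zpowers i) = 2 ^ 1 by rw [Nat.card_zpowers, hi, pow_one])).exists_le_sylow
    obtain ⟨g, hg⟩ := exists_smul_eq G R S
    refine ⟨g * i * g⁻¹, ?_, by rw [show g * i * g⁻¹ = MulAut.conj g i by simp, MulEquiv.orderOf_eq, hi],
      fun e => hiD (e.trans (isConj_iff.2 ⟨g⁻¹, by group⟩))⟩
    rw [hSG, ← hg, Sylow.coe_subgroup_smul]
    exact Subgroup.smul_mem_pointwise_smul _ (MulAut.conj g) _ (hR (mem_zpowers i))
  have hvc : Commute v c := (hcX v hvS).symm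
  -- `c` is the only central involution of `S`
  have hcentre : ∀ x ∈ SG, orderOf x = 2 → (∀ s ∈ SG, Commute x s) → x = c := by
    intro x hx hx2 hxS
    by_contra hxc
    have hxD : IsConj z x := hpair hx2 hc hd₀ (hcX d₀ hd₀S) hd₀c.symm (hxS c hcS) (hxS d₀ hd₀S)
    exact hvD (hpair hv hc hxD (hcX x hx) (Ne.symm hxc) hvc (hxS v hvS).symm)
  have hccent : (⟨c, hcS⟩ : SG) ∈ center SG :=
    mem_center_iff.2 fun s => Subtype.ext (hcX s s.2).eq.symm
  have hc2S : orderOf (⟨c, hcS⟩ : SG) = 2 := by rw [Subgroup.orderOf_mk]; exact hc2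
  rcases small_class_or_index_two S.isPGroup' hc2S hccent with ⟨⟨w, hwS⟩, hww, hw1, hwc, hwcl⟩ | ⟨T, hT2, hTinv⟩
  swap
  · -- only one involution in a subgroup of index two
    set TG := T.map SG.subtype with hTG
    have hvT : ∀ g : G, g * v * g⁻¹ ∉ TG := by
      rintro g ⟨t, ht, hte⟩
      have hte' : (t : G) = g * v * g⁻¹ := hte
      have ho : orderOf (g * v * g⁻¹) = 2 := by
        rw [show g * v * g⁻¹ = MulAut.conj g v by simp, MulEquiv.orderOf_eq, hv]
      rcases hTinv t ht (Subtype.ext (show (t : G) * t = 1 by rw [hte']; exact sq_of_order_two ho)) with e | e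
      · exact ne_one_of_order_two ho (by rw [← hte', e]; rfl)
      · refine hvD (hc.trans (isConj_iff.2 ⟨g⁻¹, ?_⟩))
        have hcv : c = g * v * g⁻¹ := (congrArg Subtype.val e).symm.trans hte'
        rw [hcv]; group
    have hrel : TG.relIndex SG = T.index := by
      rw [relIndex, hTG, subgroupOf, comap_map_eq_self_of_injective SG.subtype_injective]
    rcases Nat.lt_or_eq_of_le hT2 with hlt | heq
    · have h1 : T.index = 1 := by have := T.index_ne_zero_of_finite; omega
      exact hvT 1 ⟨⟨v, hvS⟩, by rw [index_eq_one.1 h1]; exact mem_top _, by simp⟩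
    · exact false_of_index_two hna S TG (map_subtype_le _) (hrel.trans heq) hv hvT
  -- a normal four group `{1, c, w, wc}`
  have hw2 : orderOf w = 2 := order_two_of_mul_self (congrArg Subtype.val hww) fun e => hw1 (Subtype.ext e)
  have hwc' : w ≠ c := fun e => hwc (Subtype.ext e)
  have hcl : ∀ s ∈ SG, s * w * s⁻¹ = w ∨ s * w * s⁻¹ = w * c := fun s hs =>
    (hwcl ⟨s, hs⟩).imp (fun e => congrArg Subtype.val e) fun e => congrArg Subtype.val e
  set T := SG ⊓ centralizer ({w} : Set G) with hT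
  have hcw : Commute c w := hcX w hwS
  have hTmem : ∀ s, s ∈ T ↔ s ∈ SG ∧ Commute s w := fun s => by
    rw [hT, mem_inf, mem_centralizer_singleton_iff]; exact Iff.rfl
  obtain ⟨s₀, hs₀, hs₀w⟩ : ∃ s ∈ SG, ¬ Commute w s := by
    by_contra hall
    push Not at hall
    exact hwc' (hcentre w hwS hw2 hall)
  have hTi : T.relIndex SG = 2 := by
    rw [relIndex, index_eq_two_iff]
    refine ⟨⟨s₀, hs₀⟩, fun b => ?_⟩
    have hb := b.2
    have hs₀c : s₀ * w * s₀⁻¹ = w * c :=
      (hcl s₀ hs₀).resolve_left fun e => hs₀w (mul_inv_eq_iff_eq_mul.1 e).symm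
    simp only [mem_subgroupOf, Subgroup.coe_mul, hTmem, mul_mem hb hs₀, hb, true_and]
    have hcb : (b : G) * c * (b : G)⁻¹ = c := by rw [← (hcX b hb).eq, mul_inv_cancel_right]
    have key : (b : G) * s₀ * w * ((b : G) * s₀)⁻¹ = (b : G) * w * (b : G)⁻¹ * c := by
      rw [show (b : G) * s₀ * w * ((b : G) * s₀)⁻¹ = (b : G) * (s₀ * w * s₀⁻¹) * (b : G)⁻¹ by group, hs₀c,
        show (b : G) * (w * c) * (b : G)⁻¹ = (b : G) * w * (b : G)⁻¹ * ((b : G) * c * (b : G)⁻¹) by group, hcb]
    rcases hcl b hb with e | e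
    · right
      refine ⟨mul_inv_eq_iff_eq_mul.1 e, fun hcom => ?_⟩
      rw [e, show (b : G) * s₀ * w * ((b : G) * s₀)⁻¹ = w from mul_inv_eq_iff_eq_mul.2 hcom] at key
      exact ne_one_of_order_two hc2 (mul_eq_left.1 key.symm)
    · left
      refine ⟨?_, fun hcom => ?_⟩
      · rw [e, show w * c * c = w by rw [mul_assoc, sq_of_order_two hc2, mul_one]] at key
        exact mul_inv_eq_iff_eq_mul.1 key
      · have h1 := mul_inv_eq_iff_eq_mul.2 (show (b : G) * w = w * b from hcom)
        rw [e] at h1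
        exact ne_one_of_order_two hc2 (mul_eq_left.1 h1)
  by_cases hwD : IsConj z w
  · refine false_of_index_two hna S T inf_le_left hTi hv fun g hg => hvD ?_
    obtain ⟨hgS, hgw⟩ := (hTmem _).1 hg
    have ho : orderOf (g * v * g⁻¹) = 2 := by
      rw [show g * v * g⁻¹ = MulAut.conj g v by simp, MulEquiv.orderOf_eq, hv]
    exact (hpair ho hc hwD hcw (Ne.symm hwc') (hcX _ hgS).symm hgw).trans (isConj_iff.2 ⟨g⁻¹, by group⟩)
  -- `c` is the only member of `D` in `T`
  have hDT : ∀ d ∈ T, IsConj z d → d = c := by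
    intro d hd hdD
    by_contra hdc
    obtain ⟨hdS, hdw⟩ := (hTmem d).1 hd
    exact hwD (hpair hw2 hc hdD (hcX d hdS) (Ne.symm hdc) hcw.symm hdw.symm)
  haveI := Fintype.ofFinite G
  obtain ⟨d, hdmem, hdmax⟩ := Finset.exists_max_image
    (Finset.univ.filter fun d : G => IsConj z d ∧ d ∈ SG ∧ d ≠ c)
    (fun d => Nat.card (SG ⊓ centralizer ({d} : Set G) : Subgroup G))
    ⟨d₀, Finset.mem_filter.2 ⟨Finset.mem_univ _, hd₀, hd₀S, hd₀c⟩⟩
  obtain ⟨-, hdD, hdS, hdc⟩ := Finset.mem_filter.1 hdmem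
  have hcd : Commute c d := hcX d hdS
  set P := SG ⊓ centralizer ({d} : Set G) with hP
  have hPd : ∀ p ∈ P, Commute p d := fun p hp' => mem_centralizer_singleton_iff.1 (mem_inf.1 hp').2
  have hcP : c ∈ P := mem_inf.2 ⟨hcS, mem_centralizer_singleton_iff.2 hcd.eq⟩
  have hdP : d ∈ P := mem_inf.2 ⟨hdS, mem_centralizer_singleton_iff.2 rfl⟩
  have hPinv : ∀ p ∈ P, orderOf p = 2 → IsConj z p := fun p hp' hp2 =>
    hpair hp2 hc hdD hcd (Ne.symm hdc) (hcX p (mem_inf.1 hp').1).symm (hPd p hp')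
  -- `P` is a largest 2-subgroup centralising `c` and `d`
  have hPmax : ∀ Y : Subgroup G, IsPGroup 2 Y → P ≤ Y → (∀ y ∈ Y, Commute y c ∧ Commute y d) → Y = P := by
    intro Y hY hPY hYcd
    set C := centralizer ({c} : Set G)
    have hSC : SG ≤ C := fun s hs => mem_centralizer_singleton_iff.2 (hcX s hs).eq.symm
    have hYC : Y ≤ C := fun y hy => mem_centralizer_singleton_iff.2 (hYcd y hy).1.eq
    obtain ⟨RY, hRY⟩ := (hY.of_equiv (subgroupOfEquivOfLe hYC).symm : IsPGroup 2 (Y.subgroupOf C)).exists_le_sylow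
    obtain ⟨g, hg⟩ := exists_smul_eq C RY (S.subtype hSC)
    have hgc : Commute (g : G) c := mem_centralizer_singleton_iff.1 g.2
    have hYg : ∀ y ∈ Y, (g : G) * y * (g : G)⁻¹ ∈ SG := by
      intro y hy
      have h1 : g * ⟨y, hYC hy⟩ * g⁻¹ ∈ (S.subtype hSC : Subgroup C) := by
        rw [← hg]
        exact Subgroup.smul_mem_pointwise_smul _ (MulAut.conj g) _ (hRY (mem_subgroupOf.2 hy))
      exact mem_subgroupOf.1 h1
    set d' := (g : G) * d * (g : G)⁻¹ with hd'
    have hd'c : d' ≠ c := fun e => hdc (by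
      have h1 : (g : G) * c * (g : G)⁻¹ = c := by rw [hgc.eq, mul_inv_cancel_right]
      exact mul_left_cancel (mul_right_cancel (e.trans h1.symm)))
    have hd'S : d' ∈ SG := hYg d (hPY hdP)
    have hle := hdmax d' (Finset.mem_filter.2
      ⟨Finset.mem_univ _, hdD.trans (isConj_iff.2 ⟨g, rfl⟩), hd'S, hd'c⟩)
    have hmap : Y.map (MulAut.conj (g : G)).toMonoidHom ≤ SG ⊓ centralizer ({d'} : Set G) := by
      rintro _ ⟨y, hy, rfl⟩
      refine mem_inf.2 ⟨hYg y hy, mem_centralizer_singleton_iff.2 ?_⟩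
      exact ((hYcd y hy).2.map (MulAut.conj (g : G)).toMonoidHom).eq
    have hc1 := card_le_of_le hmap
    rw [card_map_of_injective (MulAut.conj (g : G)).injective] at hc1
    exact (eq_of_le_of_card_ge hPY (hc1.trans hle)).symm
  have hdT : d ∉ T := fun e => hdc (hDT d e hdD)
  have hsqT : ∀ p ∈ SG, p * p ∈ T := fun p hp' => by
    have hi2 : (T.subgroupOf SG).index = 2 := hTi
    exact mem_subgroupOf.1 (mul_self_mem_of_index_two hi2 (⟨p, hp'⟩ : SG))
  have hTP : ∀ p ∈ T, p ∈ P → p * p = 1 → p = 1 ∨ p = c := fun p hpT hpP hpp => by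
    by_cases hp1 : p = 1
    · exact Or.inl hp1
    · exact Or.inr (hDT p hpT (hPinv p hpP (order_two_of_mul_self hpp hp1)))
  -- `P` has exponent two
  have hPexp : ∀ p ∈ P, p * p = 1 := by
    intro p₀ hp₀
    by_contra hp1
    obtain ⟨p, hpP, hpc⟩ : ∃ p ∈ P, p * p = c := by
      obtain ⟨n, hn⟩ := IsPGroup.iff_orderOf.1 S.isPGroup' (⟨p₀, (mem_inf.1 hp₀).1⟩ : SG)
      rw [Subgroup.orderOf_mk] at hn
      have hn2 : 2 ≤ n := by
        by_contra hlt
        refine hp1 ?_
        rw [← sq, ← orderOf_dvd_iff_pow_eq_one, hn]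
        exact (pow_dvd_pow 2 (show n ≤ 1 by omega)).trans (by rw [pow_one])
      refine ⟨p₀ ^ 2 ^ (n - 2), pow_mem hp₀ _, ?_⟩
      rw [← pow_add, ← two_mul, ← pow_succ', show n - 2 + 1 = n - 1 by omega]
      set q := p₀ ^ 2 ^ (n - 1) with hq
      have hq1 : q ≠ 1 := fun e => by
        rw [← orderOf_dvd_iff_pow_eq_one, hn] at e
        have := (Nat.pow_dvd_pow_iff_le_right (show 1 < 2 by norm_num)).1 e
        omega
      have hqq : q * q = 1 := by
        rw [hq, ← pow_add, ← two_mul, ← pow_succ', show n - 1 + 1 = n by omega, ← hn, pow_orderOf_eq_one]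
      have hqT : q ∈ T := by
        rw [hq, show n - 1 = n - 2 + 1 by omega, pow_succ', two_mul, pow_add]
        exact hsqT _ (pow_mem (mem_inf.1 hp₀).1 _)
      exact (hTP q hqT (pow_mem hp₀ _) hqq).resolve_left hq1
    -- a Sylow subgroup of the centraliser of `d` normalises more than `P`
    set C := centralizer ({d} : Set G)
    have hPC : P ≤ C := inf_le_right
    obtain ⟨R, hR⟩ := ((S.isPGroup'.to_le (inf_le_left : P ≤ SG)).of_equiv
      (subgroupOfEquivOfLe hPC).symm).exists_le_sylow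
    obtain ⟨g, hgd⟩ := isConj_iff.1 (hdD.symm.trans hc)
    haveI : Group.IsNilpotent (R : Subgroup C) := IsPGroup.isNilpotent R.isPGroup'
    set PR := (P.subgroupOf C).subgroupOf (R : Subgroup C) with hPR
    have hlt : PR < ⊤ := by
      refine lt_top_iff_ne_top.2 fun e => ?_
      rw [hPR, subgroupOf_eq_top] at e
      -- `C(d)` has a full Sylow subgroup
      have hcard : Nat.card SG ≤ Nat.card (R : Subgroup C) := by
        have hsub : SG.map (MulAut.conj g⁻¹).toMonoidHom ≤ C := by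
          rintro _ ⟨s, hs, rfl⟩
          refine mem_centralizer_singleton_iff.2 ?_
          have h1 := (hcX s hs).symm.map (MulAut.conj g⁻¹).toMonoidHom
          have hd' : (MulAut.conj g⁻¹).toMonoidHom c = d := by rw [← hgd]; simp [mul_assoc]
          rw [hd'] at h1
          exact h1.eq
        obtain ⟨R', hR'⟩ := ((S.isPGroup'.map (MulAut.conj g⁻¹).toMonoidHom).of_equiv
          (subgroupOfEquivOfLe hsub).symm).exists_le_sylow
        have h1 := card_le_of_le hR'
        rw [Nat.card_congr (subgroupOfEquivOfLe hsub).toEquiv,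
          card_map_of_injective (MulAut.conj g⁻¹).injective, R'.card_eq_multiplicity, ← R.card_eq_multiplicity] at h1
        exact h1
      have h2 := card_le_of_le e
      rw [Nat.card_congr (subgroupOfEquivOfLe hPC).toEquiv] at h2
      have hPS : P = SG := eq_of_le_of_card_ge inf_le_left (hcard.trans h2)
      exact hdc (hcentre d hdS (orderOf_conj h hdD) fun s hs => (hPd s (hPS ▸ hs)).symm)
    obtain ⟨y, hy, hyP⟩ := SetLike.exists_of_lt (Group.normalizerCondition_of_isNilpotent _ hlt)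
    have hyd : Commute ((y : C) : G) d := mem_centralizer_singleton_iff.1 (y : C).2
    have hyP' : ((y : C) : G) ∉ P := fun e => hyP (mem_subgroupOf.2 (mem_subgroupOf.2 e))
    have hyn : ∀ q ∈ P, ((y : C) : G) * q * ((y : C) : G)⁻¹ ∈ P := fun q hq => by
      have h1 := (mem_normalizer_iff.1 hy (⟨⟨q, hPC hq⟩, hR (mem_subgroupOf.2 hq)⟩ : (R : Subgroup C))).1
        (mem_subgroupOf.2 (mem_subgroupOf.2 hq))
      exact mem_subgroupOf.1 (mem_subgroupOf.1 h1)
    set y' := ((y : C) : G) with hy'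
    have hycP := hyn c hcP
    have hyc : y' * c * y'⁻¹ = c := by
      have hT' : y' * c * y'⁻¹ ∈ T := by
        rw [← hpc, show y' * (p * p) * y'⁻¹ = (y' * p * y'⁻¹) * (y' * p * y'⁻¹) by group]
        exact hsqT _ (mem_inf.1 (hyn p hpP)).1
      refine (hTP _ hT' hycP ?_).resolve_left fun e => ne_one_of_order_two hc2 (by rwa [conj_eq_one_iff] at e)
      rw [show y' * c * y'⁻¹ * (y' * c * y'⁻¹) = y' * (c * c) * y'⁻¹ by group, sq_of_order_two hc2]
      group
    have hY : IsPGroup 2 (P ⊔ zpowers y' : Subgroup G) := by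
      refine (R.isPGroup'.map C.subtype).to_le (sup_le (fun q hq => ⟨⟨q, hPC hq⟩, hR (mem_subgroupOf.2 hq), rfl⟩)
        (zpowers_le.2 ⟨(y : C), y.2, rfl⟩))
    have := hPmax _ hY le_sup_left fun q hq => by
      have hle : P ⊔ zpowers y' ≤ centralizer ({c} : Set G) ⊓ centralizer ({d} : Set G) := sup_le
        (fun r hr => mem_inf.2 ⟨mem_centralizer_singleton_iff.2 (hcX r (mem_inf.1 hr).1).eq.symm,
          mem_centralizer_singleton_iff.2 (hPd r hr).eq⟩)
        (zpowers_le.2 (mem_inf.2 ⟨mem_centralizer_singleton_iff.2 (mul_inv_eq_iff_eq_mul.1 hyc),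
          mem_centralizer_singleton_iff.2 hyd.eq⟩))
      exact ⟨mem_centralizer_singleton_iff.1 (mem_inf.1 (hle hq)).1,
        mem_centralizer_singleton_iff.1 (mem_inf.1 (hle hq)).2⟩
    exact hyP' (this.le (mem_sup_right (mem_zpowers y')))
  have hPT : ∀ p ∈ T, p ∈ P → p = 1 ∨ p = c := fun p hpT hpP => hTP p hpT hpP (hPexp p hpP)
  -- `T = {1, c, w, wc}`
  have hwT : w ∈ T := (hTmem w).2 ⟨hwS, Commute.refl w⟩
  have hcT : c ∈ T := (hTmem c).2 ⟨hcS, hcw⟩
  have hdw : d * w * d⁻¹ = w * c := (hcl d hdS).resolve_left fun e =>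
    hdT ((hTmem d).2 ⟨hdS, mul_inv_eq_iff_eq_mul.1 e⟩)
  have hT4 : ∀ t ∈ T, t = 1 ∨ t = c ∨ t = w ∨ t = w * c := by
    have hWmem : ∀ t, t ∈ zpowers w ⊔ zpowers c → t = 1 ∨ t = c ∨ t = w ∨ t = w * c := by
      intro t ht
      have hn : zpowers c ≤ normalizer ((zpowers w : Subgroup G) : Set G) := zpowers_le.2
        (centralizer_le_normalizer _ (mem_centralizer_iff.2 fun g hg => by
          obtain ⟨j, rfl⟩ := hg; exact (hcw.symm.zpow_left j).eq))
      have hz2 : ∀ {x : G}, orderOf x = 2 → ∀ q ∈ zpowers x, q = 1 ∨ q = x := fun {x} hx q hq => by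
        obtain ⟨j, hj⟩ := mem_zpowers_iff.1 hq
        rw [← zpow_mod_orderOf, hx] at hj
        rcases Int.emod_two_eq_zero_or_one j with h2 | h2 <;> rw [Nat.cast_ofNat, h2] at hj
        · exact Or.inl (by rw [← hj, zpow_zero])
        · exact Or.inr (by rw [← hj, zpow_one])
      have ht' : t ∈ ((zpowers w : Subgroup G) : Set G) * ((zpowers c : Subgroup G) : Set G) := by
        rw [← Subgroup.coe_mul_of_right_le_normalizer_left _ _ hn]; exact ht
      obtain ⟨p, hp', q, hq, rfl⟩ := ht'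
      rcases hz2 hw2 p hp' with rfl | rfl <;> rcases hz2 hc2 q hq with rfl | rfl <;> simp
    by_contra hnot
    push Not at hnot
    obtain ⟨t₁, ht₁, ht₁ne⟩ := hnot
    set W := (zpowers w ⊔ zpowers c).subgroupOf SG with hW
    haveI : W.Normal := ⟨fun p hp' s => by
      rw [hW, mem_subgroupOf] at hp' ⊢
      have hsc : (s : G) * c * (s : G)⁻¹ = c := by rw [← (hcX s s.2).eq, mul_inv_cancel_right]
      have hgen : zpowers w ⊔ zpowers c ≤
          (zpowers w ⊔ zpowers c).comap (MulAut.conj (s : G)).toMonoidHom := by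
        refine sup_le (zpowers_le.2 ?_) (zpowers_le.2 ?_)
        · show (s : G) * w * (s : G)⁻¹ ∈ zpowers w ⊔ zpowers c
          rcases hcl s s.2 with e | e <;> rw [e]
          · exact mem_sup_left (mem_zpowers w)
          · exact mul_mem (mem_sup_left (mem_zpowers w)) (mem_sup_right (mem_zpowers c))
        · show (s : G) * c * (s : G)⁻¹ ∈ zpowers w ⊔ zpowers c
          rw [hsc]
          exact mem_sup_right (mem_zpowers c)
      exact hgen hp'⟩
    haveI : (T.subgroupOf SG).Normal := normal_of_index_eq_two (show (T.subgroupOf SG).index = 2 from hTi)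
    have hWT : W < T.subgroupOf SG := by
      refine lt_of_le_of_ne (comap_mono (f := SG.subtype) (sup_le (zpowers_le.2 hwT) (zpowers_le.2 hcT)))
        fun e => ?_
      have h1 : (⟨t₁, ((hTmem t₁).1 ht₁).1⟩ : SG) ∈ W := e ▸ mem_subgroupOf.2 ht₁
      rcases hWmem t₁ (mem_subgroupOf.1 h1) with e' | e' | e' | e'
      · exact ht₁ne.1 e'
      · exact ht₁ne.2.1 e'
      · exact ht₁ne.2.2.1 e'
      · exact ht₁ne.2.2.2 e'
    obtain ⟨K, hK, hWK, hKT, hKi⟩ := PGroups.exists_normal_relIndex_prime S.isPGroup' hWT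
    obtain ⟨t, htK, htW⟩ : ∃ t ∈ K, t ∉ W := by
      by_contra hall
      push Not at hall
      rw [relIndex_eq_one.2 fun y hy => hall y hy] at hKi
      omega
    have hiK : (W.subgroupOf K).index = 2 := hKi
    have htd : t⁻¹ * (⟨d, hdS⟩ * t * ⟨d, hdS⟩⁻¹) ∈ W := by
      have h1 := (mul_mem_iff_of_index_two hiK (a := (⟨t, htK⟩ : K)⁻¹)
        (b := ⟨_, hK.conj_mem t htK ⟨d, hdS⟩⟩)).2 ⟨fun hh => ?_, fun hh => ?_⟩
      · exact mem_subgroupOf.1 h1
      · exact absurd (mem_subgroupOf.1 ((W.subgroupOf K).inv_mem_iff.1 hh)) htW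
      · refine absurd ?_ htW
        have h2 : W.Normal := inferInstance
        have := h2.conj_mem _ (mem_subgroupOf.1 hh) (⟨d, hdS⟩ : SG)⁻¹
        simpa [mul_assoc] using this
    have htT : (t : G) ∈ T := mem_subgroupOf.1 (hKT htK)
    have hfix : ∀ s ∈ T, d * s * d⁻¹ = s → s = 1 ∨ s = c := fun s hs e =>
      hPT s hs (mem_inf.2 ⟨((hTmem s).1 hs).1, mem_centralizer_singleton_iff.2 (mul_inv_eq_iff_eq_mul.1 e).symm⟩)
    set ω := (t : G)⁻¹ * (d * (t : G) * d⁻¹) with hω
    have hωW : ω ∈ zpowers w ⊔ zpowers c := mem_subgroupOf.1 htd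
    have hd2 : d * d = 1 := sq_of_order_two (orderOf_conj h hdD)
    have hdt : d * (t : G) * d⁻¹ = (t : G) * ω := by rw [hω]; group
    have hback : (t : G) = (t : G) * ω * (d * ω * d⁻¹) := by
      calc (t : G) = (d * d) * (t : G) * (d * d)⁻¹ := by rw [hd2]; group
        _ = d * (d * (t : G) * d⁻¹) * d⁻¹ := by group
        _ = (d * (t : G) * d⁻¹) * (d * ω * d⁻¹) := by
          conv_lhs => rw [hdt]
          group
        _ = _ := by rw [hdt]
    have hωω : ω * (d * ω * d⁻¹) = 1 := by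
      rw [mul_assoc] at hback; exact mul_eq_left.1 hback.symm
    have hnotW : ∀ x, (x = 1 ∨ x = c ∨ x = w ∨ x = w * c) → (t : G) ≠ x := fun x hx e => htW (by
      rw [hW, mem_subgroupOf, e]
      rcases hx with e' | e' | e' | e' <;> rw [e']
      · exact one_mem _
      · exact mem_sup_right (mem_zpowers c)
      · exact mem_sup_left (mem_zpowers w)
      · exact mul_mem (mem_sup_left (mem_zpowers w)) (mem_sup_right (mem_zpowers c)))
    have hdc' : d * c * d⁻¹ = c := by rw [← hcd.eq, mul_inv_cancel_right]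
    rcases hWmem ω hωW with e | e | e | e
    · rcases hfix t htT (by rw [hdt, e, mul_one]) with h' | h'
      · exact hnotW 1 (Or.inl rfl) h'
      · exact hnotW c (Or.inr (Or.inl rfl)) h'
    · have h1 : d * ((t : G) * w) * d⁻¹ = (t : G) * w := by
        rw [show d * ((t : G) * w) * d⁻¹ = (d * (t : G) * d⁻¹) * (d * w * d⁻¹) by group, hdt, hdw, e,
          show (t : G) * c * (w * c) = (t : G) * (c * w) * c by group, hcw.eq,
          show (t : G) * (w * c) * c = (t : G) * w * (c * c) by group, sq_of_order_two hc2, mul_one]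
      rcases hfix _ (mul_mem htT hwT) h1 with h' | h'
      · exact hnotW w (Or.inr (Or.inr (Or.inl rfl))) (by
          rw [eq_inv_of_mul_eq_one_left h', inv_of_order_two hw2])
      · exact hnotW (w * c) (Or.inr (Or.inr (Or.inr rfl))) (by
          rw [← hcw.eq, ← h', mul_assoc, sq_of_order_two hw2, mul_one])
    · rw [e, hdw, ← mul_assoc, sq_of_order_two hw2, one_mul] at hωω
      exact ne_one_of_order_two hc2 hωω
    · rw [e, show d * (w * c) * d⁻¹ = (d * w * d⁻¹) * (d * c * d⁻¹) by group, hdw, hdc',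
        show w * c * (w * c * c) = w * (c * w) * (c * c) by group, hcw.eq, sq_of_order_two hc2, mul_one,
        ← mul_assoc, sq_of_order_two hw2, one_mul] at hωω
      exact ne_one_of_order_two hc2 hωω
  -- so `P` has index two and contains only members of `D`
  have hwP : w ∉ P := fun e => hwD (hPinv w e hw2)
  have hPi : P.relIndex SG = 2 := by
    rw [relIndex, index_eq_two_iff]
    refine ⟨⟨w, hwS⟩, fun b => ?_⟩
    have hb := b.2
    simp only [mem_subgroupOf, Subgroup.coe_mul]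
    suffices hb' : (b : G) ∈ P ∨ (b : G) * w ∈ P by
      rcases hb' with h' | h'
      · refine Or.inr ⟨h', fun e => hwP ?_⟩
        have h2 := mul_mem (inv_mem h') e
        rwa [inv_mul_cancel_left] at h2
      · refine Or.inl ⟨h', fun e => hwP ?_⟩
        have h2 := mul_mem (inv_mem e) h'
        rwa [inv_mul_cancel_left] at h2
    by_cases hbT : (b : G) ∈ T
    · rcases hT4 _ hbT with e | e | e | e
      · exact Or.inl (e ▸ one_mem P)
      · exact Or.inl (e ▸ hcP)
      · exact Or.inr (by rw [e, sq_of_order_two hw2]; exact one_mem P)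
      · exact Or.inr (by rw [e, mul_assoc, hcw.eq, ← mul_assoc, sq_of_order_two hw2, one_mul]; exact hcP)
    · have hi2 : (T.subgroupOf SG).index = 2 := hTi
      have hdb : d * (b : G) ∈ T := mem_subgroupOf.1 ((mul_mem_iff_of_index_two hi2
        (a := (⟨d, hdS⟩ : SG)) (b := b)).2 ⟨fun hh => absurd (mem_subgroupOf.1 hh) hdT,
          fun hh => absurd (mem_subgroupOf.1 hh) hbT⟩)
      have hbe : (b : G) = d * (d * (b : G)) := by
        rw [← mul_assoc, sq_of_order_two (orderOf_conj h hdD), one_mul]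
      rcases hT4 _ hdb with e | e | e | e <;> rw [e] at hbe
      · exact Or.inl (by rw [hbe, mul_one]; exact hdP)
      · exact Or.inl (by rw [hbe]; exact mul_mem hdP hcP)
      · exact Or.inr (by rw [hbe, mul_assoc, sq_of_order_two hw2, mul_one]; exact hdP)
      · exact Or.inr (by
          rw [hbe, mul_assoc, mul_assoc, hcw.eq, ← mul_assoc w, sq_of_order_two hw2, one_mul]
          exact mul_mem hdP hcP)
  refine false_of_index_two hna S P inf_le_left hPi hv fun g hg => hvD ?_
  have ho : orderOf (g * v * g⁻¹) = 2 := by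
    rw [show g * v * g⁻¹ = MulAut.conj g v by simp, MulEquiv.orderOf_eq, hv]
  exact (hPinv _ hg ho).trans (isConj_iff.2 ⟨g⁻¹, by group⟩)

/-- Outside the strongly embedded case some involution with two fixed points centralises two commuting
members of `D`: every remaining line has rank at least two. -/
theorem exists_line_of_not_conj (hna : ¬ IsMulCommutative G) (h : Crit G α z) {i : G} (hi : orderOf i = 2)
    (hiD : ¬ IsConj z i) :
    ∃ (u : G) (x y : α) (d e : G), orderOf u = 2 ∧ u • x = x ∧ u • y = y ∧ x ≠ y ∧ IsConj z d ∧ IsConj z e ∧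
      Commute d e ∧ d ≠ e ∧ Commute u d ∧ Commute u e := by
  by_contra hno
  exact hiD (all_conj_of_pure hna h (fun u x y a1 a2 a3 a4 d e a5 a6 a7 a8 a9 a10 =>
    hno ⟨u, x, y, d, e, a1, a2, a3, a4, a5, a6, a7, a8, a9, a10⟩) hi)

end Simple

end Cfsg.Lib.BenderSE.Crit2
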