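/-
The shared vocabulary of the climb in the criterion (notes/s1175_h7_plan.md): the natural sections of a
torus and the state of a 2-subgroup of a point stabiliser.
-/
import Cfsg.Agent.BenderSE.Criterion2.Basic

set_option autoImplicit false
set_option linter.unusedSectionVars false

namespace Cfsg.Lib.BenderSE.Crit2

open Subgroup

variable {G : Type*} [Group G]

/-- `Z / Y` is a section invariant under `X` of exponent two -/
structure XSection (X Y Z : Subgroup G) : Prop where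
  le : Y ≤ Z
  normal : Z ≤ normalizer (Y : Set G)
  normY : X ≤ normalizer (Y : Set G)
  normZ : X ≤ normalizer (Z : Set G)
  sq : ∀ g ∈ Z, g * g ∈ Y

/-- the section `Z / Y` is isomorphic to `A` as a module of `X` -/
def IsoNat (X A Y Z : Subgroup G) : Prop :=
  ∃ f : G → G, (∀ a ∈ A, f a ∈ Z) ∧ (∀ a ∈ A, ∀ b ∈ A, (f (a * b))⁻¹ * (f a * f b) ∈ Y) ∧
    (∀ x ∈ X, ∀ a ∈ A, (f (x * a * x⁻¹))⁻¹ * (x * f a * x⁻¹) ∈ Y) ∧
    (∀ a ∈ A, f a ∈ Y → a = 1) ∧ ∀ g ∈ Z, ∃ a ∈ A, (f a)⁻¹ * g ∈ Y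

/-- the constant part of the climb: the involution `u`, its clique `A` and torus `X` in the point
stabiliser `M` of a class `D` -/
structure Torus (M : Subgroup G) (D : G → Prop) (u : G) (A X : Subgroup G) (q : ℕ) : Prop where
  two : orderOf u = 2
  memM : u ∈ M
  leM : A ≤ M
  XleM : X ≤ M
  oddX : Odd (Nat.card X)
  commX : ∀ x ∈ X, ∀ y ∈ X, Commute x y
  centX : ∀ x ∈ X, Commute x u
  elem : ∀ a ∈ A, a * a = 1
  centA : ∀ a ∈ A, Commute a u
  notA : u ∉ A
  card : Nat.card A = q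
  four : 4 ≤ q
  normA : X ≤ normalizer (A : Set G)
  transA : ∀ a ∈ A, ∀ b ∈ A, a ≠ 1 → b ≠ 1 → ∃ x ∈ X, x * a * x⁻¹ = b
  memA : ∀ a ∈ A, a ≠ 1 → D a
  conjD : ∀ g d : G, D d → D (g * d * g⁻¹)
  cosetA : ∀ a ∈ A, ¬ D (u * a)
  /-- the centraliser of `u` in `M` acts semilinearly on `A` -/
  semilinear : ∀ g ∈ M, Commute g u → g ∈ normalizer (A : Set G) → ∀ x ∈ X, ∃ y ∈ X,
    ∀ a ∈ A, g * x * g⁻¹ * a * (g * x * g⁻¹)⁻¹ = y * a * y⁻¹
  /-- the bound of a line of maximal size -/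
  bound : ∀ w ∈ M, IsConj u w → ∀ P : Subgroup G, P ≤ M → IsPGroup 2 P → (∀ p ∈ P, Commute p w) →
    Nat.card P ≤ 2 * q

/-- the state of the climb: `R = T⟨u⟩` -/
structure State (M : Subgroup G) (u : G) (A X R T : Subgroup G) : Prop where
  le : R ≤ M
  two : IsPGroup 2 R
  mem : u ∈ R
  leA : A ≤ T
  centre : ∀ a ∈ A, ∀ r ∈ R, Commute a r
  fix : ∀ r ∈ R, Commute r u → r ∈ A ⊔ zpowers u
  normR : X ≤ normalizer (R : Set G)
  normT : X ≤ normalizer (T : Set G)
  fixX : ∀ t ∈ T, (∀ x ∈ X, Commute x t) → t = 1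
  leT : T ≤ R
  index : T.relIndex R = 2
  noConj : ∀ w ∈ T, ¬ IsConj u w

/-- `R'` is one step above `R`: the translations of the classes of conjugates of `u` in `R` -/
structure Step (M : Subgroup G) (u : G) (A X R R' : Subgroup G) : Prop where
  le : R ≤ R'
  leM : R' ≤ M
  two : IsPGroup 2 R'
  normR : R' ≤ normalizer (R : Set G)
  normX : X ≤ normalizer (R' : Set G)
  centre : ∀ a ∈ A, ∀ r ∈ R', Commute a r
  index : R.relIndex R' = Nat.card A
  fix : ∀ r ∈ R', Commute r u → r ∈ A ⊔ zpowers u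
  iso : IsoNat X A R R'

/-- W3: a 2-element of `N_M(R)` outside `R` gives a step (`q = 8` apart); the torus is replaced by one
with the same action on the state, as the kernel of `X` on `A` need not normalise a step -/
def StepExists (G : Type*) [Group G] : Prop :=
  ∀ (M : Subgroup G) (D : G → Prop) (u : G) (A X R T : Subgroup G) (q : ℕ), Torus M D u A X q →
    State M u A X R T → q ≠ 8 → ∀ (S : Sylow 2 G), (S : Subgroup G) ≤ M → R ≤ S → R ≠ S →
      ∃ X2 R' : Subgroup G, Torus M D u A X2 q ∧ State M u A X2 R T ∧ Step M u A X2 R R'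

/-- W1+W2: a step is a state again (`q ≥ 8`) -/
def StateOfStep (G : Type*) [Group G] : Prop :=
  ∀ (M : Subgroup G) (D : G → Prop) (u : G) (A X R T R' : Subgroup G) (q : ℕ), Torus M D u A X q →
    State M u A X R T → 8 ≤ q → Step M u A X R R' → ∃ T' : Subgroup G, State M u A X R' T'

/-- W4: a state at a Sylow subgroup contradicts simplicity -/
def StateEnd (G : Type*) [Group G] : Prop :=
  ∀ (M : Subgroup G) (D : G → Prop) (u : G) (A X : Subgroup G) (T : Subgroup G) (q : ℕ) (S : Sylow 2 G),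
    IsSimpleGroup G → ¬ IsMulCommutative G → Torus M D u A X q →
      State M u A X (S : Subgroup G) T → False

end Cfsg.Lib.BenderSE.Crit2
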