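/-
W1 and W2 of the climb in the criterion (notes/s1175_h1_audit.md, A2 and A3): a step is a state again,
and a state at a Sylow subgroup contradicts simplicity.
-/
import Cfsg.Agent.BenderSE.Criterion2.Spec
import Cfsg.Agent.BenderSE.Criterion2.Pure

set_option autoImplicit false
set_option linter.unusedSectionVars false
set_option linter.style.haveILetI false

namespace Cfsg.Lib.BenderSE.Crit2

open Subgroup

variable {G : Type*} [Group G]

/-- if the conjugates of `v` by `P` stay in the coset `vT` and `|C_P(v)| |T| ≤ |P|`, they fill it -/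
theorem coset_full [Finite G] {P T : Subgroup G} {v : G} (hT : ∀ r ∈ P, v⁻¹ * (r * v * r⁻¹) ∈ T)
    (hle : Nat.card (P ⊓ centralizer ({v} : Set G) : Subgroup G) * Nat.card T ≤ Nat.card P)
    {t : G} (ht : t ∈ T) : ∃ r ∈ P, r * v * r⁻¹ = v * t := by
  set K := (centralizer ({v} : Set G)).subgroupOf P with hK
  have hmem : ∀ a b : P, a⁻¹ * b ∈ K ↔ (a : G) * v * (a : G)⁻¹ = (b : G) * v * (b : G)⁻¹ := by
    intro a b
    rw [hK, mem_subgroupOf, mem_centralizer_singleton_iff]
    push_cast
    constructor <;> intro h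
    · calc (a : G) * v * (a : G)⁻¹ = a * (v * ((a : G)⁻¹ * b)) * (b : G)⁻¹ := by group
        _ = a * (((a : G)⁻¹ * b) * v) * (b : G)⁻¹ := by rw [h]
        _ = (b : G) * v * (b : G)⁻¹ := by group
    · calc ((a : G)⁻¹ * b) * v = (a : G)⁻¹ * ((b : G) * v * (b : G)⁻¹) * b := by group
        _ = v * ((a : G)⁻¹ * b) := by rw [← h]; group
  let f : P ⧸ K → T := Quotient.lift (fun a : P => (⟨v⁻¹ * ((a : G) * v * (a : G)⁻¹), hT a a.2⟩ : T))
    (fun a b hab => Subtype.ext (by
      show v⁻¹ * _ = v⁻¹ * _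
      rw [(hmem a b).1 (QuotientGroup.leftRel_apply.1 hab)]))
  have hf : Function.Injective f := fun x y => by
    refine QuotientGroup.induction_on x (fun a => QuotientGroup.induction_on y fun b hab => ?_)
    refine QuotientGroup.eq.2 ((hmem a b).2 (mul_left_cancel (congrArg Subtype.val hab)))
  have hcard : Nat.card K = Nat.card (P ⊓ centralizer ({v} : Set G) : Subgroup G) := by
    rw [hK, ← inf_subgroupOf_right, inf_comm]
    exact Nat.card_congr (subgroupOfEquivOfLe inf_le_left).toEquiv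
  have hge : Nat.card T ≤ Nat.card (P ⧸ K) := by
    have h := K.card_mul_index
    rw [hcard] at h
    rw [← h] at hle
    exact Nat.le_of_mul_le_mul_left hle (Nat.card_pos)
  obtain ⟨x, hx⟩ := ((Nat.bijective_iff_injective_and_card f).2
    ⟨hf, le_antisymm (Nat.card_le_card_of_injective f hf) hge⟩).2 ⟨t, ht⟩
  obtain ⟨a, rfl⟩ := QuotientGroup.mk_surjective x
  refine ⟨a, a.2, ?_⟩
  have := congrArg Subtype.val hx
  change v⁻¹ * ((a : G) * v * (a : G)⁻¹) = t at this
  rw [← this, mul_inv_cancel_left]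

/-- an element between two involutions of the coset `wT` is inverted by `w` -/
theorem inv_of_involutions {w t : G} (h1 : w * w = 1) (h2 : w * t * (w * t) = 1) : w * t * w⁻¹ = t⁻¹ := by
  rw [inv_eq_of_mul_eq_one_right h1, eq_inv_iff_mul_eq_one]
  simpa only [mul_assoc] using h2

variable {M : Subgroup G} {D : G → Prop} {u : G} {A X R T R' : Subgroup G} {q : ℕ}

/-- `u` is outside the index two subgroup of a state -/
theorem State.not_mem (s : State M u A X R T) : u ∉ T := fun h => s.noConj u h (IsConj.refl u)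

/-- the two cosets of a state -/
theorem State.cases (s : State M u A X R T) {r : G} (hr : r ∈ R) : r ∈ T ∨ u * r ∈ T := by
  by_cases h : r ∈ T
  · exact Or.inl h
  · have := (Subgroup.mul_mem_iff_of_index_two (H := T.subgroupOf R) s.index (a := ⟨u, s.mem⟩)
      (b := ⟨r, hr⟩))
    simp only [mem_subgroupOf, Subgroup.coe_mul] at this
    exact Or.inr (this.2 ⟨fun e => absurd e s.not_mem, fun e => absurd e h⟩)

theorem State.card_eq (s : State M u A X R T) : Nat.card R = Nat.card T * 2 := by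
  rw [← (T.subgroupOf R).card_mul_index, show (T.subgroupOf R).index = 2 from s.index,
    Nat.card_congr (subgroupOfEquivOfLe s.leT).toEquiv]

/-- W1 and W2 -/
theorem step_state [Finite G] (ht : Torus M D u A X q) (s : State M u A X R T) (st : Step M u A X R R') :
    ∃ T' : Subgroup G, State M u A X R' T' := by
  classical
  haveI : Fintype X := Fintype.ofFinite X
  have hu2 : u * u = 1 := by rw [← pow_two, ← ht.two, pow_orderOf_eq_one]
  have hui : u⁻¹ = u := inv_eq_of_mul_eq_one_right hu2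
  have hnR : ∀ {r g : G}, r ∈ R' → g ∈ R → r * g * r⁻¹ ∈ R := fun hr hg => (st.normR hr _).1 hg
  have hnX : ∀ {x g : G}, x ∈ X → g ∈ R' → x * g * x⁻¹ ∈ R' := fun hx hg => (st.normX hx _).1 hg
  have hnXT : ∀ {x g : G}, x ∈ X → g ∈ T → x * g * x⁻¹ ∈ T := fun hx hg => (s.normT hx _).1 hg
  have hTR' : T ≤ R' := s.leT.trans st.le
  have hsup : A ⊔ zpowers u ≤ R := sup_le (s.leA.trans s.leT) ((zpowers_le).2 s.mem)
  have hcardR' : Nat.card R' = Nat.card T * 2 * q := by
    rw [← (R.subgroupOf R').card_mul_index, Nat.card_congr (subgroupOfEquivOfLe st.le).toEquiv, s.card_eq,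
      show (R.subgroupOf R').index = Nat.card A from st.index, ht.card]
  have hbound : ∀ {w : G}, w ∈ R' → IsConj u w →
      Nat.card (R' ⊓ centralizer ({w} : Set G) : Subgroup G) * Nat.card T ≤ Nat.card R' := fun {w} hw hc => by
    have := ht.bound w (st.leM hw) hc _ (inf_le_left.trans st.leM) (st.two.to_le inf_le_left)
      fun p hp => mem_centralizer_singleton_iff.1 hp.2
    rw [hcardR']
    exact (Nat.mul_le_mul_right _ this).trans_eq (by ring)
  -- `uT` is one class
  have hconjU : ∀ r ∈ R', u⁻¹ * (r * u * r⁻¹) ∈ T := fun r hr => by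
    rw [hui]
    exact (s.cases (hnR hr s.mem)).resolve_left fun e => s.noConj _ e (isConj_iff.2 ⟨r, rfl⟩)
  have huT : ∀ {t : G}, t ∈ T → ∃ r ∈ R', r * u * r⁻¹ = u * t := fun ht' =>
    coset_full hconjU (hbound (st.le s.mem) (IsConj.refl u)) ht'
  have hinvU : ∀ {t : G}, t ∈ T → u * t * u⁻¹ = t⁻¹ := fun {t} ht' => by
    obtain ⟨r, -, hr⟩ := huT ht'
    refine inv_of_involutions hu2 ?_
    rw [← hr, show r * u * r⁻¹ * (r * u * r⁻¹) = r * (u * u) * r⁻¹ by group, hu2, mul_one, mul_inv_cancel]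
  have hnT : ∀ {r t : G}, r ∈ R' → t ∈ T → r * t * r⁻¹ ∈ T := fun {r t} hr ht' => by
    rcases s.cases (hnR hr (s.leT ht')) with h | h
    · exact h
    · obtain ⟨r', -, hr'⟩ := huT h
      rw [← mul_assoc, hu2, one_mul] at hr'
      refine absurd (isConj_iff.2 ⟨r⁻¹ * r', ?_⟩) (s.noConj t ht')
      rw [show r⁻¹ * r' * u * (r⁻¹ * r')⁻¹ = r⁻¹ * (r' * u * r'⁻¹) * r by group, hr']
      group
  obtain ⟨f, hfZ, hfm, hfx, hfi, hfs⟩ := st.iso
  have hf1 : f 1 ∈ R := by
    have := hfm 1 A.one_mem 1 A.one_mem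
    rwa [one_mul, inv_mul_cancel_left] at this
  -- `R'/T` has exponent two
  have hsqR : ∀ g ∈ R', g * g ∈ R := fun g hg => by
    obtain ⟨a, ha, hga⟩ := hfs g hg
    have h1 : f a * f a ∈ R := by
      have := mul_mem hf1 (by simpa only [ht.elem a ha] using hfm a ha a ha)
      rwa [mul_inv_cancel_left] at this
    set r := (f a)⁻¹ * g with hr
    have e : g * g = (f a * r * (f a)⁻¹) * (f a * f a) * r := by rw [hr]; group
    rw [e]
    exact mul_mem (mul_mem (hnR (hfZ a ha) hga) h1) hga
  have hsqT : ∀ g ∈ R', g * g ∈ T := fun g hg => by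
    rcases s.cases (hsqR g hg) with h | h
    · exact h
    · exfalso
      obtain ⟨r, hr, hru⟩ := huT h
      rw [← mul_assoc, hu2, one_mul] at hru
      have hc : Commute (r⁻¹ * g * r) u := by
        have h1 : Commute g (r * u * r⁻¹) := by rw [hru]; exact (Commute.refl g).mul_right (Commute.refl g)
        have h2 := h1.map (MulAut.conj r⁻¹).toMonoidHom
        simpa [mul_assoc] using h2
      have hgR : g ∈ R := by
        have := hnR hr (hsup (st.fix _ (mul_mem (mul_mem (inv_mem hr) hg) hr) hc))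
        rwa [show r * (r⁻¹ * g * r) * r⁻¹ = g by group] at this
      have h2 : g * g ∈ T := by
        have := (Subgroup.mul_self_mem_of_index_two (H := T.subgroupOf R) s.index ⟨g, hgR⟩)
        simpa [mem_subgroupOf] using this
      exact s.not_mem ((mul_mem_cancel_right h2).1 h)
  haveI hN : (T.subgroupOf R').Normal :=
    ⟨fun n hn g => mem_subgroupOf.2 (by simpa using hnT g.2 (mem_subgroupOf.1 hn))⟩
  set Q := R' ⧸ T.subgroupOf R'
  let mk : R' →* Q := QuotientGroup.mk' _
  have hmk1 : ∀ g : R', mk g = 1 ↔ (g : G) ∈ T := fun g => (QuotientGroup.eq_one_iff g).trans mem_subgroupOf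
  have hsq : ∀ a : Q, a * a = 1 := fun a => by
    obtain ⟨g, rfl⟩ := QuotientGroup.mk'_surjective _ a
    show mk g * mk g = 1
    rw [← map_mul, hmk1]
    exact hsqT g g.2
  have hcomm : ∀ a b : Q, a * b = b * a := fun a b => by
    calc a * b = a * ((a * b) * (a * b)) * b := by rw [hsq, mul_one]
      _ = (a * a) * (b * a) * (b * b) := by group
      _ = b * a := by rw [hsq, hsq, one_mul, mul_one]
  letI : CommGroup Q := { (inferInstance : Group Q) with mul_comm := hcomm }
  -- the norm of `X` on `R'/T`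
  let c : X → R' →* Q := fun x =>
    { toFun := fun g => mk ⟨(x : G) * g * (x : G)⁻¹, hnX x.2 g.2⟩
      map_one' := by rw [hmk1]; simp
      map_mul' := fun g g' => by rw [← map_mul]; congr 1; ext; simp [mul_assoc] }
  let π : R' →* Q := ∏ x : X, c x
  have hπ : ∀ g, π g = ∏ x : X, mk ⟨(x : G) * g * (x : G)⁻¹, hnX x.2 g.2⟩ := fun g =>
    MonoidHom.finsetProd_apply _ _ g
  have hπX : ∀ (g : R') (x₀ : X), π ⟨(x₀ : G) * g * (x₀ : G)⁻¹, hnX x₀.2 g.2⟩ = π g := fun g x₀ => by
    rw [hπ, hπ]
    refine Fintype.prod_equiv (Equiv.mulRight x₀) _ _ fun x => ?_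
    congr 1; ext; simp [mul_assoc]
  have hodd : ∀ a : Q, a ^ Fintype.card X = a := fun a => by
    obtain ⟨j, hj⟩ : Odd (Fintype.card X) := by rw [Fintype.card_eq_nat_card]; exact ht.oddX
    rw [hj, pow_add, pow_mul, pow_two, hsq, one_pow, one_mul, pow_one]
  -- the fixed points are `{1, ū}`
  have hcasesQ : ∀ g : R', π g = 1 ∨ π g = mk ⟨u, st.le s.mem⟩ := fun g => by
    obtain ⟨h, hh⟩ := QuotientGroup.mk'_surjective _ (π g)
    change mk h = π g at hh
    have hfixh : ∀ x : X, mk ⟨(x : G) * h * (x : G)⁻¹, hnX x.2 h.2⟩ = mk h := fun x => by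
      let φ : Q →* Q := QuotientGroup.lift _ (c x) fun n hn =>
        (hmk1 _).2 (hnXT x.2 (mem_subgroupOf.1 hn))
      have h1 : φ (mk h) = mk ⟨(x : G) * h * (x : G)⁻¹, hnX x.2 h.2⟩ := rfl
      rw [← h1, hh, hπ, map_prod]
      refine Fintype.prod_equiv (Equiv.mulLeft x) _ _ fun y => ?_
      show mk _ = mk _
      congr 1; ext; simp [mul_assoc]
    obtain ⟨a, ha, hha⟩ := hfs h h.2
    have hafix : ∀ x ∈ X, x * a * x⁻¹ = a := fun x hx => by
      have hb : x * a * x⁻¹ ∈ A := (ht.normA hx _).1 ha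
      set b := x * a * x⁻¹ with hbdef
      have hd : (h : G)⁻¹ * (x * h * x⁻¹) ∈ T := by
        have := (hfixh ⟨x, hx⟩).symm
        rw [← inv_mul_eq_one, ← map_inv, ← map_mul, hmk1] at this
        simpa using this
      -- `f b ≡ f a` modulo `R`
      set r₁ := (f a)⁻¹ * h with hr₁
      set r₂ := (f b)⁻¹ * (x * f a * x⁻¹) with hr₂
      have e : (f b)⁻¹ * f a = r₂ * (x * r₁ * x⁻¹) * ((h : G)⁻¹ * (x * h * x⁻¹))⁻¹ * r₁⁻¹ := by
        rw [hr₁, hr₂]; group
      have hba : (f b)⁻¹ * f a ∈ R := by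
        rw [e]
        exact mul_mem (mul_mem (mul_mem (hfx x hx a ha) ((s.normR hx _).1 hha)) (inv_mem (s.leT hd)))
          (inv_mem hha)
      have h2 : f (b * a) ∈ R := by
        have h3 : (f (b * a))⁻¹ * (f b * f a) ∈ R := hfm b hb a ha
        have h4 : f b * f a ∈ R := by
          rw [show f b * f a = f b * f b * ((f b)⁻¹ * f a) by group]
          exact mul_mem (hsqR _ (hfZ b hb)) hba
        exact inv_mem_iff.1 ((mul_mem_cancel_right h4).1 h3)
      have h5 := hfi _ (mul_mem hb ha) h2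
      rw [← inv_eq_of_mul_eq_one_left h5, inv_eq_of_mul_eq_one_left (ht.elem a ha)]
    have ha1 : a = 1 := by
      by_contra hne
      have : ∀ b ∈ A, b = 1 ∨ b = a := fun b hb => or_iff_not_imp_left.2 fun hb1 => by
        obtain ⟨x, hx, e⟩ := ht.transA a ha b hb hne hb1
        rw [← e, hafix x hx]
      have hle : Nat.card A ≤ Nat.card (Bool) := by
        refine Nat.card_le_card_of_injective (fun b : A => decide ((b : G) = 1)) fun b b' e => Subtype.ext ?_
        have e' := decide_eq_decide.1 e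
        rcases this b b.2 with h | h <;> rcases this b' b'.2 with h' | h'
        · exact h.trans h'.symm
        · exact h.trans (e'.1 h).symm
        · exact (e'.2 h').trans h'.symm
        · exact h.trans h'.symm
      rw [ht.card, Nat.card_eq_fintype_card, Fintype.card_bool] at hle
      exact absurd (ht.four.trans hle) (by norm_num)
    subst ha1
    have hR : (h : G) ∈ R := by simpa using mul_mem hf1 hha
    rw [← hh]
    rcases s.cases hR with h' | h'
    · exact Or.inl ((hmk1 h).2 h')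
    · right
      rw [← inv_mul_eq_one, ← map_inv, ← map_mul, hmk1]
      have := inv_mem h'
      simpa [hui] using this
  have hπu : π ⟨u, st.le s.mem⟩ = mk ⟨u, st.le s.mem⟩ := by
    rw [hπ, Finset.prod_eq_pow_card (b := mk ⟨u, st.le s.mem⟩) fun x _ => by
      congr 1; ext; show (x : G) * u * (x : G)⁻¹ = u
      rw [(ht.centX x x.2).eq, mul_inv_cancel_right], Finset.card_univ, hodd]
  have hu1 : mk ⟨u, st.le s.mem⟩ ≠ 1 := fun e => s.not_mem ((hmk1 _).1 e)
  set T' := π.ker.map R'.subtype with hT'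
  have hT'mem : ∀ g : R', (g : G) ∈ T' ↔ π g = 1 := fun g => by
    rw [hT', mem_map]
    exact ⟨fun ⟨g', hg', e⟩ => Subtype.ext e ▸ hg', fun hg => ⟨g, hg, rfl⟩⟩
  have hTT' : T ≤ T' := fun t ht' => (hT'mem ⟨t, hTR' ht'⟩).2 (by
    rw [hπ]; exact Finset.prod_eq_one fun x _ => (hmk1 _).2 (hnXT x.2 ht'))
  have huT' : u ∉ T' := fun e => hu1 (hπu ▸ (hT'mem ⟨u, st.le s.mem⟩).1 e)
  have hT'R : ∀ {g : G}, g ∈ T' → g ∈ R → g ∈ T := fun {g} hg hgR =>
    (s.cases hgR).resolve_right fun e => huT' (by simpa using mul_mem (hTT' e) (inv_mem hg))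
  have hcover : ∀ g ∈ R', g ∈ T' ∨ g * u ∈ T' := fun g hg => by
    rcases hcasesQ ⟨g, hg⟩ with h | h
    · exact Or.inl ((hT'mem ⟨g, hg⟩).2 h)
    · refine Or.inr ((hT'mem ⟨g * u, mul_mem hg (st.le s.mem)⟩).2 ?_)
      rw [show (⟨g * u, mul_mem hg (st.le s.mem)⟩ : R') = ⟨g, hg⟩ * ⟨u, st.le s.mem⟩ from rfl, map_mul, h,
        hπu, hsq]
  have hindex : T'.relIndex R' = 2 := by
    rw [relIndex, index_eq_two_iff]
    refine ⟨⟨u, st.le s.mem⟩, fun b => ?_⟩
    simp only [mem_subgroupOf, Subgroup.coe_mul]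
    by_cases hb : (b : G) ∈ T'
    · exact Or.inr ⟨hb, fun e => huT' (by simpa using mul_mem (inv_mem hb) e)⟩
    · exact Or.inl ⟨(hcover b b.2).resolve_left hb, hb⟩
  refine ⟨T', ⟨st.leM, st.two, st.le s.mem, s.leA.trans hTT', st.centre, st.fix, st.normX, ?_, ?_,
    map_subtype_le _, hindex, ?_⟩⟩
  · -- invariance
    refine fun x hx => ?_
    have key : ∀ {y : G}, y ∈ X → ∀ g ∈ T', y * g * y⁻¹ ∈ T' := fun {y} hy g hg => by
      obtain ⟨g', hg', rfl⟩ := hg
      exact (hT'mem ⟨_, hnX hy g'.2⟩).2 ((hπX g' ⟨y, hy⟩).trans hg')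
    refine fun g => ⟨key hx g, fun hg => ?_⟩
    have := key (inv_mem hx) _ hg
    simpa [mul_assoc] using this
  · -- no fixed points
    intro t ht' hfix
    have hR : t ∈ R' := map_subtype_le _ ht'
    refine s.fixX t ((hmk1 ⟨t, hR⟩).1 ?_) hfix
    have h := (hT'mem ⟨t, hR⟩).1 ht'
    rwa [hπ, Finset.prod_eq_pow_card (b := mk ⟨t, hR⟩) fun x _ => by
      congr 1; ext; show (x : G) * t * (x : G)⁻¹ = t
      rw [(hfix x x.2).eq, mul_inv_cancel_right], Finset.card_univ, hodd] at h
  · -- no conjugates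
    intro v hv hvu
    by_cases hvT : v ∈ T
    · exact s.noConj v hvT hvu
    have hvR' : v ∈ R' := map_subtype_le _ hv
    have hout : ∀ {w : G}, w ∈ T' → w ∉ T → w ∉ R := fun hw hn hr => hn (hT'R hw hr)
    have hclass : ∀ t ∈ T, IsConj u (v * t) := fun t ht' => by
      obtain ⟨r, -, e⟩ := coset_full (P := R') (T := T) (v := v) (fun r hr => (hmk1
        ⟨v⁻¹ * (r * v * r⁻¹), mul_mem (inv_mem hvR') (mul_mem (mul_mem hr hvR') (inv_mem hr))⟩).1 (by
          rw [show (⟨v⁻¹ * (r * v * r⁻¹), mul_mem (inv_mem hvR') (mul_mem (mul_mem hr hvR') (inv_mem hr))⟩ : R')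
            = (⟨v, hvR'⟩ : R')⁻¹ * (⟨r, hr⟩ * ⟨v, hvR'⟩ * (⟨r, hr⟩ : R')⁻¹) from rfl,
            map_mul, map_mul, map_mul, map_inv, map_inv, mul_comm (mk ⟨r, hr⟩), mul_assoc, mul_inv_cancel,
            mul_one, inv_mul_cancel])) (hbound hvR' hvu) ht'
      exact hvu.trans (isConj_iff.2 ⟨r, e⟩)
    -- all elements of `T' \ T` are conjugates of `u`
    have hall : ∀ {w : G}, w ∈ T' → w ∉ T → IsConj u w := fun {w} hw hn => by
      obtain ⟨a, ha, hwa⟩ := hfs w (map_subtype_le _ hw)
      obtain ⟨b, hb, hvb⟩ := hfs v hvR'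
      have ha1 : a ≠ 1 := fun e => hout hw hn (by simpa [e] using mul_mem hf1 hwa)
      have hb1 : b ≠ 1 := fun e => hout hv hvT (by simpa [e] using mul_mem hf1 hvb)
      obtain ⟨x, hx, hxab⟩ := ht.transA b hb a ha hb1 ha1
      have hw' : x * v * x⁻¹ ∈ T' := by
        obtain ⟨g', hg', e⟩ := hv
        rw [← e]
        exact (hT'mem ⟨_, hnX hx g'.2⟩).2 ((hπX g' ⟨x, hx⟩).trans hg')
      have hR : (x * v * x⁻¹)⁻¹ * w ∈ R := by
        have h1 := hfx x hx b hb
        rw [hxab] at h1
        rw [show (x * v * x⁻¹)⁻¹ * w = (x * ((f b)⁻¹ * v) * x⁻¹)⁻¹ * ((f a)⁻¹ * (x * f b * x⁻¹))⁻¹ *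
          ((f a)⁻¹ * w) by group]
        exact mul_mem (mul_mem (inv_mem ((s.normR hx _).1 hvb)) (inv_mem h1)) hwa
      set t := (x * v * x⁻¹)⁻¹ * w with htdef
      have ht' : t ∈ T := hT'R (mul_mem (inv_mem hw') hw) hR
      refine (hclass (x⁻¹ * t * x) (by simpa using hnXT (inv_mem hx) ht')).trans (isConj_iff.2 ⟨x, ?_⟩)
      rw [htdef]; group
    have hinvol : ∀ {w : G}, w ∈ T' → w ∉ T → w * w = 1 := fun hw hn => by
      obtain ⟨g, rfl⟩ := isConj_iff.1 (hall hw hn)
      rw [show g * u * g⁻¹ * (g * u * g⁻¹) = g * (u * u) * g⁻¹ by group, hu2, mul_one, mul_inv_cancel]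
    have hinv : ∀ {w t : G}, w ∈ T' → w ∉ T → t ∈ T → w * t * w⁻¹ = t⁻¹ := fun {w t} hw hn ht' =>
      inv_of_involutions (hinvol hw hn) (hinvol (mul_mem hw (hTT' ht'))
        fun e => hn (by simpa using mul_mem e (inv_mem ht')))
    -- two cosets with a third product
    have hlift : ∀ a ∈ A, a ≠ 1 → ∃ w ∈ T', w ∉ T ∧ (f a)⁻¹ * w ∈ R := fun a ha ha1 => by
      have hnot : f a ∉ R := fun e => ha1 (hfi a ha e)
      rcases hcover (f a) (hfZ a ha) with h | h
      · exact ⟨_, h, fun e => hnot (s.leT e), by simp⟩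
      · refine ⟨_, h, fun e => hnot ?_, by simpa using s.mem⟩
        simpa using mul_mem (s.leT e) (inv_mem s.mem)
    have hexp : ∀ t ∈ T, t * t = 1 := fun t ht' => by
      obtain ⟨a, b, ha, hb, ha1, hb1, hab⟩ : ∃ a b, a ∈ A ∧ b ∈ A ∧ a ≠ 1 ∧ b ≠ 1 ∧ a * b ≠ 1 := by
        by_contra hno
        push Not at hno
        have hle : Nat.card A ≤ Nat.card Bool := by
          refine Nat.card_le_card_of_injective (fun b : A => decide ((b : G) = 1)) fun b b' e => ?_
          have e' := decide_eq_decide.1 e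
          by_cases h : (b : G) = 1
          · exact Subtype.ext (h.trans (e'.1 h).symm)
          · have h' : (b' : G) ≠ 1 := fun k => h (e'.2 k)
            exact Subtype.ext (mul_right_cancel ((hno b b' b.2 b'.2 h h').trans (ht.elem b' b'.2).symm))
        rw [ht.card, Nat.card_eq_fintype_card, Fintype.card_bool] at hle
        exact absurd (ht.four.trans hle) (by norm_num)
      obtain ⟨w, hw, hwn, hwa⟩ := hlift a ha ha1
      obtain ⟨w', hw', hwn', hwb⟩ := hlift b hb hb1
      have hwwR : w * w' ∉ R := fun e => hab (hfi _ (mul_mem ha hb) (by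
        have h1 : w * w' = f a * ((f a)⁻¹ * w) * (f a)⁻¹ * (f a * f b) * ((f b)⁻¹ * w') := by group
        rw [h1] at e
        have h2 : f a * f b ∈ R := (mul_mem_cancel_left (hnR (hfZ a ha) hwa)).1 ((mul_mem_cancel_right hwb).1 e)
        exact inv_mem_iff.1 ((mul_mem_cancel_right h2).1 (hfm a ha b hb))))
      have h3 := hinv (mul_mem hw hw') (fun e => hwwR (s.leT e)) ht'
      rw [show w * w' * t * (w * w')⁻¹ = w * (w' * t * w'⁻¹) * w⁻¹ by group, hinv hw' hwn' ht',
        hinv hw hwn (inv_mem ht'), inv_inv] at h3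
      exact eq_inv_iff_mul_eq_one.1 h3
    -- `T = A`, so `T'` is elementary of order `q²`
    have hTA : T ≤ A := fun t ht' => by
      have hc : Commute t u := by
        have := hinvU ht'
        rw [← eq_inv_of_mul_eq_one_left (hexp t ht')] at this
        exact ((mul_inv_eq_iff_eq_mul.1 this)).symm
      let K : Subgroup G :=
        { carrier := {g | g ∈ A ∨ g * u ∈ A}
          one_mem' := Or.inl A.one_mem
          mul_mem' := fun {g g'} hg hg' => by
            have hcu : ∀ {a : G}, a ∈ A → u * a = a * u := fun ha => (ht.centA _ ha).eq.symm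
            rcases hg with h | h <;> rcases hg' with h' | h'
            · exact Or.inl (mul_mem h h')
            · exact Or.inr (by simpa [mul_assoc] using mul_mem h h')
            · exact Or.inr (by
                have := mul_mem h h'
                rwa [mul_assoc g u g', hcu h', ← mul_assoc g g' u] at this)
            · refine Or.inl ?_
              have := mul_mem h h'
              rwa [mul_assoc g u (g' * u), hcu h', mul_assoc g' u u, hu2, mul_one] at this
          inv_mem' := fun {g} hg => by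
            rcases hg with h | h
            · exact Or.inl (inv_mem h)
            · refine Or.inr ?_
              have h1 := inv_mem h
              rw [mul_inv_rev, hui] at h1
              have h2 := (ht.centA _ h1).eq
              rw [← mul_assoc u u, hu2, one_mul, mul_assoc] at h2
              have h3 : g⁻¹ * u = u * g⁻¹ := by
                calc g⁻¹ * u = u * u * (g⁻¹ * u) := by rw [hu2, one_mul]
                  _ = u * g⁻¹ := by rw [mul_assoc u u, h2]
              rwa [h3] }
      have hle : A ⊔ zpowers u ≤ K :=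
        sup_le (fun g hg => Or.inl hg) (zpowers_le.2 (Or.inr (by rw [hu2]; exact A.one_mem)))
      rcases hle (s.fix t (s.leT ht') hc) with h | h
      · exact h
      · exact absurd (by simpa using mul_mem (inv_mem ht') (s.leA h)) s.not_mem
    have hel : ∀ g ∈ T', g * g = 1 := fun g hg => by
      by_cases h : g ∈ T
      · exact hexp g h
      · exact hinvol hg h
    have hle : T' ≤ R' ⊓ centralizer ({v} : Set G) := fun g hg => ⟨map_subtype_le _ hg,
      mem_centralizer_singleton_iff.2 (by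
        have h1 := hel _ (mul_mem hg hv)
        calc g * v = g * (g * v * (g * v)) * v := by rw [h1, mul_one]
          _ = g * g * (v * g) * (v * v) := by group
          _ = v * g := by rw [hel g hg, hel v hv, one_mul, mul_one])⟩
    have h1 := (card_le_of_le hle).trans (ht.bound v (st.leM hvR') hvu _ (inf_le_left.trans st.leM)
      (st.two.to_le inf_le_left) fun p hp => mem_centralizer_singleton_iff.1 hp.2)
    have h2 : Nat.card T' * 2 = Nat.card T * 2 * q := by
      rw [← hcardR', ← (T'.subgroupOf R').card_mul_index, show (T'.subgroupOf R').index = 2 from hindex,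
        Nat.card_congr (subgroupOfEquivOfLe (map_subtype_le π.ker)).toEquiv]
    have h3 : q ≤ Nat.card T := ht.card ▸ card_le_of_le s.leA
    nlinarith [ht.four]

/-- a step is a state again -/
theorem stateOfStep [Finite G] : StateOfStep G := fun _ _ _ _ _ _ _ _ _ ht s _ st => step_state ht s st

/-- a state at a Sylow subgroup -/
theorem stateEnd [Finite G] : StateEnd G := fun _ _ _ _ _ T _ S hsimple hna ht s =>
  haveI := hsimple
  false_of_index_two hna S T s.leT s.index ht.two fun g hg => s.noConj _ hg (isConj_iff.2 ⟨g, rfl⟩)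

end Cfsg.Lib.BenderSE.Crit2
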