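/-
The setting of the Singer lemma of notes/s1175_h6_tower.md: a group `L` linear on an elementary abelian
2-group `V`, transitive on as many points `Ω`, with an abelian subgroup `X` of a point stabiliser of odd
order which is transitive on the non-zero vectors and semiregular on the other points. This file draws the
consequences of the field structure which `X` puts on `V`.
-/
import Cfsg.Agent.Known.FieldAutLight
import Mathlib

set_option autoImplicit false
set_option linter.unusedSectionVars false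
set_option linter.style.haveILetI false

namespace Cfsg.Lib.BenderSE.Crit2.Singer

open Subgroup MulAction

universe u v w

variable {L : Type u} [Group L] [Finite L] {V : Type v} [AddCommGroup V] [Finite V] [DistribMulAction L V]
  {Ω : Type w} [MulAction L Ω] [Finite Ω]

/-- The hypotheses of the Singer lemma, without the oddness of the point stabiliser. -/
structure Weak (V : Type v) [AddCommGroup V] [Finite V] [DistribMulAction L V] (X : Subgroup L) (a : Ω) :
    Prop where
  faithful : ∀ g : L, (∀ v : V, g • v = v) → g = 1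
  two : ∀ v : V, v + v = 0
  pre : IsPretransitive L Ω
  card : Nat.card Ω = Nat.card V
  nontriv : ∃ v : V, v ≠ 0
  le : X ≤ stabilizer L a
  normal : stabilizer L a ≤ normalizer (X : Set L)
  comm : ∀ x ∈ X, ∀ y ∈ X, x * y = y * x
  trans : ∀ v w : V, v ≠ 0 → w ≠ 0 → ∃ x ∈ X, x • v = w
  semireg : ∀ x ∈ X, x ≠ 1 → ∀ b : Ω, b ≠ a → x • b ≠ b

/-- The hypotheses of the Singer lemma. -/
structure Data (V : Type v) [AddCommGroup V] [Finite V] [DistribMulAction L V] (X : Subgroup L) (a : Ω) : Prop
    extends Weak V X a where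
  odd : Odd (Nat.card (stabilizer L a))

variable {X : Subgroup L} {a : Ω}

/-- `X` acts freely on the non-zero vectors -/
theorem free (h : Weak V X a) {x : L} (hx : x ∈ X) {v : V} (hv : v ≠ 0) (hxv : x • v = v) : x = 1 := by
  refine h.faithful x fun w => ?_
  by_cases hw : w = 0
  · rw [hw, smul_zero]
  obtain ⟨y, hy, rfl⟩ := h.trans v w hv hw
  rw [← mul_smul, h.comm x hx y hy, mul_smul, hxv]

theorem card_X (h : Weak V X a) : Nat.card X + 1 = Nat.card V := by
  classical
  obtain ⟨v, hv⟩ := h.nontriv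
  haveI := Fintype.ofFinite V
  have hb : Function.Bijective fun x : X => (⟨(x : L) • v, fun e => hv (by
      have := congrArg ((x : L)⁻¹ • ·) e
      rwa [inv_smul_smul, smul_zero] at this)⟩ : {w : V // w ≠ 0}) := by
    refine ⟨fun x y e => ?_, fun w => ?_⟩
    · have e' : (x : L) • v = (y : L) • v := congrArg Subtype.val e
      have h1 := free h (mul_mem (inv_mem y.2) x.2) hv (by rw [mul_smul, e', inv_smul_smul])
      exact Subtype.ext (inv_mul_eq_one.1 h1).symm
    · obtain ⟨x, hx, e⟩ := h.trans v w.1 hv w.2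
      exact ⟨⟨x, hx⟩, Subtype.ext e⟩
  rw [Nat.card_congr (Equiv.ofBijective _ hb), Nat.card_eq_fintype_card, Fintype.card_subtype_compl,
    Fintype.card_subtype_eq, Nat.card_eq_fintype_card]
  have := Fintype.card_pos (α := V)
  omega

/-- `X` is transitive on the points other than `a` -/
theorem trans_points (h : Weak V X a) {b c : Ω} (hb : b ≠ a) (hc : c ≠ a) : ∃ x ∈ X, x • b = c := by
  classical
  haveI := Fintype.ofFinite Ω
  let f : X → {d : Ω // d ≠ a} := fun x => ⟨(x : L) • b, fun e => hb (by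
    have h1 : (x : L) • a = a := h.le x.2
    exact MulAction.injective (x : L) (e.trans h1.symm))⟩
  have hinj : Function.Injective f := fun x y e => by
    have e' : (x : L) • b = (y : L) • b := congrArg Subtype.val e
    by_contra hne
    refine h.semireg _ (mul_mem (inv_mem y.2) x.2) (fun h1 => hne ?_) b hb (by rw [mul_smul, e', inv_smul_smul])
    exact Subtype.ext (inv_mul_eq_one.1 h1).symm
  haveI := Fintype.ofFinite X
  have hcard : Fintype.card X = Fintype.card {d : Ω // d ≠ a} := by
    rw [Fintype.card_subtype_compl, Fintype.card_subtype_eq, ← Nat.card_eq_fintype_card,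
      ← Nat.card_eq_fintype_card, h.card]
    have := card_X h
    omega
  obtain ⟨x, hx⟩ := ((Fintype.bijective_iff_injective_and_card f).2 ⟨hinj, hcard⟩).2 ⟨c, hc⟩
  exact ⟨x, x.2, congrArg Subtype.val hx⟩

/-- `L` is doubly transitive on the points -/
theorem two_trans (h : Weak V X a) {c d c' d' : Ω} (hcd : c ≠ d) (hcd' : c' ≠ d') :
    ∃ g : L, g • c = c' ∧ g • d = d' := by
  haveI := h.pre
  obtain ⟨g, hg⟩ := exists_smul_eq L c a
  obtain ⟨g', hg'⟩ := exists_smul_eq L c' a
  obtain ⟨x, hx, hxd⟩ := trans_points h (b := g • d) (c := g' • d')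
    (fun e => hcd (MulAction.injective g (hg.trans e.symm)))
    (fun e => hcd' (MulAction.injective g' (hg'.trans e.symm)))
  refine ⟨g'⁻¹ * x * g, ?_, ?_⟩
  · rw [mul_smul, mul_smul, hg, show x • a = a from h.le hx, ← hg', inv_smul_smul]
  · rw [mul_smul, mul_smul, hxd, inv_smul_smul]

/-- the number of vectors is a power of two -/
theorem exists_rank (h : Weak V X a) : ∃ r : ℕ, 0 < r ∧ Nat.card V = 2 ^ r := by
  haveI : Fact (Nat.Prime 2) := ⟨Nat.prime_two⟩
  have hp : IsPGroup 2 (Multiplicative V) := fun g => ⟨1, by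
    rw [pow_one, sq]
    exact h.two g.toAdd⟩
  obtain ⟨r, hr⟩ := IsPGroup.iff_card.1 hp
  refine ⟨r, Nat.pos_of_ne_zero fun h0 => ?_, (Nat.card_congr Multiplicative.ofAdd).trans hr⟩
  obtain ⟨v, hv⟩ := h.nontriv
  rw [h0, pow_zero, Nat.card_eq_one_iff_unique] at hr
  haveI := hr.1
  exact hv ((Multiplicative.ofAdd (α := V)).injective (Subsingleton.elim _ _))

/-! ### The field -/

/-- The endomorphism given by a group element. -/
abbrev act (V : Type v) [AddCommGroup V] [DistribMulAction L V] (g : L) : AddMonoid.End V :=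
  DistribSMul.toAddMonoidHom V g

/-- The endomorphisms commuting with `X`: a field with `|V|` elements. -/
def fieldOf (V : Type v) [AddCommGroup V] [DistribMulAction L V] (X : Subgroup L) :
    Subring (AddMonoid.End V) :=
  Subring.centralizer (act V '' (X : Set L))

theorem mem_fieldOf {f : AddMonoid.End V} :
    f ∈ fieldOf V X ↔ ∀ x ∈ X, ∀ v : V, f (x • v) = x • f v := by
  constructor
  · intro hf x hx v
    exact (DFunLike.congr_fun (Subring.mem_centralizer_iff.1 hf _ ⟨x, hx, rfl⟩) v).symm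
  · intro hf
    refine Subring.mem_centralizer_iff.2 ?_
    rintro _ ⟨x, hx, rfl⟩
    exact DFunLike.ext _ _ fun v => (hf x hx v).symm

instance : Finite (fieldOf V X) :=
  Finite.of_injective (fun f : fieldOf V X => ((f : AddMonoid.End V) : V → V))
    (DFunLike.coe_injective.comp Subtype.val_injective)

theorem act_mem (h : Weak V X a) {x : L} (hx : x ∈ X) : act V x ∈ fieldOf V X :=
  mem_fieldOf.2 fun y hy v => by
    show x • y • v = y • x • v
    rw [← mul_smul, ← mul_smul, h.comm x hx y hy]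

theorem fieldOf_ext (h : Weak V X a) {f g : AddMonoid.End V} (hf : f ∈ fieldOf V X) (hg : g ∈ fieldOf V X)
    {v : V} (hv : v ≠ 0) (he : f v = g v) : f = g := by
  refine DFunLike.ext _ _ fun w => ?_
  by_cases hw : w = 0
  · rw [hw, map_zero, map_zero]
  obtain ⟨x, hx, rfl⟩ := h.trans v w hv hw
  rw [mem_fieldOf.1 hf x hx, mem_fieldOf.1 hg x hx, he]

theorem exists_act (h : Weak V X a) {f : AddMonoid.End V} (hf : f ∈ fieldOf V X) (hf0 : f ≠ 0) :
    ∃ x ∈ X, f = act V x := by
  obtain ⟨v, hv⟩ := h.nontriv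
  have hfv : f v ≠ 0 := fun e => hf0 (fieldOf_ext h hf (Subring.zero_mem _) hv e)
  obtain ⟨x, hx, e⟩ := h.trans v (f v) hv hfv
  exact ⟨x, hx, fieldOf_ext h hf (act_mem h hx) hv e.symm⟩

theorem act_inj (h : Weak V X a) {g g' : L} (e : act V g = act V g') : g = g' := by
  refine (inv_mul_eq_one.1 (h.faithful (g'⁻¹ * g) fun v => ?_)).symm
  rw [mul_smul, show g • v = g' • v from DFunLike.congr_fun e v, inv_smul_smul]

theorem act_ne_zero (h : Weak V X a) (g : L) : act V g ≠ 0 := fun e => by
  obtain ⟨v, hv⟩ := h.nontriv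
  refine hv ?_
  have h1 := congrArg (g⁻¹ • ·) (show g • v = 0 from DFunLike.congr_fun e v)
  rwa [inv_smul_smul, smul_zero] at h1

theorem card_fieldOf (h : Weak V X a) : Nat.card (fieldOf V X) = Nat.card V := by
  obtain ⟨v, hv⟩ := h.nontriv
  refine Nat.card_congr (Equiv.ofBijective (fun f : fieldOf V X => (f : AddMonoid.End V) v)
    ⟨fun f g e => Subtype.ext (fieldOf_ext h f.2 g.2 hv e), fun w => ?_⟩)
  by_cases hw : w = 0
  · exact ⟨0, by rw [hw]; rfl⟩
  obtain ⟨x, hx, e⟩ := h.trans v w hv hw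
  exact ⟨⟨act V x, act_mem h hx⟩, e⟩

theorem isField_fieldOf (h : Weak V X a) : IsField (fieldOf V X) where
  exists_pair_ne := ⟨0, 1, fun e => by
    obtain ⟨v, hv⟩ := h.nontriv
    exact hv (DFunLike.congr_fun (congrArg Subtype.val e) v).symm⟩
  mul_comm := fun f g => by
    obtain ⟨v, hv⟩ := h.nontriv
    by_cases hf : (f : AddMonoid.End V) = 0
    · rw [Subtype.ext hf (a2 := (0 : fieldOf V X)), zero_mul, mul_zero]
    obtain ⟨x, hx, e⟩ := exists_act h f.2 hf
    refine Subtype.ext (DFunLike.ext _ _ fun w => ?_)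
    show (f : AddMonoid.End V) ((g : AddMonoid.End V) w) = (g : AddMonoid.End V) ((f : AddMonoid.End V) w)
    rw [e]
    exact (mem_fieldOf.1 g.2 x hx w).symm
  mul_inv_cancel := fun {f} hf => by
    obtain ⟨x, hx, e⟩ := exists_act h f.2 fun e => hf (Subtype.ext e)
    refine ⟨⟨act V x⁻¹, act_mem h (inv_mem hx)⟩, Subtype.ext (DFunLike.ext _ _ fun w => ?_)⟩
    show (f : AddMonoid.End V) (x⁻¹ • w) = w
    rw [e]
    exact smul_inv_smul x w

/-- An element of the point stabiliser, as an automorphism of the field. -/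
def conjAut (h : Weak V X a) : stabilizer L a →* (fieldOf V X ≃+* fieldOf V X) :=
  have key : ∀ g : L, g ∈ stabilizer L a → ∀ f ∈ fieldOf V X,
      act V g * f * act V g⁻¹ ∈ fieldOf V X := fun g hg f hf => mem_fieldOf.2 fun x hx v => by
    show g • f (g⁻¹ • x • v) = x • g • f (g⁻¹ • v)
    have hx' : g⁻¹ * x * g ∈ X := by
      have := (mem_normalizer_iff.1 (h.normal (inv_mem hg)) x).1 hx
      rwa [inv_inv] at this
    rw [← mul_smul, show g⁻¹ * x = g⁻¹ * x * g * g⁻¹ by group, mul_smul,
      mem_fieldOf.1 hf _ hx', ← mul_smul, show g * (g⁻¹ * x * g) = x * g by group, mul_smul]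
  { toFun := fun g =>
      { toFun := fun f => ⟨act V g.1 * f.1 * act V g.1⁻¹, key g.1 g.2 f.1 f.2⟩
        invFun := fun f => ⟨act V g.1⁻¹ * f.1 * act V g.1⁻¹⁻¹, key g.1⁻¹ (inv_mem g.2) f.1 f.2⟩
        left_inv := fun f => Subtype.ext (DFunLike.ext _ _ fun v => by
          show g.1⁻¹ • g.1 • (f : AddMonoid.End V) (g.1⁻¹ • g.1⁻¹⁻¹ • v) = (f : AddMonoid.End V) v
          rw [inv_smul_smul, inv_inv, inv_smul_smul])
        right_inv := fun f => Subtype.ext (DFunLike.ext _ _ fun v => by
          show g.1 • g.1⁻¹ • (f : AddMonoid.End V) (g.1⁻¹⁻¹ • g.1⁻¹ • v) = (f : AddMonoid.End V) v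
          rw [smul_inv_smul, inv_inv, smul_inv_smul])
        map_mul' := fun f f' => Subtype.ext (DFunLike.ext _ _ fun v => by
          show g.1 • (f : AddMonoid.End V) ((f' : AddMonoid.End V) (g.1⁻¹ • v)) =
            g.1 • (f : AddMonoid.End V) (g.1⁻¹ • g.1 • (f' : AddMonoid.End V) (g.1⁻¹ • v))
          rw [inv_smul_smul])
        map_add' := fun f f' => Subtype.ext (DFunLike.ext _ _ fun v => by
          show g.1 • ((f : AddMonoid.End V) (g.1⁻¹ • v) + (f' : AddMonoid.End V) (g.1⁻¹ • v)) =
            g.1 • (f : AddMonoid.End V) (g.1⁻¹ • v) + g.1 • (f' : AddMonoid.End V) (g.1⁻¹ • v)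
          rw [smul_add]) }
    map_one' := RingEquiv.ext fun f => Subtype.ext (DFunLike.ext _ _ fun v => by
      show (1 : L) • (f : AddMonoid.End V) ((1 : L)⁻¹ • v) = (f : AddMonoid.End V) v
      rw [inv_one, one_smul, one_smul])
    map_mul' := fun g g' => RingEquiv.ext fun f => Subtype.ext (DFunLike.ext _ _ fun v => by
      show (g.1 * g'.1) • (f : AddMonoid.End V) ((g.1 * g'.1)⁻¹ • v) =
        g.1 • g'.1 • (f : AddMonoid.End V) (g'.1⁻¹ • g.1⁻¹ • v)
      rw [mul_inv_rev, mul_smul, mul_smul]) }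

theorem conjAut_apply (h : Weak V X a) (g : stabilizer L a) (f : fieldOf V X) :
    ((conjAut h g f : fieldOf V X) : AddMonoid.End V) = act V g.1 * (f : AddMonoid.End V) * act V g.1⁻¹ := rfl

/-- the kernel is `X` -/
theorem conjAut_eq_one (h : Weak V X a) {g : stabilizer L a} : conjAut h g = 1 ↔ (g : L) ∈ X := by
  constructor
  · intro e
    have hg : act V g.1 ∈ fieldOf V X := mem_fieldOf.2 fun x hx v => by
      have h1 : g.1 • (x • (g.1⁻¹ • (g.1 • v))) = x • g.1 • v := DFunLike.congr_fun
        (congrArg Subtype.val (DFunLike.congr_fun e ⟨act V x, act_mem h hx⟩)) (g.1 • v)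
      rw [inv_smul_smul] at h1
      exact h1
    obtain ⟨x, hx, e'⟩ := exists_act h hg (act_ne_zero h _)
    exact act_inj h e' ▸ hx
  · intro hg
    refine RingEquiv.ext fun f => Subtype.ext (DFunLike.ext _ _ fun v => ?_)
    show g.1 • (f : AddMonoid.End V) (g.1⁻¹ • v) = (f : AddMonoid.End V) v
    rw [mem_fieldOf.1 f.2 _ (inv_mem hg), smul_inv_smul]

/-- the point stabiliser modulo `X` is abelian -/
theorem comm_mod (h : Weak V X a) {g k : L} (hg : g ∈ stabilizer L a) (hk : k ∈ stabilizer L a) :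
    g * k * g⁻¹ * k⁻¹ ∈ X := by
  classical
  letI := (isField_fieldOf h).toField
  haveI := Fintype.ofFinite (fieldOf V X)
  obtain ⟨r, -, hr⟩ := exists_rank h
  have hF : Fintype.card (fieldOf V X) = 2 ^ r := by rw [← Nat.card_eq_fintype_card, card_fieldOf h, hr]
  haveI : Fact (Nat.Prime 2) := ⟨Nat.prime_two⟩
  haveI : CharP (fieldOf V X) 2 := charP_of_card_eq_prime_pow hF
  haveI := (Cfsg.Lib.Known.FieldLight.ringAut_facts 2 r hF).1
  letI := IsCyclic.commGroup (α := fieldOf V X ≃+* fieldOf V X)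
  refine (conjAut_eq_one h (g := ⟨g, hg⟩ * ⟨k, hk⟩ * ⟨g, hg⟩⁻¹ * ⟨k, hk⟩⁻¹)).1 ?_
  rw [map_mul, map_mul, map_mul, map_inv, map_inv]
  exact commutatorElement_eq_one_iff_mul_comm.2 (mul_comm _ _)

/-- facts about the stabiliser of two points: it is cyclic of order dividing the rank -/
theorem pair_facts (h : Weak V X a) {b : Ω} (hb : b ≠ a) {r : ℕ} (hr : Nat.card V = 2 ^ r) :
    IsCyclic ↥(stabilizer L a ⊓ stabilizer L b) ∧ Nat.card ↥(stabilizer L a ⊓ stabilizer L b) ∣ r := by
  classical
  letI := (isField_fieldOf h).toField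
  haveI := Fintype.ofFinite (fieldOf V X)
  have hF : Fintype.card (fieldOf V X) = 2 ^ r := by rw [← Nat.card_eq_fintype_card, card_fieldOf h, hr]
  haveI : Fact (Nat.Prime 2) := ⟨Nat.prime_two⟩
  haveI : CharP (fieldOf V X) 2 := charP_of_card_eq_prime_pow hF
  obtain ⟨hc, hcard⟩ := Cfsg.Lib.Known.FieldLight.ringAut_facts (F := fieldOf V X) 2 r hF
  let φ := (conjAut h).comp (inclusion (inf_le_left : stabilizer L a ⊓ stabilizer L b ≤ stabilizer L a))
  have hinj : Function.Injective φ := by
    refine (injective_iff_map_eq_one φ).2 fun g hg => Subtype.ext ?_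
    by_contra hne
    exact h.semireg g ((conjAut_eq_one h).1 hg) hne b hb g.2.2
  haveI := hc
  exact ⟨isCyclic_of_injective φ hinj, hcard ▸ Subgroup.card_dvd_of_injective φ hinj⟩

/-- an element of prime order fixing two points centralises more than one element of `X`, unless its
order is the rank -/
theorem exists_commute (h : Weak V X a) {r p : ℕ} (hr : Nat.card V = 2 ^ r) (hp : p.Prime) {d : L}
    (hd : d ∈ stabilizer L a) (hdX : d ∉ X) (hdp : d ^ p = 1) :
    p ∣ r ∧ (p ≠ r → ∃ x ∈ X, x ≠ 1 ∧ d * x = x * d) := by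
  classical
  letI := (isField_fieldOf h).toField
  haveI := Fintype.ofFinite (fieldOf V X)
  haveI : Fact (Nat.Prime 2) := ⟨Nat.prime_two⟩
  haveI : Fact p.Prime := ⟨hp⟩
  have hF : Fintype.card (fieldOf V X) = 2 ^ r := by rw [← Nat.card_eq_fintype_card, card_fieldOf h, hr]
  set σ := conjAut h ⟨d, hd⟩ with hσ
  have hord : orderOf σ = p := by
    refine orderOf_eq_prime ?_ fun e => hdX ((conjAut_eq_one h).1 e)
    rw [hσ, ← map_pow, show (⟨d, hd⟩ : stabilizer L a) ^ p = 1 from Subtype.ext hdp, map_one]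
  have hdvd : p ∣ r := hord ▸ Cfsg.Lib.Known.FieldLight.order_dvd hF σ
  refine ⟨hdvd, fun hne => ?_⟩
  haveI : Finite (fieldOf V X ≃+* fieldOf V X) := Finite.of_injective (fun e => (e : fieldOf V X → fieldOf V X))
    DFunLike.coe_injective
  let S : Subgroup (fieldOf V X ≃+* fieldOf V X) := zpowers σ
  haveI : Fintype S := Fintype.ofFinite S
  let K := FixedPoints.subfield S (fieldOf V X)
  have hK : Fintype.card (fieldOf V X) = Fintype.card K ^ p := by
    rw [Module.card_eq_pow_finrank (K := K) (V := fieldOf V X), FixedPoints.finrank_eq_card S (fieldOf V X),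
      ← Nat.card_eq_fintype_card (α := S), Nat.card_zpowers, hord]
  have hK2 : 2 < Fintype.card K := by
    by_contra hle
    push Not at hle
    have h1 : 2 ^ r ≤ 2 ^ p := hF ▸ hK ▸ Nat.pow_le_pow_left hle p
    have h2 := (Nat.pow_le_pow_iff_right (by norm_num)).1 h1
    exact hne (le_antisymm (Nat.le_of_dvd (Nat.pos_of_ne_zero fun h0 => by
      rw [h0, pow_zero] at hr
      obtain ⟨v, hv⟩ := h.nontriv
      rw [Nat.card_eq_one_iff_unique] at hr
      haveI := hr.1
      exact hv (Subsingleton.elim _ _)) hdvd) h2)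
  obtain ⟨k, -, hk⟩ := Finset.exists_mem_notMem_of_card_lt_card
    (s := ({0, 1} : Finset K)) (t := Finset.univ)
    (lt_of_le_of_lt Finset.card_le_two (by rwa [Finset.card_univ]))
  simp only [Finset.mem_insert, Finset.mem_singleton, not_or] at hk
  obtain ⟨x, hx, e⟩ := exists_act h k.1.2 fun e => hk.1 (Subtype.ext (Subtype.ext e))
  refine ⟨x, hx, fun h1 => hk.2 (Subtype.ext (Subtype.ext ?_)), act_inj h (DFunLike.ext _ _ fun v => ?_)⟩
  · rw [e, h1]
    exact DFunLike.ext _ _ fun v => one_smul L v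
  · show (d * x) • v = (x * d) • v
    have h1 : d • ((k.1 : AddMonoid.End V) (d⁻¹ • (d • v))) = (k.1 : AddMonoid.End V) (d • v) :=
      DFunLike.congr_fun (congrArg Subtype.val (k.2 ⟨σ, mem_zpowers σ⟩)) (d • v)
    rw [inv_smul_smul, e] at h1
    rw [mul_smul, mul_smul]
    exact h1

/-- if the rank is prime, no non-trivial element of `X` leaves a proper subgroup invariant -/
theorem irreducible (h : Weak V X a) {r : ℕ} (hr : Nat.card V = 2 ^ r) (hp : r.Prime) {x : L} (hx : x ∈ X)
    (hx1 : x ≠ 1) (W : AddSubgroup V) (hW : ∀ w ∈ W, x • w ∈ W) (hne : ∃ w ∈ W, w ≠ 0) : W = ⊤ := by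
  classical
  letI := (isField_fieldOf h).toField
  haveI := Fintype.ofFinite (fieldOf V X)
  have hF : Fintype.card (fieldOf V X) = 2 ^ r := by rw [← Nat.card_eq_fintype_card, card_fieldOf h, hr]
  let R : Subring (fieldOf V X) :=
    { carrier := {f | ∀ w ∈ W, (f : AddMonoid.End V) w ∈ W}
      mul_mem' := fun {f g} hf hg w hw => hf _ (hg w hw)
      one_mem' := fun w hw => hw
      add_mem' := fun {f g} hf hg w hw => W.add_mem (hf w hw) (hg w hw)
      zero_mem' := fun w _ => W.zero_mem
      neg_mem' := fun {f} hf w hw => W.neg_mem (hf w hw) }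
  let K : Subfield (fieldOf V X) :=
    { R with
      inv_mem' := fun f hf => by
        by_cases h0 : f = 0
        · rw [h0, inv_zero]
          exact R.zero_mem
        have hc : 2 ≤ Fintype.card (fieldOf V X) := Fintype.one_lt_card
        have h1 : f ^ (Fintype.card (fieldOf V X) - 2) * f = 1 := by
          rw [← pow_succ, show Fintype.card (fieldOf V X) - 2 + 1 = Fintype.card (fieldOf V X) - 1 by omega,
            FiniteField.pow_card_sub_one_eq_one f h0]
        rw [← eq_inv_of_mul_eq_one_left h1]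
        exact R.pow_mem hf _ }
  haveI := Fintype.ofFinite K
  have hK := Module.card_eq_pow_finrank (K := K) (V := fieldOf V X)
  have hm : Module.finrank K (fieldOf V X) = 1 := by
    have hdvd : Fintype.card K ∣ 2 ^ r := by
      rw [← hF, hK]
      exact dvd_pow_self _ (Module.finrank_pos (R := K) (M := fieldOf V X)).ne'
    obtain ⟨k, -, hk⟩ := (Nat.dvd_prime_pow Nat.prime_two).1 hdvd
    have hrk : r = k * Module.finrank K (fieldOf V X) := by
      rw [hF, hk, ← pow_mul] at hK
      exact Nat.pow_right_injective le_rfl hK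
    rcases hp.eq_one_or_self_of_dvd k ⟨_, hrk⟩ with h1 | h1
    · exfalso
      -- the elements keeping `W` would be `0` and `1`
      subst h1
      have hall : ∀ f : K, f = 0 ∨ f = 1 := fun f => by
        by_contra hf
        push Not at hf
        have := Finset.card_le_univ ({0, 1, f} : Finset K)
        rw [hk, pow_one, Finset.card_eq_three.2 ⟨0, 1, f, zero_ne_one, hf.1.symm, hf.2.symm, rfl⟩] at this
        omega
      rcases hall ⟨⟨act V x, act_mem h hx⟩, hW⟩ with e | e
      · exact act_ne_zero h x (congrArg (fun f : K => ((f : fieldOf V X) : AddMonoid.End V)) e)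
      · exact hx1 (act_inj h (g' := 1) ((congrArg (fun f : K => ((f : fieldOf V X) : AddMonoid.End V)) e).trans
          (DFunLike.ext _ _ fun v => (one_smul L v).symm)))
    · rw [h1] at hrk
      exact (Nat.eq_of_mul_eq_mul_left hp.pos (by rw [mul_one]; exact hrk)).symm
  have hall : ∀ f : fieldOf V X, f ∈ K := by
    have hbij := (Fintype.bijective_iff_injective_and_card (Subtype.val : K → fieldOf V X)).2
      ⟨Subtype.val_injective, by rw [hK, hm, pow_one]⟩
    exact fun f => by obtain ⟨k, rfl⟩ := hbij.2 f; exact k.2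
  obtain ⟨w, hw, hw0⟩ := hne
  refine eq_top_iff.2 fun v _ => ?_
  by_cases hv : v = 0
  · rw [hv]
    exact W.zero_mem
  obtain ⟨y, hy, rfl⟩ := h.trans w v hw0 hv
  exact hall ⟨act V y, act_mem h hy⟩ w hw

end Cfsg.Lib.BenderSE.Crit2.Singer
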