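/-
The vector stabiliser in the Singer lemma: a group of order `2 ^ p * p` whose subgroup of order `p` is
self-centralising and inverted by an involution `t` has a normal 2-subgroup `P` of index `2 * p`, and
every subgroup of order `2 ^ p` is `P` with a conjugate of `t` adjoined.
-/
import Mathlib

set_option autoImplicit false
set_option linter.unusedSectionVars false
set_option linter.style.haveILetI false

namespace Cfsg.Lib.BenderSE.Crit2.Singer

open Subgroup

universe u

variable {M : Type u} [Group M] [Finite M]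

theorem exists_two_local {p : ℕ} (hp : p.Prime) (hp2 : p ≠ 2) (hcard : Nat.card M = 2 ^ p * p) {ρ t : M}
    (hρ : orderOf ρ = p) (ht : t * t = 1) (hinv : t * ρ * t⁻¹ = ρ⁻¹)
    (hN : ∀ g : M, g * ρ * g⁻¹ ∈ zpowers ρ → g ∈ zpowers ρ ∨ t * g ∈ zpowers ρ) :
    ∃ P : Subgroup M, P.Normal ∧ Nat.card P = 2 ^ (p - 1) ∧ t ∉ P ∧
      (∀ y ∈ P, (t * y) * (t * y) ∈ P) ∧
      ∀ T : Subgroup M, Nat.card T = 2 ^ p → P ≤ T ∧ ∃ k : ℕ, ρ ^ k * t * (ρ ^ k)⁻¹ ∈ T := by
  classical
  haveI : Fact p.Prime := ⟨hp⟩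
  haveI : Fact (Nat.Prime 2) := ⟨Nat.prime_two⟩
  haveI := Fintype.ofFinite M
  have hp3 : 3 ≤ p := by
    have := hp.two_le
    omega
  have hodd : Odd p := hp.odd_of_ne_two hp2
  have hfac2 : (Nat.card M).factorization 2 = p := by
    rw [hcard, Nat.factorization_mul (by positivity) hp.ne_zero, Finsupp.add_apply,
      Nat.Prime.factorization_pow Nat.prime_two, Nat.Prime.factorization hp, Finsupp.single_eq_same,
      Finsupp.single_eq_of_ne (by omega), add_zero]
  have hsylcard : ∀ T : Sylow 2 M, Nat.card T = 2 ^ p := fun T => by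
    rw [T.card_eq_multiplicity, hfac2]
  have hpt : ∀ (T : Sylow 2 M) (i : ℕ), ρ ^ i ∈ (T : Subgroup M) → ρ ^ i = 1 := fun T i hi => by
    have h1 : orderOf (ρ ^ i) ∣ 2 ^ p := hsylcard T ▸ Subgroup.orderOf_dvd_natCard _ hi
    have h2 : orderOf (ρ ^ i) ∣ p := hρ ▸ orderOf_pow_dvd i
    exact orderOf_eq_one_iff.1 (Nat.eq_one_of_dvd_coprimes
      ((Nat.coprime_two_left.2 hodd).pow_left p) h1 h2)
  -- a Sylow subgroup at `t` is self-normalising
  have ht2 : IsPGroup 2 (zpowers t) := by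
    refine IsPGroup.iff_card.2 ?_
    rw [Nat.card_zpowers]
    obtain ⟨j, -, hj⟩ := (Nat.dvd_prime_pow Nat.prime_two (m := 1)).1
      (by rw [pow_one]; exact orderOf_dvd_of_pow_eq_one (by rw [pow_two, ht]) :
        orderOf t ∣ 2 ^ 1)
    exact ⟨j, hj⟩
  obtain ⟨T₀, hT₀⟩ := ht2.exists_le_sylow
  have htT : t ∈ (T₀ : Subgroup M) := hT₀ (mem_zpowers t)
  have hρinv : ρ * t * ρ⁻¹ * t⁻¹ = ρ ^ 2 := by
    have h1 : t * ρ⁻¹ * t⁻¹ = ρ := by
      rw [show t * ρ⁻¹ * t⁻¹ = (t * ρ * t⁻¹)⁻¹ by group, hinv, inv_inv]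
    rw [pow_two, mul_assoc ρ t, mul_assoc ρ (t * ρ⁻¹), h1]
  have hρ2 : ρ ^ 2 ≠ 1 := fun h => by
    have := Nat.le_of_dvd two_pos (hρ ▸ orderOf_dvd_of_pow_eq_one h)
    omega
  have hnot : ρ ∉ normalizer ((T₀ : Subgroup M) : Set M) := fun hn => by
    refine hρ2 (hpt T₀ 2 ?_)
    rw [← hρinv]
    exact mul_mem ((mem_normalizer_iff.1 hn t).1 htT) (inv_mem htT)
  -- exactly `p` Sylow subgroups, permuted transitively by any element of order `p`
  have hnum : Nat.card (Sylow 2 M) = p := by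
    have h1 : Nat.card (Sylow 2 M) ∣ p := by
      have h2 := T₀.card_dvd_index
      have h3 := (T₀ : Subgroup M).card_mul_index
      rw [show Nat.card (T₀ : Subgroup M) = 2 ^ p from hsylcard T₀, hcard] at h3
      rwa [Nat.eq_of_mul_eq_mul_left (by positivity) h3] at h2
    rcases hp.eq_one_or_self_of_dvd _ h1 with h2 | h2
    · haveI := (Nat.card_eq_one_iff_unique.1 h2).1
      haveI := Sylow.normal_of_subsingleton T₀
      exact absurd (le_normalizer_of_normal (mem_top ρ)) hnot
    · exact h2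
  have horb : ∀ σ : M, orderOf σ = p → σ ∉ normalizer ((T₀ : Subgroup M) : Set M) →
      ∀ T : Sylow 2 M, ∃ k : ℕ, T = σ ^ k • T₀ := by
    intro σ hσ hσn T
    have hper : Function.minimalPeriod (fun S : Sylow 2 M => σ • S) T₀ = p := by
      have hdvd : Function.minimalPeriod (fun S : Sylow 2 M => σ • S) T₀ ∣ p := by
        refine Function.IsPeriodicPt.minimalPeriod_dvd ?_
        show (fun S : Sylow 2 M => σ • S)^[p] T₀ = T₀
        rw [smul_iterate]
        show σ ^ p • T₀ = T₀
        rw [← hσ, pow_orderOf_eq_one, one_smul]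
      rcases hp.eq_one_or_self_of_dvd _ hdvd with h1 | h1
      · refine absurd ?_ hσn
        have h2 := Function.minimalPeriod_eq_one_iff_isFixedPt.1 h1
        exact Sylow.smul_eq_iff_mem_normalizer.1 h2
      · exact h1
    have hinj : Function.Injective fun k : Fin p => σ ^ (k : ℕ) • T₀ := by
      intro k l e
      apply Fin.ext
      have := Function.iterate_eq_iterate_iff_of_lt_minimalPeriod (f := fun S : Sylow 2 M => σ • S) (x := T₀)
        (by rw [hper]; exact k.2) (by rw [hper]; exact l.2)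
      refine this.1 ?_
      rw [smul_iterate, smul_iterate]
      exact e
    obtain ⟨k, hk⟩ := (((Nat.bijective_iff_injective_and_card _).2 ⟨hinj, by rw [Nat.card_fin, hnum]⟩).2 T)
    exact ⟨k, hk.symm⟩
  have hselfnorm : ∀ T : Sylow 2 M, normalizer ((T : Subgroup M) : Set M) = T := fun T => by
    refine (Subgroup.eq_of_le_of_card_ge le_normalizer ?_).symm
    have h1 := (normalizer ((T : Subgroup M) : Set M)).card_mul_index
    have h2 : (normalizer ((T : Subgroup M) : Set M)).index = p := T.card_eq_index_normalizer.symm.trans hnum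
    rw [h2, hcard] at h1
    rw [show Nat.card (T : Subgroup M) = 2 ^ p from hsylcard T, Nat.eq_of_mul_eq_mul_right hp.pos h1]
  -- the largest intersection of two Sylow subgroups
  have hne : ρ • T₀ ≠ T₀ := fun e => hnot (Sylow.smul_eq_iff_mem_normalizer.1 e)
  obtain ⟨⟨T, T'⟩, hTT, hmax⟩ := Finset.exists_max_image
    (Finset.univ.filter fun q : Sylow 2 M × Sylow 2 M => q.1 ≠ q.2)
    (fun q => Nat.card ↥((q.1 : Subgroup M) ⊓ q.2))
    ⟨(ρ • T₀, T₀), Finset.mem_filter.2 ⟨Finset.mem_univ _, hne⟩⟩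
  simp only [Finset.mem_filter, Finset.mem_univ, true_and] at hTT hmax
  set P : Subgroup M := (T : Subgroup M) ⊓ T' with hP
  have hbig : ∀ S : Sylow 2 M, (S : Subgroup M) ⊓ normalizer (P : Set M) ≤ P → P ≤ S → S = T → False := by
    intro S h1 h2 hS
    have hlt : P < S := lt_of_le_of_ne h2 fun e => by
      subst hS
      exact hTT (Sylow.ext (Subgroup.eq_of_le_of_card_ge (inf_eq_left.1 e)
        (le_of_eq (by rw [show Nat.card (T' : Subgroup M) = 2 ^ p from hsylcard T',
          show Nat.card (S : Subgroup M) = 2 ^ p from hsylcard S]))))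
    haveI : Group.IsNilpotent (S : Subgroup M) := S.2.isNilpotent
    have hlt' : P.subgroupOf (S : Subgroup M) < ⊤ := by
      rw [lt_top_iff_ne_top, ne_eq, subgroupOf_eq_top]
      exact fun h => hlt.ne (le_antisymm h2 h)
    obtain ⟨g, hg, hg'⟩ := SetLike.exists_of_lt (Group.normalizerCondition_of_isNilpotent _ hlt')
    refine hg' (mem_subgroupOf.2 (h1 ⟨g.2, mem_normalizer_iff.2 fun x => ⟨fun hx => ?_, fun hx => ?_⟩⟩))
    · exact mem_subgroupOf.1 ((mem_normalizer_iff.1 hg ⟨x, h2 hx⟩).1 hx)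
    · have hxS : x ∈ (S : Subgroup M) := by
        have := mul_mem (mul_mem (inv_mem g.2) (h2 hx)) g.2
        simpa [mul_assoc] using this
      exact mem_subgroupOf.1 ((mem_normalizer_iff.1 hg ⟨x, hxS⟩).2 hx)
  have hNP : ¬ IsPGroup 2 ↥(normalizer (P : Set M)) := fun h2 => by
    obtain ⟨S, hS⟩ := h2.exists_le_sylow
    have hPn : P ≤ normalizer (P : Set M) := le_normalizer
    have hST : S = T := by
      by_contra hST
      refine hbig T (le_of_eq (Subgroup.eq_of_le_of_card_ge ?_ ?_).symm) inf_le_left rfl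
      · exact le_inf inf_le_left hPn
      · calc Nat.card ↥((T : Subgroup M) ⊓ normalizer (P : Set M))
            ≤ Nat.card ↥((S : Subgroup M) ⊓ T) := Subgroup.card_le_of_le (le_inf (inf_le_right.trans hS) inf_le_left)
          _ ≤ Nat.card P := hmax (S, T) hST
    subst hST
    refine hbig S ?_ inf_le_left rfl
    have hPlt : P < S := lt_of_le_of_ne inf_le_left fun e => hTT (Sylow.ext (Subgroup.eq_of_le_of_card_ge
      (inf_eq_left.1 e) (le_of_eq (by rw [show Nat.card (T' : Subgroup M) = 2 ^ p from hsylcard T',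
        show Nat.card (S : Subgroup M) = 2 ^ p from hsylcard S]))))
    -- otherwise `T'` meets the normaliser above `P` inside `S`
    haveI : Group.IsNilpotent (T' : Subgroup M) := T'.2.isNilpotent
    have hlt' : P.subgroupOf (T' : Subgroup M) < ⊤ := by
      rw [lt_top_iff_ne_top, ne_eq, subgroupOf_eq_top]
      intro h
      exact hTT (Sylow.ext (Subgroup.eq_of_le_of_card_ge (h.trans inf_le_left)
        (le_of_eq (by rw [show Nat.card (T' : Subgroup M) = 2 ^ p from hsylcard T',
          show Nat.card (S : Subgroup M) = 2 ^ p from hsylcard S]))).symm)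
    obtain ⟨g, hg, hg'⟩ := SetLike.exists_of_lt (Group.normalizerCondition_of_isNilpotent _ hlt')
    refine absurd (mem_subgroupOf.2 (show (g : M) ∈ P from ⟨hS (mem_normalizer_iff.2 fun x => ⟨fun hx => ?_,
      fun hx => ?_⟩), g.2⟩)) hg'
    · exact mem_subgroupOf.1 ((mem_normalizer_iff.1 hg ⟨x, inf_le_right (a := (S : Subgroup M)) hx⟩).1 hx)
    · have hxS : x ∈ (T' : Subgroup M) := by
        have := mul_mem (mul_mem (inv_mem g.2) (inf_le_right (a := (S : Subgroup M)) hx)) g.2
        simpa [mul_assoc] using this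
      exact mem_subgroupOf.1 ((mem_normalizer_iff.1 hg ⟨x, hxS⟩).2 hx)
  have hdvd : p ∣ Nat.card ↥(normalizer (P : Set M)) := by
    by_contra hnd
    refine hNP (IsPGroup.iff_card.2 ?_)
    have h1 : Nat.card ↥(normalizer (P : Set M)) ∣ 2 ^ p * p := hcard ▸ card_subgroup_dvd_card _
    obtain ⟨j, -, hj⟩ := (Nat.dvd_prime_pow Nat.prime_two).1
      (((hp.coprime_iff_not_dvd.2 hnd).symm).dvd_of_dvd_mul_right h1)
    exact ⟨j, hj⟩
  obtain ⟨σ, hσ⟩ := exists_prime_orderOf_dvd_card' p hdvd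
  have hσ' : orderOf (σ : M) = p := by rw [Subgroup.orderOf_coe, hσ]
  have hσT : (σ : M) ∉ normalizer ((T₀ : Subgroup M) : Set M) := fun hn => by
    rw [hselfnorm] at hn
    have h1 : orderOf (σ : M) ∣ 2 ^ p := hsylcard T₀ ▸ Subgroup.orderOf_dvd_natCard _ hn
    rw [hσ'] at h1
    exact hp2 ((Nat.prime_dvd_prime_iff_eq hp Nat.prime_two).1 (hp.dvd_of_dvd_pow h1))
  have hall : ∀ S : Sylow 2 M, P ≤ S := by
    intro S
    obtain ⟨i, hi⟩ := horb σ hσ' hσT T
    obtain ⟨k, rfl⟩ := horb σ hσ' hσT S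
    intro x hx
    have hτ : (σ : M) ^ k * ((σ : M) ^ i)⁻¹ ∈ normalizer (P : Set M) :=
      mul_mem (pow_mem σ.2 k) (inv_mem (pow_mem σ.2 i))
    have hy : ((σ : M) ^ k * ((σ : M) ^ i)⁻¹)⁻¹ * x * ((σ : M) ^ k * ((σ : M) ^ i)⁻¹) ∈ P :=
      ((mem_normalizer_iff.1 hτ _).2 (by group; exact hx))
    have hy' := inf_le_left (b := (T' : Subgroup M)) hy
    rw [hi] at hy'
    rw [Sylow.coe_subgroup_smul] at hy' ⊢
    obtain ⟨w, hw, ew⟩ := Subgroup.mem_smul_pointwise_iff_exists _ _ _ |>.1 hy'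
    refine (Subgroup.mem_smul_pointwise_iff_exists _ _ _).2 ⟨w, hw, ?_⟩
    rw [MulAut.smul_def, MulAut.conj_apply] at ew ⊢
    calc (σ : M) ^ k * w * ((σ : M) ^ k)⁻¹
        = ((σ : M) ^ k * ((σ : M) ^ i)⁻¹) * ((σ : M) ^ i * w * ((σ : M) ^ i)⁻¹) *
            ((σ : M) ^ k * ((σ : M) ^ i)⁻¹)⁻¹ := by group
      _ = x := by rw [ew]; group
  have hint : ∀ S S' : Sylow 2 M, S ≠ S' → (S : Subgroup M) ⊓ S' = P := fun S S' hS =>
    (Subgroup.eq_of_le_of_card_ge (le_inf (hall S) (hall S')) (hmax (S, S') hS)).symm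
  have hPn : P.Normal := ⟨fun x hx g => by
    have hmem : ∀ S : Sylow 2 M, g * x * g⁻¹ ∈ (S : Subgroup M) := by
      intro S
      have h1 : x ∈ ((g⁻¹ • S : Sylow 2 M) : Subgroup M) := hall _ hx
      rw [Sylow.coe_subgroup_smul, Subgroup.mem_smul_pointwise_iff_exists] at h1
      obtain ⟨w, hw, e⟩ := h1
      rw [MulAut.smul_def, MulAut.conj_apply] at e
      rwa [← e, show g * (g⁻¹ * w * g⁻¹⁻¹) * g⁻¹ = w by group]
    exact ⟨hmem T, hmem T'⟩⟩
  -- the elements of order `p`
  have hNcard : Nat.card ↥(normalizer ((zpowers ρ : Subgroup M) : Set M)) ≤ 2 * p := by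
    let f : ↥(normalizer ((zpowers ρ : Subgroup M) : Set M)) → Bool × ↥(zpowers ρ) := fun g =>
      if hg : (g : M) ∈ zpowers ρ then (true, ⟨g, hg⟩)
      else (false, ⟨t * g, (hN g ((mem_normalizer_iff.1 g.2 ρ).1 (mem_zpowers ρ))).resolve_left hg⟩)
    have hinj : Function.Injective f := by
      intro g g' e
      by_cases hg : (g : M) ∈ zpowers ρ <;> by_cases hg' : (g' : M) ∈ zpowers ρ <;>
        simp only [f, hg, hg', dif_pos, dif_neg, not_false_iff, Prod.mk.injEq, Bool.true_eq_false,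
          Bool.false_eq_true, false_and, true_and, Subtype.mk.injEq] at e
      · exact Subtype.ext e
      · exact Subtype.ext (mul_left_cancel e)
    have := Nat.card_le_card_of_injective f hinj
    rwa [Nat.card_prod, Nat.card_zpowers, hρ, Nat.card_eq_fintype_card (α := Bool), Fintype.card_bool] at this
  have hρS : Nat.card (zpowers ρ) = p ^ (Nat.card M).factorization p := by
    rw [Nat.card_zpowers, hρ, hcard, Nat.factorization_mul (by positivity) hp.ne_zero, Finsupp.add_apply,
      Nat.Prime.factorization_pow Nat.prime_two, Nat.Prime.factorization hp, Finsupp.single_eq_same,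
      Finsupp.single_eq_of_ne (Ne.symm (by omega : (2 : ℕ) ≠ p)), zero_add, pow_one]
  let Sp : Sylow p M := Sylow.ofCard (zpowers ρ) hρS
  have hnp : 2 ^ (p - 1) ≤ Nat.card (Sylow p M) := by
    have h1 := (normalizer ((zpowers ρ : Subgroup M) : Set M)).card_mul_index
    rw [hcard, show (normalizer ((zpowers ρ : Subgroup M) : Set M)).index = Nat.card (Sylow p M) from
      (Sp.card_eq_index_normalizer).symm] at h1
    have h3 : 2 ^ p * p ≤ 2 * p * Nat.card (Sylow p M) := h1 ▸ Nat.mul_le_mul_right _ hNcard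
    have h4 : 2 ^ p = 2 * 2 ^ (p - 1) := by rw [← pow_succ', Nat.sub_add_cancel hp.one_le]
    rw [h4] at h3
    have h5 : (2 * p) * 2 ^ (p - 1) ≤ (2 * p) * Nat.card (Sylow p M) :=
      le_trans (le_of_eq (by ring)) h3
    exact Nat.le_of_mul_le_mul_left h5 (by omega)
  -- counting
  let A : Finset M := Finset.univ.filter fun x => ∃ S : Sylow 2 M, x ∈ (S : Subgroup M) ∧ x ∉ P
  let B : Finset M := Finset.univ.filter fun x => x ∈ P
  let C : Finset M := Finset.univ.filter fun x => x ^ p = 1 ∧ x ≠ 1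
  have hA : p * (2 ^ p - Nat.card P) ≤ A.card := by
    have h1 : (Finset.univ.biUnion fun S : Sylow 2 M =>
        Finset.univ.filter fun x => x ∈ (S : Subgroup M) ∧ x ∉ P) = A := by
      ext x
      simp [A]
    have hd : ((Finset.univ : Finset (Sylow 2 M)) : Set (Sylow 2 M)).PairwiseDisjoint fun S =>
        Finset.univ.filter fun x => x ∈ (S : Subgroup M) ∧ x ∉ P := by
      intro S _ S' _ hSS
      refine Finset.disjoint_left.2 fun x hx hx' => ?_
      simp only [Finset.mem_filter, Finset.mem_univ, true_and] at hx hx'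
      exact hx.2 (hint S S' hSS ▸ ⟨hx.1, hx'.1⟩)
    rw [← h1, Finset.card_biUnion hd, Finset.sum_const_nat (m := 2 ^ p - Nat.card P)]
    · rw [Finset.card_univ, ← Nat.card_eq_fintype_card, hnum]
    · intro S _
      rw [Finset.filter_and_not, Finset.card_sdiff, Finset.inter_eq_left.2 (fun x hx => by
        simp only [Finset.mem_filter, Finset.mem_univ, true_and] at hx ⊢
        exact hall S hx), ← Fintype.card_subtype, ← Fintype.card_subtype, ← Nat.card_eq_fintype_card,
        ← Nat.card_eq_fintype_card]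
      rw [show Nat.card {x // x ∈ (S : Subgroup M)} = 2 ^ p from hsylcard S]
  have hC : 2 ^ (p - 1) * (p - 1) ≤ C.card := by
    have h1 : (Finset.univ.biUnion fun S : Sylow p M =>
        Finset.univ.filter fun x => x ∈ (S : Subgroup M) ∧ x ≠ 1) ⊆ C := by
      intro x hx
      simp only [Finset.mem_biUnion, Finset.mem_filter, Finset.mem_univ, true_and] at hx
      obtain ⟨S, hxS, hx1⟩ := hx
      refine Finset.mem_filter.2 ⟨Finset.mem_univ _, orderOf_dvd_iff_pow_eq_one.1 ?_, hx1⟩
      have hc : Nat.card (S : Subgroup M) = p := by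
        rw [S.card_eq_multiplicity, ← hρS, Nat.card_zpowers, hρ]
      exact hc ▸ Subgroup.orderOf_dvd_natCard _ hxS
    have hd : ((Finset.univ : Finset (Sylow p M)) : Set (Sylow p M)).PairwiseDisjoint fun S =>
        Finset.univ.filter fun x => x ∈ (S : Subgroup M) ∧ x ≠ 1 := by
      intro S _ S' _ hSS
      refine Finset.disjoint_left.2 fun x hx hx' => ?_
      simp only [Finset.mem_filter, Finset.mem_univ, true_and] at hx hx'
      have hc : ∀ S : Sylow p M, Nat.card (S : Subgroup M) = p := fun S => by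
        rw [S.card_eq_multiplicity, ← hρS, Nat.card_zpowers, hρ]
      have h2 : ∀ S : Sylow p M, x ∈ (S : Subgroup M) → zpowers x = S := fun S hxS => by
        refine Subgroup.eq_of_le_of_card_ge (zpowers_le.2 hxS) ?_
        rw [hc S, Nat.card_zpowers]
        rcases hp.eq_one_or_self_of_dvd _ (hc S ▸ Subgroup.orderOf_dvd_natCard _ hxS) with h3 | h3
        · exact absurd (orderOf_eq_one_iff.1 h3) hx.2
        · exact h3.ge
      exact hSS (Sylow.ext ((h2 S hx.1).symm.trans (h2 S' hx'.1)))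
    refine le_trans ?_ (Finset.card_le_card h1)
    rw [Finset.card_biUnion hd, Finset.sum_const_nat (m := p - 1)]
    · rw [Finset.card_univ, ← Nat.card_eq_fintype_card]
      exact Nat.mul_le_mul_right _ hnp
    · intro S _
      rw [Finset.filter_and, Finset.filter_ne', Finset.inter_erase, Finset.inter_univ,
        Finset.card_erase_of_mem (by simp), ← Fintype.card_subtype, ← Nat.card_eq_fintype_card]
      rw [show Nat.card {x // x ∈ (S : Subgroup M)} = p from by
        show Nat.card (S : Subgroup M) = p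
        rw [S.card_eq_multiplicity, ← hρS, Nat.card_zpowers, hρ]]
  have hAB : Disjoint A B := Finset.disjoint_left.2 fun x hx hx' => by
    simp only [A, B, Finset.mem_filter, Finset.mem_univ, true_and] at hx hx'
    obtain ⟨S, -, hxP⟩ := hx
    exact hxP hx'
  have hABC : Disjoint (A ∪ B) C := Finset.disjoint_left.2 fun x hx hx' => by
    simp only [A, B, C, Finset.mem_union, Finset.mem_filter, Finset.mem_univ, true_and] at hx hx'
    obtain ⟨S, hS⟩ : ∃ S : Sylow 2 M, x ∈ (S : Subgroup M) := by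
      rcases hx with ⟨S, hS, -⟩ | hx
      · exact ⟨S, hS⟩
      · exact ⟨T₀, hall T₀ hx⟩
    exact hx'.2 (orderOf_eq_one_iff.1 (Nat.eq_one_of_dvd_coprimes ((Nat.coprime_two_left.2 hodd).pow_left p)
      (hsylcard S ▸ Subgroup.orderOf_dvd_natCard _ hS) (orderOf_dvd_of_pow_eq_one hx'.1)))
  have hB : B.card = Nat.card P := by
    rw [← Fintype.card_subtype, Nat.card_eq_fintype_card]
  have htot := Finset.card_le_univ ((A ∪ B) ∪ C)
  rw [Finset.card_union_of_disjoint hABC, Finset.card_union_of_disjoint hAB, hB, ← Nat.card_eq_fintype_card,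
    hcard] at htot
  obtain ⟨j, hjp, hj⟩ := (Nat.dvd_prime_pow Nat.prime_two).1 (hsylcard T₀ ▸ Subgroup.card_dvd_of_le (hall T₀))
  have hlt : j < p := by
    refine lt_of_le_of_ne hjp fun e => ?_
    subst e
    have h1 : P = T := Subgroup.eq_of_le_of_card_ge inf_le_left (by rw [show Nat.card (T : Subgroup M) = _ from hsylcard T, hj])
    have h2 : P = T' := Subgroup.eq_of_le_of_card_ge inf_le_right (by rw [show Nat.card (T' : Subgroup M) = _ from hsylcard T', hj])
    exact hTT (Sylow.ext (h1.symm.trans h2))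
  have hPcard : Nat.card P = 2 ^ (p - 1) := by
    have hge : 2 ^ (p - 1) ≤ 2 ^ j := by
      rw [hj] at hA htot
      have h4 : 2 ^ p = 2 * 2 ^ (p - 1) := by rw [← pow_succ', Nat.sub_add_cancel hp.one_le]
      have h5 : 2 ^ j ≤ 2 ^ (p - 1) := Nat.pow_le_pow_right two_pos (by omega)
      by_contra hlt'
      push Not at hlt'
      obtain ⟨d, hd⟩ : ∃ d, p = d + 1 := ⟨p - 1, by omega⟩
      have hpe : 2 ^ p - 2 ^ j = 2 * 2 ^ (p - 1) - 2 ^ j := by rw [h4]
      obtain ⟨e, he⟩ : ∃ e, 2 ^ (p - 1) = 2 ^ j + e + 1 := ⟨2 ^ (p - 1) - 2 ^ j - 1, by omega⟩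
      rw [hpe, he, show 2 * (2 ^ j + e + 1) - 2 ^ j = 2 ^ j + 2 * e + 2 by omega] at hA
      rw [he] at hC
      rw [h4, he] at htot
      subst hd
      rw [show d + 1 - 1 = d by omega] at hC
      nlinarith [hA, hC, htot]
    have h6 := (Nat.pow_le_pow_iff_right Nat.one_lt_two).1 hge
    rw [hj, show j = p - 1 by omega]
  have htP : t ∉ P := fun htP => hρ2 (hpt T₀ 2 (hall T₀ (hρinv ▸ mul_mem (hPn.conj_mem t htP ρ) (inv_mem htP))))
  refine ⟨P, hPn, hPcard, htP, fun y hy => ?_, fun U hU => ?_⟩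
  · rw [show t * y * (t * y) = (t * y * t⁻¹) * (t * t) * y by group, ht, mul_one]
    exact mul_mem (hPn.conj_mem y hy t) hy
  obtain ⟨S, hS⟩ := (IsPGroup.of_card hU : IsPGroup 2 U).exists_le_sylow
  have hUS : U = S := Subgroup.eq_of_le_of_card_ge hS (by
    rw [hU]
    exact le_of_eq (hsylcard S))
  refine ⟨hUS ▸ hall S, ?_⟩
  obtain ⟨k, rfl⟩ := horb ρ hρ hnot S
  refine ⟨k, ?_⟩
  rw [hUS, Sylow.coe_subgroup_smul, Subgroup.mem_smul_pointwise_iff_exists]
  exact ⟨t, htT, by rw [MulAut.smul_def, MulAut.conj_apply]⟩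

end Cfsg.Lib.BenderSE.Crit2.Singer
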