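/-
The Singer lemma of notes/s1175_h6_tower.md: if a group linear on an elementary abelian 2-group `V` is
transitive on `|V|` points with an odd point stabiliser containing an abelian subgroup transitive on the
non-zero vectors and semiregular on the other points, then `|V| = 8`.

Proof. `O₂ = 1`, so an involution `t` inverts an element of odd prime order `p` (Baer-Suzuki); it lies in a
two-point stabiliser, which is cyclic of order dividing the rank `r`. If `p ≠ r` it fixes a third point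
and `t` would centralise it, so `r = p`. Then all involutions are conjugate, there are `(2 ^ p - 1) * p`
of them, each with centraliser of order `2 ^ p`; counting those in the centres of the Sylow subgroups of
a vector stabiliser gives `p = 3`.
-/
import Cfsg.Agent.BenderSE.Criterion2.SingerField
import Cfsg.Agent.BenderSE.Criterion2.SingerTwoLocal
import Cfsg.Agent.Fusion.TwoSite

set_option autoImplicit false
set_option linter.unusedSectionVars false
set_option linter.style.haveILetI false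

namespace Cfsg.Lib.BenderSE.Crit2.Singer

open Subgroup MulAction

universe u v w

variable {L : Type u} [Group L] [Finite L] {V : Type v} [AddCommGroup V] [Finite V] [DistribMulAction L V]
  {Ω : Type w} [MulAction L Ω] [Finite Ω] {X : Subgroup L} {a b : Ω} {p : ℕ} {ρ t : L}

theorem involution_moves (h : Data V X a) {s : L} (hs : s * s = 1) (hs1 : s ≠ 1) (c : Ω) : s • c ≠ c := by
  intro hc
  haveI := h.pre
  obtain ⟨g, hg⟩ := exists_smul_eq L c a
  have hmem : g * s * g⁻¹ ∈ stabilizer L a := by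
    show (g * s * g⁻¹) • a = a
    rw [mul_smul, mul_smul, ← hg, inv_smul_smul, hc]
  have ho : orderOf (g * s * g⁻¹) = 2 := by
    haveI : Fact (Nat.Prime 2) := ⟨Nat.prime_two⟩
    refine orderOf_eq_prime (by rw [pow_two, show g * s * g⁻¹ * (g * s * g⁻¹) = g * (s * s) * g⁻¹ by group, hs,
      mul_one, mul_inv_cancel]) fun e => hs1 ?_
    calc s = g⁻¹ * (g * s * g⁻¹) * g := by group
      _ = 1 := by rw [e, mul_one, inv_mul_cancel]
  exact (Nat.not_even_iff_odd.2 h.odd) (even_iff_two_dvd.2 (ho ▸ Subgroup.orderOf_dvd_natCard _ hmem))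

/-- the vectors fixed by a subgroup -/
def fixedVectors (V : Type v) [AddCommGroup V] [DistribMulAction L V] (P : Subgroup L) : AddSubgroup V where
  carrier := {w | ∀ g ∈ P, g • w = w}
  zero_mem' := fun g _ => smul_zero g
  add_mem' := fun {v w} hv hw g hg => by rw [smul_add, hv g hg, hw g hg]
  neg_mem' := fun {w} hw g hg => by rw [smul_neg, hw g hg]

theorem exists_fixed_vector (h : Data V X a) {P : Subgroup L} (hP : IsPGroup 2 P) :
    ∃ w ∈ fixedVectors V P, w ≠ 0 := by
  haveI : Fact (Nat.Prime 2) := ⟨Nat.prime_two⟩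
  obtain ⟨r, hr0, hr⟩ := exists_rank h.toWeak
  by_contra hno
  push Not at hno
  haveI : Subsingleton (fixedPoints P V) := ⟨fun v w => Subtype.ext ((hno v.1 fun g hg => v.2 ⟨g, hg⟩).trans
    (hno w.1 fun g hg => w.2 ⟨g, hg⟩).symm)⟩
  haveI : Nonempty (fixedPoints P V) := ⟨⟨0, fun g => smul_zero (g : L)⟩⟩
  have h1 := hP.card_modEq_card_fixedPoints (α := V)
  rw [Nat.card_unique (α := fixedPoints P V), hr, Nat.ModEq, Nat.one_mod,
    Nat.mod_eq_zero_of_dvd (dvd_pow_self 2 hr0.ne')] at h1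
  exact zero_ne_one h1

theorem eq_bot_of_invariant (h : Data V X a) {P : Subgroup L} (hW : fixedVectors V P = ⊤) : P = ⊥ :=
  (Subgroup.eq_bot_iff_forall _).2 fun g hg =>
    h.faithful g fun v => (hW ▸ AddSubgroup.mem_top v : v ∈ fixedVectors V P) g hg

theorem two_normal_bot (h : Data V X a) {N : Subgroup L} (hN : N.Normal) (hN2 : IsPGroup 2 N) : N = ⊥ := by
  obtain ⟨w, hw, hw0⟩ := exists_fixed_vector h hN2
  refine eq_bot_of_invariant h (eq_top_iff.2 fun v _ => ?_)
  by_cases hv : v = 0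
  · rw [hv]
    exact zero_mem _
  obtain ⟨x, hx, rfl⟩ := h.trans w v hw0 hv
  intro g hg
  rw [← mul_smul, show g * x = x * (x⁻¹ * g * x) by group, mul_smul,
    hw _ (by simpa using hN.conj_mem g hg x⁻¹)]

/-- an element of odd prime order fixes a point -/
theorem exists_fixed_point (h : Data V X a) (hp : p.Prime) (hp2 : p ≠ 2) (hρ : orderOf ρ = p) :
    ∃ c : Ω, ρ • c = c := by
  haveI : Fact p.Prime := ⟨hp⟩
  obtain ⟨r, -, hr⟩ := exists_rank h.toWeak
  have hP : IsPGroup p (zpowers ρ) := IsPGroup.of_card (n := 1) (by rw [Nat.card_zpowers, hρ, pow_one])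
  have h1 := hP.card_modEq_card_fixedPoints (α := Ω)
  rw [h.card, hr] at h1
  obtain ⟨c⟩ : Nonempty (fixedPoints (zpowers ρ) Ω) := by
    by_contra he
    rw [not_nonempty_iff] at he
    rw [Nat.card_of_isEmpty (α := fixedPoints (zpowers ρ) Ω)] at h1
    have h2 : p ∣ 2 ^ r := Nat.modEq_zero_iff_dvd.1 h1
    exact hp2 ((Nat.prime_dvd_prime_iff_eq hp Nat.prime_two).1 (hp.dvd_of_dvd_pow h2))
  exact ⟨c, c.2 ⟨ρ, mem_zpowers ρ⟩⟩

/-- an inverted element of odd prime order, at the point `a` -/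
theorem exists_pair (h : Data V X a) :
    ∃ (p : ℕ) (ρ t : L) (b : Ω), p.Prime ∧ p ≠ 2 ∧ orderOf ρ = p ∧ t * t = 1 ∧ t * ρ * t⁻¹ = ρ⁻¹ ∧
      b ≠ a ∧ ρ • a = a ∧ ρ • b = b ∧ t • a = b := by
  classical
  haveI : Fact (Nat.Prime 2) := ⟨Nat.prime_two⟩
  haveI := h.pre
  obtain ⟨r, hr0, hr⟩ := exists_rank h.toWeak
  obtain ⟨s, hs⟩ := exists_prime_orderOf_dvd_card' (G := L) 2 (by
    have h1 := Subgroup.index_dvd_card (stabilizer L a)
    rw [index_stabilizer_of_transitive, h.card, hr] at h1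
    exact (dvd_pow_self 2 hr0.ne').trans h1)
  have hs2 : s * s = 1 := by rw [← pow_two, ← hs, pow_orderOf_eq_one]
  have hs1 : s ≠ 1 := fun e => by rw [e, orderOf_one] at hs; exact absurd hs (by norm_num)
  obtain ⟨q, μ, hq, hq2, hμ, hinv⟩ := Cfsg.Lib.Fusion.exists_inverted (x := s) (by rw [pow_two, hs2])
    fun N hN hN2 hsN => hs1 (by rwa [two_normal_bot h hN hN2, Subgroup.mem_bot] at hsN)
  obtain ⟨c, hc⟩ := exists_fixed_point h hq hq2 hμ
  obtain ⟨g, hg⟩ := exists_smul_eq L c a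
  have hgi : g⁻¹ • a = c := by rw [← hg, inv_smul_smul]
  refine ⟨q, g * μ * g⁻¹, g * s * g⁻¹, (g * s * g⁻¹) • a, hq, hq2, ?_, ?_, ?_, ?_, ?_, ?_, rfl⟩
  · rw [← hμ, ← MulAut.conj_apply, MulEquiv.orderOf_eq]
  · rw [show g * s * g⁻¹ * (g * s * g⁻¹) = g * (s * s) * g⁻¹ by group, hs2, mul_one, mul_inv_cancel]
  · rw [show g * s * g⁻¹ * (g * μ * g⁻¹) * (g * s * g⁻¹)⁻¹ = g * (s * μ * s⁻¹) * g⁻¹ by group, hinv]
    group
  · rw [mul_smul, mul_smul, hgi]
    exact fun e => involution_moves h hs2 hs1 c (MulAction.injective g (e.trans hg.symm))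
  · rw [mul_smul, mul_smul, hgi, hc, hg]
  · have hμs : μ * s = s * μ⁻¹ := by
      have h1 : s * μ * s = μ⁻¹ := by rwa [inv_eq_of_mul_eq_one_right hs2] at hinv
      calc μ * s = s * s * μ * s := by rw [hs2, one_mul]
        _ = s * (s * μ * s) := by group
        _ = s * μ⁻¹ := by rw [h1]
    rw [← mul_smul, show g * μ * g⁻¹ * (g * s * g⁻¹) = g * (μ * s) * g⁻¹ by group, hμs, mul_smul, mul_smul,
      hgi, mul_smul, mul_smul, mul_smul, hgi]
    congr 2
    rw [inv_smul_eq_iff, hc]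

/-- an element normalising `⟨ρ⟩` and fixing one of two fixed points of `ρ` centralises it -/
theorem commute_of_fixed (h : Data V X a) {ρ g : L} {c d : Ω} (hcd : c ≠ d) (hρc : ρ • c = c)
    (hρd : ρ • d = d) (hgc : g • c = c) (hg : g * ρ * g⁻¹ ∈ zpowers ρ) : g * ρ = ρ * g := by
  haveI := h.pre
  obtain ⟨k, hk⟩ := exists_smul_eq L c a
  obtain ⟨i, hi⟩ := mem_zpowers_iff.1 hg
  have hfix : ∀ y : L, y • c = c → k * y * k⁻¹ ∈ stabilizer L a := fun y hy => by
    show (k * y * k⁻¹) • a = a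
    rw [mul_smul, mul_smul, ← hk, inv_smul_smul, hy]
  have hX := comm_mod h.toWeak (hfix g hgc) (hfix ρ hρc)
  have hpow : ∀ j : ℤ, (ρ ^ j) • d = d := fun j => by
    have : ρ ∈ stabilizer L d := hρd
    exact Subgroup.zpow_mem _ this j
  have e : k * g * k⁻¹ * (k * ρ * k⁻¹) * (k * g * k⁻¹)⁻¹ * (k * ρ * k⁻¹)⁻¹ = k * (ρ ^ (i - 1)) * k⁻¹ := by
    rw [zpow_sub, zpow_one, hi]
    group
  rw [e] at hX
  have h1 : ρ ^ (i - 1) = 1 := by
    by_contra hne
    refine h.semireg _ hX (fun e => hne ?_) (k • d) (fun e => hcd (MulAction.injective k (hk.trans e.symm))) ?_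
    · calc ρ ^ (i - 1) = k⁻¹ * (k * ρ ^ (i - 1) * k⁻¹) * k := by group
        _ = 1 := by rw [e, mul_one, inv_mul_cancel]
    · rw [mul_smul, mul_smul, inv_smul_smul, hpow]
  rw [zpow_sub, zpow_one, mul_inv_eq_one, hi] at h1
  calc g * ρ = g * ρ * g⁻¹ * g := by group
    _ = ρ * g := by rw [h1]

/-- elements of the same prime order in the stabiliser of two points generate each other -/
theorem mem_zpowers_of_pair (h : Data V X a) (hp : p.Prime) {ρ ρ' : L} {c d : Ω} (hcd : c ≠ d)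
    (hρ : orderOf ρ = p) (hρ' : orderOf ρ' = p) (hc : ρ • c = c) (hd : ρ • d = d) (hc' : ρ' • c = c)
    (hd' : ρ' • d = d) : ρ' ∈ zpowers ρ := by
  classical
  haveI := h.pre
  obtain ⟨r, -, hr⟩ := exists_rank h.toWeak
  obtain ⟨k, hk⟩ := exists_smul_eq L c a
  have hb : k • d ≠ a := fun e => hcd (MulAction.injective k (hk.trans e.symm))
  obtain ⟨hcyc, -⟩ := pair_facts h.toWeak hb hr
  haveI := hcyc
  have hfix : ∀ y : L, y • c = c → y • d = d → k * y * k⁻¹ ∈ stabilizer L a ⊓ stabilizer L (k • d) := by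
    intro y hy hy'
    constructor
    · show (k * y * k⁻¹) • a = a
      rw [mul_smul, mul_smul, ← hk, inv_smul_smul, hy]
    · show (k * y * k⁻¹) • (k • d) = k • d
      rw [mul_smul, mul_smul, inv_smul_smul, hy']
  set D := stabilizer L a ⊓ stabilizer L (k • d)
  let x : D := ⟨_, hfix ρ hc hd⟩
  let y : D := ⟨_, hfix ρ' hc' hd'⟩
  have hx : orderOf x = p := by
    rw [← orderOf_injective D.subtype Subtype.val_injective x, ← hρ]
    exact MulEquiv.orderOf_eq (MulAut.conj k) ρ
  have hy : orderOf y = p := by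
    rw [← orderOf_injective D.subtype Subtype.val_injective y, ← hρ']
    exact MulEquiv.orderOf_eq (MulAut.conj k) ρ'
  haveI := Fintype.ofFinite D
  have hsub : (Finset.univ.filter fun z : D => z ∈ zpowers x) ⊆ Finset.univ.filter fun z : D => z ^ p = 1 := by
    intro z hz
    simp only [Finset.mem_filter, Finset.mem_univ, true_and] at hz ⊢
    obtain ⟨i, rfl⟩ := mem_zpowers_iff.1 hz
    rw [← zpow_natCast, ← zpow_mul, mul_comm, zpow_mul, zpow_natCast, ← hx, pow_orderOf_eq_one, one_zpow]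
  have heq := Finset.eq_of_subset_of_card_le hsub (by
    have h1 : (Finset.univ.filter fun z : D => z ∈ zpowers x).card = p := by
      rw [← Fintype.card_subtype, ← Nat.card_eq_fintype_card]
      exact (Nat.card_zpowers x).trans hx
    rw [h1]
    exact IsCyclic.card_pow_eq_one_le hp.pos)
  have hyx : y ∈ Finset.univ.filter fun z : D => z ∈ zpowers x := by
    rw [heq, Finset.mem_filter, ← hy]
    exact ⟨Finset.mem_univ _, pow_orderOf_eq_one y⟩
  simp only [Finset.mem_filter, Finset.mem_univ, true_and] at hyx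
  obtain ⟨i, hi⟩ := mem_zpowers_iff.1 hyx
  refine mem_zpowers_iff.2 ⟨i, ?_⟩
  have h1 : (k * ρ * k⁻¹) ^ i = k * ρ' * k⁻¹ := by
    rw [show k * ρ * k⁻¹ = (x : L) from rfl, ← SubgroupClass.coe_zpow, hi]
  rw [conj_zpow] at h1
  exact mul_left_cancel (mul_right_cancel h1)

/-- The configuration of an inverted element. -/
structure Pair (V : Type v) [AddCommGroup V] [Finite V] [DistribMulAction L V] (X : Subgroup L) (a b : Ω)
    (p : ℕ) (ρ t : L) : Prop where
  data : Data V X a
  prime : p.Prime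
  ne_two : p ≠ 2
  order : orderOf ρ = p
  sq : t * t = 1
  inverts : t * ρ * t⁻¹ = ρ⁻¹
  ne : b ≠ a
  fix_a : ρ • a = a
  fix_b : ρ • b = b
  swap : t • a = b

namespace Pair

theorem swap' (P : Pair V X a b p ρ t) : t • b = a := by
  rw [← P.swap, ← mul_smul, P.sq, one_smul]

theorem order_two (P : Pair V X a b p ρ t) : orderOf t = 2 := by
  haveI : Fact (Nat.Prime 2) := ⟨Nat.prime_two⟩
  refine orderOf_eq_prime (by rw [pow_two, P.sq]) fun e => P.ne ?_
  rw [← P.swap, e, one_smul]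

theorem not_commute (P : Pair V X a b p ρ t) : t * ρ ≠ ρ * t := fun hc => by
  have h1 := P.inverts
  rw [hc, mul_inv_cancel_right] at h1
  have h2 : ρ ^ 2 = 1 := by rw [pow_two]; exact mul_eq_one_iff_eq_inv.2 h1
  have := Nat.le_of_dvd two_pos (P.order ▸ orderOf_dvd_of_pow_eq_one h2)
  exact P.ne_two (le_antisymm this P.prime.two_le)

theorem inv_mem_zpowers (P : Pair V X a b p ρ t) {g : L} (hg : g * ρ * g⁻¹ ∈ zpowers ρ) :
    (t * g) * ρ * (t * g)⁻¹ ∈ zpowers ρ := by
  obtain ⟨i, hi⟩ := mem_zpowers_iff.1 hg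
  rw [show t * g * ρ * (t * g)⁻¹ = t * (g * ρ * g⁻¹) * t⁻¹ by group, ← hi, ← conj_zpow, P.inverts]
  exact zpow_mem (inv_mem (mem_zpowers ρ)) i

theorem not_mem_X (P : Pair V X a b p ρ t) : ρ ∉ X := fun hX =>
  P.data.semireg ρ hX (fun e => P.prime.ne_one (by rw [← P.order, e, orderOf_one])) b P.ne P.fix_b

/-- `ρ` fixes no third point -/
theorem fixed_eq (P : Pair V X a b p ρ t) {c : Ω} (hc : ρ • c = c) : c = a ∨ c = b := by
  by_contra hne
  push Not at hne
  obtain ⟨g, hgc, hga⟩ := two_trans P.data.toWeak hne.1 hne.2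
  have hmem : g * ρ * g⁻¹ ∈ zpowers ρ := by
    refine mem_zpowers_of_pair P.data P.prime hne.2 P.order
      (by rw [← MulAut.conj_apply, MulEquiv.orderOf_eq, P.order]) hc P.fix_b ?_ ?_
    · rw [mul_smul, mul_smul, show g⁻¹ • c = c by rw [inv_smul_eq_iff, hgc], hc, hgc]
    · rw [mul_smul, mul_smul, show g⁻¹ • b = a by rw [inv_smul_eq_iff, hga], P.fix_a, hga]
  have h1 := commute_of_fixed P.data hne.1 hc P.fix_a hgc hmem
  have h2 := commute_of_fixed P.data P.ne.symm P.fix_a P.fix_b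
    (show (t * g) • a = a by rw [mul_smul, hga, P.swap']) (P.inv_mem_zpowers hmem)
  refine P.not_commute ?_
  calc t * ρ = t * (ρ * g) * g⁻¹ := by group
    _ = t * g * ρ * g⁻¹ := by rw [← h1]; group
    _ = ρ * t := by rw [h2]; group

theorem centralises (P : Pair V X a b p ρ t) {x : L} (hx : x ∈ X) (hc : ρ * x = x * ρ) : x = 1 := by
  have h1 : ρ • x • b = x • b := by rw [← mul_smul, hc, mul_smul, P.fix_b]
  rcases P.fixed_eq h1 with e | e
  · exact absurd (MulAction.injective x (e.trans (show x • a = a from P.data.le hx).symm)) P.ne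
  · by_contra hx1
    exact P.data.semireg x hx hx1 b P.ne e

/-- the rank is `p` -/
theorem card_eq (P : Pair V X a b p ρ t) : Nat.card V = 2 ^ p := by
  obtain ⟨r, -, hr⟩ := exists_rank P.data.toWeak
  obtain ⟨-, hx⟩ := exists_commute P.data.toWeak hr P.prime (show ρ ∈ stabilizer L a from P.fix_a) P.not_mem_X
    (by rw [← P.order]; exact pow_orderOf_eq_one ρ)
  rcases eq_or_ne p r with e | e
  · rw [hr, e]
  · obtain ⟨x, hxX, hx1, hc⟩ := hx e
    exact absurd (P.centralises hxX hc) hx1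

/-- the stabiliser of `a` and `b` is `⟨ρ⟩` -/
theorem stab_pair (P : Pair V X a b p ρ t) : stabilizer L a ⊓ stabilizer L b = zpowers ρ := by
  obtain ⟨-, hd⟩ := pair_facts P.data.toWeak P.ne P.card_eq
  refine (Subgroup.eq_of_le_of_card_ge (zpowers_le.2 (mem_inf.2 ⟨P.fix_a, P.fix_b⟩)) ?_).symm
  rw [Nat.card_zpowers, P.order]
  exact Nat.le_of_dvd P.prime.pos hd

theorem normalizer_eq (P : Pair V X a b p ρ t) {g : L} (hg : g * ρ * g⁻¹ ∈ zpowers ρ) :
    g ∈ zpowers ρ ∨ t * g ∈ zpowers ρ := by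
  have hfix : ∀ c : Ω, ρ • c = c → ρ • g • c = g • c := by
    intro c hc
    -- the conjugate generates the same group
    have hmem : ρ ∈ zpowers (g * ρ * g⁻¹) := by
      have he : zpowers (g * ρ * g⁻¹) = zpowers ρ := Subgroup.eq_of_le_of_card_ge (zpowers_le.2 hg) (by
        rw [Nat.card_zpowers, Nat.card_zpowers, ← MulAut.conj_apply, MulEquiv.orderOf_eq])
      rw [he]
      exact mem_zpowers ρ
    obtain ⟨i, hi⟩ := mem_zpowers_iff.1 hmem
    have hρc : ρ ∈ stabilizer L c := hc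
    rw [← hi, conj_zpow, mul_smul, mul_smul, inv_smul_smul]
    congr 1
    exact Subgroup.zpow_mem _ hρc i
  rw [← P.stab_pair]
  rcases P.fixed_eq (hfix a P.fix_a) with ha | ha <;> rcases P.fixed_eq (hfix b P.fix_b) with hb | hb
  · exact absurd (MulAction.injective g (hb.trans ha.symm)) P.ne
  · exact Or.inl ⟨ha, hb⟩
  · exact Or.inr ⟨show (t * g) • a = a by rw [mul_smul, ha, P.swap'],
      show (t * g) • b = b by rw [mul_smul, hb, P.swap]⟩
  · exact absurd (MulAction.injective g (hb.trans ha.symm)) P.ne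

theorem commute_mem (P : Pair V X a b p ρ t) {g : L} (hg : g * ρ = ρ * g) : g ∈ zpowers ρ := by
  rcases P.normalizer_eq (by rw [hg, mul_inv_cancel_right]; exact mem_zpowers ρ) with h1 | h1
  · exact h1
  exfalso
  obtain ⟨i, hi⟩ := mem_zpowers_iff.1 h1
  refine P.not_commute ?_
  have ht : t = ρ ^ i * g⁻¹ := by rw [hi, mul_inv_cancel_right]
  rw [ht]
  calc ρ ^ i * g⁻¹ * ρ = ρ ^ i * g⁻¹ * (ρ * g) * g⁻¹ := by group
    _ = ρ ^ i * ρ * g⁻¹ := by rw [← hg]; group
    _ = ρ * (ρ ^ i * g⁻¹) := by group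

theorem card_stab (P : Pair V X a b p ρ t) : Nat.card (stabilizer L a) = (2 ^ p - 1) * p := by
  classical
  set K := stabilizer L a
  have h1 : Nat.card (orbit K b) * Nat.card (stabilizer K b) = Nat.card K := by
    rw [← Nat.card_prod, Nat.card_congr (orbitProdStabilizerEquivGroup K b)]
  have horb : orbit K b = {c | c ≠ a} := by
    ext c
    refine ⟨?_, fun hc => ?_⟩
    · rintro ⟨g, rfl⟩ e
      exact P.ne (MulAction.injective (g : L) (e.trans (g.2 : (g : L) • a = a).symm))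
    · obtain ⟨x, hx, hxb⟩ := trans_points P.data.toWeak P.ne hc
      exact ⟨⟨x, P.data.le hx⟩, hxb⟩
  have h2 : Nat.card (stabilizer K b) = p := by
    rw [Nat.card_congr ({
      toFun := fun g => (⟨g.1.1, g.1.2, g.2⟩ : ↥(stabilizer L a ⊓ stabilizer L b))
      invFun := fun g => ⟨⟨g.1, g.2.1⟩, g.2.2⟩
      left_inv := fun g => rfl
      right_inv := fun g => rfl } : stabilizer K b ≃ ↥(stabilizer L a ⊓ stabilizer L b)), P.stab_pair,
      Nat.card_zpowers, P.order]
  have h3 : Nat.card (orbit K b) = 2 ^ p - 1 := by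
    haveI := Fintype.ofFinite Ω
    rw [horb, Nat.card_eq_fintype_card]
    show Fintype.card {c : Ω // c ≠ a} = _
    rw [Fintype.card_subtype_compl, Fintype.card_subtype_eq, ← Nat.card_eq_fintype_card, P.data.card, P.card_eq]
  rw [h2, h3] at h1
  exact h1.symm

theorem card_group (P : Pair V X a b p ρ t) : Nat.card L = 2 ^ p * ((2 ^ p - 1) * p) := by
  haveI := P.data.pre
  have h1 := (stabilizer L a).card_mul_index
  rw [index_stabilizer_of_transitive, P.card_stab, P.data.card, P.card_eq] at h1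
  rw [← h1, mul_comm]

theorem coprime (P : Pair V X a b p ρ t) : p.Coprime (2 ^ p - 1) := by
  haveI : Fact p.Prime := ⟨P.prime⟩
  refine P.prime.coprime_iff_not_dvd.2 fun hd => ?_
  have h1 : ((2 ^ p - 1 : ℕ) : ZMod p) = 0 := (ZMod.natCast_eq_zero_iff _ _).2 hd
  rw [Nat.cast_sub Nat.one_le_two_pow] at h1
  push_cast at h1
  rw [ZMod.pow_card, sub_eq_zero] at h1
  have h2 : ((2 : ℕ) : ZMod p) = ((1 : ℕ) : ZMod p) := by exact_mod_cast h1
  rw [ZMod.natCast_eq_natCast_iff', Nat.mod_eq_of_lt (lt_of_le_of_ne P.prime.two_le P.ne_two.symm),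
    Nat.mod_eq_of_lt P.prime.one_lt] at h2
  omega

/-- a subgroup normalising a non-trivial 2-subgroup has order dividing `2 ^ p * p` -/
theorem card_normalising (P : Pair V X a b p ρ t) {Q H : Subgroup L} (hQ : IsPGroup 2 Q) (hne : Q ≠ ⊥)
    (hH : H ≤ normalizer (Q : Set L)) : Nat.card H ∣ 2 ^ p * p := by
  have h1 : Nat.card H ∣ 2 ^ p * p * (2 ^ p - 1) := by
    have := card_subgroup_dvd_card H
    rw [P.card_group] at this
    calc Nat.card H ∣ 2 ^ p * ((2 ^ p - 1) * p) := this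
      _ = 2 ^ p * p * (2 ^ p - 1) := by ring
  refine Nat.Coprime.dvd_of_dvd_mul_right (Nat.coprime_of_dvd fun q hq hqH hqn => ?_) h1
  haveI : Fact q.Prime := ⟨hq⟩
  obtain ⟨y, hy⟩ := exists_prime_orderOf_dvd_card' q hqH
  have hq2 : q ≠ 2 := fun e => by
    subst e
    obtain ⟨k, hk⟩ := hqn
    have h2 : 2 ∣ 2 ^ p := dvd_pow_self 2 P.prime.ne_zero
    obtain ⟨l, hl⟩ := h2
    have := Nat.one_le_two_pow (n := p)
    omega
  have hyo : orderOf (y : L) = q := by rw [Subgroup.orderOf_coe, hy]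
  obtain ⟨c, hc⟩ := exists_fixed_point P.data hq hq2 hyo
  haveI := P.data.pre
  obtain ⟨g, hg⟩ := exists_smul_eq L c a
  set y' := g * (y : L) * g⁻¹ with hy'
  have hy'o : orderOf y' = q := by rw [hy', ← MulAut.conj_apply, MulEquiv.orderOf_eq, hyo]
  have hy'a : y' ∈ stabilizer L a := by
    show (g * (y : L) * g⁻¹) • a = a
    rw [mul_smul, mul_smul, ← hg, inv_smul_smul, hc]
  have hy'X : y' ∈ X := by
    by_contra hX
    obtain ⟨hd, -⟩ := exists_commute P.data.toWeak P.card_eq hq hy'a hX (by rw [← hy'o]; exact pow_orderOf_eq_one y')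
    have := (Nat.prime_dvd_prime_iff_eq hq P.prime).1 hd
    subst this
    exact (hq.coprime_iff_not_dvd.1 P.coprime) hqn
  set Q' := Q.map (MulAut.conj g).toMonoidHom with hQ'
  obtain ⟨w, hw, hw0⟩ := exists_fixed_vector P.data (hQ.map (MulAut.conj g).toMonoidHom)
  refine hne ?_
  have hbot : Q' = ⊥ := eq_bot_of_invariant P.data (irreducible P.data.toWeak P.card_eq P.prime hy'X
    (fun e => hq.ne_one (by rw [← hy'o, e, orderOf_one])) _ (fun v hv k hk => ?_) ⟨w, hw, hw0⟩)
  · rwa [hQ', map_eq_bot_iff_of_injective _ (MulAut.conj g).injective] at hbot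
  obtain ⟨k₀, hk₀, rfl⟩ := hk
  have hmem : (y : L)⁻¹ * k₀ * (y : L) ∈ Q := by
    have := (mem_normalizer_iff.1 (inv_mem (hH y.2)) k₀).1 hk₀
    rwa [inv_inv] at this
  have h3 := hv (g * ((y : L)⁻¹ * k₀ * (y : L)) * g⁻¹) ⟨_, hmem, rfl⟩
  show (g * k₀ * g⁻¹) • y' • v = y' • v
  rw [← mul_smul, show g * k₀ * g⁻¹ * y' = y' * (g * ((y : L)⁻¹ * k₀ * (y : L)) * g⁻¹) by rw [hy']; group,
    mul_smul, h3]

/-- the swappers of `a` and `b` -/
theorem swapper_conj (P : Pair V X a b p ρ t) {g : L} (hg : t * g ∈ zpowers ρ) :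
    ∃ m : ℕ, g = ρ ^ m * t * (ρ ^ m)⁻¹ := by
  obtain ⟨i, hi⟩ := mem_zpowers_iff.1 hg
  obtain ⟨k, hk⟩ := P.prime.odd_of_ne_two P.ne_two
  have hfin : IsOfFinOrder ρ := isOfFinOrder_of_finite ρ
  obtain ⟨m, hm⟩ := (hfin.mem_powers_iff_mem_zpowers (y := ρ ^ (i * k))).2 (zpow_mem (mem_zpowers ρ) _)
  refine ⟨m, ?_⟩
  have hm' : ρ ^ m = ρ ^ (i * (k : ℤ)) := hm
  have hswap : ∀ j : ℤ, ρ ^ j * t = t * ρ ^ (-j) := fun j => by
    have h1 : t * ρ ^ (-j) * t⁻¹ = ρ ^ j := by
      rw [← conj_zpow, P.inverts, inv_zpow', neg_neg]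
    calc ρ ^ j * t = t * ρ ^ (-j) * t⁻¹ * t := by rw [h1]
      _ = t * ρ ^ (-j) := by group
  have hp1 : ρ ^ (p : ℤ) = 1 := by rw [zpow_natCast, ← P.order, pow_orderOf_eq_one]
  have htg : g = t * ρ ^ i := by rw [hi, ← mul_assoc, P.sq, one_mul]
  rw [hm', hswap, htg, mul_assoc, ← zpow_neg, ← zpow_add]
  congr 1
  rw [show -(i * (k : ℤ)) + -(i * (k : ℤ)) = i + -i * (p : ℤ) by rw [hk]; push_cast; ring, zpow_add,
    mul_comm (-i), zpow_mul, hp1, one_zpow, mul_one]

theorem conj_involution (P : Pair V X a b p ρ t) {s : L} (hs : orderOf s = 2) :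
    ∃ g : L, s = g * t * g⁻¹ := by
  have hs2 : s * s = 1 := by rw [← pow_two, ← hs, pow_orderOf_eq_one]
  have hs1 : s ≠ 1 := fun e => by rw [e, orderOf_one] at hs; exact absurd hs (by norm_num)
  obtain ⟨g, hga, hgb⟩ := two_trans P.data.toWeak (involution_moves P.data hs2 hs1 a).symm P.ne.symm
  have h1 : t * (g * s * g⁻¹) ∈ zpowers ρ := by
    rw [← P.stab_pair]
    have hga' : g⁻¹ • a = a := by rw [inv_smul_eq_iff, hga]
    have hgb' : g⁻¹ • b = s • a := by rw [inv_smul_eq_iff, hgb]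
    constructor
    · show (t * (g * s * g⁻¹)) • a = a
      rw [mul_smul, mul_smul, mul_smul, hga', hgb, P.swap']
    · show (t * (g * s * g⁻¹)) • b = b
      rw [mul_smul, mul_smul, mul_smul, hgb', ← mul_smul s, hs2, one_smul, hga, P.swap]
  obtain ⟨m, hm⟩ := P.swapper_conj h1
  refine ⟨g⁻¹ * ρ ^ m, ?_⟩
  calc s = g⁻¹ * (g * s * g⁻¹) * g := by group
    _ = _ := by rw [hm]; group

theorem card_involutions (P : Pair V X a b p ρ t) :
    Nat.card {s : L // orderOf s = 2} = (2 ^ p - 1) * p := by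
  classical
  haveI := Fintype.ofFinite L
  haveI := Fintype.ofFinite Ω
  let f : {s : L // orderOf s = 2} → {c : Ω // c ≠ a} := fun s => ⟨(s : L) • a,
    involution_moves P.data (by rw [← pow_two]; exact (congrArg ((s : L) ^ ·) s.2.symm).trans (pow_orderOf_eq_one _))
      (fun e => by have := s.2; rw [e, orderOf_one] at this; exact absurd this (by norm_num)) a⟩
  have hfib : ∀ c : {c : Ω // c ≠ a}, Nat.card {s // f s = c} = p := by
    intro c
    obtain ⟨g, hga, hgb⟩ := two_trans P.data.toWeak P.ne.symm (Ne.symm c.2)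
    have hga' : g⁻¹ • a = a := by rw [inv_smul_eq_iff, hga]
    have hgc' : g⁻¹ • (c : Ω) = b := by rw [inv_smul_eq_iff, hgb]
    let e : ↥(zpowers ρ) → {s // f s = c} := fun d => ⟨⟨g * (t * (d : L)) * g⁻¹, by
      obtain ⟨m, hm⟩ := P.swapper_conj (g := t * (d : L)) (by rw [← mul_assoc, P.sq, one_mul]; exact d.2)
      rw [hm, ← MulAut.conj_apply, MulEquiv.orderOf_eq, ← MulAut.conj_apply, MulEquiv.orderOf_eq, P.order_two]⟩,
      Subtype.ext (by
        show (g * (t * (d : L)) * g⁻¹) • a = c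
        have hd : (d : L) ∈ stabilizer L a ⊓ stabilizer L b := by rw [P.stab_pair]; exact d.2
        rw [mul_smul, mul_smul, hga', mul_smul, show (d : L) • a = a from hd.1, P.swap, hgb])⟩
    have hbij : Function.Bijective e := by
      refine ⟨fun d d' ed => ?_, fun s => ?_⟩
      · have : g * (t * (d : L)) * g⁻¹ = g * (t * (d' : L)) * g⁻¹ := congrArg (fun x => (x.1 : L)) ed
        exact Subtype.ext (mul_left_cancel (mul_left_cancel (mul_right_cancel this)))
      · have hsa : (s.1 : L) • a = c := congrArg Subtype.val s.2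
        have hs2 : (s.1 : L) * s.1 = 1 := by
          rw [← pow_two]
          exact (congrArg ((s.1 : L) ^ ·) s.1.2.symm).trans (pow_orderOf_eq_one _)
        have hsc : (s.1 : L) • (c : Ω) = a := by rw [← hsa, ← mul_smul, hs2, one_smul]
        refine ⟨⟨t * (g⁻¹ * s.1 * g), ?_⟩, Subtype.ext (Subtype.ext ?_)⟩
        · rw [← P.stab_pair]
          constructor
          · show (t * (g⁻¹ * s.1 * g)) • a = a
            rw [mul_smul, mul_smul, mul_smul, hga, hsa, hgc', P.swap']
          · show (t * (g⁻¹ * s.1 * g)) • b = b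
            rw [mul_smul, mul_smul, mul_smul, hgb, hsc, hga', P.swap]
        · show g * (t * (t * (g⁻¹ * s.1 * g))) * g⁻¹ = s.1
          rw [← mul_assoc t t, P.sq, one_mul]
          group
    rw [← Nat.card_congr (Equiv.ofBijective e hbij), Nat.card_zpowers, P.order]
  rw [Nat.card_congr (Equiv.sigmaFiberEquiv f).symm, Nat.card_sigma, Finset.sum_congr rfl fun c _ => hfib c,
    Finset.sum_const, Finset.card_univ, smul_eq_mul, Fintype.card_subtype_compl, Fintype.card_subtype_eq,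
    ← Nat.card_eq_fintype_card, P.data.card, P.card_eq]

theorem card_centralizer (P : Pair V X a b p ρ t) {s : L} (hs : orderOf s = 2) :
    Nat.card (centralizer ({s} : Set L)) = 2 ^ p := by
  classical
  let f : L → {x : L // orderOf x = 2} := fun g =>
    ⟨g * s * g⁻¹, by rw [← MulAut.conj_apply, MulEquiv.orderOf_eq, hs]⟩
  have hfib : ∀ y, Nat.card {g // f g = y} = Nat.card (centralizer ({s} : Set L)) := by
    rintro ⟨y, hy⟩
    obtain ⟨g₁, hg₁⟩ := P.conj_involution hs
    obtain ⟨g₂, hg₂⟩ := P.conj_involution hy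
    set k := g₂ * g₁⁻¹ with hk
    have hks : k * s * k⁻¹ = y := by rw [hk, hg₁, hg₂]; group
    refine Nat.card_congr
      { toFun := fun g => ⟨k⁻¹ * g.1, mem_centralizer_singleton_iff.2 ?_⟩
        invFun := fun c => ⟨k * c.1, Subtype.ext ?_⟩
        left_inv := fun g => Subtype.ext (by simp)
        right_inv := fun c => Subtype.ext (by simp) }
    · have h1 : g.1 * s * g.1⁻¹ = y := congrArg Subtype.val g.2
      calc k⁻¹ * g.1 * s = k⁻¹ * (g.1 * s * g.1⁻¹) * g.1 := by group
        _ = k⁻¹ * (k * s * k⁻¹) * g.1 := by rw [h1, hks]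
        _ = s * (k⁻¹ * g.1) := by group
    · show k * c.1 * s * (k * c.1)⁻¹ = y
      rw [mul_assoc k c.1 s, mem_centralizer_singleton_iff.1 c.2, ← hks]
      group
  haveI := Fintype.ofFinite L
  have h1 : Nat.card L = ((2 ^ p - 1) * p) * Nat.card (centralizer ({s} : Set L)) := by
    rw [Nat.card_congr (Equiv.sigmaFiberEquiv f).symm, Nat.card_sigma, Finset.sum_congr rfl fun c _ => hfib c,
      Finset.sum_const, Finset.card_univ, smul_eq_mul, ← Nat.card_eq_fintype_card, P.card_involutions]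
  rw [P.card_group, mul_comm (2 ^ p)] at h1
  refine (Nat.eq_of_mul_eq_mul_left ?_ h1).symm
  have := Nat.one_lt_two_pow P.prime.ne_zero
  exact Nat.mul_pos (by omega) P.prime.pos

/-- `ρ` fixes exactly one non-zero vector, which `t` fixes too -/
theorem exists_vector (P : Pair V X a b p ρ t) : ∃ v : V, v ≠ 0 ∧ ρ • v = v ∧ t • v = v := by
  haveI : Fact p.Prime := ⟨P.prime⟩
  have hP : IsPGroup p (zpowers ρ) := IsPGroup.of_card (n := 1) (by rw [Nat.card_zpowers, P.order, pow_one])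
  obtain ⟨v, hv, hρv⟩ : ∃ v : V, v ≠ 0 ∧ ρ • v = v := by
    by_contra hno
    push Not at hno
    haveI : Subsingleton (fixedPoints (zpowers ρ) V) := by
      refine ⟨fun v w => Subtype.ext ?_⟩
      have hz : ∀ u : fixedPoints (zpowers ρ) V, (u : V) = 0 := fun u => by
        by_contra hu
        exact hno u hu (u.2 ⟨ρ, mem_zpowers ρ⟩)
      rw [hz v, hz w]
    haveI : Nonempty (fixedPoints (zpowers ρ) V) := ⟨⟨0, fun g => smul_zero (g : L)⟩⟩
    have h1 := hP.card_modEq_card_fixedPoints (α := V)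
    rw [Nat.card_unique (α := fixedPoints (zpowers ρ) V), P.card_eq] at h1
    exact (P.prime.coprime_iff_not_dvd.1 P.coprime) ((Nat.modEq_iff_dvd' Nat.one_le_two_pow).1 h1.symm)
  refine ⟨v, hv, hρv, ?_⟩
  have htv : t • v ≠ 0 := fun e => hv (by rw [← one_smul L v, ← P.sq, mul_smul, e, smul_zero])
  obtain ⟨x, hx, hxv⟩ := P.data.trans v (t • v) hv htv
  have hρtv : ρ • x • v = x • v := by
    rw [hxv, ← mul_smul, show ρ * t = t * (t⁻¹ * ρ * t) by group, mul_smul]
    congr 1
    have h1 : t⁻¹ * ρ * t = ρ⁻¹ := by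
      have h2 := P.inverts
      rw [inv_eq_of_mul_eq_one_right P.sq] at h2 ⊢
      exact h2
    rw [h1, inv_smul_eq_iff, hρv]
  have hc : ρ * x = x * ρ := by
    have hy : ρ * x * ρ⁻¹ ∈ X :=
      (mem_normalizer_iff.1 (P.data.normal (show ρ ∈ stabilizer L a from P.fix_a)) x).1 hx
    have h1 := free P.data.toWeak (mul_mem (inv_mem hx) hy) hv (by
      rw [mul_smul, mul_smul, mul_smul, show ρ⁻¹ • v = v by rw [inv_smul_eq_iff, hρv], hρtv, inv_smul_smul])
    rw [inv_mul_eq_one] at h1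
    calc ρ * x = ρ * x * ρ⁻¹ * ρ := by group
      _ = x * ρ := by rw [← h1]
  rw [← hxv, P.centralises hx hc, one_smul]

/-- The endgame. -/
theorem eq_three (P : Pair V X a b p ρ t) : p = 3 := by
  classical
  haveI : Fact p.Prime := ⟨P.prime⟩
  haveI : Fact (Nat.Prime 2) := ⟨Nat.prime_two⟩
  haveI := Fintype.ofFinite L
  obtain ⟨v, hv, hρv, htv⟩ := P.exists_vector
  set M := stabilizer L v with hM
  have hMcard : Nat.card M = 2 ^ p * p := by
    have horb : orbit L v = {w | w ≠ 0} := by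
      ext w
      refine ⟨?_, fun hw => ?_⟩
      · rintro ⟨g, rfl⟩ e
        exact hv (by rw [← inv_smul_smul g v, show g • v = 0 from e, smul_zero])
      · obtain ⟨x, -, hxv⟩ := P.data.trans v w hv hw
        exact ⟨x, hxv⟩
    have h1 : Nat.card (orbit L v) * Nat.card (stabilizer L v) = Nat.card L := by
      rw [← Nat.card_prod, Nat.card_congr (orbitProdStabilizerEquivGroup L v)]
    have h2 : Nat.card (orbit L v) = 2 ^ p - 1 := by
      haveI := Fintype.ofFinite V
      rw [horb, Nat.card_eq_fintype_card]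
      show Fintype.card {w : V // w ≠ 0} = _
      rw [Fintype.card_subtype_compl, Fintype.card_subtype_eq, ← Nat.card_eq_fintype_card, P.card_eq]
    rw [h2, P.card_group, show 2 ^ p * ((2 ^ p - 1) * p) = (2 ^ p - 1) * (2 ^ p * p) by ring] at h1
    exact Nat.eq_of_mul_eq_mul_left (by have := Nat.one_lt_two_pow P.prime.ne_zero; omega) h1
  obtain ⟨R, hRn, hRcard, htR, -, hTs⟩ := exists_two_local (M := M) P.prime P.ne_two hMcard
    (ρ := ⟨ρ, hρv⟩) (t := ⟨t, htv⟩) (by rw [← Subgroup.orderOf_coe]; exact P.order) (Subtype.ext P.sq)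
    (Subtype.ext P.inverts) (fun g hg => by
      have hmap : ∀ y : M, y ∈ zpowers (⟨ρ, hρv⟩ : M) ↔ (y : L) ∈ zpowers ρ := fun y => by
        constructor
        · rintro ⟨i, rfl⟩
          exact zpow_mem (mem_zpowers ρ) i
        · rintro ⟨i, hi⟩
          exact ⟨i, Subtype.ext hi⟩
      rw [hmap, hmap]
      exact P.normalizer_eq ((hmap _).1 hg))
  set R' : Subgroup L := R.map M.subtype with hR'
  have hR'card : Nat.card R' = 2 ^ (p - 1) := by rw [hR', card_map_of_injective M.subtype_injective, hRcard]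
  have hR'2 : IsPGroup 2 R' := IsPGroup.of_card hR'card
  have hpge : 3 ≤ p := by
    have := P.prime.two_le
    have := P.ne_two
    omega
  have hR'ne : R' ≠ ⊥ := fun e => by
    rw [e, Subgroup.card_bot] at hR'card
    exact absurd hR'card.symm (Nat.one_lt_two_pow (by omega)).ne'
  have hR'M : R' ≤ M := map_subtype_le R
  have hMn : M ≤ normalizer (R' : Set L) := by
    intro g hg
    refine mem_normalizer_iff.2 fun x => ⟨fun hx => ?_, fun hx => ?_⟩
    · obtain ⟨y, hy, e⟩ := hx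
      exact ⟨⟨g, hg⟩ * y * ⟨g, hg⟩⁻¹, hRn.conj_mem y hy _, by rw [← e]; rfl⟩
    · obtain ⟨y, hy, e⟩ := hx
      refine ⟨⟨g, hg⟩⁻¹ * y * ⟨g, hg⟩, by simpa using hRn.conj_mem y hy (⟨g, hg⟩⁻¹), ?_⟩
      show g⁻¹ * (y : L) * g = x
      rw [show (y : L) = g * x * g⁻¹ from e]
      group
  have hN : normalizer (R' : Set L) = M :=
    (Subgroup.eq_of_le_of_card_ge hMn (hMcard ▸ Nat.le_of_dvd (by have := P.prime.pos; positivity)
      (P.card_normalising hR'2 hR'ne le_rfl))).symm
  -- subgroups of order `2 ^ p` over `R'`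
  have hover : ∀ U : Subgroup L, R' ≤ U → Nat.card U = 2 ^ p → U ≤ M := by
    intro U hRU hU g hg
    rw [← hN]
    haveI : (R'.subgroupOf U).Normal := Subgroup.normal_of_index_eq_two (by
      show R'.relIndex U = 2
      have h1 := Subgroup.relIndex_mul_index (H := R') (K := U) hRU
      have h2 := R'.card_mul_index
      have h3 := U.card_mul_index
      rw [hR'card] at h2
      rw [hU] at h3
      have h4 : 2 ^ p = 2 * 2 ^ (p - 1) := by rw [← pow_succ', Nat.sub_add_cancel P.prime.one_le]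
      rw [h4] at h3
      have hpos : 0 < U.index := Nat.pos_of_ne_zero U.index_ne_zero_of_finite
      have h5 : 2 ^ (p - 1) * (R'.relIndex U * U.index) = 2 ^ (p - 1) * (2 * U.index) := by
        rw [h1, h2, ← h3]
        ring
      exact Nat.eq_of_mul_eq_mul_right hpos (Nat.eq_of_mul_eq_mul_left (by positivity) h5))
    refine mem_normalizer_iff.2 fun x => ⟨fun hx => ?_, fun hx => ?_⟩
    · exact mem_subgroupOf.1 ((inferInstance : (R'.subgroupOf U).Normal).conj_mem ⟨x, hRU hx⟩ hx ⟨g, hg⟩)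
    · have hxU : x ∈ U := by
        have := mul_mem (mul_mem (inv_mem hg) (hRU hx)) hg
        simpa [mul_assoc] using this
      have := (inferInstance : (R'.subgroupOf U).Normal).conj_mem
        ⟨g * x * g⁻¹, hRU hx⟩ hx ⟨g, hg⟩⁻¹
      have h2 := mem_subgroupOf.1 this
      simpa [mul_assoc] using h2
  set τ : ℕ → L := fun k => ρ ^ k * t * (ρ ^ k)⁻¹ with hτ
  have hsub : ∀ U : Subgroup L, U ≤ M → Nat.card U = 2 ^ p → R' ≤ U ∧ ∃ k, τ k ∈ U := by
    intro U hUM hU
    obtain ⟨h1, k, hk⟩ := hTs (U.subgroupOf M) (by rw [Nat.card_congr (subgroupOfEquivOfLe hUM).toEquiv, hU])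
    refine ⟨?_, k, mem_subgroupOf.1 hk⟩
    rintro x ⟨y, hy, rfl⟩
    exact mem_subgroupOf.1 (h1 hy)
  -- `Z = Ω₁(Z(R'))`
  let Z : Subgroup L :=
    { carrier := {z | z ∈ R' ∧ z * z = 1 ∧ ∀ y ∈ R', z * y = y * z}
      one_mem' := ⟨one_mem _, one_mul 1, fun y _ => by rw [one_mul, mul_one]⟩
      mul_mem' := fun {x z} hx hz => ⟨mul_mem hx.1 hz.1, by
        rw [show x * z * (x * z) = x * (z * x) * z by group, hz.2.2 x hx.1,
          show x * (x * z) * z = (x * x) * (z * z) by group, hx.2.1, hz.2.1, one_mul], fun y hy => by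
        rw [mul_assoc, hz.2.2 y hy, ← mul_assoc, hx.2.2 y hy, mul_assoc]⟩
      inv_mem' := fun {z} hz => by
        rw [inv_eq_of_mul_eq_one_right hz.2.1]
        exact hz }
  have hZR : ∀ z ∈ Z, z ∈ R' := fun z hz => hz.1
  have hZn : ∀ g ∈ M, ∀ z ∈ Z, g * z * g⁻¹ ∈ Z := fun g hg z hz => by
    refine ⟨(mem_normalizer_iff.1 (hMn hg) z).1 hz.1, by
      rw [show g * z * g⁻¹ * (g * z * g⁻¹) = g * (z * z) * g⁻¹ by group, hz.2.1, mul_one, mul_inv_cancel],
      fun y hy => ?_⟩
    have hy' : g⁻¹ * y * g ∈ R' := by simpa using (mem_normalizer_iff.1 (hMn (inv_mem hg)) y).1 hy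
    calc g * z * g⁻¹ * y = g * (z * (g⁻¹ * y * g)) * g⁻¹ := by group
      _ = g * ((g⁻¹ * y * g) * z) * g⁻¹ := by rw [hz.2.2 _ hy']
      _ = y * (g * z * g⁻¹) := by group
  have htM : t ∈ M := htv
  have hρM : ρ ∈ M := hρv
  have hZnebot : ∃ z ∈ Z, z ≠ 1 := by
    haveI : Nontrivial R' := (Subgroup.nontrivial_iff_ne_bot R').2 hR'ne
    haveI := hR'2.center_nontrivial
    obtain ⟨k, hk⟩ := IsPGroup.iff_card.1 (hR'2.to_subgroup (center R'))
    have hk0 : k ≠ 0 := fun h0 => by
      rw [h0, pow_zero] at hk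
      exact absurd hk (Finite.one_lt_card (α := center R')).ne'
    obtain ⟨z, hz⟩ := exists_prime_orderOf_dvd_card' (G := center R') 2 (hk ▸ dvd_pow_self 2 hk0)
    refine ⟨((z : R') : L), ⟨(z : R').2, ?_, fun y hy => ?_⟩, ?_⟩
    · have := pow_orderOf_eq_one z
      rw [hz, pow_two] at this
      exact congrArg (fun w : center R' => ((w : R') : L)) this
    · exact (congrArg Subtype.val (mem_center_iff.1 z.2 ⟨y, hy⟩)).symm
    · intro e
      have h1 : z = 1 := Subtype.ext (Subtype.ext e)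
      rw [h1, orderOf_one] at hz
      exact absurd hz (by norm_num)
  have hone : ∀ z ∈ Z, z * ρ = ρ * z → z = 1 := fun z hz hc => by
    have h1 : orderOf z ∣ p := by
      have h2 := Subgroup.orderOf_dvd_natCard _ (P.commute_mem hc)
      rwa [Nat.card_zpowers, P.order] at h2
    exact orderOf_eq_one_iff.1 (Nat.eq_one_of_dvd_coprimes
      ((Nat.coprime_primes P.prime Nat.prime_two).2 P.ne_two) h1
      (orderOf_dvd_of_pow_eq_one (by rw [pow_two]; exact hz.2.1)))
  -- the part centralised by each conjugate of `t`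
  let Zk : ℕ → Subgroup L := fun k => Z ⊓ centralizer ({τ k} : Set L)
  have hord : ∀ z ∈ Z, z ≠ 1 → orderOf z = 2 := fun z hz hz1 => by
    exact orderOf_eq_prime (by rw [pow_two, hz.2.1]) hz1
  have hCz : ∀ z ∈ Z, z ≠ 1 → R' ≤ centralizer ({z} : Set L) ∧ centralizer ({z} : Set L) ≤ M := by
    intro z hz hz1
    have h1 : R' ≤ centralizer ({z} : Set L) := fun y hy => mem_centralizer_singleton_iff.2 (hz.2.2 y hy).symm
    exact ⟨h1, hover _ h1 (P.card_centralizer (hord z hz hz1))⟩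
  have hcover : ∀ z ∈ Z, z ≠ 1 → ∃ k < p, z ∈ Zk k := by
    intro z hz hz1
    obtain ⟨-, h2⟩ := hCz z hz hz1
    obtain ⟨-, k, hk⟩ := hsub _ h2 (P.card_centralizer (hord z hz hz1))
    refine ⟨k % p, Nat.mod_lt _ P.prime.pos, hz, mem_centralizer_singleton_iff.2 ?_⟩
    rw [show τ (k % p) = τ k by rw [hτ]; simp only; rw [← P.order, pow_mod_orderOf]]
    exact (mem_centralizer_singleton_iff.1 hk).symm
  have hdisj : ∀ i j, i < p → j < p → i ≠ j → ∀ z ∈ Zk i, z ∈ Zk j → z = 1 := by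
    intro i j hi hj hij z hzi hzj
    refine hone z hzi.1 ?_
    have hi' : Commute z (τ i) := mem_centralizer_singleton_iff.1 hzi.2
    have hj' : Commute z (τ j) := mem_centralizer_singleton_iff.1 hzj.2
    have h1 : Commute z (τ i * τ j) := hi'.mul_right hj'
    obtain ⟨m, hm⟩ : ∃ m : ℤ, τ i * τ j = ρ ^ m ∧ ¬ (p : ℤ) ∣ m := by
      refine ⟨2 * ((i : ℤ) - j), ?_, fun hd => ?_⟩
      · have hswap : ∀ n : ℕ, t * (ρ ^ n)⁻¹ = ρ ^ n * t := fun n => by
          have h2 : t * ρ ^ n * t⁻¹ = (ρ ^ n)⁻¹ := by rw [← conj_pow, P.inverts, inv_pow]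
          calc t * (ρ ^ n)⁻¹ = t * (t * ρ ^ n * t⁻¹) := by rw [h2]
            _ = (t * t) * ρ ^ n * t⁻¹ := by group
            _ = ρ ^ n * t := by rw [P.sq, one_mul, inv_eq_of_mul_eq_one_right P.sq]
        simp only [hτ]
        calc ρ ^ i * t * (ρ ^ i)⁻¹ * (ρ ^ j * t * (ρ ^ j)⁻¹)
            = ρ ^ i * (t * (ρ ^ i)⁻¹) * (ρ ^ j * (t * (ρ ^ j)⁻¹)) := by group
          _ = ρ ^ i * (ρ ^ i * t) * (ρ ^ j * (ρ ^ j * t)) := by rw [hswap, hswap]
          _ = ρ ^ (i + i) * (t * ρ ^ (j + j) * t) := by rw [pow_add, pow_add]; group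
          _ = ρ ^ (i + i) * (t * ρ ^ (j + j) * t⁻¹) := by rw [inv_eq_of_mul_eq_one_right P.sq]
          _ = _ := by
              rw [← conj_pow, P.inverts, inv_pow, ← zpow_natCast, ← zpow_natCast, ← zpow_neg, ← zpow_add]
              congr 1
              push_cast
              ring
      · rcases (Nat.prime_iff_prime_int.1 P.prime).dvd_or_dvd hd with h2 | h2
        · have := Int.le_of_dvd (by norm_num) h2
          omega
        · obtain ⟨c, hc⟩ := h2
          have hi2 : (i : ℤ) < p := by exact_mod_cast hi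
          have hj2 : (j : ℤ) < p := by exact_mod_cast hj
          have hij2 : (i : ℤ) ≠ j := by exact_mod_cast hij
          rcases lt_trichotomy c 0 with h3 | h3 | h3
          · nlinarith
          · rw [h3, mul_zero, sub_eq_zero] at hc
            exact hij2 hc
          · nlinarith
    have h2 : zpowers (ρ ^ m) = zpowers ρ := by
      refine Subgroup.eq_of_le_of_card_ge (zpowers_le.2 (zpow_mem (mem_zpowers ρ) m)) ?_
      rw [Nat.card_zpowers, Nat.card_zpowers, P.order]
      rcases P.prime.eq_one_or_self_of_dvd _ (show orderOf (ρ ^ m) ∣ p by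
        rw [← P.order, ← Nat.card_zpowers ρ]
        exact Subgroup.orderOf_dvd_natCard _ (zpow_mem (mem_zpowers ρ) m)) with h3 | h3
      · rw [orderOf_eq_one_iff, ← orderOf_dvd_iff_zpow_eq_one, P.order] at h3
        exact absurd h3 hm.2
      · exact h3.ge
    obtain ⟨l, hl⟩ := mem_zpowers_iff.1 (h2 ▸ mem_zpowers ρ : ρ ∈ zpowers (ρ ^ m))
    rw [← hl, ← hm.1]
    exact (h1.zpow_right l).eq
  -- all parts have the same size
  set d := Nat.card (Zk 0) with hd
  have hsize : ∀ k, Nat.card (Zk k) = d := fun k => by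
    refine Nat.card_congr
      { toFun := fun z => ⟨(ρ ^ k)⁻¹ * z * ρ ^ k, ?_, mem_centralizer_singleton_iff.2 ?_⟩
        invFun := fun z => ⟨ρ ^ k * z * (ρ ^ k)⁻¹, hZn _ (pow_mem hρM k) _ z.2.1,
          mem_centralizer_singleton_iff.2 ?_⟩
        left_inv := fun z => Subtype.ext (by simp only; group)
        right_inv := fun z => Subtype.ext (by simp only; group) }
    · simpa using hZn _ (inv_mem (pow_mem hρM k)) _ z.2.1
    · have h1 : (z : L) * (ρ ^ k * t * (ρ ^ k)⁻¹) = ρ ^ k * t * (ρ ^ k)⁻¹ * z :=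
        mem_centralizer_singleton_iff.1 z.2.2
      rw [show τ 0 = t by simp [hτ]]
      calc (ρ ^ k)⁻¹ * (z : L) * ρ ^ k * t = (ρ ^ k)⁻¹ * ((z : L) * (ρ ^ k * t * (ρ ^ k)⁻¹)) * ρ ^ k := by group
        _ = t * ((ρ ^ k)⁻¹ * z * ρ ^ k) := by rw [h1]; group
    · have h1 : (z : L) * t = t * z := by
        have := mem_centralizer_singleton_iff.1 z.2.2
        rwa [show τ 0 = t by simp [hτ]] at this
      simp only [hτ]
      calc ρ ^ k * (z : L) * (ρ ^ k)⁻¹ * (ρ ^ k * t * (ρ ^ k)⁻¹) = ρ ^ k * ((z : L) * t) * (ρ ^ k)⁻¹ := by group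
        _ = _ := by rw [h1]; group
  -- `|Z| - 1 = p (d - 1)`
  have hsum : Nat.card Z - 1 = p * (d - 1) := by
    let f : (Σ k : Fin p, {z : Zk k // (z : L) ≠ 1}) → {z : Z // (z : L) ≠ 1} :=
      fun x => ⟨⟨x.2.1.1, x.2.1.2.1⟩, x.2.2⟩
    have hf : Function.Bijective f := by
      refine ⟨fun x y e => ?_, fun z => ?_⟩
      · obtain ⟨i, ⟨⟨z, hz⟩, hz1⟩⟩ := x
        obtain ⟨j, ⟨⟨w, hw⟩, hw1⟩⟩ := y
        have e' : z = w := congrArg (fun q => ((q.1 : Z) : L)) e
        subst e'
        by_cases hij : i = j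
        · subst hij; rfl
        · exact absurd (hdisj i j i.2 j.2 (fun h' => hij (Fin.ext h')) z hz hw) hz1
      · obtain ⟨k, hk, hzk⟩ := hcover z.1.1 z.1.2 z.2
        exact ⟨⟨⟨k, hk⟩, ⟨⟨z.1.1, hzk⟩, z.2⟩⟩, rfl⟩
    have hpunct : ∀ K : Subgroup L, Nat.card {z : K // (z : L) ≠ 1} = Nat.card K - 1 := fun K => by
      haveI := Fintype.ofFinite K
      rw [Nat.card_congr (Equiv.subtypeEquivRight (fun z : K => (not_congr
        ⟨fun e => Subtype.ext e, fun e => congrArg Subtype.val e⟩ : (z : L) ≠ 1 ↔ z ≠ 1))),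
        Nat.card_eq_fintype_card, Fintype.card_subtype_compl, Fintype.card_subtype_eq, Nat.card_eq_fintype_card]
    rw [← hpunct Z, ← Nat.card_congr (Equiv.ofBijective f hf), Nat.card_sigma,
      Finset.sum_congr rfl fun (k : Fin p) _ => (hpunct (Zk k)).trans (by rw [hsize]), Finset.sum_const,
      Finset.card_univ, Fintype.card_fin, smul_eq_mul]
  have hZcomm : ∀ x ∈ Z, ∀ z ∈ Z, x * z = z * x := fun x hx z hz => hx.2.2 z hz.1
  have hlow : d * d ≤ Nat.card Z := by
    rw [show d * d = Nat.card (Zk 0) * Nat.card (Zk 1) by rw [hsize 0, hsize 1], ← Nat.card_prod]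
    refine Nat.card_le_card_of_injective (fun x => (⟨(x.1 : L) * x.2, mul_mem x.1.2.1 x.2.2.1⟩ : Z))
      fun x y e => ?_
    have e' : (x.1 : L) * x.2 = y.1 * y.2 := congrArg Subtype.val e
    have h1 : (y.1 : L)⁻¹ * x.1 = y.2 * (x.2 : L)⁻¹ := by
      rw [eq_mul_inv_iff_mul_eq, mul_assoc, e', inv_mul_cancel_left]
    have h2 : (y.1 : L)⁻¹ * x.1 = 1 := hdisj 0 1 P.prime.pos P.prime.one_lt zero_ne_one _
      (mul_mem (inv_mem y.1.2) x.1.2) (by rw [h1]; exact mul_mem y.2.2 (inv_mem x.2.2))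
    rw [h2] at h1
    exact Prod.ext (Subtype.ext (inv_mul_eq_one.1 h2).symm) (Subtype.ext (mul_inv_eq_one.1 h1.symm).symm)
  have hhigh : Nat.card Z ≤ d * d := by
    have htZ : ∀ z ∈ Z, t * z * t ∈ Z := fun z hz => by
      have := hZn t htM z hz
      rwa [inv_eq_of_mul_eq_one_right P.sq] at this
    let f : Z →* L :=
      { toFun := fun z => (z : L) * (t * z * t)
        map_one' := by simp [P.sq]
        map_mul' := fun x z => by
          simp only [Subgroup.coe_mul]
          have h1 := hZcomm _ (htZ x x.2) z z.2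
          calc (x : L) * z * (t * ((x : L) * z) * t)
              = (x : L) * z * ((t * x * t) * (t * z * t)) := by
                  rw [show t * (x : L) * t * (t * z * t) = t * (x : L) * (t * t) * z * t by group, P.sq, mul_one,
                    ← mul_assoc t]
            _ = (x : L) * ((z : L) * (t * x * t)) * (t * z * t) := by group
            _ = (x : L) * ((t * x * t) * z) * (t * z * t) := by rw [h1]
            _ = _ := by group }
    have hran : f.range ≤ Zk 0 := by
      rintro _ ⟨z, rfl⟩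
      refine ⟨mul_mem z.2 (htZ z z.2), mem_centralizer_singleton_iff.2 ?_⟩
      rw [show τ 0 = t by simp [hτ]]
      show (z : L) * (t * z * t) * t = t * ((z : L) * (t * z * t))
      rw [hZcomm _ z.2 _ (htZ z z.2)]
      calc t * (z : L) * t * z * t = t * ((z : L) * t * z * t) := by group
        _ = t * ((t * z * t) * (z : L)) := by
            rw [hZcomm _ (htZ z z.2) _ z.2]
            group
    have hker : f.ker.map Z.subtype ≤ Zk 0 := by
      rintro _ ⟨z, hz, rfl⟩
      refine ⟨z.2, mem_centralizer_singleton_iff.2 ?_⟩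
      rw [show τ 0 = t by simp [hτ]]
      have h1 : (z : L) * (t * z * t) = 1 := hz
      have h2 : t * (z : L) * t = (z : L) := by
        rw [← inv_eq_of_mul_eq_one_right h1, inv_eq_of_mul_eq_one_right z.2.2.1]
      show (z : L) * t = t * z
      calc (z : L) * t = t * (z : L) * t * t := by rw [h2]
        _ = t * z := by rw [mul_assoc _ t t, P.sq, mul_one]
    rw [← f.ker.card_mul_index, Subgroup.index_ker, ← card_map_of_injective Z.subtype_injective]
    exact Nat.mul_le_mul (Subgroup.card_le_of_le hker) (Subgroup.card_le_of_le hran)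
  have hd1 : 1 ≤ d := Nat.card_pos
  have hd2 : 1 < d := by
    by_contra h1
    obtain ⟨z, hz, hz1⟩ := hZnebot
    have : Nat.card Z ≤ 1 := hhigh.trans (by nlinarith)
    exact hz1 (congrArg Subtype.val ((Finite.card_le_one_iff_subsingleton.1 this).elim ⟨z, hz⟩ 1))
  have hpd : p = d + 1 := by
    rw [le_antisymm hhigh hlow] at hsum
    have h1 : d * d - 1 = (d + 1) * (d - 1) := by
      obtain ⟨e, he⟩ : ∃ e, d = e + 1 := ⟨d - 1, by omega⟩
      rw [he, Nat.add_sub_cancel]
      have h2 : (e + 1) * (e + 1) = (e + 1 + 1) * e + 1 := by ring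
      omega
    rw [h1] at hsum
    exact (Nat.eq_of_mul_eq_mul_right (by omega) hsum).symm
  -- the involutions, against the Sylow subgroup at a member of `Zk 0`
  obtain ⟨z₀, hz₀1⟩ : ∃ z : Zk 0, z ≠ 1 := by
    haveI := Finite.one_lt_card_iff_nontrivial.1 hd2
    exact exists_ne 1
  have hz₀L : (z₀ : L) ≠ 1 := fun e => hz₀1 (Subtype.ext e)
  set U := centralizer ({(z₀ : L)} : Set L) with hUdef
  have hUcard : Nat.card U = 2 ^ p := P.card_centralizer (hord _ z₀.2.1 hz₀L)
  have hUM : U ≤ M := (hCz _ z₀.2.1 hz₀L).2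
  have hRU : R' ≤ U := (hCz _ z₀.2.1 hz₀L).1
  have htU : t ∈ U := mem_centralizer_singleton_iff.2 (by
    have := mem_centralizer_singleton_iff.1 z₀.2.2
    rw [show τ 0 = t by simp [hτ]] at this
    exact this.symm)
  have hU2 : (R'.subgroupOf U).index = 2 := by
    have h1 := (R'.subgroupOf U).card_mul_index
    rw [Nat.card_congr (subgroupOfEquivOfLe hRU).toEquiv, hR'card, hUcard] at h1
    have h4 : 2 ^ p = 2 ^ (p - 1) * 2 := by rw [← pow_succ, Nat.sub_add_cancel P.prime.one_le]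
    rw [h4] at h1
    exact Nat.eq_of_mul_eq_mul_left (by positivity) h1
  have htR' : t ∉ R' := by
    rintro ⟨y, hy, e⟩
    exact htR (by rwa [show y = (⟨t, htv⟩ : M) from Subtype.ext e] at hy)
  have hcentre : ∀ z : L, orderOf z = 2 →
      (centralizer ({z} : Set L) = U ↔ z ∈ Zk 0 ∧ z ≠ 1) := by
    intro z hz
    have hz1 : z ≠ 1 := fun e => by rw [e, orderOf_one] at hz; exact absurd hz (by norm_num)
    constructor
    · intro hC
      have hzU : z ∈ U := hC ▸ mem_centralizer_singleton_iff.2 rfl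
      have hcom : ∀ y ∈ U, y * z = z * y := fun y hy => mem_centralizer_singleton_iff.1 (hC ▸ hy)
      have hzR : z ∈ R' := by
        by_contra hzR
        -- then `t` would centralise all of `Z`
        have htz : t * z ∈ R' := by
          have h1 := (Subgroup.mul_mem_iff_of_index_two hU2 (a := ⟨t, htU⟩) (b := ⟨z, hzU⟩)).2 (by
            simp only [mem_subgroupOf]
            exact ⟨fun h => absurd h htR', fun h => absurd h hzR⟩)
          exact mem_subgroupOf.1 h1
        have hall : Z ≤ Zk 0 := fun w hw => ⟨hw, mem_centralizer_singleton_iff.2 (by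
          rw [show τ 0 = t by simp [hτ]]
          have h1 : w * (t * z) = t * z * w := hw.2.2 _ htz
          have h2 : w * z = z * w := hcom w (hRU hw.1)
          refine mul_right_cancel (b := z) ?_
          rw [mul_assoc, h1, mul_assoc t z w, ← h2, ← mul_assoc])⟩
        have h3 := Subgroup.card_le_of_le hall
        have h4 : d * d ≤ d := hlow.trans h3
        nlinarith
      refine ⟨⟨⟨hzR, by rw [← pow_two, ← hz, pow_orderOf_eq_one], fun y hy => (hcom y (hRU hy)).symm⟩, ?_⟩, hz1⟩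
      refine mem_centralizer_singleton_iff.2 ?_
      rw [show τ 0 = t by simp [hτ]]
      exact (hcom t htU).symm
    · rintro ⟨hzZ, -⟩
      refine (Subgroup.eq_of_le_of_card_ge ?_ ?_).symm
      · intro u hu
        refine mem_centralizer_singleton_iff.2 ?_
        by_cases huR : u ∈ R'
        · exact (hzZ.1.2.2 u huR).symm
        have h1 := (Subgroup.mul_mem_iff_of_index_two hU2 (a := ⟨u, hu⟩) (b := ⟨t, htU⟩)).2 (by
          simp only [mem_subgroupOf]
          exact ⟨fun h => absurd h huR, fun h => absurd h htR'⟩)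
        have h2 : u * t * z = z * (u * t) := (hzZ.1.2.2 _ (mem_subgroupOf.1 h1)).symm
        have h3 : z * t = t * z := by
          have := mem_centralizer_singleton_iff.1 hzZ.2
          rwa [show τ 0 = t by simp [hτ]] at this
        refine mul_right_cancel (b := t) ?_
        rw [mul_assoc, h3, ← mul_assoc, h2, mul_assoc]
      · rw [hUcard, P.card_centralizer hz]
  -- double count
  let f : L × {z : Zk 0 // z ≠ 1} → {s : L // orderOf s = 2} := fun x =>
    ⟨x.1 * (x.2.1 : L) * x.1⁻¹, by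
      rw [← MulAut.conj_apply, MulEquiv.orderOf_eq]
      exact hord _ x.2.1.2.1 fun e => x.2.2 (Subtype.ext e)⟩
  have hfib : ∀ s, Nat.card {x // f x = s} = Nat.card (normalizer (U : Set L)) := by
    intro s
    obtain ⟨g₁, hg₁⟩ := P.conj_involution (hord _ z₀.2.1 hz₀L)
    obtain ⟨g₂, hg₂⟩ := P.conj_involution s.2
    set k := g₂ * g₁⁻¹ with hk
    have hks : k * (z₀ : L) * k⁻¹ = s := by rw [hk, hg₁, hg₂]; group
    have hC : ∀ (y g : L), centralizer ({g * y * g⁻¹} : Set L) =
        (centralizer ({y} : Set L)).map (MulAut.conj g).toMonoidHom := fun y g => by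
      ext u
      rw [mem_centralizer_singleton_iff, Subgroup.mem_map]
      constructor
      · intro hu
        refine ⟨g⁻¹ * u * g, mem_centralizer_singleton_iff.2 ?_, ?_⟩
        · calc g⁻¹ * u * g * y = g⁻¹ * (u * (g * y * g⁻¹)) * g := by group
            _ = y * (g⁻¹ * u * g) := by rw [hu]; group
        · show g * (g⁻¹ * u * g) * g⁻¹ = u
          group
      · rintro ⟨w, hw, rfl⟩
        show g * w * g⁻¹ * (g * y * g⁻¹) = g * y * g⁻¹ * (g * w * g⁻¹)
        calc g * w * g⁻¹ * (g * y * g⁻¹) = g * (w * y) * g⁻¹ := by group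
          _ = g * (y * w) * g⁻¹ := by rw [mem_centralizer_singleton_iff.1 hw]
          _ = g * y * g⁻¹ * (g * w * g⁻¹) := by group
    have hz₀U : ∀ h ∈ normalizer (U : Set L), h⁻¹ * (z₀ : L) * h ∈ Zk 0 ∧ h⁻¹ * (z₀ : L) * h ≠ 1 := by
      intro h hh
      refine (hcentre _ (by
        rw [show h⁻¹ * (z₀ : L) * h = MulAut.conj h⁻¹ z₀ by rw [MulAut.conj_apply, inv_inv],
          MulEquiv.orderOf_eq]
        exact hord _ z₀.2.1 hz₀L)).1 ?_
      have h1 := hC (z₀ : L) h⁻¹
      rw [inv_inv] at h1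
      have h4 : U.map (MulAut.conj h⁻¹).toMonoidHom = U := mem_normalizer_iff_map_conj_eq.1 (inv_mem hh)
      rw [h1, ← hUdef, h4]
    refine Nat.card_congr
      { toFun := fun x => ⟨k⁻¹ * x.1.1, ?_⟩
        invFun := fun h => ⟨⟨k * h.1, ⟨⟨h.1⁻¹ * (z₀ : L) * h.1, (hz₀U h.1 h.2).1⟩,
          fun e => (hz₀U h.1 h.2).2 (congrArg Subtype.val e)⟩⟩, Subtype.ext (by
            show k * h.1 * (h.1⁻¹ * (z₀ : L) * h.1) * (k * h.1)⁻¹ = s
            rw [← hks]
            group)⟩
        left_inv := fun x => ?_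
        right_inv := fun h => Subtype.ext (by simp) }
    · have h1 : x.1.1 * (x.1.2.1 : L) * x.1.1⁻¹ = s := congrArg Subtype.val x.2
      have h2 : (k⁻¹ * x.1.1) * (x.1.2.1 : L) * (k⁻¹ * x.1.1)⁻¹ = z₀ := by
        calc k⁻¹ * x.1.1 * (x.1.2.1 : L) * (k⁻¹ * x.1.1)⁻¹
            = k⁻¹ * (x.1.1 * (x.1.2.1 : L) * x.1.1⁻¹) * k := by group
          _ = z₀ := by rw [h1, ← hks]; group
      have h3 := hC (x.1.2.1 : L) (k⁻¹ * x.1.1)
      rw [h2, ← hUdef, (hcentre _ (hord _ x.1.2.1.2.1 fun e => x.1.2.2 (Subtype.ext e))).2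
        ⟨x.1.2.1.2, fun e => x.1.2.2 (Subtype.ext e)⟩] at h3
      exact mem_normalizer_iff_map_conj_eq.2 h3.symm
    · have h1 : x.1.1 * (x.1.2.1 : L) * x.1.1⁻¹ = s := congrArg Subtype.val x.2
      refine Subtype.ext (Prod.ext ?_ (Subtype.ext (Subtype.ext ?_)))
      · simp
      · show (k⁻¹ * x.1.1)⁻¹ * (z₀ : L) * (k⁻¹ * x.1.1) = x.1.2.1
        rw [← hks] at h1
        calc (k⁻¹ * x.1.1)⁻¹ * (z₀ : L) * (k⁻¹ * x.1.1) = x.1.1⁻¹ * (k * (z₀ : L) * k⁻¹) * x.1.1 := by group
          _ = x.1.2.1 := by rw [← h1]; group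
  have hcount : Nat.card L * (d - 1) = ((2 ^ p - 1) * p) * Nat.card (normalizer (U : Set L)) := by
    haveI := Fintype.ofFinite (Zk 0)
    have h1 : Nat.card {z : Zk 0 // z ≠ 1} = d - 1 := by
      rw [Nat.card_eq_fintype_card, Fintype.card_subtype_compl, Fintype.card_subtype_eq, hd,
        Nat.card_eq_fintype_card]
    rw [← h1, ← Nat.card_prod, Nat.card_congr (Equiv.sigmaFiberEquiv f).symm, Nat.card_sigma,
      Finset.sum_congr rfl fun c _ => hfib c, Finset.sum_const, Finset.card_univ, smul_eq_mul,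
      ← Nat.card_eq_fintype_card, P.card_involutions]
  have hN2 : Nat.card (normalizer (U : Set L)) ∣ 2 ^ p * p :=
    P.card_normalising (IsPGroup.of_card hUcard) (fun e => by
      rw [e, Subgroup.card_bot] at hUcard
      exact absurd hUcard.symm (Nat.one_lt_two_pow P.prime.ne_zero).ne') le_rfl
  rw [P.card_group] at hcount
  have hn0 : 0 < (2 ^ p - 1) * p := by
    have := Nat.one_lt_two_pow P.prime.ne_zero
    exact Nat.mul_pos (by omega) P.prime.pos
  rw [show 2 ^ p * ((2 ^ p - 1) * p) * (d - 1) = ((2 ^ p - 1) * p) * (2 ^ p * (d - 1)) by ring] at hcount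
  rw [← Nat.eq_of_mul_eq_mul_left hn0 hcount] at hN2
  have h4 := Nat.dvd_of_mul_dvd_mul_left (by positivity) hN2
  rcases P.prime.eq_one_or_self_of_dvd _ h4 with h5 | h5 <;> omega

end Pair

/-- **The Singer lemma.** -/
theorem card_eq_eight (h : Data V X a) : Nat.card V = 8 := by
  obtain ⟨p, ρ, t, b, hp, hp2, hρ, ht, hinv, hb, hρa, hρb, htab⟩ := exists_pair h
  have P : Pair V X a b p ρ t := ⟨h, hp, hp2, hρ, ht, hinv, hb, hρa, hρb, htab⟩
  rw [P.card_eq, P.eq_three]
  norm_num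

/-- The order of the group in the Singer lemma. -/
theorem card_group_eq (h : Data V X a) : Nat.card L = 168 := by
  obtain ⟨p, ρ, t, b, hp, hp2, hρ, ht, hinv, hb, hρa, hρb, htab⟩ := exists_pair h
  have P : Pair V X a b p ρ t := ⟨h, hp, hp2, hρ, ht, hinv, hb, hρa, hρb, htab⟩
  rw [P.card_group, P.eq_three]
  norm_num

end Cfsg.Lib.BenderSE.Crit2.Singer
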