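/-
A state of the climb in the criterion below a Sylow 2-subgroup (notes/s1175_h7_plan.md, W3): every element
of `R` outside `T` is conjugate to `u` under `N_M(R)`, so `u` inverts `T`, which is abelian with `A` as its
set of elements of order at most 2.
-/
import Cfsg.Agent.BenderSE.Criterion2.Spec

set_option autoImplicit false
set_option linter.unusedSectionVars false
set_option linter.style.haveILetI false

namespace Cfsg.Lib.BenderSE.Crit2.Climb

open Subgroup

variable {G : Type*} [Group G] [Finite G] {M : Subgroup G} {D : G → Prop} {u : G} {A X R T : Subgroup G}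
  {q : ℕ}

theorem u_sq (hA : Torus M D u A X q) : u * u = 1 := by
  rw [← pow_two, ← hA.two, pow_orderOf_eq_one]

theorem u_ne_one (hA : Torus M D u A X q) : u ≠ 1 := fun e => by
  have := hA.two
  rw [e, orderOf_one] at this
  omega

theorem u_inv (hA : Torus M D u A X q) : u⁻¹ = u := inv_eq_of_mul_eq_one_right (u_sq hA)

theorem u_notMem (hS : State M u A X R T) : u ∉ T := fun h => hS.noConj u h (IsConj.refl u)

/-- `R` is `T` and its coset at `u` -/
theorem mem_or (hA : Torus M D u A X q) (hS : State M u A X R T) {r : G} (hr : r ∈ R) :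
    r ∈ T ∨ u * r ∈ T := by
  by_cases h : r ∈ T
  · exact Or.inl h
  refine Or.inr ?_
  have hu : (⟨u, hS.mem⟩ : R) ∉ T.subgroupOf R := fun h => u_notMem hS (mem_subgroupOf.1 h)
  have := (mul_mem_iff_of_index_two (show (T.subgroupOf R).index = 2 from hS.index)
    (a := (⟨u, hS.mem⟩ : R)) (b := ⟨r, hr⟩)).2
    ⟨fun e => absurd e hu, fun e => absurd (mem_subgroupOf.1 e) h⟩
  exact mem_subgroupOf.1 this

theorem conj_u_mem (hS : State M u A X R T) {t : G} (ht : t ∈ T) : u * t * u⁻¹ ∈ T := by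
  haveI : (T.subgroupOf R).Normal := normal_of_index_eq_two (show (T.subgroupOf R).index = 2 from hS.index)
  exact mem_subgroupOf.1
    ((inferInstance : (T.subgroupOf R).Normal).conj_mem ⟨t, hS.leT ht⟩ ht ⟨u, hS.mem⟩)

theorem mem_sup {g : G} (hA : Torus M D u A X q) : g ∈ A ⊔ zpowers u ↔ g ∈ A ∨ g * u ∈ A := by
  let B : Subgroup G :=
    { carrier := {g | g ∈ A ∨ g * u ∈ A}
      one_mem' := Or.inl (one_mem A)
      mul_mem' := fun {a b} ha hb => by
        rcases hb with hb | hb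
        · rcases ha with ha | ha
          · exact Or.inl (mul_mem ha hb)
          · refine Or.inr ?_
            rw [mul_assoc, (hA.centA b hb).eq, ← mul_assoc]
            exact mul_mem ha hb
        · rcases ha with ha | ha
          · refine Or.inr ?_
            rw [mul_assoc]
            exact mul_mem ha hb
          · refine Or.inl ?_
            have h1 : u * (b * u) = b * u * u := (hA.centA _ hb).symm.eq
            rw [mul_assoc b u u, u_sq hA, mul_one] at h1
            rw [show a * b = a * (u * (b * u)) by rw [h1], ← mul_assoc]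
            exact mul_mem ha hb
      inv_mem' := fun {a} ha => by
        rcases ha with ha | ha
        · exact Or.inl (inv_mem ha)
        · refine Or.inr ?_
          have h1 : u * (a * u)⁻¹ = (a * u)⁻¹ * u := (hA.centA _ (inv_mem ha)).symm.eq
          rw [mul_inv_rev, ← mul_assoc, u_inv hA, u_sq hA, one_mul] at h1
          have h2 : a⁻¹ * u = (a * u)⁻¹ := by
            calc a⁻¹ * u = u * a⁻¹ * u * u := by rw [← h1]
              _ = u * a⁻¹ := by rw [mul_assoc, u_sq hA, mul_one]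
              _ = (a * u)⁻¹ := by rw [mul_inv_rev, u_inv hA]
          exact h2 ▸ inv_mem ha }
  constructor
  · intro hg
    exact (show A ⊔ zpowers u ≤ B from sup_le (fun a ha => Or.inl ha)
      (zpowers_le.2 (Or.inr (by rw [u_sq hA]; exact one_mem A)))) hg
  · rintro (hg | hg)
    · exact mem_sup_left hg
    · rw [← mul_inv_cancel_right g u]
      exact mul_mem (mem_sup_left hg) (mem_sup_right (inv_mem (mem_zpowers u)))

theorem card_sup (hA : Torus M D u A X q) : Nat.card (A ⊔ zpowers u : Subgroup G) = 2 * q := by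
  have h : ((A ⊔ zpowers u : Subgroup G) : Set G) = (A : Set G) ∪ (fun a => a * u) '' (A : Set G) := by
    ext g
    rw [SetLike.mem_coe, mem_sup hA, Set.mem_union, SetLike.mem_coe, Set.mem_image]
    refine or_congr Iff.rfl ⟨fun hg => ⟨g * u, hg, by rw [mul_assoc, u_sq hA, mul_one]⟩, ?_⟩
    rintro ⟨a, ha, rfl⟩
    rw [mul_assoc, u_sq hA, mul_one]
    exact ha
  have hd : Disjoint (A : Set G) ((fun a => a * u) '' (A : Set G)) := by
    rw [Set.disjoint_left]
    rintro _ ha ⟨b, hb, rfl⟩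
    exact hA.notA (by simpa using mul_mem (inv_mem hb) ha)
  rw [← SetLike.coe_sort_coe, Nat.card_coe_set_eq, h, Set.ncard_union_eq hd,
    Set.ncard_image_of_injective _ (mul_left_injective u), ← Nat.card_coe_set_eq, SetLike.coe_sort_coe, hA.card]
  ring

/-- an element of `T` commuting with `u` is in `A` -/
theorem fix_T (hA : Torus M D u A X q) (hS : State M u A X R T) {t : G} (ht : t ∈ T) (hc : Commute t u) :
    t ∈ A := by
  rcases (mem_sup hA).1 (hS.fix t (hS.leT ht) hc) with h | h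
  · exact h
  · exact absurd (by simpa using mul_mem (inv_mem ht) (hS.leA h)) (u_notMem hS)

theorem card_R (hS : State M u A X R T) : Nat.card R = 2 * Nat.card T := by
  have h1 := (T.subgroupOf R).card_mul_index
  rw [show (T.subgroupOf R).index = 2 from hS.index,
    Nat.card_congr (subgroupOfEquivOfLe hS.leT).toEquiv] at h1
  rw [← h1, mul_comm]

/-- `N_M(R)` preserves `A` -/
theorem norm_A (hA : Torus M D u A X q) (hS : State M u A X R T) {h : G} (hn : h ∈ normalizer (R : Set G))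
    {a : G} (ha : a ∈ A) : h * a * h⁻¹ ∈ A := by
  by_cases ha1 : a = 1
  · rw [ha1, mul_one, mul_inv_cancel]
    exact one_mem A
  have hc : ∀ r ∈ R, Commute (h * a * h⁻¹) r := fun r hr => by
    have h1 : h⁻¹ * r * h ∈ R := by
      have := (mem_normalizer_iff.1 (inv_mem hn) r).1 hr
      rwa [inv_inv] at this
    have h2 := (hS.centre a ha _ h1).eq
    calc h * a * h⁻¹ * r = h * (a * (h⁻¹ * r * h)) * h⁻¹ := by group
      _ = h * (h⁻¹ * r * h * a) * h⁻¹ := by rw [h2]
      _ = r * (h * a * h⁻¹) := by group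
  have hD := hA.conjD h a (hA.memA a ha ha1)
  rcases (mem_sup hA).1 (hS.fix _ ((mem_normalizer_iff.1 hn a).1 (hS.leT (hS.leA ha))) (hc u hS.mem)) with h1 | h1
  · exact h1
  · refine absurd hD ?_
    have h2 := (hA.centA _ h1).eq
    rw [show h * a * h⁻¹ = u * (h * a * h⁻¹ * u) by
      rw [← h2, mul_assoc _ u u, u_sq hA, mul_one]]
    exact hA.cosetA _ h1

/-- if an element of `X` fixes a non-trivial element of `A`, it centralises `A` -/
theorem centA_of_fix (hA : Torus M D u A X q) {x : G} (hx : x ∈ X) {a : G} (ha : a ∈ A) (ha1 : a ≠ 1)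
    (hfix : x * a * x⁻¹ = a) : ∀ b ∈ A, x * b * x⁻¹ = b := by
  intro b hb
  by_cases hb1 : b = 1
  · rw [hb1, mul_one, mul_inv_cancel]
  obtain ⟨y, hy, rfl⟩ := hA.transA a ha b hb ha1 hb1
  have h := (hA.commX x hx y hy).eq
  calc x * (y * a * y⁻¹) * x⁻¹ = x * y * a * (x * y)⁻¹ := by group
    _ = y * x * a * (y * x)⁻¹ := by rw [h]
    _ = y * (x * a * x⁻¹) * y⁻¹ := by group
    _ = y * a * y⁻¹ := by rw [hfix]

/-- an element of `X` which does not centralise `A` fixes only `1` in `T` -/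
theorem noFix (hA : Torus M D u A X q) (hS : State M u A X R T) {x : G} (hx : x ∈ X)
    (hne : ∃ a ∈ A, x * a * x⁻¹ ≠ a) {t : G} (ht : t ∈ T) (hc : Commute x t) : t = 1 := by
  classical
  haveI : Fact (Nat.Prime 2) := ⟨Nat.prime_two⟩
  by_contra ht1
  -- the involution `u` acts on `C_T(x)`
  let C : Subgroup G := T ⊓ centralizer {x}
  haveI : Fintype C := Fintype.ofFinite C
  have hconj : ∀ g ∈ C, u * g * u⁻¹ ∈ C := fun g hg => mem_inf.2 ⟨conj_u_mem hS (mem_inf.1 hg).1,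
    mem_centralizer_singleton_iff.2 (((hA.centX x hx).mul_right
      (show Commute x g from (mem_centralizer_singleton_iff.1 (mem_inf.1 hg).2).symm)).mul_right
      (hA.centX x hx).inv_right).eq.symm⟩
  have hinv : ∀ g : C, u * (u * g.1 * u⁻¹) * u⁻¹ = g.1 := fun g => by
    calc u * (u * g.1 * u⁻¹) * u⁻¹ = (u * u) * g.1 * (u * u)⁻¹ := by group
      _ = g.1 := by rw [u_sq hA, one_mul, inv_one, mul_one]
  let σ : Equiv.Perm C :=
    { toFun := fun g => ⟨u * g.1 * u⁻¹, hconj g.1 g.2⟩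
      invFun := fun g => ⟨u * g.1 * u⁻¹, hconj g.1 g.2⟩
      left_inv := fun g => Subtype.ext (hinv g)
      right_inv := fun g => Subtype.ext (hinv g) }
  have h2 : 2 ∣ Fintype.card C := by
    haveI : Nontrivial C := ⟨⟨⟨t, mem_inf.2 ⟨ht, mem_centralizer_singleton_iff.2 hc.eq.symm⟩⟩, 1,
      fun e => ht1 (congrArg Subtype.val e)⟩⟩
    obtain ⟨k, hk0, hk⟩ := (hS.two.to_le ((inf_le_left : C ≤ T).trans hS.leT)).nontrivial_iff_card.1 inferInstance
    rw [← Nat.card_eq_fintype_card, hk]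
    exact dvd_pow_self 2 hk0.ne'
  have hσ : σ ^ 2 ^ 1 = 1 := by
    ext g
    rw [pow_one, pow_two]
    exact hinv g
  obtain ⟨g, hg, hg1⟩ := σ.exists_fixed_point_of_prime' (p := 2) (n := 1) h2 hσ (a := 1)
    (Subtype.ext (show u * 1 * u⁻¹ = (1 : G) by group))
  have hga : g.1 ∈ A := fix_T hA hS (mem_inf.1 g.2).1
    (mul_inv_eq_iff_eq_mul.1 (congrArg Subtype.val hg)).symm
  obtain ⟨a, ha, hne⟩ := hne
  refine hne (centA_of_fix hA hx hga (fun e => hg1 (Subtype.ext e)) ?_ a ha)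
  rw [show x * g.1 = g.1 * x from (mem_centralizer_singleton_iff.1 (mem_inf.1 g.2).2).symm, mul_inv_cancel_right]

/-- the class in `R` of a conjugate of `u` in `R` has at least `|T| / q` elements -/
theorem card_class (hA : Torus M D u A X q) (hS : State M u A X R T) {w : G} (hw : w ∈ R)
    (hwu : IsConj u w) : Nat.card T ≤ q * ((fun r => r * w * r⁻¹) '' (R : Set G)).ncard := by
  classical
  letI := Fintype.ofFinite G
  set s : Finset G := (R : Set G).toFinset with hs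
  have hcard : s.card = Nat.card R := by
    rw [hs, ← Set.ncard_eq_toFinset_card', ← Nat.card_coe_set_eq, SetLike.coe_sort_coe]
  let C : Subgroup G := R ⊓ centralizer {w}
  have hC : Nat.card C ≤ 2 * q := hA.bound w (hS.le hw) hwu C (inf_le_left.trans hS.le)
    (hS.two.to_le inf_le_left) fun p hp => mem_centralizer_singleton_iff.1 (mem_inf.1 hp).2
  have h1 : s.card ≤ (2 * q) * (s.image fun r => r * w * r⁻¹).card := by
    refine Finset.card_le_mul_card_image s (2 * q) fun b hb => ?_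
    obtain ⟨r₀, hr₀, rfl⟩ := Finset.mem_image.1 hb
    rw [hs, Set.mem_toFinset] at hr₀
    refine le_trans (b := (C : Set G).toFinset.card) ?_ (le_trans (le_of_eq ?_) hC)
    · refine Finset.card_le_card_of_injOn (fun r => r₀⁻¹ * r) (fun r hr => ?_)
        fun r _ r' _ e => mul_left_cancel e
      rw [Finset.mem_coe, Finset.mem_filter, hs, Set.mem_toFinset] at hr
      rw [Finset.mem_coe, Set.mem_toFinset]
      refine mem_inf.2 ⟨mul_mem (inv_mem hr₀) hr.1, mem_centralizer_singleton_iff.2 ?_⟩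
      calc r₀⁻¹ * r * w = r₀⁻¹ * (r * w * r⁻¹) * r := by group
        _ = r₀⁻¹ * (r₀ * w * r₀⁻¹) * r := by rw [hr.2]
        _ = w * (r₀⁻¹ * r) := by group
    · rw [← Set.ncard_eq_toFinset_card', ← Nat.card_coe_set_eq, SetLike.coe_sort_coe]
  rw [hcard, card_R hS] at h1
  have h2 : (s.image fun r => r * w * r⁻¹).card = ((fun r => r * w * r⁻¹) '' (R : Set G)).ncard := by
    rw [← Set.ncard_coe_finset, Finset.coe_image, hs, Set.coe_toFinset]
  rw [h2, mul_assoc] at h1
  exact Nat.le_of_mul_le_mul_left h1 two_pos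

/-- an element of odd order normalising `R` which maps `w` into its class in `R` has a power, not centralising
`A` if it did not, which fixes an element of the class -/
theorem fix_in_class (hS : State M u A X R T) {w : G} {z : G} {p : ℕ} (hp : p.Prime) (hp2 : p ≠ 2)
    {k : ℕ} (hz : z ^ p ^ k = 1) (hzR : z ∈ normalizer (R : Set G))
    (hzw : ∃ r ∈ R, z * w * z⁻¹ = r * w * r⁻¹) : ∃ r ∈ R, Commute z (r * w * r⁻¹) := by
  classical
  haveI : Fact p.Prime := ⟨hp⟩
  let c : Set G := (fun r => r * w * r⁻¹) '' (R : Set G)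
  obtain ⟨r₁, hr₁, e₁⟩ := hzw
  have hinv : ∀ g ∈ c, z * g * z⁻¹ ∈ c := by
    rintro _ ⟨r, hr, rfl⟩
    refine ⟨z * r * z⁻¹ * r₁, mul_mem ((mem_normalizer_iff.1 hzR r).1 hr) hr₁, ?_⟩
    calc z * r * z⁻¹ * r₁ * w * (z * r * z⁻¹ * r₁)⁻¹ = z * r * z⁻¹ * (r₁ * w * r₁⁻¹) * (z * r⁻¹ * z⁻¹) := by group
      _ = z * r * z⁻¹ * (z * w * z⁻¹) * (z * r⁻¹ * z⁻¹) := by rw [e₁]
      _ = z * (r * w * r⁻¹) * z⁻¹ := by group
  have hinvZ : ∀ g ∈ c, ∀ n : ℕ, z ^ n * g * (z ^ n)⁻¹ ∈ c := fun g hg n => by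
    induction n with
    | zero => simpa using hg
    | succ n ih =>
      rw [pow_succ', show z * z ^ n * g * (z * z ^ n)⁻¹ = z * (z ^ n * g * (z ^ n)⁻¹) * z⁻¹ by group]
      exact hinv _ ih
  have hpow : ∀ g : zpowers z, ∃ n : ℕ, z ^ n = (g : G) := fun g => by
    exact (isOfFinOrder_of_finite z).mem_powers_iff_mem_zpowers.2 g.2
  letI : MulAction (zpowers z) c :=
    { smul := fun g x => ⟨(g : G) * x * (g : G)⁻¹, by
        obtain ⟨n, hn⟩ := hpow g
        rw [← hn]
        exact hinvZ x x.2 n⟩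
      one_smul := fun x => Subtype.ext (show (1 : G) * x * (1 : G)⁻¹ = x by simp)
      mul_smul := fun g g' x => Subtype.ext (show (g * g' : G) * x * (g * g' : G)⁻¹ = g * (g' * x * g'⁻¹) * (g : G)⁻¹
        by group; simp [mul_assoc]) }
  have hP : IsPGroup p (zpowers z) := fun g => ⟨k, Subtype.ext (by
    obtain ⟨n, hn⟩ := hpow g
    rw [Subgroup.coe_pow, ← hn, ← pow_mul, mul_comm, pow_mul, hz, one_pow, Subgroup.coe_one])⟩
  have hnd : ¬ p ∣ Nat.card c := by
    intro hd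
    letI : MulAction R G := MulAction.compHom G ((MulAut.toPerm G).comp (MulAut.conj.comp R.subtype))
    have horb : MulAction.orbit R w = c := by
      ext g
      constructor
      · rintro ⟨r, rfl⟩
        exact ⟨r, r.2, rfl⟩
      · rintro ⟨r, hr, rfl⟩
        exact ⟨⟨r, hr⟩, rfl⟩
    haveI : Fact (Nat.Prime 2) := ⟨Nat.prime_two⟩
    obtain ⟨n, hn⟩ := hS.two.card_orbit w
    rw [horb] at hn
    exact hp2 ((Nat.prime_dvd_prime_iff_eq hp Nat.prime_two).1 (hp.dvd_of_dvd_pow (hn ▸ hd)))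
  obtain ⟨⟨g, r, hr, rfl⟩, hfix⟩ := hP.nonempty_fixed_point_of_prime_not_dvd_card (α := c) hnd
  refine ⟨r, hr, ?_⟩
  have h1 : z * (r * w * r⁻¹) * z⁻¹ = r * w * r⁻¹ := congrArg Subtype.val (hfix ⟨z, mem_zpowers z⟩)
  exact mul_inv_eq_iff_eq_mul.1 h1

/-- an element of `X` fixing the class of a conjugate of `u` other than `u`'s centralises `A` -/
theorem centA_of_class (hA : Torus M D u A X q) (hS : State M u A X R T) {w : G} (hw : w ∈ R)
    (hwu : IsConj u w) (hne : ∀ r ∈ R, r * u * r⁻¹ ≠ w) {x : G} (hx : x ∈ X)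
    (hxw : ∃ r ∈ R, x * w * x⁻¹ = r * w * r⁻¹) : ∀ a ∈ A, x * a * x⁻¹ = a := by
  classical
  by_contra hcon
  push Not at hcon
  let E : Subgroup G :=
    { carrier := {g | ∀ a ∈ A, Commute g a}
      one_mem' := fun a _ => Commute.one_left a
      mul_mem' := fun {g h} hg hh a ha => (hg a ha).mul_left (hh a ha)
      inv_mem' := fun {g} hg a ha => (hg a ha).inv_left }
  have hxE : x ∉ E := fun h => by
    obtain ⟨a, ha, hne'⟩ := hcon
    exact hne' (by rw [(h a ha).eq, mul_inv_cancel_right])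
  -- a power of `x` of prime power order outside `E`
  obtain ⟨p, k, z, hp, hzx, hz, hzE⟩ : ∃ p k : ℕ, ∃ z, p.Prime ∧ z ∈ zpowers x ∧ z ^ p ^ k = 1 ∧ z ∉ E := by
    by_contra hall
    push Not at hall
    have key : ∀ n : ℕ, ∀ g ∈ zpowers x, g ^ n = 1 → 0 < n → g ∈ E := by
      intro n
      induction n using Nat.recOnPosPrimePosCoprime with
      | prime_pow p k hp hk => exact fun g hg e _ => hall p k g hp hg e
      | zero => exact fun g _ _ h0 => absurd h0 (lt_irrefl 0)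
      | one => exact fun g _ e _ => by rw [pow_one] at e; exact e ▸ one_mem E
      | coprime a b ha hb hab iha ihb =>
        intro g hg e _
        obtain ⟨i, j, hij⟩ := (Nat.isCoprime_iff_coprime.2 hab)
        have h1 : g ^ b ∈ E := iha (g ^ b) (pow_mem hg b) (by rw [← pow_mul, mul_comm, e]) (by omega)
        have h2 : g ^ a ∈ E := ihb (g ^ a) (pow_mem hg a) (by rw [← pow_mul, e]) (by omega)
        rw [show g = (g ^ a) ^ i * (g ^ b) ^ j by
          rw [← zpow_natCast, ← zpow_natCast, ← zpow_mul, ← zpow_mul, ← zpow_add, mul_comm (a : ℤ),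
            mul_comm (b : ℤ), hij, zpow_one]]
        exact mul_mem (zpow_mem h2 i) (zpow_mem h1 j)
    exact hxE (key (orderOf x) x (mem_zpowers x) (pow_orderOf_eq_one x) (orderOf_pos x))
  have hxX : zpowers x ≤ X := zpowers_le.2 hx
  have hp2 : p ≠ 2 := fun e => by
    have h1 : orderOf (⟨z, hxX hzx⟩ : X) ∣ 2 ^ k := orderOf_dvd_of_pow_eq_one (Subtype.ext (e ▸ hz))
    have h2 := (Nat.Coprime.pow_left k (Nat.coprime_two_left.2 hA.oddX)).symm
    have h3 := Nat.eq_one_of_dvd_coprimes h2 (orderOf_dvd_natCard _) h1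
    have h4 : z = 1 := congrArg Subtype.val (orderOf_eq_one_iff.1 h3)
    exact hzE (h4 ▸ one_mem E)
  have hzw : ∃ r ∈ R, z * w * z⁻¹ = r * w * r⁻¹ := by
    let Q : Subgroup G :=
      { carrier := {g | g ∈ normalizer (R : Set G) ∧ ∃ r ∈ R, g * w * g⁻¹ = r * w * r⁻¹}
        one_mem' := ⟨one_mem _, 1, one_mem R, rfl⟩
        mul_mem' := fun {g h} ⟨hg, r, hr, e⟩ ⟨hh, r', hr', e'⟩ => ⟨mul_mem hg hh, g * r' * g⁻¹ * r,
          mul_mem ((mem_normalizer_iff.1 hg r').1 hr') hr, by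
          calc g * h * w * (g * h)⁻¹ = g * (h * w * h⁻¹) * g⁻¹ := by group
            _ = g * r' * g⁻¹ * (g * w * g⁻¹) * (g * r'⁻¹ * g⁻¹) := by rw [e']; group
            _ = _ := by rw [e]; group⟩
        inv_mem' := fun {g} ⟨hg, r, hr, e⟩ => ⟨inv_mem hg, g⁻¹ * r⁻¹ * g, by
          have := (mem_normalizer_iff.1 (inv_mem hg) r⁻¹).1 (inv_mem hr)
          rwa [inv_inv] at this, by
          calc g⁻¹ * w * g⁻¹⁻¹ = g⁻¹ * r⁻¹ * (r * w * r⁻¹) * r * g := by group
            _ = g⁻¹ * r⁻¹ * (g * w * g⁻¹) * r * g := by rw [e]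
            _ = _ := by group⟩ }
    exact ((zpowers_le.2 (show x ∈ Q from ⟨hS.normR hx, hxw⟩)) hzx).2
  obtain ⟨r, hr, hc⟩ := fix_in_class hS hp hp2 hz (hS.normR (hxX hzx)) hzw
  set w' := r * w * r⁻¹ with hw'
  rcases mem_or hA hS (show w' ∈ R from mul_mem (mul_mem hr hw) (inv_mem hr)) with hT | hT
  · exact hS.noConj _ hT (hwu.trans (isConj_iff.2 ⟨r, rfl⟩))
  have hzne : ∃ a ∈ A, z * a * z⁻¹ ≠ a := by
    by_contra h
    push Not at h
    exact hzE fun a ha => mul_inv_eq_iff_eq_mul.1 (h a ha)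
  have := noFix hA hS (hxX hzx) hzne hT ((hA.centX z (hxX hzx)).mul_right hc)
  have hw'u : w' = u := by rw [eq_inv_of_mul_eq_one_right this, u_inv hA]
  exact hne r⁻¹ (inv_mem hr) (by rw [← hw'u, hw']; group)

/-- a 2-element of `N_M(R)` moves the class of `u` -/
theorem exists_moved (hA : Torus M D u A X q) (hS : State M u A X R T) (S : Sylow 2 G)
    (hSM : (S : Subgroup G) ≤ M) (hRS : R ≤ S) (hne : R ≠ S) :
    ∃ y, y ∈ M ∧ y ∈ normalizer (R : Set G) ∧ ∀ r ∈ R, r * u * r⁻¹ ≠ y * u * y⁻¹ := by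
  haveI : Fact (Nat.Prime 2) := ⟨Nat.prime_two⟩
  haveI := S.2.isNilpotent
  have hlt : R.subgroupOf (S : Subgroup G) < ⊤ := lt_of_le_of_ne le_top fun e =>
    hne (le_antisymm hRS (subgroupOf_eq_top.1 e))
  obtain ⟨y, hy, hyR⟩ := SetLike.exists_of_lt (normalizerCondition_of_isNilpotent _ hlt)
  have hyn : (y : G) ∈ normalizer (R : Set G) := mem_normalizer_iff.2 fun g => by
    constructor
    · intro hg
      exact mem_subgroupOf.1 ((mem_normalizer_iff.1 hy ⟨g, hRS hg⟩).1 (mem_subgroupOf.2 hg))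
    · intro hg
      have hgS : g ∈ (S : Subgroup G) := by
        have := mul_mem (mul_mem (inv_mem y.2) (hRS hg)) y.2
        simpa [mul_assoc] using this
      exact mem_subgroupOf.1 ((mem_normalizer_iff.1 hy ⟨g, hgS⟩).2 (mem_subgroupOf.2 hg))
  refine ⟨y, hSM y.2, hyn, fun r hr e => hyR (mem_subgroupOf.2 ?_)⟩
  set g := r⁻¹ * (y : G) with hg
  have hgc : Commute g u := by
    rw [hg]
    calc r⁻¹ * (y : G) * u = r⁻¹ * ((y : G) * u * (y : G)⁻¹) * y := by group
      _ = r⁻¹ * (r * u * r⁻¹) * y := by rw [e]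
      _ = u * (r⁻¹ * y) := by group
  let P : Subgroup G := (S : Subgroup G) ⊓ centralizer {u}
  have hP : Nat.card P ≤ 2 * q := hA.bound u hA.memM (IsConj.refl u) P (inf_le_left.trans hSM)
    (S.2.to_le inf_le_left) fun p hp => mem_centralizer_singleton_iff.1 (mem_inf.1 hp).2
  have hle : A ⊔ zpowers u ≤ P := sup_le
    (fun a ha => mem_inf.2 ⟨hRS (hS.leT (hS.leA ha)), mem_centralizer_singleton_iff.2 (hA.centA a ha).eq⟩)
    (zpowers_le.2 (mem_inf.2 ⟨hRS hS.mem, mem_centralizer_singleton_iff.2 rfl⟩))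
  have hgP : g ∈ P := mem_inf.2 ⟨mul_mem (inv_mem (hRS hr)) y.2, mem_centralizer_singleton_iff.2 hgc.eq⟩
  rw [← Subgroup.eq_of_le_of_card_ge hle (hP.trans (card_sup hA).ge)] at hgP
  have hgR : g ∈ R := (sup_le (hS.leA.trans hS.leT) (zpowers_le.2 hS.mem)) hgP
  simpa [hg] using mul_mem hr hgR

/-- if an element of `N_{M₀}(R)` moves the class of `u`, then `N_{M₀}(R)` is transitive on `R \ T`, which
consists of conjugates of `u` (`M₀ ≥ M`) -/
theorem all_conj_of_moved (hA : Torus M D u A X q) (hS : State M u A X R T) {M₀ : Subgroup G} (hMM : M ≤ M₀)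
    {y : G} (hyM : y ∈ M₀) (hyn : y ∈ normalizer (R : Set G)) (hyne : ∀ r ∈ R, r * u * r⁻¹ ≠ y * u * y⁻¹)
    {w : G} (hw : w ∈ R) (hwT : w ∉ T) :
    ∃ h, h ∈ M₀ ∧ h ∈ normalizer (R : Set G) ∧ h * u * h⁻¹ = w := by
  classical
  letI := Fintype.ofFinite G
  set w₁ := y * u * y⁻¹ with hw₁
  have hw₁R : w₁ ∈ R := (mem_normalizer_iff.1 hyn u).1 hS.mem
  have hw₁u : IsConj u w₁ := isConj_iff.2 ⟨y, rfl⟩
  haveI : Nontrivial A := Finite.one_lt_card_iff_nontrivial.1 (by rw [hA.card]; have := hA.four; omega)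
  obtain ⟨⟨a₀, ha₀⟩, ha₀'⟩ := exists_ne (1 : A)
  have ha₀1 : a₀ ≠ 1 := fun e => ha₀' (Subtype.ext e)
  choose! g hgX hga using fun a (h : a ∈ A ∧ a ≠ 1) => hA.transA a₀ ha₀ a h.1 ha₀1 h.2
  let rep : G → G := fun a => if a = 1 then u else g a * w₁ * (g a)⁻¹
  let mv : G → G := fun a => if a = 1 then 1 else g a * y
  have hmv : ∀ a ∈ A, mv a ∈ M₀ ∧ mv a ∈ normalizer (R : Set G) ∧ mv a * u * (mv a)⁻¹ = rep a := by
    intro a ha
    by_cases h1 : a = 1
    · simp only [mv, rep, if_pos h1]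
      exact ⟨one_mem M₀, one_mem _, by group⟩
    simp only [mv, rep, if_neg h1]
    have hx := hgX a ⟨ha, h1⟩
    exact ⟨mul_mem (hMM (hA.XleM hx)) hyM, mul_mem (hS.normR hx) hyn, by rw [hw₁]; group⟩
  let F : G → Finset G := fun a => ((fun r => r * rep a * r⁻¹) '' (R : Set G)).toFinset
  have hsub : ∀ a ∈ (A : Set G).toFinset, F a ⊆ ((R : Set G) \ (T : Set G)).toFinset := by
    intro a ha z hz
    rw [Set.mem_toFinset] at ha
    simp only [F, Set.mem_toFinset, Set.mem_image] at hz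
    obtain ⟨r, hr, rfl⟩ := hz
    obtain ⟨-, h2, h3⟩ := hmv a ha
    rw [Set.mem_toFinset, Set.mem_diff, SetLike.mem_coe, SetLike.mem_coe, ← h3,
      show r * (mv a * u * (mv a)⁻¹) * r⁻¹ = r * mv a * u * (r * mv a)⁻¹ by group]
    exact ⟨(mem_normalizer_iff.1 (mul_mem (le_normalizer hr) h2) u).1 hS.mem,
      fun h => hS.noConj _ h (isConj_iff.2 ⟨r * mv a, rfl⟩)⟩
  have hX0 : ∀ a ∈ A, a ≠ 1 → ∀ r ∈ R, ∀ r' ∈ R, r * u * r⁻¹ ≠ r' * rep a * r'⁻¹ := by
    intro a ha h1 r hr r' hr' e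
    simp only [rep, if_neg h1] at e
    have hx := hgX a ⟨ha, h1⟩
    have hxu := (hA.centX _ hx).eq
    refine hyne ((g a)⁻¹ * (r'⁻¹ * r) * g a) ?_ ?_
    · have := (mem_normalizer_iff.1 (inv_mem (hS.normR hx)) (r'⁻¹ * r)).1 (mul_mem (inv_mem hr') hr)
      rwa [inv_inv] at this
    · calc (g a)⁻¹ * (r'⁻¹ * r) * g a * u * ((g a)⁻¹ * (r'⁻¹ * r) * g a)⁻¹
          = (g a)⁻¹ * r'⁻¹ * r * (g a * u * (g a)⁻¹) * r⁻¹ * r' * g a := by group
        _ = (g a)⁻¹ * r'⁻¹ * (r * u * r⁻¹) * r' * g a := by rw [hxu]; group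
        _ = w₁ := by rw [e]; group
  have hdisj : ((A : Set G).toFinset : Set G).PairwiseDisjoint F := by
    intro a ha b hb hab
    rw [Finset.mem_coe, Set.mem_toFinset] at ha hb
    rw [Function.onFun, Finset.disjoint_left]
    intro z hza hzb
    simp only [F, Set.mem_toFinset, Set.mem_image] at hza hzb
    obtain ⟨r, hr, rfl⟩ := hza
    obtain ⟨r', hr', e⟩ := hzb
    by_cases h1 : a = 1
    · subst h1
      simp only [rep, if_pos] at e
      exact hX0 b hb (Ne.symm hab) r hr r' hr' e.symm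
    by_cases h2 : b = 1
    · subst h2
      simp only [rep, if_pos] at e
      exact hX0 a ha h1 r' hr' r hr e
    simp only [rep, if_neg h1, if_neg h2] at e
    have hxa := hgX a ⟨ha, h1⟩
    have hxb := hgX b ⟨hb, h2⟩
    have hx : (g b)⁻¹ * g a ∈ X := mul_mem (inv_mem hxb) hxa
    refine hab ?_
    have hr'' : (g b)⁻¹ * (r⁻¹ * r') * g b ∈ R := by
      have := (mem_normalizer_iff.1 (inv_mem (hS.normR hxb)) (r⁻¹ * r')).1 (mul_mem (inv_mem hr) hr')
      rwa [inv_inv] at this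
    have hcen := centA_of_class hA hS hw₁R hw₁u hyne hx ⟨_, hr'', by
      calc (g b)⁻¹ * g a * w₁ * ((g b)⁻¹ * g a)⁻¹
          = (g b)⁻¹ * r⁻¹ * (r * (g a * w₁ * (g a)⁻¹) * r⁻¹) * r * g b := by group
        _ = (g b)⁻¹ * r⁻¹ * (r' * (g b * w₁ * (g b)⁻¹) * r'⁻¹) * r * g b := by rw [e]
        _ = _ := by group⟩ a₀ ha₀
    calc a = g a * a₀ * (g a)⁻¹ := (hga a ⟨ha, h1⟩).symm
      _ = g b * ((g b)⁻¹ * g a * a₀ * ((g b)⁻¹ * g a)⁻¹) * (g b)⁻¹ := by group
      _ = b := by rw [hcen, hga b ⟨hb, h2⟩]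
  have hF : ∀ a ∈ (A : Set G).toFinset, Nat.card T ≤ q * (F a).card := by
    intro a ha
    rw [Set.mem_toFinset] at ha
    obtain ⟨-, h2, h3⟩ := hmv a ha
    have hR : rep a ∈ R := h3 ▸ (mem_normalizer_iff.1 h2 u).1 hS.mem
    refine (card_class hA hS hR (isConj_iff.2 ⟨mv a, h3⟩)).trans (le_of_eq ?_)
    simp only [F]
    rw [Set.ncard_eq_toFinset_card']
  have hbig : ((R : Set G) \ (T : Set G)).toFinset = (A : Set G).toFinset.biUnion F := by
    symm
    refine Finset.eq_of_subset_of_card_le (Finset.biUnion_subset.2 hsub) ?_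
    have hA' : (A : Set G).toFinset.card = q := by
      rw [← Set.ncard_eq_toFinset_card', ← Nat.card_coe_set_eq, SetLike.coe_sort_coe, hA.card]
    have hRT : ((R : Set G) \ (T : Set G)).toFinset.card = Nat.card T := by
      rw [← Set.ncard_eq_toFinset_card', Set.ncard_diff (fun g hg => hS.leT hg), ← Nat.card_coe_set_eq,
        ← Nat.card_coe_set_eq, SetLike.coe_sort_coe, SetLike.coe_sort_coe, card_R hS]
      omega
    rw [Finset.card_biUnion hdisj, hRT]
    have h1 := Finset.card_nsmul_le_sum (A : Set G).toFinset (fun a => q * (F a).card) _ hF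
    rw [hA', smul_eq_mul, ← Finset.mul_sum] at h1
    exact Nat.le_of_mul_le_mul_left h1 (by have := hA.four; omega)
  have hwm : w ∈ ((R : Set G) \ (T : Set G)).toFinset := Set.mem_toFinset.2 ⟨hw, hwT⟩
  rw [hbig, Finset.mem_biUnion] at hwm
  obtain ⟨a, ha, hz⟩ := hwm
  rw [Set.mem_toFinset] at ha
  simp only [F, Set.mem_toFinset, Set.mem_image] at hz
  obtain ⟨r, hr, e⟩ := hz
  obtain ⟨h1, h2, h3⟩ := hmv a ha
  exact ⟨r * mv a, mul_mem (hMM (hS.le hr)) h1, mul_mem (le_normalizer hr) h2, by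
    rw [← e, ← h3]; group⟩

/-- `N_M(R)` is transitive on `R \ T` below a Sylow subgroup -/
theorem all_conj (hA : Torus M D u A X q) (hS : State M u A X R T) (S : Sylow 2 G)
    (hSM : (S : Subgroup G) ≤ M) (hRS : R ≤ S) (hne : R ≠ S) {w : G} (hw : w ∈ R) (hwT : w ∉ T) :
    ∃ h, h ∈ M ∧ h ∈ normalizer (R : Set G) ∧ h * u * h⁻¹ = w := by
  obtain ⟨y, hyM, hyn, hyne⟩ := exists_moved hA hS S hSM hRS hne
  exact all_conj_of_moved hA hS le_rfl hyM hyn hyne hw hwT

/-- what the transitivity on `R \ T` gives -/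
structure Facts (M : Subgroup G) (u : G) (A R T : Subgroup G) : Prop where
  conj : ∀ w ∈ R, w ∉ T → ∃ h, h ∈ M ∧ h ∈ normalizer (R : Set G) ∧ h * u * h⁻¹ = w
  inverts : ∀ t ∈ T, u * t * u⁻¹ = t⁻¹
  comm : ∀ s ∈ T, ∀ t ∈ T, s * t = t * s
  omega2 : ∀ t ∈ T, t * t = 1 → t ∈ A
  normT : ∀ h ∈ normalizer (R : Set G), ∀ t ∈ T, h * t * h⁻¹ ∈ T

theorem facts_of_moved (hA : Torus M D u A X q) (hS : State M u A X R T) {M₀ : Subgroup G} (hMM : M ≤ M₀)
    {y : G} (hyM : y ∈ M₀) (hyn : y ∈ normalizer (R : Set G)) (hyne : ∀ r ∈ R, r * u * r⁻¹ ≠ y * u * y⁻¹) :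
    Facts M₀ u A R T := by
  have hconj := fun w hw hwT => all_conj_of_moved hA hS hMM hyM hyn hyne (w := w) hw hwT
  have hout : ∀ t ∈ T, u * t ∉ T := fun t ht h => u_notMem hS (by simpa using mul_mem h (inv_mem ht))
  have hinv : ∀ t ∈ T, u * t * u⁻¹ = t⁻¹ := fun t ht => by
    obtain ⟨h, -, -, e⟩ := hconj (u * t) (mul_mem hS.mem (hS.leT ht)) (hout t ht)
    have h1 : u * t * (u * t) = 1 := by
      rw [← e, show h * u * h⁻¹ * (h * u * h⁻¹) = h * (u * u) * h⁻¹ by group, u_sq hA, mul_one,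
        mul_inv_cancel]
    rw [u_inv hA]
    exact eq_inv_of_mul_eq_one_left (by rw [mul_assoc, h1])
  refine ⟨hconj, hinv, fun s hs t ht => ?_, fun t ht h2 => ?_, fun h hn t ht => ?_⟩
  · have h1 := hinv (s * t) (mul_mem hs ht)
    rw [show u * (s * t) * u⁻¹ = (u * s * u⁻¹) * (u * t * u⁻¹) by group, hinv s hs, hinv t ht,
      ← mul_inv_rev, inv_inj] at h1
    exact h1.symm
  · have h1 := hinv t ht
    rw [inv_eq_of_mul_eq_one_right h2] at h1
    exact fix_T hA hS ht (mul_inv_eq_iff_eq_mul.1 h1).symm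
  · have hR : h * t * h⁻¹ ∈ R := (mem_normalizer_iff.1 hn t).1 (hS.leT ht)
    by_contra hT
    obtain ⟨k, -, -, e⟩ := hconj _ hR hT
    exact hS.noConj t ht (isConj_iff.2 ⟨h⁻¹ * k, by
      calc h⁻¹ * k * u * (h⁻¹ * k)⁻¹ = h⁻¹ * (k * u * k⁻¹) * h := by group
        _ = t := by rw [e]; group⟩)

theorem facts (hA : Torus M D u A X q) (hS : State M u A X R T) (S : Sylow 2 G)
    (hSM : (S : Subgroup G) ≤ M) (hRS : R ≤ S) (hne : R ≠ S) : Facts M u A R T := by
  obtain ⟨y, hyM, hyn, hyne⟩ := exists_moved hA hS S hSM hRS hne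
  exact facts_of_moved hA hS le_rfl hyM hyn hyne

end Cfsg.Lib.BenderSE.Crit2.Climb
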