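/-
The classes in `R \ T` of a state of the climb in the criterion, as the group `A`: for `h` in `N_M(R)` the
class of `h u h⁻¹` is a cocycle with values in `A` (notes/s1175_h7_plan.md, W3).
-/
import Cfsg.Agent.BenderSE.Criterion2.StateFacts

set_option autoImplicit false
set_option linter.unusedSectionVars false
set_option linter.style.haveILetI false

namespace Cfsg.Lib.BenderSE.Crit2.Climb

open Subgroup

variable {G : Type*} [Group G] [Finite G] {M : Subgroup G} {D : G → Prop} {u : G} {A X R T : Subgroup G}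
  {q : ℕ}

/-- the map to `A` of the classes of conjugates of `u` in `R`, read at `h u h⁻¹` -/
structure Cls (M : Subgroup G) (u : G) (A R T : Subgroup G) (c : G → G) : Prop where
  mem : ∀ h ∈ normalizer (R : Set G), c h ∈ A
  mul : ∀ h ∈ normalizer (R : Set G), ∀ k ∈ normalizer (R : Set G), c (h * k) = c h * (h * c k * h⁻¹)
  fix : ∀ h ∈ normalizer (R : Set G), c h = 1 → ∃ s ∈ T, Commute (s * h) u
  ofCommute : ∀ h, Commute h u → c h = 1
  ofR : ∀ r ∈ R, c r = 1
  surj : ∀ a ∈ A, ∃ h, h ∈ M ∧ h ∈ normalizer (R : Set G) ∧ c h = a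

theorem exists_cls (hA : Torus M D u A X q) (hS : State M u A X R T) {M₀ : Subgroup G} (F : Facts M₀ u A R T) :
    ∃ c : G → G, Cls M₀ u A R T c := by
  classical
  have hexp : ∃ e : ℕ, ∀ t ∈ T, t ^ 2 ^ e = 1 := by
    haveI : Fact (Nat.Prime 2) := ⟨Nat.prime_two⟩
    obtain ⟨n, hn⟩ := IsPGroup.iff_card.1 (hS.two.to_le hS.leT)
    exact ⟨n, fun t ht => by
      rw [← hn]
      exact congrArg Subtype.val (pow_card_eq_one' (x := (⟨t, ht⟩ : T)))⟩
  haveI : Nontrivial A := Finite.one_lt_card_iff_nontrivial.1 (by rw [hA.card]; have := hA.four; omega)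
  obtain ⟨⟨a₀, ha₀⟩, ha₀'⟩ := exists_ne (1 : A)
  have ha₀1 : a₀ ≠ 1 := fun e => ha₀' (Subtype.ext e)
  obtain ⟨e, he, hmin⟩ : ∃ e : ℕ, (∀ t ∈ T, t ^ 2 ^ (e + 1) = 1) ∧ ∃ t ∈ T, t ^ 2 ^ e ≠ 1 := by
    have h := Nat.find_spec hexp
    rcases h0 : Nat.find hexp with - | e
    · rw [h0] at h
      exact absurd (by simpa using h a₀ (hS.leA ha₀)) ha₀1
    · refine ⟨e, h0 ▸ h, ?_⟩
      have := Nat.find_min hexp (m := e) (by omega)
      push Not at this
      exact this
  let ψ : G → G := fun t => t ^ 2 ^ e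
  have ψmem : ∀ t ∈ T, ψ t ∈ A := fun t ht => F.omega2 _ (pow_mem ht _) (by
    rw [← pow_two, ← pow_mul, ← pow_succ]
    exact he t ht)
  have ψmul : ∀ s ∈ T, ∀ t ∈ T, ψ (s * t) = ψ s * ψ t := fun s hs t ht =>
    (show Commute s t from F.comm s hs t ht).mul_pow _
  have ψconj : ∀ h t : G, ψ (h * t * h⁻¹) = h * ψ t * h⁻¹ := fun h t => conj_pow
  have ψsurj : ∀ a ∈ A, ∃ t ∈ T, ψ t = a := by
    intro a ha
    by_cases ha1 : a = 1
    · exact ⟨1, one_mem T, (one_pow _).trans ha1.symm⟩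
    obtain ⟨t, ht, hne⟩ := hmin
    obtain ⟨x, hx, rfl⟩ := hA.transA _ (ψmem t ht) a ha hne ha1
    exact ⟨x * t * x⁻¹, (mem_normalizer_iff.1 (hS.normT hx) t).1 ht, ψconj x t⟩
  have ψker : ∀ t ∈ T, ψ t = 1 → ∃ s ∈ T, s * s = t := by
    let f : T →* A :=
      { toFun := fun t => ⟨ψ t, ψmem t t.2⟩
        map_one' := Subtype.ext (one_pow _)
        map_mul' := fun s t => Subtype.ext (ψmul s s.2 t t.2) }
    let g : T →* T :=
      { toFun := fun t => t * t
        map_one' := one_mul 1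
        map_mul' := fun s t => Subtype.ext (by
          show (s : G) * t * (s * t) = s * s * (t * t)
          rw [mul_assoc, ← mul_assoc (t : G), F.comm t t.2 s s.2]; group) }
    have hle : g.range ≤ f.ker := by
      rintro _ ⟨t, rfl⟩
      refine MonoidHom.mem_ker.2 (Subtype.ext ?_)
      show ((t : G) * t) ^ 2 ^ e = 1
      rw [← pow_two, ← pow_mul, ← pow_succ']
      exact he t t.2
    have hk : Nat.card g.ker = q := by
      rw [← hA.card]
      refine Nat.card_congr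
        { toFun := fun t => ⟨t.1.1, F.omega2 _ t.1.2 (congrArg Subtype.val (MonoidHom.mem_ker.1 t.2))⟩
          invFun := fun a => ⟨⟨a.1, hS.leA a.2⟩, MonoidHom.mem_ker.2 (Subtype.ext (hA.elem a a.2))⟩
          left_inv := fun t => rfl
          right_inv := fun a => rfl }
    have hr : Nat.card f.range = q := by
      rw [MonoidHom.range_eq_top.2 fun a => by
        obtain ⟨t, ht, h⟩ := ψsurj a a.2
        exact ⟨⟨t, ht⟩, Subtype.ext h⟩, card_top, hA.card]
    have h1 := g.ker.card_mul_index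
    have h2 := f.ker.card_mul_index
    rw [index_ker, hk] at h1
    rw [index_ker, hr, ← h1, mul_comm] at h2
    have heq := Subgroup.eq_of_le_of_card_ge hle
      (le_of_eq (Nat.eq_of_mul_eq_mul_left (by have := hA.four; omega) h2))
    intro t ht h
    obtain ⟨s, hs⟩ : (⟨t, ht⟩ : T) ∈ g.range := heq ▸ MonoidHom.mem_ker.2 (Subtype.ext h)
    exact ⟨s, s.2, congrArg Subtype.val hs⟩
  have hu := u_sq hA
  have hmemT : ∀ h ∈ normalizer (R : Set G), u * (h * u * h⁻¹) ∈ T := fun h hh =>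
    (mem_or hA hS ((mem_normalizer_iff.1 hh u).1 hS.mem)).resolve_left
      fun h' => hS.noConj _ h' (isConj_iff.2 ⟨h, rfl⟩)
  have hus : ∀ s ∈ T, u * s = s⁻¹ * u := fun s hs => mul_inv_eq_iff_eq_mul.1 (F.inverts s hs)
  refine ⟨fun h => ψ (u * (h * u * h⁻¹)), ⟨fun h hh => ψmem _ (hmemT h hh), fun h hh k hk => ?_,
    fun h hh hc => ?_, fun h hh => ?_, fun r hr => ?_, fun a ha => ?_⟩⟩
  · show ψ _ = ψ _ * (h * ψ _ * h⁻¹)
    rw [← ψconj, ← ψmul _ (hmemT h hh) _ (F.normT h hh _ (hmemT k hk))]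
    refine congrArg ψ ?_
    calc u * (h * k * u * (h * k)⁻¹) = u * (h * (1 * (k * u * k⁻¹)) * h⁻¹) := by group
      _ = u * (h * (u * u * (k * u * k⁻¹)) * h⁻¹) := by rw [hu]
      _ = u * (h * u * h⁻¹) * (h * (u * (k * u * k⁻¹)) * h⁻¹) := by group
  · obtain ⟨s, hs, e⟩ := ψker _ (hmemT h hh) hc
    refine ⟨s, hs, ?_⟩
    show s * h * u = u * (s * h)
    calc s * h * u = s * (u * u) * (h * u * h⁻¹) * h := by rw [hu]; group
      _ = s * u * (u * (h * u * h⁻¹)) * h := by group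
      _ = s * u * (s * s) * h := by rw [e]
      _ = s * (u * s) * s * h := by group
      _ = u * (s * h) := by rw [hus s hs]; group
  · show (u * (h * u * h⁻¹)) ^ 2 ^ e = 1
    rw [hh.eq, mul_inv_cancel_right, hu, one_pow]
  · show ψ _ = 1
    have hsq : ∀ s ∈ T, ψ (s * s) = 1 := fun s hs => by
      show (s * s) ^ 2 ^ e = 1
      rw [← pow_two, ← pow_mul, ← pow_succ']
      exact he s hs
    rcases mem_or hA hS hr with h | h
    · rw [show u * (r * u * r⁻¹) = u * r * u⁻¹ * r⁻¹ by rw [u_inv hA]; group, F.inverts r h]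
      exact hsq r⁻¹ (inv_mem h)
    · obtain ⟨t, ht, rfl⟩ : ∃ t ∈ T, r = u * t := ⟨u * r, h, by rw [← mul_assoc, hu, one_mul]⟩
      have h1 : u * t⁻¹ * u⁻¹ = t := by
        rw [F.inverts _ (inv_mem ht), inv_inv]
      rw [show u * (u * t * u * (u * t)⁻¹) = u * u * t * (u * t⁻¹ * u⁻¹) by group, hu, h1, one_mul]
      exact hsq t ht
  · obtain ⟨t, ht, rfl⟩ := ψsurj a ha
    obtain ⟨h, h1, h2, h3⟩ := F.conj (u * t) (mul_mem hS.mem (hS.leT ht))
      fun h => u_notMem hS (by simpa using mul_mem h (inv_mem ht))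
    exact ⟨h, h1, h2, by
      show ψ _ = _
      rw [h3, ← mul_assoc, hu, one_mul]⟩

end Cfsg.Lib.BenderSE.Crit2.Climb
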