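/-
The kernel of `N_M(R)` on `A` at a state of the climb in the criterion: how the elements centralising `u`
act on `T`, and, for `q ≠ 8`, that the kernel translates the classes of `R \ T` (Singer lemma).
-/
import Cfsg.Agent.BenderSE.Criterion2.StepMap
import Cfsg.Agent.BenderSE.Criterion2.Singer

set_option autoImplicit false
set_option linter.unusedSectionVars false
set_option linter.style.haveILetI false

namespace Cfsg.Lib.BenderSE.Crit2.Climb

open Subgroup

variable {G : Type*} [Group G] [Finite G] {M : Subgroup G} {D : G → Prop} {u : G} {A X R T : Subgroup G}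
  {q : ℕ} {c : G → G}

/-- the kernel of `N_M(R)` on `A` -/
def ker (M A R : Subgroup G) : Subgroup G where
  carrier := {g | g ∈ M ∧ g ∈ normalizer (R : Set G) ∧ ∀ a ∈ A, Commute g a}
  one_mem' := ⟨one_mem M, one_mem _, fun a _ => Commute.one_left a⟩
  mul_mem' := fun {g h} hg hh => ⟨mul_mem hg.1 hh.1, mul_mem hg.2.1 hh.2.1,
    fun a ha => (hg.2.2 a ha).mul_left (hh.2.2 a ha)⟩
  inv_mem' := fun {g} hg => ⟨inv_mem hg.1, inv_mem hg.2.1, fun a ha => (hg.2.2 a ha).inv_left⟩

theorem mem_ker {g : G} :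
    g ∈ ker M A R ↔ g ∈ M ∧ g ∈ normalizer (R : Set G) ∧ ∀ a ∈ A, Commute g a := Iff.rfl

theorem le_ker (hS : State M u A X R T) : R ≤ ker M A R :=
  fun r hr => mem_ker.2 ⟨hS.le hr, le_normalizer hr, fun a ha => (hS.centre a ha r hr).symm⟩

/-- a power of odd exponent of an element centralising `u` lies in `A⟨u⟩` -/
theorem odd_power (hA : Torus M D u A X q) (hS : State M u A X R T) {g : G} (hgM : g ∈ M)
    (hgu : Commute g u) (hgA : g ∈ normalizer (A : Set G)) : ∃ m : ℕ, Odd m ∧ g ^ m ∈ A ⊔ zpowers u := by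
  obtain ⟨k, m, hm, hkm⟩ := Nat.exists_eq_two_pow_mul_odd (orderOf_pos g).ne'
  refine ⟨m, hm, ?_⟩
  set g₂ := g ^ m with hg₂
  have h2 : IsPGroup 2 (zpowers g₂) := fun x => ⟨k, by
    obtain ⟨i, hi⟩ := mem_zpowers_iff.1 x.2
    refine Subtype.ext ?_
    rw [Subgroup.coe_pow, Subgroup.coe_one, ← hi, ← zpow_natCast, ← zpow_mul, mul_comm, zpow_mul,
      zpow_natCast, hg₂, ← pow_mul, mul_comm, ← hkm, pow_orderOf_eq_one, one_zpow]⟩
  have hB : IsPGroup 2 (A ⊔ zpowers u : Subgroup G) :=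
    hS.two.to_le (sup_le (hS.leA.trans hS.leT) (zpowers_le.2 hS.mem))
  have hg₂u : Commute g₂ u := hgu.pow_left m
  have hg₂n : zpowers g₂ ≤ normalizer ((A ⊔ zpowers u : Subgroup G) : Set G) := by
    refine zpowers_le.2 (mem_normalizer_iff.2 fun z => ?_)
    rw [mem_sup hA, mem_sup hA, show g₂ * z * g₂⁻¹ * u = g₂ * (z * u) * g₂⁻¹ by
      rw [mul_assoc, hg₂u.inv_left.eq]; group]
    exact or_congr (mem_normalizer_iff.1 (pow_mem hgA m) z) (mem_normalizer_iff.1 (pow_mem hgA m) (z * u))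
  let P : Subgroup G := (A ⊔ zpowers u) ⊔ zpowers g₂
  have hPu : P ≤ M ⊓ centralizer {u} := sup_le (sup_le
      (fun a ha => mem_inf.2 ⟨hA.leM ha, mem_centralizer_singleton_iff.2 (hA.centA a ha).eq⟩)
      (zpowers_le.2 (mem_inf.2 ⟨hA.memM, mem_centralizer_singleton_iff.2 rfl⟩)))
    (zpowers_le.2 (mem_inf.2 ⟨pow_mem hgM m, mem_centralizer_singleton_iff.2 hg₂u.eq⟩))
  have hP := hA.bound u hA.memM (IsConj.refl u) P (hPu.trans inf_le_left)
    (hB.to_sup_of_normal_left' h2 hg₂n)
    fun p hp => mem_centralizer_singleton_iff.1 (mem_inf.1 (hPu hp)).2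
  rw [Subgroup.eq_of_le_of_card_ge (le_sup_left : A ⊔ zpowers u ≤ P) (hP.trans (card_sup hA).ge)]
  exact mem_sup_right (mem_zpowers g₂)

/-- elements fixing `A`, one of whose odd powers fixes `T`, fix `T` -/
theorem trivial_of_odd (hS : State M u A X R T) (F : Facts M u A R T) {g : G}
    (hg : g ∈ normalizer (R : Set G)) (hgA : ∀ a ∈ A, Commute g a) {m : ℕ} (hm : Odd m)
    (hgm : ∀ t ∈ T, Commute (g ^ m) t) : ∀ t ∈ T, Commute g t := by
  haveI : Fact (Nat.Prime 2) := ⟨Nat.prime_two⟩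
  obtain ⟨n, hn⟩ := IsPGroup.iff_card.1 (hS.two.to_le hS.leT)
  suffices key : ∀ i : ℕ, ∀ t ∈ T, t ^ 2 ^ i = 1 → Commute g t from fun t ht => key n t ht (by
    rw [← hn]
    exact congrArg Subtype.val (pow_card_eq_one' (x := (⟨t, ht⟩ : T))))
  intro i
  induction i with
  | zero => exact fun t _ h => by rw [pow_zero, pow_one] at h; exact h ▸ Commute.one_right g
  | succ i ih =>
    intro t ht h
    have h2 : Commute g (t * t) := ih _ (mul_mem ht ht) (by rw [← pow_two, ← pow_mul, ← pow_succ']; exact h)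
    set a := g * t * g⁻¹ * t⁻¹ with ha
    have hgt : g * t * g⁻¹ ∈ T := F.normT g hg t ht
    have haA : a ∈ A := F.omega2 a (mul_mem hgt (inv_mem ht)) (by
      rw [ha, mul_assoc _ t⁻¹, ← mul_assoc t⁻¹, F.comm t⁻¹ (inv_mem ht) _ hgt,
        show g * t * g⁻¹ * (g * t * g⁻¹ * t⁻¹ * t⁻¹) = g * (t * t) * g⁻¹ * (t * t)⁻¹ by group,
        h2.eq, mul_inv_cancel_right, mul_inv_cancel])
    have hit : ∀ k : ℕ, g ^ k * t * (g ^ k)⁻¹ = a ^ k * t := fun k => by
      induction k with
      | zero => simp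
      | succ k hk =>
        rw [pow_succ' g, show g * g ^ k * t * (g * g ^ k)⁻¹ = g * (g ^ k * t * (g ^ k)⁻¹) * g⁻¹ by group, hk,
          show g * (a ^ k * t) * g⁻¹ = (g * a ^ k) * g⁻¹ * (g * t * g⁻¹) by group,
          ((hgA a haA).pow_right k).eq, mul_inv_cancel_right, show g * t * g⁻¹ = a * t by rw [ha]; group,
          ← mul_assoc, ← pow_succ]
    have h3 := hit m
    rw [(hgm t ht).eq, mul_inv_cancel_right, eq_comm, mul_eq_right] at h3
    obtain ⟨j, rfl⟩ := hm
    rw [pow_succ, pow_mul, pow_two, hS.centre a haA a (hS.leT (hS.leA haA)) |>.eq,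
      show a * a = 1 by
        have := F.inverts a (hS.leA haA)
        rw [(show Commute u a from (hS.centre a haA u hS.mem).symm).eq, mul_inv_cancel_right] at this
        exact eq_inv_iff_mul_eq_one.1 this, one_pow, one_mul] at h3
    exact mul_inv_eq_iff_eq_mul.1 (mul_inv_eq_one.1 (ha ▸ h3))

/-- an element of `C(u)` centralising `A` centralises or inverts `T` -/
theorem act_T (hA : Torus M D u A X q) (hS : State M u A X R T) (F : Facts M u A R T) {d : G}
    (hdM : d ∈ M) (hdR : d ∈ normalizer (R : Set G)) (hdu : Commute d u) (hdA : ∀ a ∈ A, Commute d a) :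
    (∀ t ∈ T, d * t * d⁻¹ = t) ∨ ∀ t ∈ T, d * t * d⁻¹ = t⁻¹ := by
  obtain ⟨m, hm, hdm⟩ := odd_power hA hS hdM hdu (mem_normalizer_iff.2 fun z => by
    constructor
    · intro hz
      rw [(hdA z hz).eq, mul_inv_cancel_right]
      exact hz
    · intro hz
      have h := (hdA _ hz).eq
      have : d * z * d⁻¹ = z := by
        calc d * z * d⁻¹ = d⁻¹ * (d * (d * z * d⁻¹)) := by group
          _ = d⁻¹ * (d * z * d⁻¹ * d) := by rw [h]
          _ = z := by group
      rwa [this] at hz)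
  have hcases : (∀ t ∈ T, d ^ m * t * (d ^ m)⁻¹ = t) ∨ ∀ t ∈ T, d ^ m * t * (d ^ m)⁻¹ = t⁻¹ := by
    rcases (mem_sup hA).1 hdm with h | h
    · exact Or.inl fun t ht => by rw [(hS.centre _ h t (hS.leT ht)).eq, mul_inv_cancel_right]
    · refine Or.inr fun t ht => ?_
      rw [show d ^ m * t * (d ^ m)⁻¹ = d ^ m * u * (u⁻¹ * t * u⁻¹⁻¹) * (d ^ m * u)⁻¹ by group, u_inv hA,
        F.inverts t ht, (hS.centre _ h _ (hS.leT (inv_mem ht))).eq, mul_inv_cancel_right]
  have hd2 : ∀ t ∈ T, Commute (d ^ 2) t := by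
    refine trivial_of_odd hS F (pow_mem hdR 2) (fun a ha => (hdA a ha).pow_left 2) hm fun t ht => ?_
    rw [← pow_mul, mul_comm, pow_mul, pow_two]
    refine mul_inv_eq_iff_eq_mul.1 ?_
    rw [show d ^ m * d ^ m * t * (d ^ m * d ^ m)⁻¹ = d ^ m * (d ^ m * t * (d ^ m)⁻¹) * (d ^ m)⁻¹ by group]
    rcases hcases with h | h
    · rw [h t ht, h t ht]
    · rw [h t ht, h _ (inv_mem ht), inv_inv]
  obtain ⟨j, rfl⟩ := hm
  have hd : ∀ t ∈ T, d ^ (2 * j + 1) * t * (d ^ (2 * j + 1))⁻¹ = d * t * d⁻¹ := fun t ht => by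
    rw [pow_succ', pow_mul, show d * (d ^ 2) ^ j * t * (d * (d ^ 2) ^ j)⁻¹ =
      d * ((d ^ 2) ^ j * t * ((d ^ 2) ^ j)⁻¹) * d⁻¹ by group, ((hd2 t ht).pow_left j).eq, mul_inv_cancel_right]
  rcases hcases with h | h
  · exact Or.inl fun t ht => (hd t ht).symm.trans (h t ht)
  · exact Or.inr fun t ht => (hd t ht).symm.trans (h t ht)

section Singer

open MulAction

/-- conjugation of `N_M(R)` on `A` -/
def actA (hA : Torus M D u A X q) (hS : State M u A X R T) :
    (M ⊓ normalizer (R : Set G) : Subgroup G) →* MulAut A where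
  toFun h :=
    { toFun := fun a => ⟨h.1 * a.1 * h.1⁻¹, norm_A hA hS (mem_inf.1 h.2).2 a.2⟩
      invFun := fun a => ⟨h.1⁻¹ * a.1 * h.1⁻¹⁻¹, norm_A hA hS (inv_mem (mem_inf.1 h.2).2) a.2⟩
      left_inv := fun a => Subtype.ext (by
        show h.1⁻¹ * (h.1 * a.1 * h.1⁻¹) * h.1⁻¹⁻¹ = a.1
        group)
      right_inv := fun a => Subtype.ext (by
        show h.1 * (h.1⁻¹ * a.1 * h.1⁻¹⁻¹) * h.1⁻¹ = a.1
        group)
      map_mul' := fun a b => Subtype.ext (by
        show h.1 * (a.1 * b.1) * h.1⁻¹ = h.1 * a.1 * h.1⁻¹ * (h.1 * b.1 * h.1⁻¹)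
        group) }
  map_one' := by
    ext a
    show (1 : G) * a.1 * (1 : G)⁻¹ = a.1
    group
  map_mul' h k := by
    ext a
    show h.1 * k.1 * a.1 * (h.1 * k.1)⁻¹ = h.1 * (k.1 * a.1 * k.1⁻¹) * h.1⁻¹
    group

theorem actA_apply (hA : Torus M D u A X q) (hS : State M u A X R T)
    (h : (M ⊓ normalizer (R : Set G) : Subgroup G)) (a : A) :
    (actA hA hS h a : G) = h.1 * a.1 * h.1⁻¹ := rfl

theorem actA_eq_one (hA : Torus M D u A X q) (hS : State M u A X R T)
    (h : (M ⊓ normalizer (R : Set G) : Subgroup G)) : actA hA hS h = 1 ↔ h.1 ∈ ker M A R := by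
  rw [mem_ker]
  constructor
  · intro e
    refine ⟨(mem_inf.1 h.2).1, (mem_inf.1 h.2).2, fun a ha => mul_inv_eq_iff_eq_mul.1 ?_⟩
    have := congrArg Subtype.val (DFunLike.congr_fun e (⟨a, ha⟩ : A))
    exact this
  · rintro ⟨-, -, hc⟩
    ext a
    show h.1 * a.1 * h.1⁻¹ = a.1
    rw [(hc a.1 a.2).eq, mul_inv_cancel_right]

/-- a centraliser of an involution in the group of the Singer lemma has order 8 -/
theorem card_centralizer_involution {L : Type*} [Group L] [Finite L] {V : Type*} [AddCommGroup V] [Finite V]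
    [DistribMulAction L V] {Ω : Type*} [MulAction L Ω] [Finite Ω] {X' : Subgroup L} {o : Ω}
    (h : Singer.Data V X' o) {s : L} (hs : orderOf s = 2) : Nat.card (centralizer ({s} : Set L)) = 8 := by
  obtain ⟨p, ρ, t, b, hp, hp2, hρ, ht, hinv, hb, hρa, hρb, htab⟩ := Singer.exists_pair h
  have P : Singer.Pair V X' o b p ρ t := ⟨h, hp, hp2, hρ, ht, hinv, hb, hρa, hρb, htab⟩
  rw [P.card_centralizer hs, P.eq_three]
  norm_num

/-- the kernel on `A` translates the classes, or `q = 8` and the centraliser of an involution in the group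
induced on `A` has order 8 -/
theorem translation_or (hA : Torus M D u A X q) (hS : State M u A X R T) (F : Facts M u A R T)
    (hc : Cls M u A R T c) : (∃ k ∈ ker M A R, c k ≠ 1) ∨ (q = 8 ∧ ∀ g : (actA hA hS).range, orderOf g = 2 →
      Nat.card (centralizer ({g} : Set (actA hA hS).range)) = 8) := by
  classical
  refine or_iff_not_imp_left.2 fun hall => ?_
  push Not at hall
  let H : Subgroup G := M ⊓ normalizer (R : Set G)
  let f : H →* MulAut A := actA hA hS
  have hcw : ∀ h k : H, f h = f k → c h.1 = c k.1 := fun h k e => by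
    have h1 : (h⁻¹ * k).1 ∈ ker M A R := (actA_eq_one hA hS (h⁻¹ * k)).1 (by
      show f (h⁻¹ * k) = 1
      rw [map_mul, map_inv, e, inv_mul_cancel])
    have h2 := hc.mul h.1 (mem_inf.1 h.2).2 _ (mem_inf.1 (h⁻¹ * k).2).2
    rw [hall _ h1, mul_one, mul_inv_cancel, mul_one] at h2
    rw [← h2]
    simp
  let L := f.range
  letI : CommGroup A :=
    { (inferInstance : Group A) with
      mul_comm := fun a b => Subtype.ext (hS.centre a.1 a.2 b.1 (hS.leT (hS.leA b.2))).eq }
  letI : DistribMulAction L (Additive A) :=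
    { smul := fun g v => Additive.ofMul (g.1 v.toMul)
      one_smul := fun v => rfl
      mul_smul := fun g g' v => rfl
      smul_zero := fun g => congrArg Additive.ofMul (map_one g.1)
      smul_add := fun g v w => congrArg Additive.ofMul (map_mul g.1 v.toMul w.toMul) }
  let lift : L → H := fun g => Classical.choose g.2
  have hlift : ∀ g : L, f (lift g) = g.1 := fun g => Classical.choose_spec g.2
  let cL : L → A := fun g => ⟨c (lift g).1, hc.mem _ (mem_inf.1 (lift g).2).2⟩
  have hcL : ∀ (g : L) (h : H), f h = g.1 → (cL g : G) = c h.1 := fun g h e =>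
    hcw _ _ ((hlift g).trans e.symm)
  letI : MulAction L A :=
    { smul := fun g a => cL g * g.1 a
      one_smul := fun a => by
        show cL 1 * (1 : MulAut A) a = a
        have : cL 1 = 1 := Subtype.ext (by
          rw [hcL 1 1 (map_one f)]
          exact hc.ofCommute _ (Commute.one_left u))
        rw [this, one_mul]
        rfl
      mul_smul := fun g g' a => by
        show cL (g * g') * (g.1 * g'.1) a = cL g * g.1 (cL g' * g'.1 a)
        rw [map_mul, ← mul_assoc]
        have : cL (g * g') = cL g * g.1 (cL g') := Subtype.ext (by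
          rw [hcL (g * g') (lift g * lift g') (by rw [map_mul, hlift, hlift]; rfl), Subgroup.coe_mul,
            hc.mul _ (mem_inf.1 (lift g).2).2 _ (mem_inf.1 (lift g').2).2, Subgroup.coe_mul, ← hlift g]
          rfl)
        rw [this]
        rfl }
  let xH : X →* H := Subgroup.inclusion fun x hx => mem_inf.2 ⟨hA.XleM hx, hS.normR hx⟩
  let xb : Subgroup L := (f.rangeRestrict.comp xH).range
  have hstab : ∀ g : L, g ∈ stabilizer L (1 : A) ↔ (cL g : G) = 1 := fun g => by
    show cL g * g.1 1 = 1 ↔ _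
    rw [map_one, mul_one]
    exact Subtype.ext_iff
  have hcentre : ∀ g : L, g ∈ stabilizer L (1 : A) → ∃ k : H, f k = g.1 ∧ Commute k.1 u := by
    intro g hg
    obtain ⟨s, hs, hsu⟩ := hc.fix _ (mem_inf.1 (lift g).2).2 ((hstab g).1 hg)
    have hsK := le_ker hS (hS.leT hs)
    refine ⟨⟨s, mem_inf.2 ⟨hsK.1, hsK.2.1⟩⟩ * lift g, ?_, hsu⟩
    rw [map_mul, hlift, show f ⟨s, mem_inf.2 ⟨hsK.1, hsK.2.1⟩⟩ = 1 from (actA_eq_one hA hS _).2 hsK, one_mul]
  haveI : Nontrivial A := Finite.one_lt_card_iff_nontrivial.1 (by rw [hA.card]; have := hA.four; omega)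
  have hdata : Singer.Data (Additive A) xb (1 : A) :=
    { faithful := fun g hg => Subtype.ext (MulEquiv.ext fun a => Additive.ofMul.injective (hg (Additive.ofMul a)))
      two := fun v => congrArg Additive.ofMul (Subtype.ext (hA.elem _ v.toMul.2) : v.toMul * v.toMul = 1)
      pre := (isPretransitive_iff_base (1 : A)).2 fun a => by
        obtain ⟨h, h1, h2, h3⟩ := hc.surj a.1 a.2
        let h' : H := ⟨h, mem_inf.2 ⟨h1, h2⟩⟩
        refine ⟨⟨f h', h', rfl⟩, ?_⟩
        show cL _ * f h' 1 = a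
        rw [map_one, mul_one]
        exact Subtype.ext ((hcL _ h' rfl).trans h3)
      card := rfl
      nontriv := exists_ne (0 : Additive A)
      le := by
        rintro _ ⟨x, rfl⟩
        exact (hstab _).2 ((hcL _ (xH x) rfl).trans (hc.ofCommute _ (hA.centX x.1 x.2)))
      normal := by
        have key : ∀ g ∈ stabilizer L (1 : A), ∀ x ∈ xb, g * x * g⁻¹ ∈ xb := by
          rintro g hg _ ⟨x, rfl⟩
          obtain ⟨k, hk, hku⟩ := hcentre g hg
          have hkA : k.1 ∈ normalizer (A : Set G) := by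
            refine mem_normalizer_iff.2 fun a => ⟨fun ha => norm_A hA hS (mem_inf.1 k.2).2 ha, fun ha => ?_⟩
            have := norm_A hA hS (inv_mem (mem_inf.1 k.2).2) ha
            rwa [show k.1⁻¹ * (k.1 * a * k.1⁻¹) * k.1⁻¹⁻¹ = a by group] at this
          obtain ⟨y, hy, hxy⟩ := hA.semilinear k.1 (mem_inf.1 k.2).1 hku hkA x.1 x.2
          refine ⟨⟨y, hy⟩, Subtype.ext ?_⟩
          show f (xH ⟨y, hy⟩) = g.1 * f (xH x) * g.1⁻¹
          rw [← hk, ← map_inv, ← map_mul, ← map_mul]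
          ext a
          exact (hxy a.1 a.2).symm
        intro g hg
        refine mem_normalizer_iff.2 fun x => ⟨key g hg x, fun hx => ?_⟩
        have := key g⁻¹ (inv_mem hg) _ hx
        rwa [show g⁻¹ * (g * x * g⁻¹) * g⁻¹⁻¹ = x by group] at this
      comm := by
        rintro _ ⟨x, rfl⟩ _ ⟨y, rfl⟩
        rw [← map_mul, ← map_mul]
        exact congrArg _ (Subtype.ext (hA.commX x.1 x.2 y.1 y.2).eq)
      trans := by
        intro v w hv hw
        obtain ⟨x, hx, e⟩ := hA.transA _ v.toMul.2 _ w.toMul.2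
          (fun e => hv (congrArg Additive.ofMul (Subtype.ext e : v.toMul = 1)))
          (fun e => hw (congrArg Additive.ofMul (Subtype.ext e : w.toMul = 1)))
        exact ⟨_, ⟨⟨x, hx⟩, rfl⟩, congrArg Additive.ofMul (Subtype.ext e : f (xH ⟨x, hx⟩) v.toMul = w.toMul)⟩
      semireg := by
        rintro _ ⟨x, rfl⟩ hne b hb hfix
        refine hne (Subtype.ext ((actA_eq_one hA hS _).2 (mem_ker.2 ⟨hA.XleM x.2, hS.normR x.2, ?_⟩)))
        have h1 : cL ⟨f (xH x), xH x, rfl⟩ = 1 :=
          Subtype.ext ((hcL _ (xH x) rfl).trans (hc.ofCommute _ (hA.centX x.1 x.2)))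
        change cL ⟨f (xH x), xH x, rfl⟩ * f (xH x) b = b at hfix
        rw [h1, one_mul] at hfix
        have h2 := centA_of_fix hA x.2 b.2 (fun e => hb (Subtype.ext e)) (congrArg Subtype.val hfix)
        exact fun a ha => mul_inv_eq_iff_eq_mul.1 (h2 a ha)
      odd := by
        rw [← Nat.not_even_iff_odd, even_iff_two_dvd]
        intro h2
        haveI : Fact (Nat.Prime 2) := ⟨Nat.prime_two⟩
        obtain ⟨g, hg⟩ := exists_prime_orderOf_dvd_card' 2 h2
        obtain ⟨k, hk, hku⟩ := hcentre g.1 g.2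
        have hkA : k.1 ∈ normalizer (A : Set G) := by
          refine mem_normalizer_iff.2 fun a => ⟨fun ha => norm_A hA hS (mem_inf.1 k.2).2 ha, fun ha => ?_⟩
          have := norm_A hA hS (inv_mem (mem_inf.1 k.2).2) ha
          rwa [show k.1⁻¹ * (k.1 * a * k.1⁻¹) * k.1⁻¹⁻¹ = a by group] at this
        obtain ⟨m, hm, hkm⟩ := odd_power hA hS (mem_inf.1 k.2).1 hku hkA
        have hkK : (k ^ m : H).1 ∈ ker M A R := by
          rw [Subgroup.coe_pow]
          exact le_ker hS ((sup_le (hS.leA.trans hS.leT) (zpowers_le.2 hS.mem)) hkm)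
        have h3 : g ^ m = 1 := Subtype.ext (Subtype.ext (by
          rw [Subgroup.coe_pow, Subgroup.coe_pow, ← hk, ← map_pow]
          exact (actA_eq_one hA hS _).2 hkK))
        have h4 := orderOf_dvd_of_pow_eq_one h3
        rw [hg] at h4
        exact Nat.not_even_iff_odd.2 hm (even_iff_two_dvd.2 h4) }
  exact ⟨hA.card.symm.trans ((Nat.card_congr Additive.ofMul).trans (Singer.card_eq_eight hdata)),
    fun g hg => card_centralizer_involution hdata hg⟩

/-- for `q ≠ 8` the kernel on `A` translates the classes -/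
theorem exists_translation (hA : Torus M D u A X q) (hS : State M u A X R T) (F : Facts M u A R T)
    (hc : Cls M u A R T c) (hq8 : q ≠ 8) : ∃ k ∈ ker M A R, c k ≠ 1 :=
  (translation_or hA hS F hc).resolve_right fun h => hq8 h.1

end Singer

end Cfsg.Lib.BenderSE.Crit2.Climb
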