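/-
W3 of the climb in the criterion (notes/s1175_h7_plan.md): above a state which is not a Sylow 2-subgroup
there is a step, the torus replaced by a cyclic one with the same action on the state.
-/
import Cfsg.Agent.BenderSE.Criterion2.StepKernel
import Cfsg.Agent.TICount.Common

set_option autoImplicit false
set_option linter.unusedSectionVars false
set_option linter.style.haveILetI false

namespace Cfsg.Lib.BenderSE.Crit2.Climb

open Subgroup

variable {G : Type*} [Group G] [Finite G] {M : Subgroup G} {D : G → Prop} {u : G} {A X R T : Subgroup G}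
  {q : ℕ}

theorem isPGroup_A (hS : State M u A X R T) : IsPGroup 2 A := hS.two.to_le (hS.leA.trans hS.leT)

/-- `g` and `h` act alike on a subgroup -/
def Same (B : Subgroup G) (g h : G) : Prop := ∀ b ∈ B, g * b * g⁻¹ = h * b * h⁻¹

/-- one element of `X` gives the action of all of them on `A` -/
theorem exists_generator (hA : Torus M D u A X q) (hS : State M u A X R T) :
    ∃ x ∈ X, ∀ y ∈ X, ∃ n : ℕ, Same A y (x ^ n) := by
  classical
  letI : CommGroup A :=
    { (inferInstance : Group A) with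
      mul_comm := fun a b => Subtype.ext (hS.centre a.1 a.2 b.1 (hS.leT (hS.leA b.2))).eq }
  let xH : X →* (M ⊓ normalizer (R : Set G) : Subgroup G) :=
    Subgroup.inclusion fun x hx => mem_inf.2 ⟨hA.XleM hx, hS.normR hx⟩
  let φ := (actA hA hS).comp xH
  letI : CommGroup φ.range :=
    { (inferInstance : Group φ.range) with
      mul_comm := by
        rintro ⟨_, x, rfl⟩ ⟨_, y, rfl⟩
        refine Subtype.ext ?_
        show φ x * φ y = φ y * φ x
        rw [← map_mul, ← map_mul, show x * y = y * x from Subtype.ext (hA.commX x.1 x.2 y.1 y.2).eq] }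
  letI : DistribMulAction φ.range (Additive A) :=
    { smul := fun g v => Additive.ofMul (g.1 v.toMul)
      one_smul := fun v => rfl
      mul_smul := fun g g' v => rfl
      smul_zero := fun g => congrArg Additive.ofMul (map_one g.1)
      smul_add := fun g v w => congrArg Additive.ofMul (map_mul g.1 v.toMul w.toMul) }
  haveI : Nontrivial A := Finite.one_lt_card_iff_nontrivial.1 (by rw [hA.card]; have := hA.four; omega)
  haveI : IsCyclic φ.range := Cfsg.Lib.TICount.isCyclic_of_no_fixed (E := Additive A) fun g v hv => by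
    obtain ⟨_, x, rfl⟩ := g
    refine or_iff_not_imp_right.2 fun hv0 => Subtype.ext (MulEquiv.ext fun a => Subtype.ext ?_)
    have h1 : x.1 * (v.toMul : A).1 * x.1⁻¹ = (v.toMul : A).1 := congrArg (fun w : Additive A => (w.toMul).1) hv
    exact centA_of_fix hA x.2 v.toMul.2 (fun e => hv0 (congrArg Additive.ofMul (Subtype.ext e : v.toMul = 1)))
      h1 a.1 a.2
  obtain ⟨⟨_, x, rfl⟩, hx⟩ := IsCyclic.exists_monoid_generator (α := φ.range)
  refine ⟨x, x.2, fun y hy => ?_⟩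
  obtain ⟨n, hn⟩ := hx ⟨φ ⟨y, hy⟩, ⟨y, hy⟩, rfl⟩
  refine ⟨n, fun b hb => ?_⟩
  have h1 : φ ⟨y, hy⟩ = φ (x ^ n) := by
    rw [map_pow]
    exact (congrArg Subtype.val hn).symm
  exact congrArg (fun w : MulAut A => (w ⟨b, hb⟩ : G)) h1

/-- elements of odd order of `C(u) ∩ N_M(R)` which act alike on `A` act alike on `T` -/
theorem same_T (hA : Torus M D u A X q) (hS : State M u A X R T) (F : Facts M u A R T) {y z : G}
    (hy : y ∈ M) (hz : z ∈ M) (hyR : y ∈ normalizer (R : Set G)) (hzR : z ∈ normalizer (R : Set G))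
    (hyu : Commute y u) (hzu : Commute z u) (hyo : Odd (orderOf y)) (hzo : Odd (orderOf z))
    (h : Same A y z) : Same T y z := by
  set d := y⁻¹ * z with hd
  have hdA : ∀ a ∈ A, Commute d a := fun a ha => mul_inv_eq_iff_eq_mul.1 (by
    rw [hd, show y⁻¹ * z * a * (y⁻¹ * z)⁻¹ = y⁻¹ * (z * a * z⁻¹) * y by group, ← h a ha]
    group)
  rcases act_T hA hS F (mul_mem (inv_mem hy) hz) (mul_mem (inv_mem hyR) hzR) (hyu.inv_left.mul_left hzu) hdA
    with hd1 | hd1
  · intro t ht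
    calc y * t * y⁻¹ = y * (d * t * d⁻¹) * y⁻¹ := by rw [hd1 t ht]
      _ = z * t * z⁻¹ := by rw [hd]; group
  -- here `z` acts as `y` followed by the inversion
  set N := orderOf y * orderOf z with hN
  have hpow : ∀ k : ℕ, ∀ t ∈ T,
      z ^ k * t * (z ^ k)⁻¹ = if Even k then y ^ k * t * (y ^ k)⁻¹ else (y ^ k * t * (y ^ k)⁻¹)⁻¹ := by
    intro k
    induction k with
    | zero => intro t _; simp
    | succ k ih =>
      intro t ht
      have hzt : ∀ s ∈ T, z * s * z⁻¹ = (y * s * y⁻¹)⁻¹ := fun s hs => by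
        rw [show z * s * z⁻¹ = y * (d * s * d⁻¹) * y⁻¹ by rw [hd]; group, hd1 s hs]
        group
      have hyt : y ^ k * t * (y ^ k)⁻¹ ∈ T := F.normT _ (pow_mem hyR k) t ht
      rw [pow_succ' z, pow_succ' y, show z * z ^ k * t * (z * z ^ k)⁻¹ = z * (z ^ k * t * (z ^ k)⁻¹) * z⁻¹ by group,
        ih t ht]
      by_cases hk : Even k
      · rw [if_pos hk, if_neg (by rwa [Nat.even_add_one, not_not]), hzt _ hyt]
        group
      · rw [if_neg hk, if_pos (Nat.even_add_one.2 hk), hzt _ (inv_mem hyt)]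
        group
  have hinv : ∀ t ∈ T, t⁻¹ = t := fun t ht => by
    have h1 := hpow N t ht
    rw [if_neg (Nat.not_even_iff_odd.2 (hyo.mul hzo)), show z ^ N = 1 by
      rw [hN, mul_comm, pow_mul, pow_orderOf_eq_one, one_pow],
      show y ^ N = 1 by rw [hN, pow_mul, pow_orderOf_eq_one, one_pow]] at h1
    simpa using h1.symm
  intro t ht
  calc y * t * y⁻¹ = y * (d * t * d⁻¹) * y⁻¹ := by rw [hd1 t ht, hinv t ht]
    _ = z * t * z⁻¹ := by rw [hd]; group

/-- a translation gives a step -/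
theorem exists_step_of_translation (hA : Torus M D u A X q) (hS : State M u A X R T) (F : Facts M u A R T)
    {c : G → G} (hc : Cls M u A R T c) {k₀ : G} (hk₀ : k₀ ∈ ker M A R) (hck₀ : c k₀ ≠ 1) :
    ∃ X2 R2 : Subgroup G, Torus M D u A X2 q ∧ State M u A X2 R T ∧ Step M u A X2 R R2 := by
  classical
  haveI : Fact (Nat.Prime 2) := ⟨Nat.prime_two⟩
  set K := ker M A R with hK
  have hKR : ∀ k ∈ K, k ∈ normalizer (R : Set G) := fun k hk => (mem_ker.1 hk).2.1
  let χ : K →* A :=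
    { toFun := fun k => ⟨c k.1, hc.mem _ (hKR _ k.2)⟩
      map_one' := Subtype.ext (hc.ofCommute _ (Commute.one_left u))
      map_mul' := fun k l => Subtype.ext (by
        show c (k.1 * l.1) = c k.1 * c l.1
        rw [hc.mul _ (hKR _ k.2) _ (hKR _ l.2), ((mem_ker.1 k.2).2.2 _ (hc.mem _ (hKR _ l.2))).eq,
          mul_inv_cancel_right]) }
  have hnormA : ∀ h ∈ normalizer (R : Set G), h ∈ normalizer (A : Set G) := fun h hh =>
    mem_normalizer_iff.2 fun a => ⟨fun ha => norm_A hA hS hh ha, fun ha => by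
      have := norm_A hA hS (inv_mem hh) ha
      rwa [show h⁻¹ * (h * a * h⁻¹) * h⁻¹⁻¹ = a by group] at this⟩
  have hconjK : ∀ h ∈ M, h ∈ normalizer (R : Set G) → ∀ k ∈ K, h * k * h⁻¹ ∈ K := fun h hM hR k hk => by
    obtain ⟨h1, h2, h3⟩ := mem_ker.1 hk
    refine mem_ker.2 ⟨mul_mem (mul_mem hM h1) (inv_mem hM), mul_mem (mul_mem hR h2) (inv_mem hR),
      fun a ha => ?_⟩
    have h4 := (h3 _ (norm_A hA hS (inv_mem hR) ha)).eq
    calc h * k * h⁻¹ * a = h * (k * (h⁻¹ * a * h⁻¹⁻¹)) * h⁻¹ := by group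
      _ = h * (h⁻¹ * a * h⁻¹⁻¹ * k) * h⁻¹ := by rw [h4]
      _ = a * (h * k * h⁻¹) := by group
  have hcx : ∀ h ∈ normalizer (R : Set G), Commute h u → ∀ k ∈ K, c (h * k * h⁻¹) = h * c k * h⁻¹ :=
    fun h hh hhu k hk => by
    rw [hc.mul _ (mul_mem hh (hKR k hk)) _ (inv_mem hh), hc.mul _ hh _ (hKR k hk), hc.ofCommute h hhu,
      hc.ofCommute _ hhu.inv_left, one_mul, mul_one, mul_inv_cancel, mul_one]
  have hχ : Function.Surjective χ := fun a => by
    by_cases ha : (a : G) = 1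
    · exact ⟨1, by rw [map_one]; exact Subtype.ext ha.symm⟩
    obtain ⟨x, hx, e⟩ := hA.transA _ (hc.mem k₀ (hKR _ hk₀)) a.1 a.2 hck₀ ha
    refine ⟨⟨x * k₀ * x⁻¹, hconjK x (hA.XleM hx) (hS.normR hx) k₀ hk₀⟩, Subtype.ext ?_⟩
    exact (hcx x (hS.normR hx) (hA.centX x hx) k₀ hk₀).trans e
  -- the Sylow subgroup of the kernel
  obtain ⟨P, hP⟩ := (hS.two.comap_of_injective K.subtype K.subtype_injective).exists_le_sylow
  set R2 : Subgroup G := (P : Subgroup K).map K.subtype with hR2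
  have hR2K : R2 ≤ K := map_subtype_le _
  have hRR2 : R ≤ R2 := fun r hr => ⟨⟨r, le_ker hS hr⟩, hP hr, rfl⟩
  have hR22 : IsPGroup 2 R2 := P.2.map K.subtype
  have hsurj : ∀ a ∈ A, ∃ p ∈ R2, c p = a := by
    intro a ha
    have h1 : ((P : Subgroup K).map χ).index ∣ (P : Subgroup K).index := index_map_dvd _ hχ
    obtain ⟨j, hj⟩ := (isPGroup_A hS).index ((P : Subgroup K).map χ)
    have h2 : ((P : Subgroup K).map χ) = ⊤ := by
      rw [← index_eq_one, hj]
      rcases j with - | j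
      · rfl
      · exact absurd ((dvd_pow_self 2 (by omega)).trans (hj ▸ h1)) P.not_dvd_index
    obtain ⟨p, hp, e⟩ : (⟨a, ha⟩ : A) ∈ (P : Subgroup K).map χ := h2 ▸ mem_top _
    exact ⟨p, ⟨p, hp, rfl⟩, congrArg Subtype.val e⟩
  have hkerR2 : ∀ p ∈ R2, c p = 1 → p ∈ R := by
    intro p hp hcp
    obtain ⟨s, hs, hsu⟩ := hc.fix p (hKR p (hR2K hp)) hcp
    let C : Subgroup G := R2 ⊓ centralizer {u}
    have hCK : C ≤ M := fun g hg => (mem_ker.1 (hR2K (mem_inf.1 hg).1)).1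
    have hCc := hA.bound u hA.memM (IsConj.refl u) C hCK (hR22.to_le inf_le_left)
      fun g hg => mem_centralizer_singleton_iff.1 (mem_inf.1 hg).2
    have hle : A ⊔ zpowers u ≤ C := sup_le
      (fun a ha => mem_inf.2 ⟨hRR2 (hS.leT (hS.leA ha)), mem_centralizer_singleton_iff.2 (hA.centA a ha).eq⟩)
      (zpowers_le.2 (mem_inf.2 ⟨hRR2 hS.mem, mem_centralizer_singleton_iff.2 rfl⟩))
    have hmem : s * p ∈ C := mem_inf.2 ⟨mul_mem (hRR2 (hS.leT hs)) hp, mem_centralizer_singleton_iff.2 hsu.eq⟩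
    rw [← Subgroup.eq_of_le_of_card_ge hle (hCc.trans (card_sup hA).ge)] at hmem
    have h3 := mul_mem (inv_mem (hS.leT hs)) ((sup_le (hS.leA.trans hS.leT) (zpowers_le.2 hS.mem)) hmem)
    rwa [inv_mul_cancel_left] at h3
  -- a generator of the action of `X`, normalising the Sylow subgroup
  obtain ⟨x, hx, hgen⟩ := exists_generator hA hS
  have hxM := hA.XleM hx
  have hxR := hS.normR hx
  let ex : K →* K :=
    { toFun := fun k => ⟨x * k.1 * x⁻¹, hconjK x hxM hxR k.1 k.2⟩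
      map_one' := Subtype.ext (show x * 1 * x⁻¹ = (1 : G) by group)
      map_mul' := fun k l => Subtype.ext (show x * (k.1 * l.1) * x⁻¹ = x * k.1 * x⁻¹ * (x * l.1 * x⁻¹) by group) }
  have hexb : Function.Surjective ex := fun k => by
    refine ⟨⟨x⁻¹ * k.1 * x⁻¹⁻¹, hconjK _ (inv_mem hxM) (inv_mem hxR) k.1 k.2⟩, Subtype.ext ?_⟩
    show x * (x⁻¹ * k.1 * x⁻¹⁻¹) * x⁻¹ = k.1
    group
  obtain ⟨k, hk⟩ := MulAction.exists_smul_eq K (P.mapSurjective hexb) P
  have hkx : k.1 * x ∈ normalizer (R2 : Set G) := by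
    rw [mem_normalizer_iff_map_conj_eq]
    refine Subgroup.eq_of_le_of_card_ge ?_ (le_of_eq (card_map_of_injective (MulEquiv.injective _)).symm)
    rintro _ ⟨_, ⟨p, hp, rfl⟩, rfl⟩
    refine ⟨k * ex p * k⁻¹, ?_, ?_⟩
    · have h1 : (k • P.mapSurjective hexb : Sylow 2 K) = P := hk
      rw [← h1, Sylow.coe_subgroup_smul]
      exact ⟨ex p, ⟨p, hp, rfl⟩, rfl⟩
    · show k.1 * (x * p.1 * x⁻¹) * k.1⁻¹ = k.1 * x * p.1 * (k.1 * x)⁻¹
      group
  have hkK := mem_ker.1 k.2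
  have hcg1 : c (k.1 * x) = c k.1 := by
    rw [hc.mul _ hkK.2.1 _ hxR, hc.ofCommute x (hA.centX x hx), mul_one, mul_inv_cancel, mul_one]
  obtain ⟨p, hp, hcp⟩ := hsurj (c k.1)⁻¹ (inv_mem (hc.mem _ hkK.2.1))
  have hpK := mem_ker.1 (hR2K hp)
  have hcpg : c (p * (k.1 * x)) = 1 := by
    rw [hc.mul _ hpK.2.1 _ (mul_mem hkK.2.1 hxR), hcg1, (hpK.2.2 _ (hc.mem _ hkK.2.1)).eq, mul_inv_cancel_right,
      hcp, inv_mul_cancel]
  obtain ⟨s, hs, hsu⟩ := hc.fix _ (mul_mem hpK.2.1 (mul_mem hkK.2.1 hxR)) hcpg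
  have hsR := hS.leT hs
  have hsK := mem_ker.1 (le_ker hS hsR)
  set g₀ := s * (p * (k.1 * x)) with hg₀
  have hg₀M : g₀ ∈ M := mul_mem hsK.1 (mul_mem hpK.1 (mul_mem hkK.1 hxM))
  have hg₀R : g₀ ∈ normalizer (R : Set G) := mul_mem hsK.2.1 (mul_mem hpK.2.1 (mul_mem hkK.2.1 hxR))
  have hg₀2 : g₀ ∈ normalizer (R2 : Set G) :=
    mul_mem (le_normalizer (hRR2 hsR)) (mul_mem (le_normalizer hp) hkx)
  let H : Subgroup G := M ⊓ normalizer (R : Set G)
  let f : H →* MulAut A := actA hA hS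
  have hsame : ∀ g h : H, f g = f h ↔ Same A g.1 h.1 := fun g h =>
    ⟨fun e b hb => congrArg (fun w : MulAut A => (w ⟨b, hb⟩ : G)) e,
      fun e => MulEquiv.ext fun b => Subtype.ext (e b.1 b.2)⟩
  let gH : H := ⟨g₀, mem_inf.2 ⟨hg₀M, hg₀R⟩⟩
  let xH : H := ⟨x, mem_inf.2 ⟨hxM, hxR⟩⟩
  have hfg : f gH = f xH := by
    refine (hsame _ _).2 fun b hb => ?_
    have hkA : s * p * k.1 ∈ K := mul_mem (mul_mem (le_ker hS hsR) (hR2K hp)) k.2
    show g₀ * b * g₀⁻¹ = x * b * x⁻¹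
    calc g₀ * b * g₀⁻¹ = s * p * k.1 * (x * b * x⁻¹) * (s * p * k.1)⁻¹ := by rw [hg₀]; group
      _ = x * b * x⁻¹ := by
        rw [((mem_ker.1 hkA).2.2 _ (norm_A hA hS hxR hb)).eq, mul_inv_cancel_right]
  obtain ⟨e₂, m₂, hm₂, hgo⟩ := Nat.exists_eq_two_pow_mul_odd (orderOf_pos g₀).ne'
  set x' := g₀ ^ 2 ^ e₂ with hx'
  have hx'o : Odd (orderOf x') := by
    refine hm₂.of_dvd_nat (orderOf_dvd_of_pow_eq_one ?_)
    rw [hx', ← pow_mul, ← hgo, pow_orderOf_eq_one]
  have hxo : Odd (orderOf x) := hA.oddX.of_dvd_nat (by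
    show orderOf (X.subtype ⟨x, hx⟩) ∣ _
    rw [orderOf_injective X.subtype X.subtype_injective]
    exact orderOf_dvd_natCard _)
  obtain ⟨j, hj⟩ : ∃ j, (x ^ 2 ^ e₂) ^ j = x :=
    exists_pow_eq_self_of_coprime ((Nat.coprime_two_left.2 hxo).pow_left e₂)
  let x'H : H := gH ^ 2 ^ e₂
  have hx'H : x'H.1 = x' := by rw [Subgroup.coe_pow]
  have hsame' : ∀ y ∈ X, ∃ n : ℕ, Same A y (x' ^ n) := by
    intro y hy
    obtain ⟨n, hn⟩ := hgen y hy
    refine ⟨j * n, fun b hb => (hn b hb).trans ?_⟩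
    have h1 : f (xH ^ n) = f (x'H ^ (j * n)) := by
      rw [map_pow, map_pow, pow_mul, map_pow, hfg, ← map_pow f xH (2 ^ e₂), ← map_pow f (xH ^ 2 ^ e₂) j,
        show (xH ^ 2 ^ e₂) ^ j = xH from Subtype.ext (by rw [Subgroup.coe_pow, Subgroup.coe_pow]; exact hj)]
    have h2 := (hsame _ _).1 h1 b hb
    rw [Subgroup.coe_pow, Subgroup.coe_pow, hx'H] at h2
    exact h2
  set X2 := zpowers x' with hX2
  have hx'M : x' ∈ M := pow_mem hg₀M _
  have hx'R : x' ∈ normalizer (R : Set G) := pow_mem hg₀R _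
  have hx'u : Commute x' u := (show Commute g₀ u from hsu).pow_left _
  have hX2M : X2 ≤ M := zpowers_le.2 hx'M
  have hX2R : X2 ≤ normalizer (R : Set G) := zpowers_le.2 hx'R
  have hX2u : ∀ z ∈ X2, Commute z u := fun z hz => by
    obtain ⟨i, rfl⟩ := mem_zpowers_iff.1 hz
    exact hx'u.zpow_left i
  have hX2o : ∀ z ∈ X2, Odd (orderOf z) := fun z hz => by
    obtain ⟨i, rfl⟩ := mem_zpowers_iff.1 hz
    exact hx'o.of_dvd_nat (orderOf_dvd_of_pow_eq_one (by
      rw [← zpow_natCast, ← zpow_mul, mul_comm, zpow_mul, zpow_natCast, pow_orderOf_eq_one, one_zpow]))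
  -- the elements of `X2` act on `A` as elements of `X`
  have hback : ∀ z ∈ X2, ∃ y ∈ X, Same A z y := by
    intro z hz
    obtain ⟨i, rfl⟩ := mem_zpowers_iff.1 hz
    refine ⟨(x ^ 2 ^ e₂) ^ i, zpow_mem (pow_mem hx _) i, ?_⟩
    have h1 : f (x'H ^ i) = f ((xH ^ 2 ^ e₂) ^ i) := by
      rw [map_zpow, map_zpow, map_pow, map_pow, hfg]
    have h2 := (hsame _ _).1 h1
    rw [SubgroupClass.coe_zpow, SubgroupClass.coe_zpow, Subgroup.coe_pow, Subgroup.coe_pow] at h2
    exact h2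
  have hfwd : ∀ y ∈ X, ∃ z ∈ X2, Same A y z := fun y hy => by
    obtain ⟨n, hn⟩ := hsame' y hy
    exact ⟨x' ^ n, pow_mem (mem_zpowers x') n, hn⟩
  have hXo : ∀ y ∈ X, Odd (orderOf y) := fun y hy => hA.oddX.of_dvd_nat (by
    show orderOf (X.subtype ⟨y, hy⟩) ∣ _
    rw [orderOf_injective X.subtype X.subtype_injective]
    exact orderOf_dvd_natCard _)
  have hbackT : ∀ z ∈ X2, ∃ y ∈ X, Same T z y := fun z hz => by
    obtain ⟨y, hy, h⟩ := hback z hz
    exact ⟨y, hy, same_T hA hS F (hX2M hz) (hA.XleM hy) (hX2R hz) (hS.normR hy) (hX2u z hz) (hA.centX y hy)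
      (hX2o z hz) (hXo y hy) h⟩
  have hfwdT : ∀ y ∈ X, ∃ z ∈ X2, Same T y z := fun y hy => by
    obtain ⟨z, hz, h⟩ := hfwd y hy
    exact ⟨z, hz, same_T hA hS F (hA.XleM hy) (hX2M hz) (hS.normR hy) (hX2R hz) (hA.centX y hy) (hX2u z hz)
      (hXo y hy) (hX2o z hz) h⟩
  have hT2 : Torus M D u A X2 q :=
    { two := hA.two, memM := hA.memM, leM := hA.leM, XleM := hX2M
      oddX := by rw [Nat.card_zpowers]; exact hx'o
      commX := fun y hy z hz => by
        obtain ⟨i, rfl⟩ := mem_zpowers_iff.1 hy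
        obtain ⟨i', rfl⟩ := mem_zpowers_iff.1 hz
        exact (Commute.refl x').zpow_zpow i i'
      centX := hX2u
      elem := hA.elem, centA := hA.centA, notA := hA.notA, card := hA.card, four := hA.four
      normA := fun z hz => hnormA z (hX2R hz)
      transA := fun a ha b hb ha1 hb1 => by
        obtain ⟨y, hy, e⟩ := hA.transA a ha b hb ha1 hb1
        obtain ⟨z, hz, h⟩ := hfwd y hy
        exact ⟨z, hz, (h a ha).symm.trans e⟩
      memA := hA.memA, conjD := hA.conjD, cosetA := hA.cosetA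
      semilinear := fun g hgM hgu hgA z hz => by
        obtain ⟨y, hy, h⟩ := hback z hz
        obtain ⟨y', hy', h'⟩ := hA.semilinear g hgM hgu hgA y hy
        obtain ⟨z', hz', h''⟩ := hfwd y' hy'
        refine ⟨z', hz', fun a ha => (Eq.trans ?_ (h' a ha)).trans (h'' a ha)⟩
        have ha' : g⁻¹ * a * g⁻¹⁻¹ ∈ A := (mem_normalizer_iff.1 (inv_mem hgA) a).1 ha
        calc g * z * g⁻¹ * a * (g * z * g⁻¹)⁻¹ = g * (z * (g⁻¹ * a * g⁻¹⁻¹) * z⁻¹) * g⁻¹ := by group
          _ = g * (y * (g⁻¹ * a * g⁻¹⁻¹) * y⁻¹) * g⁻¹ := by rw [h _ ha']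
          _ = g * y * g⁻¹ * a * (g * y * g⁻¹)⁻¹ := by group
      bound := hA.bound }
  have hnormsub : ∀ W : Subgroup G, W ≤ T → (X ≤ normalizer (W : Set G) ↔ X2 ≤ normalizer (W : Set G)) := by
    intro W hW
    have key : ∀ Y Y' : Subgroup G, (∀ z ∈ Y', ∃ y ∈ Y, Same T z y) → Y ≤ normalizer (W : Set G) →
        Y' ≤ normalizer (W : Set G) := by
      intro Y Y' hYY hY z hz
      have hfw : ∀ z ∈ Y', ∀ w ∈ W, z * w * z⁻¹ ∈ W := fun z hz w hw => by
        obtain ⟨y, hy, h⟩ := hYY z hz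
        rw [h w (hW hw)]
        exact (mem_normalizer_iff.1 (hY hy) w).1 hw
      refine mem_normalizer_iff.2 fun w => ⟨hfw z hz w, fun h => ?_⟩
      have := hfw z⁻¹ (inv_mem hz) _ h
      rwa [show z⁻¹ * (z * w * z⁻¹) * z⁻¹⁻¹ = w by group] at this
    exact ⟨key X X2 hbackT, key X2 X hfwdT⟩
  have hS2 : State M u A X2 R T :=
    { le := hS.le, two := hS.two, mem := hS.mem, leA := hS.leA, centre := hS.centre, fix := hS.fix
      normR := hX2R
      normT := (hnormsub T le_rfl).1 hS.normT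
      fixX := fun t ht h => hS.fixX t ht fun y hy => by
        obtain ⟨z, hz, hT⟩ := hfwdT y hy
        refine mul_inv_eq_iff_eq_mul.1 ?_
        rw [hT t ht, (h z hz).eq, mul_inv_cancel_right]
      leT := hS.leT, index := hS.index, noConj := hS.noConj }
  have hX22 : X2 ≤ normalizer (R2 : Set G) := zpowers_le.2 (pow_mem hg₀2 _)
  choose! σ hσ hcσ using hsurj
  have hcmul : ∀ a ∈ R2, ∀ b ∈ R2, c (a * b) = c a * c b := fun a ha b hb =>
    congrArg Subtype.val (map_mul χ ⟨a, hR2K ha⟩ ⟨b, hR2K hb⟩)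
  have hcinv : ∀ a ∈ R2, c a⁻¹ = (c a)⁻¹ := fun a ha => by
    refine eq_inv_of_mul_eq_one_left ?_
    rw [← hcmul _ (inv_mem ha) _ ha, inv_mul_cancel]
    exact hc.ofCommute 1 (Commute.one_left u)
  have hdiff : ∀ a ∈ R2, ∀ b ∈ R2, c a = c b → a⁻¹ * b ∈ R := fun a ha b hb e =>
    hkerR2 _ (mul_mem (inv_mem ha) hb) (by rw [hcmul _ (inv_mem ha) _ hb, hcinv a ha, e, inv_mul_cancel])
  refine ⟨X2, R2, hT2, hS2,
    { le := hRR2
      leM := fun g hg => (mem_ker.1 (hR2K hg)).1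
      two := hR22
      normR := fun g hg => hKR g (hR2K hg)
      normX := hX22
      centre := fun a ha g hg => ((mem_ker.1 (hR2K hg)).2.2 a ha).symm
      index := ?_
      fix := fun g hg hgu => hS.fix g (hkerR2 g hg (hc.ofCommute g hgu)) hgu
      iso := ⟨σ, hσ, fun a ha b hb => ?_, fun z hz a ha => ?_, fun a ha h => ?_, fun g hg => ?_⟩ }⟩
  · let ψ : R2 →* A := χ.comp (Subgroup.inclusion hR2K)
    have h1 : R.subgroupOf R2 = ψ.ker := by
      ext g
      rw [mem_subgroupOf, MonoidHom.mem_ker]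
      exact ⟨fun h => Subtype.ext (hc.ofR g.1 h), fun h => hkerR2 g.1 g.2 (congrArg Subtype.val h)⟩
    have h2 : ψ.range = ⊤ := MonoidHom.range_eq_top.2 fun a =>
      ⟨⟨σ a.1, hσ a.1 a.2⟩, Subtype.ext (hcσ a.1 a.2)⟩
    show (R.subgroupOf R2).index = _
    rw [h1, index_ker, h2, card_top]
  · refine hdiff _ (hσ _ (mul_mem ha hb)) _ (mul_mem (hσ a ha) (hσ b hb)) ?_
    rw [hcσ _ (mul_mem ha hb), hcmul _ (hσ a ha) _ (hσ b hb), hcσ a ha, hcσ b hb]
  · have hza : z * a * z⁻¹ ∈ A := norm_A hA hS (hX2R hz) ha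
    refine hdiff _ (hσ _ hza) _ ((mem_normalizer_iff.1 (hX22 hz) _).1 (hσ a ha)) ?_
    rw [hcσ _ hza, hcx z (hX2R hz) (hX2u z hz) _ (hR2K (hσ a ha)), hcσ a ha]
  · rw [← hcσ a ha]
    exact hc.ofR _ h
  · exact ⟨c g, hc.mem g (hKR g (hR2K hg)),
      hdiff _ (hσ _ (hc.mem g (hKR g (hR2K hg)))) _ hg (hcσ _ (hc.mem g (hKR g (hR2K hg))))⟩

/-- **W3**: a step above a state which is not a Sylow 2-subgroup -/
theorem exists_step (hA : Torus M D u A X q) (hS : State M u A X R T) (hq8 : q ≠ 8) (S : Sylow 2 G)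
    (hSM : (S : Subgroup G) ≤ M) (hRS : R ≤ S) (hne : R ≠ S) :
    ∃ X2 R2 : Subgroup G, Torus M D u A X2 q ∧ State M u A X2 R T ∧ Step M u A X2 R R2 := by
  have F := facts hA hS S hSM hRS hne
  obtain ⟨c, hc⟩ := exists_cls hA hS F
  obtain ⟨k₀, hk₀, hck₀⟩ := exists_translation hA hS F hc hq8
  exact exists_step_of_translation hA hS F hc hk₀ hck₀

end Cfsg.Lib.BenderSE.Crit2.Climb

namespace Cfsg.Lib.BenderSE.Crit2

/-- W3 holds in every finite group -/
theorem stepExists (G : Type*) [Group G] [Finite G] : StepExists G :=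
  fun _ _ _ _ _ _ _ _ hA hS hq8 S hSM hRS hne => Climb.exists_step hA hS hq8 S hSM hRS hne

end Cfsg.Lib.BenderSE.Crit2
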