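/-
The exception `q = 8` of the climb in the criterion (notes/s1175_h1_audit.md, B): if `N_M(R)` induces the
group of order 168 on the eight classes of a state, then all conjugates of `u` in a Sylow 2-subgroup lie in
the coset `uT` and some subgroup of index 2 avoids them, so `G` is not simple.
-/
import Cfsg.Agent.BenderSE.Criterion2.StepExists
import Cfsg.Agent.BenderSE.Criterion2.StateOfStep

set_option autoImplicit false
set_option linter.unusedSectionVars false
set_option linter.style.haveILetI false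

namespace Cfsg.Lib.BenderSE.Crit2.Climb

open Subgroup

variable {G : Type*} [Group G] [Finite G] {M : Subgroup G} {D : G → Prop} {u : G} {A X R T : Subgroup G}
  {q : ℕ} {c : G → G}

/-- a 2-element of `N_M(R)` centralising `u` is in `R` -/
theorem cent_mem (hA : Torus M D u A X q) (hS : State M u A X R T) {g : G} (hgM : g ∈ M)
    (hgR : g ∈ normalizer (R : Set G)) (hg2 : IsPGroup 2 (zpowers g)) (hgu : Commute g u) : g ∈ R := by
  haveI : Fact (Nat.Prime 2) := ⟨Nat.prime_two⟩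
  let P : Subgroup G := R ⊔ zpowers g
  have hP : IsPGroup 2 P := hS.two.to_sup_of_normal_left' hg2 (zpowers_le.2 hgR)
  let C : Subgroup G := P ⊓ centralizer {u}
  have hPM : P ≤ M := sup_le hS.le (zpowers_le.2 hgM)
  have hCc := hA.bound u hA.memM (IsConj.refl u) C (inf_le_left.trans hPM) (hP.to_le inf_le_left)
    fun p hp => mem_centralizer_singleton_iff.1 (mem_inf.1 hp).2
  have hle : A ⊔ zpowers u ≤ C := sup_le
    (fun a ha => mem_inf.2 ⟨mem_sup_left (hS.leT (hS.leA ha)), mem_centralizer_singleton_iff.2 (hA.centA a ha).eq⟩)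
    (zpowers_le.2 (mem_inf.2 ⟨mem_sup_left hS.mem, mem_centralizer_singleton_iff.2 rfl⟩))
  have hmem : g ∈ C := mem_inf.2 ⟨mem_sup_right (mem_zpowers g), mem_centralizer_singleton_iff.2 hgu.eq⟩
  rw [← Subgroup.eq_of_le_of_card_ge hle (hCc.trans (card_sup hA).ge)] at hmem
  exact (sup_le (hS.leA.trans hS.leT) (zpowers_le.2 hS.mem)) hmem

/-- a 2-element of `N_M(R)` centralising a conjugate of `u` in `R` is in `R` -/
theorem cent_mem' (hA : Torus M D u A X q) (hS : State M u A X R T) (F : Facts M u A R T) {g w : G}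
    (hgM : g ∈ M) (hgR : g ∈ normalizer (R : Set G)) (hg2 : IsPGroup 2 (zpowers g)) (hw : w ∈ R) (hwT : w ∉ T)
    (hgw : Commute g w) : g ∈ R := by
  obtain ⟨h, hM, hR, rfl⟩ := F.conj w hw hwT
  have h2 : IsPGroup 2 (zpowers (h⁻¹ * g * h)) := by
    have := hg2.map (MulAut.conj h⁻¹).toMonoidHom
    rwa [MonoidHom.map_zpowers, show (MulAut.conj h⁻¹).toMonoidHom g = h⁻¹ * g * h by simp] at this
  have h3 := cent_mem hA hS (mul_mem (mul_mem (inv_mem hM) hgM) hM) (mul_mem (mul_mem (inv_mem hR) hgR) hR) h2 (by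
    show h⁻¹ * g * h * u = u * (h⁻¹ * g * h)
    calc h⁻¹ * g * h * u = h⁻¹ * (g * (h * u * h⁻¹)) * h := by group
      _ = h⁻¹ * (h * u * h⁻¹ * g) * h := by rw [hgw.eq]
      _ = u * (h⁻¹ * g * h) := by group)
  have h4 := (mem_normalizer_iff.1 hR _).1 h3
  rwa [show h * (h⁻¹ * g * h) * h⁻¹ = g by group] at h4

theorem two_zpowers {P : Subgroup G} (hP : IsPGroup 2 P) {g : G} (hg : g ∈ P) : IsPGroup 2 (zpowers g) :=
  hP.to_le (zpowers_le.2 hg)

/-- when `K` fixes the classes, its 2-elements are in `R` -/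
theorem ker_two (hA : Torus M D u A X q) (hS : State M u A X R T) (hc : Cls M u A R T c)
    (hall : ∀ k ∈ ker M A R, c k = 1) {k : G} (hk : k ∈ ker M A R) (hk2 : IsPGroup 2 (zpowers k)) : k ∈ R := by
  obtain ⟨h1, h2, -⟩ := mem_ker.1 hk
  obtain ⟨s, hs, hsu⟩ := hc.fix k h2 (hall k hk)
  have hsR := hS.leT hs
  have hP := hS.two.to_sup_of_normal_left' hk2 (zpowers_le.2 h2)
  have h3 := cent_mem hA hS (mul_mem (hS.le hsR) h1) (mul_mem (le_normalizer hsR) h2)
    (two_zpowers hP (mul_mem (mem_sup_left hsR) (mem_sup_right (mem_zpowers k)))) hsu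
  simpa using mul_mem (inv_mem hsR) h3

/-- in the exceptional case a conjugate of `u` normalising `R` lies in `R` -/
theorem conj_mem (hA : Torus M D u A X q) (hS : State M u A X R T) (F : Facts M u A R T)
    (hc : Cls M u A R T c) (hall : ∀ k ∈ ker M A R, c k = 1) (hq : q = 8)
    (hcard : ∀ g : (actA hA hS).range, orderOf g = 2 →
      Nat.card (centralizer ({g} : Set (actA hA hS).range)) = 8)
    {y : G} (hyM : y ∈ M) (hyR : y ∈ normalizer (R : Set G)) (hyu : IsConj u y) : y ∈ R := by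
  classical
  haveI : Fact (Nat.Prime 2) := ⟨Nat.prime_two⟩
  by_contra hy
  have hy2 : y * y = 1 := by
    obtain ⟨g, rfl⟩ := isConj_iff.1 hyu
    rw [show g * u * g⁻¹ * (g * u * g⁻¹) = g * (u * u) * g⁻¹ by group, u_sq hA, mul_one, mul_inv_cancel]
  have hyP : IsPGroup 2 (zpowers y) := fun z => ⟨1, by
    obtain ⟨i, hi⟩ := mem_zpowers_iff.1 z.2
    refine Subtype.ext ?_
    rw [Subgroup.coe_pow, Subgroup.coe_one, ← hi, ← zpow_natCast, ← zpow_mul, mul_comm, zpow_mul, zpow_natCast,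
      pow_one, pow_two, hy2, one_zpow]⟩
  have hyK : y ∉ ker M A R := fun h => hy (ker_two hA hS hc hall h hyP)
  let H : Subgroup G := M ⊓ normalizer (R : Set G)
  let yH : H := ⟨y, mem_inf.2 ⟨hyM, hyR⟩⟩
  let f : H →* (actA hA hS).range := (actA hA hS).rangeRestrict
  have hfker : ∀ g : H, f g = 1 ↔ g.1 ∈ ker M A R := fun g =>
    (Subtype.ext_iff.trans (actA_eq_one hA hS g))
  have hfy : orderOf (f yH) = 2 := by
    refine orderOf_eq_prime ?_ fun e => hyK ((hfker yH).1 e)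
    rw [← map_pow, show yH ^ 2 = 1 from Subtype.ext (by rw [pow_two]; exact hy2), map_one]
  set Cb : Subgroup (actA hA hS).range := centralizer {f yH} with hCb
  have hCb8 : Nat.card Cb = 8 := hcard _ hfy
  let C1 : Subgroup H := Cb.comap f
  -- a 2-subgroup over `R⟨y⟩` mapping onto the centraliser
  have hRC : (R ⊔ zpowers y).subgroupOf H ≤ C1 := by
    have h : R ⊔ zpowers y ≤ C1.map H.subtype := sup_le
      (fun r hr => ⟨⟨r, mem_inf.2 ⟨hS.le hr, le_normalizer hr⟩⟩, by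
        show f _ ∈ Cb
        rw [(hfker _).2 (le_ker hS hr)]
        exact one_mem _, rfl⟩)
      (zpowers_le.2 ⟨yH, mem_centralizer_singleton_iff.2 rfl, rfl⟩)
    intro g hg
    obtain ⟨g', hg', e⟩ := h (mem_subgroupOf.1 hg)
    exact Subtype.ext e ▸ hg'
  have hRy : IsPGroup 2 (R ⊔ zpowers y : Subgroup G) := hS.two.to_sup_of_normal_left' hyP (zpowers_le.2 hyR)
  have hRy1 : IsPGroup 2 ((R ⊔ zpowers y).subgroupOf H) := hRy.comap_of_injective H.subtype H.subtype_injective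
  obtain ⟨P, hP⟩ :=
    (hRy1.comap_of_injective C1.subtype C1.subtype_injective).exists_le_sylow
  set P1 : Subgroup H := (P : Subgroup C1).map C1.subtype with hP1
  set P0 : Subgroup G := P1.map H.subtype with hP0
  have hP02 : IsPGroup 2 P0 := (P.2.map C1.subtype).map H.subtype
  have hP0H : P0 ≤ H := map_subtype_le _
  have hleP0 : R ⊔ zpowers y ≤ P0 := fun g hg => by
    have hgH : g ∈ H := (sup_le (fun r hr => mem_inf.2 ⟨hS.le hr, le_normalizer hr⟩)
      (zpowers_le.2 yH.2) : R ⊔ zpowers y ≤ H) hg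
    exact ⟨⟨g, hgH⟩, ⟨⟨⟨g, hgH⟩, hRC (mem_subgroupOf.2 hg)⟩, hP hg, rfl⟩, rfl⟩
  have hsurj : (P : Subgroup C1).map ((f.comp C1.subtype).codRestrict Cb fun g => g.2) = ⊤ := by
    set φ := (f.comp C1.subtype).codRestrict Cb fun g => g.2 with hφ
    have hφs : Function.Surjective φ := fun z => by
      obtain ⟨g, hg⟩ := MonoidHom.rangeRestrict_surjective (actA hA hS) z.1
      refine ⟨⟨g, show f g ∈ Cb from hg ▸ z.2⟩, Subtype.ext hg⟩
    have h1 := index_map_dvd (P : Subgroup C1) hφs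
    obtain ⟨j, hj⟩ := (IsPGroup.of_card (show Nat.card Cb = 2 ^ 3 by rw [hCb8]; norm_num)).index
      ((P : Subgroup C1).map φ)
    rw [← index_eq_one, hj]
    rcases j with - | j
    · rfl
    · exact absurd ((dvd_pow_self 2 (by omega)).trans (hj ▸ h1)) P.not_dvd_index
  have hcardP : Nat.card P0 = 8 * Nat.card R := by
    rw [hP0, card_map_of_injective H.subtype_injective, hP1, card_map_of_injective C1.subtype_injective]
    let φ : (P : Subgroup C1) →* Cb :=
      ((f.comp C1.subtype).codRestrict Cb fun g => g.2).comp (P : Subgroup C1).subtype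
    have hr : φ.range = ⊤ := by rw [MonoidHom.range_comp, range_subtype, hsurj]
    have hk : Nat.card φ.ker = Nat.card R := by
      refine Nat.card_congr
        { toFun := fun g => ⟨g.1.1.1.1, ker_two hA hS hc hall ((hfker _).1 ?_)
            (two_zpowers hP02 ⟨g.1.1.1, ⟨g.1.1, g.1.2, rfl⟩, rfl⟩)⟩
          invFun := fun r => ⟨⟨⟨⟨r.1, mem_inf.2 ⟨hS.le r.2, le_normalizer r.2⟩⟩,
            hRC (mem_subgroupOf.2 (mem_sup_left r.2))⟩, hP (mem_sup_left r.2 : r.1 ∈ R ⊔ zpowers y)⟩, ?_⟩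
          left_inv := fun g => rfl
          right_inv := fun r => rfl }
      · exact congrArg Subtype.val (MonoidHom.mem_ker.1 g.2)
      · exact MonoidHom.mem_ker.2 (Subtype.ext ((hfker ⟨r.1, _⟩).2 (le_ker hS r.2)))
    rw [← φ.ker.card_mul_index, index_ker, hr, card_top, hCb8, hk, mul_comm]
  -- the subgroup of `T` inverted by `y`
  let I : Subgroup G :=
    { carrier := {t | t ∈ T ∧ y * t * y⁻¹ = t⁻¹}
      one_mem' := ⟨one_mem T, by group⟩
      mul_mem' := fun {s t} hs ht => ⟨mul_mem hs.1 ht.1, by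
        rw [show y * (s * t) * y⁻¹ = y * s * y⁻¹ * (y * t * y⁻¹) by group, hs.2, ht.2, ← mul_inv_rev,
          F.comm t ht.1 s hs.1]⟩
      inv_mem' := fun {t} ht => ⟨inv_mem ht.1, by rw [← conj_inv, ht.2]⟩ }
  have hIlt : 2 * Nat.card I ≤ Nat.card T := by
    have hI : I ≤ T := fun t ht => ht.1
    have hne : I ≠ T := fun e => hyK (mem_ker.2 ⟨hyM, hyR, fun a ha => by
      have h1 : a ∈ I := e ▸ hS.leA ha
      refine mul_inv_eq_iff_eq_mul.1 ?_
      rw [h1.2, inv_eq_of_mul_eq_one_right (hA.elem a ha)]⟩)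
    rw [← Nat.card_congr (subgroupOfEquivOfLe hI).toEquiv,
      ← (I.subgroupOf T).card_mul_index, mul_comm 2]
    refine Nat.mul_le_mul_left _ ?_
    have h0 : (I.subgroupOf T).index ≠ 0 := index_ne_zero_of_finite
    have h1 : (I.subgroupOf T).index ≠ 1 := fun h =>
      hne (le_antisymm hI (subgroupOf_eq_top.1 (index_eq_one.1 h)))
    omega
  have hd : ∀ g ∈ P0, y⁻¹ * (g * y * g⁻¹) ∈ I := by
    intro g hg
    have hyP0 : y ∈ P0 := hleP0 (mem_sup_right (mem_zpowers y))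
    set d := y⁻¹ * (g * y * g⁻¹) with hd
    have hdP : d ∈ P0 := mul_mem (inv_mem hyP0) (mul_mem (mul_mem hg hyP0) (inv_mem hg))
    have hdK : d ∈ ker M A R := by
      obtain ⟨gH, ⟨⟨gH', hgC⟩, -, rfl⟩, rfl⟩ := hg
      refine (hfker (yH⁻¹ * (gH' * yH * gH'⁻¹))).1 ?_
      have h1 := mem_centralizer_singleton_iff.1 (hgC : f gH' ∈ Cb)
      rw [map_mul, map_inv, map_mul, map_mul, map_inv, h1, mul_inv_cancel_right, inv_mul_cancel]
    have hdR := ker_two hA hS hc hall hdK (two_zpowers hP02 hdP)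
    have hinv : y * d * y⁻¹ = d⁻¹ := by
      have h1 : y * d * (y * d) = 1 := by
        rw [hd, mul_inv_cancel_left, show g * y * g⁻¹ * (g * y * g⁻¹) = g * (y * y) * g⁻¹ by group, hy2, mul_one,
          mul_inv_cancel]
      rw [inv_eq_of_mul_eq_one_right hy2]
      exact eq_inv_of_mul_eq_one_left (by rw [mul_assoc, h1])
    refine ⟨?_, hinv⟩
    by_contra hdT
    obtain ⟨h, -, -, e⟩ := F.conj d hdR hdT
    have h2 : d * d = 1 := by
      rw [← e, show h * u * h⁻¹ * (h * u * h⁻¹) = h * (u * u) * h⁻¹ by group, u_sq hA, mul_one, mul_inv_cancel]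
    rw [inv_eq_of_mul_eq_one_right h2] at hinv
    exact hy (cent_mem' hA hS F hyM hyR hyP hdR hdT (mul_inv_eq_iff_eq_mul.1 hinv))
  letI := Fintype.ofFinite G
  have hcount : Nat.card P0 ≤ 2 * q * Nat.card I := by
    set s : Finset G := (P0 : Set G).toFinset with hs
    have hcard : s.card = Nat.card P0 := by
      rw [hs, ← Set.ncard_eq_toFinset_card', ← Nat.card_coe_set_eq, SetLike.coe_sort_coe]
    have himg : (s.image fun g => y⁻¹ * (g * y * g⁻¹)).card ≤ Nat.card I := by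
      rw [← SetLike.coe_sort_coe, Nat.card_coe_set_eq, Set.ncard_eq_toFinset_card']
      refine Finset.card_le_card fun d hd' => ?_
      obtain ⟨g, hg, rfl⟩ := Finset.mem_image.1 hd'
      rw [hs, Set.mem_toFinset] at hg
      exact Set.mem_toFinset.2 (hd g hg)
    rw [← hcard]
    refine le_trans (Finset.card_le_mul_card_image s (2 * q) fun b hb => ?_) (Nat.mul_le_mul_left _ himg)
    obtain ⟨g₀, hg₀, rfl⟩ := Finset.mem_image.1 hb
    rw [hs, Set.mem_toFinset] at hg₀
    let C : Subgroup G := P0 ⊓ centralizer {y}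
    refine le_trans (b := (C : Set G).toFinset.card) ?_ (le_trans (le_of_eq ?_)
      (hA.bound y hyM hyu C (inf_le_left.trans (hP0H.trans inf_le_left)) (hP02.to_le inf_le_left)
        fun p hp => mem_centralizer_singleton_iff.1 (mem_inf.1 hp).2))
    · refine Finset.card_le_card_of_injOn (fun g => g₀⁻¹ * g) (fun g hg => ?_)
        fun r _ r' _ e => mul_left_cancel e
      rw [Finset.mem_coe, Finset.mem_filter, hs, Set.mem_toFinset] at hg
      rw [Finset.mem_coe, Set.mem_toFinset]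
      refine mem_inf.2 ⟨mul_mem (inv_mem hg₀) hg.1, mem_centralizer_singleton_iff.2 ?_⟩
      calc g₀⁻¹ * g * y = g₀⁻¹ * (g * y * g⁻¹) * g := by group
        _ = g₀⁻¹ * (g₀ * y * g₀⁻¹) * g := by rw [mul_left_cancel hg.2]
        _ = y * (g₀⁻¹ * g) := by group
    · rw [← Set.ncard_eq_toFinset_card', ← Nat.card_coe_set_eq, SetLike.coe_sort_coe]
  rw [hcardP, card_R hS, hq] at hcount
  have := Nat.card_pos (α := T)
  omega

/-- the elements of the stabiliser of a flag of `A` whose squares move `A` differ by inversion -/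
theorem flag_squares {A : Subgroup G} (P : Subgroup G) (hP : IsPGroup 2 P) (hA8 : Nat.card A = 8) (hAP : A ≤ P)
    (helem : ∀ a ∈ A, a * a = 1) (hnorm : P ≤ normalizer (A : Set G)) :
    ∀ g ∈ P, ∀ b ∈ P, (∃ a ∈ A, g * g * a * (g * g)⁻¹ ≠ a) → (∃ a ∈ A, b * b * a * (b * b)⁻¹ ≠ a) →
      (Same A b g ∨ Same A b g⁻¹) ∧ Same A (g * g * (g * g)) 1 := by
  haveI : Fact (Nat.Prime 2) := ⟨Nat.prime_two⟩
  haveI : (A.subgroupOf P).Normal := ⟨fun a ha g =>
    mem_subgroupOf.2 ((mem_normalizer_iff.1 (hnorm g.2) _).1 (mem_subgroupOf.1 ha))⟩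
  have hA8' : Nat.card (A.subgroupOf P) = 8 := by rw [Nat.card_congr (subgroupOfEquivOfLe hAP).toEquiv, hA8]
  have hlt : (⊥ : Subgroup P) < A.subgroupOf P := bot_lt_iff_ne_bot.2 fun e => by
    rw [e, card_bot] at hA8'
    omega
  obtain ⟨U1, hU1n, -, hU1A, hU1i⟩ := PGroups.exists_normal_relIndex_prime hP hlt
  haveI := hU1n
  have hU1c : Nat.card U1 = 2 := by rw [← relIndex_bot_left]; exact hU1i
  have hlt2 : U1 < A.subgroupOf P := lt_of_le_of_ne hU1A fun e => by rw [e, hA8'] at hU1c; omega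
  obtain ⟨U2, hU2n, hU12, hU2A, hU2i⟩ := PGroups.exists_normal_relIndex_prime hP hlt2
  haveI := hU2n
  have hU2c : Nat.card U2 = 4 := by
    have h1 := relIndex_bot_left U1
    rw [← relIndex_bot_left, ← relIndex_mul_relIndex ⊥ U1 U2 bot_le hU12, h1, hU2i, hU1c]
  have hU2i' : U2.relIndex (A.subgroupOf P) = 2 := by
    have h1 := relIndex_mul_relIndex ⊥ U2 (A.subgroupOf P) bot_le hU2A
    rw [relIndex_bot_left, relIndex_bot_left, hU2c, hA8'] at h1
    omega
  obtain ⟨cc, hcc, hcc1⟩ : ∃ x ∈ U1, x ≠ 1 := by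
    by_contra h
    push Not at h
    rw [show U1 = ⊥ from eq_bot_iff.2 fun x hx => mem_bot.2 (h x hx), card_bot] at hU1c
    omega
  obtain ⟨hh, hhh, hhh1⟩ : ∃ x ∈ U2, x ∉ U1 := SetLike.exists_of_lt (lt_of_le_of_ne hU12 fun e => by
    rw [e, hU2c] at hU1c; omega)
  obtain ⟨aa, haa, haa2⟩ : ∃ x ∈ A.subgroupOf P, x ∉ U2 := SetLike.exists_of_lt (lt_of_le_of_ne hU2A fun e => by
    rw [e, hA8'] at hU2c; omega)
  have hsplit : ∀ (U V : Subgroup P), U.relIndex V = 2 → ∀ v ∈ V, v ∉ U → ∀ x ∈ V, x ∈ U ∨ v⁻¹ * x ∈ U := by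
    intro U V hi v hv hvU x hx
    by_cases hxU : x ∈ U
    · exact Or.inl hxU
    · refine Or.inr (mem_subgroupOf.1 ((mul_mem_iff_of_index_two (show (U.subgroupOf V).index = 2 from hi)
        (a := (⟨v, hv⟩ : V)⁻¹) (b := ⟨x, hx⟩)).2 ⟨fun e => absurd (mem_subgroupOf.1 ((Subgroup.inv_mem_iff _).1 e)) hvU,
          fun e => absurd (mem_subgroupOf.1 e) hxU⟩))
  have hcu : ∀ x ∈ U1, x = 1 ∨ x = cc := by
    intro x hx
    obtain ⟨y, -, hy⟩ := (Nat.card_eq_two_iff' (1 : U1)).1 hU1c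
    refine or_iff_not_imp_left.2 fun hx1 => ?_
    exact congrArg Subtype.val ((hy ⟨x, hx⟩ fun e => hx1 (congrArg Subtype.val e)).trans
      (hy ⟨cc, hcc⟩ fun e => hcc1 (congrArg Subtype.val e)).symm)
  have hcomm : ∀ x ∈ A.subgroupOf P, ∀ y ∈ A.subgroupOf P, x * y = y * x := fun x hx y hy => Subtype.ext (by
    have h1 := helem _ (mem_subgroupOf.1 (mul_mem hx hy))
    rw [Subgroup.coe_mul] at h1 ⊢
    rw [Subgroup.coe_mul, eq_inv_of_mul_eq_one_left h1, mul_inv_rev,
      inv_eq_of_mul_eq_one_right (helem _ (mem_subgroupOf.1 hy)),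
      inv_eq_of_mul_eq_one_right (helem _ (mem_subgroupOf.1 hx))])
  have hel : ∀ x ∈ A.subgroupOf P, x * x = 1 := fun x hx => Subtype.ext (helem _ (mem_subgroupOf.1 hx))
  -- two elements agreeing on `cc`, `hh`, `aa` agree on `A`
  have hsame : ∀ g b : P, g * hh * g⁻¹ = b * hh * b⁻¹ → g * aa * g⁻¹ = b * aa * b⁻¹ → Same A g b := by
    intro g b e1 e2
    have hfc : ∀ g : P, g * cc * g⁻¹ = cc := fun g => (hcu _ (hU1n.conj_mem cc hcc g)).resolve_left fun e =>
      hcc1 (by rwa [mul_inv_eq_one, mul_eq_left] at e)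
    let E : Subgroup P := MonoidHom.eqLocus (MulAut.conj g).toMonoidHom (MulAut.conj b).toMonoidHom
    have h1 : U1 ≤ E := fun x hx => by
      rcases hcu x hx with rfl | rfl
      · exact one_mem E
      · exact (hfc g).trans (hfc b).symm
    have h2 : U2 ≤ E := fun x hx => by
      rcases hsplit U1 U2 hU2i hh hhh hhh1 x hx with h | h
      · exact h1 h
      · rw [← mul_inv_cancel_left hh x]
        exact mul_mem (show hh ∈ E from e1) (h1 h)
    intro z hz
    have h3 : (⟨z, hAP hz⟩ : P) ∈ E := by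
      rcases hsplit U2 _ hU2i' aa haa haa2 ⟨z, hAP hz⟩ (mem_subgroupOf.2 hz) with h | h
      · exact h2 h
      · rw [← mul_inv_cancel_left aa (⟨z, hAP hz⟩ : P)]
        exact mul_mem (show aa ∈ E from e2) (h2 h)
    exact congrArg Subtype.val h3
  have hccA := hU1A hcc
  have hhA := hU2A hhh
  -- an element whose square moves `A`
  have hmove : ∀ g : P, (∃ a ∈ A, (g : G) * g * a * ((g : G) * g)⁻¹ ≠ a) → g * cc * g⁻¹ = cc ∧
      g * hh * g⁻¹ = hh * cc ∧ (g * aa * g⁻¹ = aa * hh ∨ g * aa * g⁻¹ = aa * (hh * cc)) := by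
    intro g ⟨z, hz, hmv⟩
    have hfc : g * cc * g⁻¹ = cc := (hcu _ (hU1n.conj_mem cc hcc g)).resolve_left fun e =>
      hcc1 (by rwa [mul_inv_eq_one, mul_eq_left] at e)
    have hgh : g * hh * g⁻¹ = hh ∨ g * hh * g⁻¹ = hh * cc := by
      rcases hsplit U1 U2 hU2i hh hhh hhh1 _ (hU2n.conj_mem hh hhh g) with h | h
      · exact absurd (by simpa [mul_assoc] using hU1n.conj_mem _ h g⁻¹) hhh1
      · rcases hcu _ h with e | e
        · exact Or.inl (inv_mul_eq_one.1 e).symm
        · exact Or.inr (inv_mul_eq_iff_eq_mul.1 e)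
    obtain ⟨w, hw, hgw⟩ : ∃ w ∈ U2, g * aa * g⁻¹ = aa * w := by
      rcases hsplit U2 _ hU2i' aa haa haa2 _ (Subgroup.Normal.conj_mem inferInstance aa haa g) with h | h
      · exact absurd (by simpa [mul_assoc] using hU2n.conj_mem _ h g⁻¹) haa2
      · exact ⟨_, h, by group⟩
    have hno : ¬ (g * g * hh * (g * g)⁻¹ = hh ∧ g * g * aa * (g * g)⁻¹ = aa) := fun ⟨e1, e2⟩ => hmv (by
      have h1 := hsame (g * g) 1 (e1.trans (by group)) (e2.trans (by group)) z hz
      simpa using h1)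
    have hsq : ∀ x : P, g * g * x * (g * g)⁻¹ = g * (g * x * g⁻¹) * g⁻¹ := fun x => by group
    rcases hgh with hgh | hgh
    · refine absurd ⟨by rw [hsq, hgh, hgh], ?_⟩ hno
      have hgw' : g * w * g⁻¹ = w := by
        rcases hsplit U1 U2 hU2i hh hhh hhh1 w hw with h | h
        · rcases hcu _ h with e | e
          · rw [e]; group
          · rw [e]; exact hfc
        · rcases hcu _ h with e | e
          · rw [← inv_mul_eq_one.1 e]; exact hgh
          · rw [inv_mul_eq_iff_eq_mul.1 e, show g * (hh * cc) * g⁻¹ = g * hh * g⁻¹ * (g * cc * g⁻¹) by group,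
              hgh, hfc]
      rw [hsq, hgw, show g * (aa * w) * g⁻¹ = g * aa * g⁻¹ * (g * w * g⁻¹) by group, hgw, hgw', mul_assoc,
        hel w (hU2A hw), mul_one]
    refine ⟨hfc, hgh, ?_⟩
    have hwc : w ∉ U1 := fun h => hno ⟨by
        rw [hsq, hgh, show g * (hh * cc) * g⁻¹ = g * hh * g⁻¹ * (g * cc * g⁻¹) by group, hgh, hfc, mul_assoc,
          hel cc hccA, mul_one], by
        have hgw' : g * w * g⁻¹ = w := by
          rcases hcu _ h with e | e
          · rw [e]; group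
          · rw [e]; exact hfc
        rw [hsq, hgw, show g * (aa * w) * g⁻¹ = g * aa * g⁻¹ * (g * w * g⁻¹) by group, hgw, hgw', mul_assoc,
          hel w (hU2A hw), mul_one]⟩
    rcases hcu _ ((hsplit U1 U2 hU2i hh hhh hhh1 w hw).resolve_left hwc) with e | e
    · exact Or.inl (by rw [hgw, ← inv_mul_eq_one.1 e])
    · exact Or.inr (by rw [hgw, inv_mul_eq_iff_eq_mul.1 e])
  intro g hg b hb hmg hmb
  obtain ⟨hgc, hgh, hga⟩ := hmove ⟨g, hg⟩ hmg
  obtain ⟨hbc, hbh, hba⟩ := hmove ⟨b, hb⟩ hmb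
  set g' : P := ⟨g, hg⟩
  set b' : P := ⟨b, hb⟩
  have hinv : ∀ x z : P, g' * x * g'⁻¹ = z → g'⁻¹ * z * g'⁻¹⁻¹ = x := fun x z e => by rw [← e]; group
  have hgi : g'⁻¹ * hh * g'⁻¹⁻¹ = hh * cc := hinv _ _ (by
    rw [show g' * (hh * cc) * g'⁻¹ = g' * hh * g'⁻¹ * (g' * cc * g'⁻¹) by group, hgh, hgc, mul_assoc,
      hel cc hccA, mul_one])
  -- the other choice is the inverse
  have hgia : ∀ w w' : P, w ∈ A.subgroupOf P → w' ∈ A.subgroupOf P → g' * aa * g'⁻¹ = aa * w →
      g' * w' * g'⁻¹ = w → g'⁻¹ * aa * g'⁻¹⁻¹ = aa * w' := fun w w' hw hw' e1 e2 => hinv _ _ (by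
    rw [show g' * (aa * w') * g'⁻¹ = g' * aa * g'⁻¹ * (g' * w' * g'⁻¹) by group, e1, e2, mul_assoc,
      hel w hw, mul_one])
  have hhcA : hh * cc ∈ A.subgroupOf P := mul_mem hhA hccA
  have hg2c : g' * (hh * cc) * g'⁻¹ = hh := by
    rw [show g' * (hh * cc) * g'⁻¹ = g' * hh * g'⁻¹ * (g' * cc * g'⁻¹) by group, hgh, hgc, mul_assoc,
      hel cc hccA, mul_one]
  have h4 : Same A (g * g * (g * g)) 1 := by
    have key : ∀ x w : P, w ∈ A.subgroupOf P → g' * x * g'⁻¹ = x * w → g' * g' * w * (g' * g')⁻¹ = w →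
        g' * g' * x * (g' * g')⁻¹ = x * (w * (g' * w * g'⁻¹)) ∧
        g' * g' * (g' * g') * x * (g' * g' * (g' * g'))⁻¹ = x := by
      intro x w hw e1 e2
      have e3 : g' * g' * x * (g' * g')⁻¹ = x * (w * (g' * w * g'⁻¹)) := by
        rw [show g' * g' * x * (g' * g')⁻¹ = g' * (g' * x * g'⁻¹) * g'⁻¹ by group, e1,
          show g' * (x * w) * g'⁻¹ = g' * x * g'⁻¹ * (g' * w * g'⁻¹) by group, e1, mul_assoc]
      refine ⟨e3, ?_⟩
      rw [show g' * g' * (g' * g') * x * (g' * g' * (g' * g'))⁻¹ =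
        g' * g' * (g' * g' * x * (g' * g')⁻¹) * (g' * g')⁻¹ by group, e3,
        show g' * g' * (x * (w * (g' * w * g'⁻¹))) * (g' * g')⁻¹ = g' * g' * x * (g' * g')⁻¹ *
          (g' * g' * w * (g' * g')⁻¹ * (g' * (g' * g' * w * (g' * g')⁻¹) * g'⁻¹)) by group, e3, e2,
        mul_assoc, hel _ (mul_mem hw (Subgroup.Normal.conj_mem inferInstance w hw g')), mul_one]
    have e2 : ∀ w, (w = hh ∨ w = hh * cc) → g' * g' * w * (g' * g')⁻¹ = w := by
      rintro w (rfl | rfl) <;> rw [show ∀ z, g' * g' * z * (g' * g')⁻¹ = g' * (g' * z * g'⁻¹) * g'⁻¹ from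
        fun z => by group]
      · rw [hgh, hg2c]
      · rw [hg2c, hgh]
    have h5 : g' * g' * hh * (g' * g')⁻¹ = hh := e2 _ (Or.inl rfl)
    have h6 : g' * g' * (g' * g') * hh * (g' * g' * (g' * g'))⁻¹ = hh := by
      rw [show g' * g' * (g' * g') * hh * (g' * g' * (g' * g'))⁻¹ =
        g' * g' * (g' * g' * hh * (g' * g')⁻¹) * (g' * g')⁻¹ by group, h5, h5]
    refine hsame (g' * g' * (g' * g')) 1 (h6.trans (by group)) (Eq.trans ?_ (by group : aa = 1 * aa * 1⁻¹))
    rcases hga with h | h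
    · exact (key aa hh hhA h (e2 _ (Or.inl rfl))).2
    · exact (key aa _ hhcA h (e2 _ (Or.inr rfl))).2
  refine ⟨?_, h4⟩
  rcases hga with hga | hga <;> rcases hba with hba | hba
  · exact Or.inl (hsame b' g' (hbh.trans hgh.symm) (hba.trans hga.symm))
  · exact Or.inr (hsame b' g'⁻¹ (hbh.trans hgi.symm) (hba.trans (hgia _ _ hhA hhcA hga hg2c).symm))
  · exact Or.inr (hsame b' g'⁻¹ (hbh.trans hgi.symm) (hba.trans (hgia _ _ hhcA hhA hga hgh).symm))
  · exact Or.inl (hsame b' g' (hbh.trans hgh.symm) (hba.trans hga.symm))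

/-- an index two subgroup of `P` over `Z`, away from `u` -/
theorem exists_avoid {P Z : Subgroup G} {u : G} (hu : u ∈ P) (hZP : Z ≤ P) (huZ : u ∉ Z)
    (hsq : ∀ x ∈ P, x * x ∈ Z) : ∃ V : Subgroup G, Z ≤ V ∧ V ≤ P ∧ u ∉ V ∧ V.relIndex P = 2 := by
  obtain ⟨V, hVmax⟩ := (Set.toFinite {V : Subgroup G | Z ≤ V ∧ V ≤ P ∧ u ∉ V}).exists_maximal
    ⟨Z, le_rfl, hZP, huZ⟩
  obtain ⟨hZV, hVP, huV⟩ := hVmax.prop
  refine ⟨V, hZV, hVP, huV, ?_⟩
  have hnorm : ∀ x ∈ P, ∀ v ∈ V, x * v * x⁻¹ ∈ V := fun x hx v hv => by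
    rw [show x * v * x⁻¹ = (x * v * (x * v)) * ((v⁻¹ * x⁻¹ * v) * (v⁻¹ * x⁻¹ * v)) * (v⁻¹ * v⁻¹) * v by group]
    have hvP := hVP hv
    exact mul_mem (mul_mem (mul_mem (hZV (hsq _ (mul_mem hx hvP))) (hZV (hsq _ (mul_mem (mul_mem (inv_mem hvP)
      (inv_mem hx)) hvP)))) (hZV (hsq _ (inv_mem hvP)))) hv
  show (V.subgroupOf P).index = 2
  rw [index_eq_two_iff]
  refine ⟨⟨u, hu⟩, fun b => ?_⟩
  simp only [mem_subgroupOf, Subgroup.coe_mul]
  by_cases hb : (b : G) ∈ V
  · exact Or.inr ⟨hb, fun e => huV (by simpa using mul_mem (inv_mem hb) e)⟩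
  refine Or.inl ⟨?_, hb⟩
  let W : Subgroup G :=
    { carrier := {z | z ∈ V ∨ z * (b : G) ∈ V}
      one_mem' := Or.inl (one_mem V)
      mul_mem' := fun {y z} hy hz => by
        have hbb := hZV (hsq _ b.2)
        rcases hy with hy | hy <;> rcases hz with hz | hz
        · exact Or.inl (mul_mem hy hz)
        · exact Or.inr (by rw [mul_assoc]; exact mul_mem hy hz)
        · refine Or.inr ?_
          rw [show y * z * (b : G) = y * b * ((b : G)⁻¹ * z * (b : G)⁻¹⁻¹) by group]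
          exact mul_mem hy (hnorm _ (inv_mem b.2) z hz)
        · refine Or.inl ?_
          rw [show y * z = y * b * ((b : G)⁻¹ * (z * b) * (b : G)⁻¹⁻¹) * ((b : G) * b)⁻¹ by group]
          exact mul_mem (mul_mem hy (hnorm _ (inv_mem b.2) _ hz)) (inv_mem hbb)
      inv_mem' := fun {y} hy => by
        rcases hy with hy | hy
        · exact Or.inl (inv_mem hy)
        · refine Or.inr ?_
          rw [show y⁻¹ * (b : G) = (b : G) * (y * b)⁻¹ * (b : G)⁻¹ * ((b : G) * b) by group]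
          exact mul_mem (hnorm _ b.2 _ (inv_mem hy)) (hZV (hsq _ b.2)) }
  by_cases huW : u ∈ W
  · rcases huW with h | h
    · exact absurd h huV
    · have := hnorm _ hu _ h
      rw [show u * (u * (b : G)) * u⁻¹ = u * u * ((b : G) * u⁻¹) by group] at this
      have h2 := (mul_mem_cancel_left (hZV (hsq _ hu))).1 this
      rw [show (b : G) * u = (b : G) * u⁻¹ * (u * u) by group]
      exact mul_mem h2 (hZV (hsq _ hu))
  · exfalso
    have hWP : W ≤ P := by
      rintro z (hz | hz)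
      · exact hVP hz
      · simpa using mul_mem (hVP hz) (inv_mem b.2)
    have hle : W ≤ V := hVmax.le_of_ge ⟨fun z hz => Or.inl (hZV hz), hWP, huW⟩ fun z hz => Or.inl hz
    exact hb (hle (Or.inr (hZV (hsq _ b.2))))

/-- the exceptional case contradicts simplicity -/
theorem eight_false [IsSimpleGroup G] (hna : ¬ IsMulCommutative G) (hA : Torus M D u A X q)
    (hS : State M u A X R T) (F : Facts M u A R T) (hc : Cls M u A R T c) (hall : ∀ k ∈ ker M A R, c k = 1)
    (hq : q = 8) (hcard : ∀ g : (actA hA hS).range, orderOf g = 2 →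
      Nat.card (centralizer ({g} : Set (actA hA hS).range)) = 8)
    (S : Sylow 2 G) (hSM : (S : Subgroup G) ≤ M) (hRS : R ≤ S) : False := by
  classical
  haveI : Fact (Nat.Prime 2) := ⟨Nat.prime_two⟩
  set P : Subgroup G := (S : Subgroup G) with hPdef
  have hP2 : IsPGroup 2 P := S.2
  have hout : ∀ t ∈ T, u * t ∉ T := fun t ht h => u_notMem hS (by simpa using mul_mem h (inv_mem ht))
  -- `S` normalises `R`
  have hN : P ≤ normalizer (R : Set G) := by
    by_contra hne
    haveI := hP2.isNilpotent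
    have hlt : (normalizer (R : Set G)).subgroupOf P < ⊤ :=
      lt_of_le_of_ne le_top fun e => hne (subgroupOf_eq_top.1 e)
    obtain ⟨z, hz, hzN⟩ := SetLike.exists_of_lt (normalizerCondition_of_isNilpotent _ hlt)
    refine hzN (mem_subgroupOf.2 ?_)
    have hzn : (z : G) ∈ normalizer ((P ⊓ normalizer (R : Set G) : Subgroup G) : Set G) := by
      refine mem_normalizer_iff.2 fun w => ⟨fun hw => mem_inf.2 ⟨mul_mem (mul_mem z.2 (mem_inf.1 hw).1) (inv_mem z.2),
        mem_subgroupOf.1 ((mem_normalizer_iff.1 hz ⟨w, (mem_inf.1 hw).1⟩).1 (mem_subgroupOf.2 (mem_inf.1 hw).2))⟩,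
        fun hw => ?_⟩
      have hwP : w ∈ P := by
        have := mul_mem (mul_mem (inv_mem z.2) (mem_inf.1 hw).1) z.2
        simpa [mul_assoc] using this
      exact mem_inf.2 ⟨hwP, mem_subgroupOf.1 ((mem_normalizer_iff.1 hz ⟨w, hwP⟩).2
        (mem_subgroupOf.2 (mem_inf.1 hw).2))⟩
    -- apply the argument to `z` alone
    have key : ∀ w ∈ R, w ∉ T → (z : G) * w * (z : G)⁻¹ ∈ R := fun w hw hwT => by
      obtain ⟨h, -, -, e⟩ := F.conj w hw hwT
      have h1 := (mem_normalizer_iff.1 hzn w).1 (mem_inf.2 ⟨hRS hw, le_normalizer hw⟩)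
      exact conj_mem hA hS F hc hall hq hcard (hSM (mem_inf.1 h1).1) (mem_inf.1 h1).2
        (isConj_iff.2 ⟨(z : G) * h, by rw [← e]; group⟩)
    have hmap : R.map (MulAut.conj (z : G)).toMonoidHom ≤ R := by
      rintro _ ⟨r, hr, rfl⟩
      show (z : G) * r * (z : G)⁻¹ ∈ R
      by_cases hrT : r ∈ T
      · rw [show (z : G) * r * (z : G)⁻¹ = ((z : G) * u * (z : G)⁻¹) * ((z : G) * (u * r) * (z : G)⁻¹) by
          rw [show (z : G) * u * (z : G)⁻¹ * ((z : G) * (u * r) * (z : G)⁻¹) = (z : G) * (u * u * r) * (z : G)⁻¹ by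
            group, u_sq hA, one_mul]]
        exact mul_mem (key u hS.mem (u_notMem hS)) (key _ (mul_mem hS.mem hr) (hout r hrT))
      · exact key r hr hrT
    exact mem_normalizer_iff_map_conj_eq.2
      (Subgroup.eq_of_le_of_card_ge hmap (le_of_eq (card_map_of_injective (MulEquiv.injective _)).symm))
  have hnT : ∀ s ∈ P, ∀ t ∈ T, s * t * s⁻¹ ∈ T := fun s hs t ht => F.normT s (hN hs) t ht
  -- no square in the coset of `u`
  have hsqT : ∀ g ∈ P, g * g ∈ R → g * g ∈ T := fun g hg h2 => by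
    by_contra hT
    have hgR : g ∈ R := cent_mem' hA hS F (hSM hg) (hN hg) (two_zpowers hP2 hg) h2 hT
      ((Commute.refl g).mul_right (Commute.refl g))
    exact hT (mem_subgroupOf.1 (Subgroup.mul_self_mem_of_index_two (H := T.subgroupOf R) hS.index ⟨g, hgR⟩))
  have hfixR : ∀ g ∈ P, (∀ a ∈ A, g * a * g⁻¹ = a) → g ∈ R := fun g hg h =>
    ker_two hA hS hc hall (mem_ker.2 ⟨hSM hg, hN hg, fun a ha => mul_inv_eq_iff_eq_mul.1 (h a ha)⟩)
      (two_zpowers hP2 hg)
  have hnA : P ≤ normalizer (A : Set G) := fun g hg => mem_normalizer_iff.2 fun a =>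
    ⟨fun ha => norm_A hA hS (hN hg) ha, fun ha => by
      have := norm_A hA hS (inv_mem (hN hg)) ha
      rwa [show g⁻¹ * (g * a * g⁻¹) * g⁻¹⁻¹ = a by group] at this⟩
  have hflag := flag_squares P hP2 (hA.card.trans hq) ((hS.leA.trans hS.leT).trans hRS) hA.elem hnA
  -- a subgroup with all squares, away from `u`
  obtain ⟨Z, hTZ, hZP, huZ, hsq⟩ : ∃ Z : Subgroup G, T ≤ Z ∧ Z ≤ P ∧ u ∉ Z ∧ ∀ x ∈ P, x * x ∈ Z := by
    by_cases hex : ∃ g ∈ P, g * g ∉ R
    swap
    · push Not at hex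
      exact ⟨T, le_rfl, hS.leT.trans hRS, u_notMem hS, fun x hx => hsqT x hx (hex x hx)⟩
    obtain ⟨g, hg, hgR⟩ := hex
    have hmv : ∀ x ∈ P, x * x ∉ R → ∃ a ∈ A, x * x * a * (x * x)⁻¹ ≠ a := fun x hx h => by
      by_contra hno
      push Not at hno
      exact h (hfixR _ (mul_mem hx hx) hno)
    set e := g * g with he
    have heP : e ∈ P := mul_mem hg hg
    have he4 : e * e ∈ T := by
      refine hsqT e heP (hfixR _ (mul_mem heP heP) fun a ha => ?_)
      rw [he, (hflag g hg g hg (hmv g hg hgR) (hmv g hg hgR)).2 a ha]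
      group
    have hmodT : ∀ x ∈ P, ∀ r ∈ R, x⁻¹ * r * x * r ∈ T := fun x hx r hr => by
      have hx' : x⁻¹ * r * x ∈ R := by
        have := (mem_normalizer_iff.1 (inv_mem (hN hx)) r).1 hr
        rwa [inv_inv] at this
      have h1 := mul_mem_iff_of_index_two (show (T.subgroupOf R).index = 2 from hS.index)
        (a := (⟨x⁻¹ * r * x, hx'⟩ : R)) (b := ⟨r, hr⟩)
      simp only [mem_subgroupOf, Subgroup.coe_mul] at h1
      refine h1.2 ⟨fun h => ?_, fun h => ?_⟩
      · have := hnT x hx _ h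
        rwa [show x * (x⁻¹ * r * x) * x⁻¹ = r by group] at this
      · have := hnT x⁻¹ (inv_mem hx) r h
        rwa [inv_inv] at this
    let Z : Subgroup G :=
      { carrier := {x | x ∈ T ∨ e * x ∈ T}
        one_mem' := Or.inl (one_mem T)
        mul_mem' := fun {y z} hy hz => by
          rcases hy with hy | hy <;> rcases hz with hz | hz
          · exact Or.inl (mul_mem hy hz)
          · exact Or.inr (by
              rw [show e * (y * z) = e * y * e⁻¹ * (e * z) by group]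
              exact mul_mem (hnT e heP y hy) hz)
          · exact Or.inr (by rw [← mul_assoc]; exact mul_mem hy hz)
          · refine Or.inl ?_
            rw [show y * z = e⁻¹ * (e * y) * e⁻¹⁻¹ * (e * e)⁻¹ * (e * z) by group]
            exact mul_mem (mul_mem (hnT _ (inv_mem heP) _ hy) (inv_mem he4)) hz
        inv_mem' := fun {y} hy => by
          rcases hy with hy | hy
          · exact Or.inl (inv_mem hy)
          · refine Or.inr ?_
            rw [show e * y⁻¹ = e * (e * y)⁻¹ * e⁻¹ * (e * e) by group]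
            exact mul_mem (hnT _ heP _ (inv_mem hy)) he4 }
    refine ⟨Z, fun t ht => Or.inl ht, ?_, ?_, fun x hx => ?_⟩
    · rintro x (hx | hx)
      · exact hRS (hS.leT hx)
      · simpa using mul_mem (inv_mem heP) (hRS (hS.leT hx))
    · rintro (h | h)
      · exact u_notMem hS h
      · exact hgR (by simpa using mul_mem (hS.leT h) (inv_mem hS.mem))
    · by_cases hxR : x * x ∈ R
      · exact Or.inl (hsqT x hx hxR)
      rcases (hflag g hg x hx (hmv g hg hgR) (hmv x hx hxR)).1 with h | h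
      · have hr : g⁻¹ * x ∈ R := hfixR _ (mul_mem (inv_mem hg) hx) fun a ha => by
          rw [show g⁻¹ * x * a * (g⁻¹ * x)⁻¹ = g⁻¹ * (x * a * x⁻¹) * g by group, h a ha]; group
        rw [show x * x = e * (g⁻¹ * (g⁻¹ * x) * g * (g⁻¹ * x)) by rw [he]; group]
        refine mul_mem (Or.inr he4) (Or.inl ?_)
        exact hmodT g hg _ hr
      · have hr : g * x ∈ R := hfixR _ (mul_mem hg hx) fun a ha => by
          rw [show g * x * a * (g * x)⁻¹ = g * (x * a * x⁻¹) * g⁻¹ by group, h a ha]; group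
        rw [show x * x = e⁻¹ * (g⁻¹⁻¹ * (g * x) * g⁻¹ * (g * x)) by rw [he]; group]
        refine mul_mem (inv_mem (Or.inr he4)) (Or.inl ?_)
        exact hmodT g⁻¹ (inv_mem hg) _ hr
  obtain ⟨V, hZV, hVP, huV, hVi⟩ := exists_avoid (hRS hS.mem) hZP huZ hsq
  refine false_of_index_two hna S V hVP hVi hA.two fun g hg => ?_
  have hR := conj_mem hA hS F hc hall hq hcard (hSM (hVP hg)) (hN (hVP hg)) (isConj_iff.2 ⟨g, rfl⟩)
  rcases mem_or hA hS hR with h | h
  · exact hS.noConj _ h (isConj_iff.2 ⟨g, rfl⟩)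
  · have h1 := mul_mem (hZV (hTZ h)) (inv_mem hg)
    rw [mul_inv_cancel_right] at h1
    exact huV h1

end Cfsg.Lib.BenderSE.Crit2.Climb

namespace Cfsg.Lib.BenderSE.Crit2

open Climb

/-- W3 for every `q`: above a state which is not a Sylow 2-subgroup of a simple group there is a step -/
theorem stepExists_simple (G : Type*) [Group G] [Finite G] [IsSimpleGroup G] (hna : ¬ IsMulCommutative G)
    (M : Subgroup G) (D : G → Prop) (u : G) (A X R T : Subgroup G) (q : ℕ) (hA : Torus M D u A X q)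
    (hS : State M u A X R T) (S : Sylow 2 G) (hSM : (S : Subgroup G) ≤ M) (hRS : R ≤ S) (hne : R ≠ S) :
    ∃ X2 R' : Subgroup G, Torus M D u A X2 q ∧ State M u A X2 R T ∧ Step M u A X2 R R' := by
  have F := facts hA hS S hSM hRS hne
  obtain ⟨c, hc⟩ := exists_cls hA hS F
  by_cases hall : ∀ k ∈ ker M A R, c k = 1
  · rcases translation_or hA hS F hc with ⟨k, hk, hk'⟩ | ⟨hq, hcard⟩
    · exact absurd (hall k hk) hk'
    · exact (eight_false hna hA hS F hc hall hq hcard S hSM hRS).elim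
  · push Not at hall
    obtain ⟨k, hk, hk'⟩ := hall
    exact exists_step_of_translation hA hS F hc hk hk'

end Cfsg.Lib.BenderSE.Crit2
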