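/-
Aschbacher's criterion, the induction piece: the exact shape of what induction gives on the fixed points of
an involution with two fixed points (helper8; proved in LineInd.lean).
-/
import Cfsg.Agent.BenderSE.Criterion2.Classes
import Cfsg.Agent.BenderSE.Dependents.CriterionGeneral

set_option autoImplicit false
set_option linter.unusedSectionVars false

namespace Cfsg.Lib.BenderSE.Crit2

open Subgroup MulAction Cfsg.Lib.BenderSE.CritDep

universe u v

/-- the criterion for simple groups of order below `n` -/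
def CriterionBelow (n : ℕ) : Prop :=
  ∀ (L : Type u) [Group L] [Finite L] [IsSimpleGroup L], Nat.card L < n →
    ∀ M : Subgroup L, M ≠ ⊤ → ∀ z : L, orderOf z = 2 → z ∈ M →
      (∃ S : Sylow 2 L, z ∈ S ∧ ∀ s ∈ S, Commute s z) → (∀ g : L, g * z * g⁻¹ ∈ M → g ∈ M) →
      (∀ g : L, Commute z (g * z * g⁻¹) → g * z * g⁻¹ ≠ z →
        centralizer ({z * (g * z * g⁻¹)} : Set L) ≤ M) → ∃ H : Subgroup L, Cfsg.IsStronglyEmbedded H

variable {G : Type u} [Group G] {α : Type v} [MulAction G α]

/-- The line of `u` at its fixed point `a`, of rank at least two: `localGen z u` is generated by the members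
centralising `u`; `Q` is a Sylow 2-subgroup of its stabiliser of `a`, regular on the other fixed points of `u`;
`A` is the elementary group of the members in `Q`; `X` is the torus. -/
structure LineData (z u : G) (a : α) (A Q X : Subgroup G) (q j : ℕ) : Prop where
  embedded : Cfsg.IsStronglyEmbedded ((stabilizer G a).subgroupOf (localGen z u))
  card : Nat.card A = q
  four : 4 ≤ q
  pow : ∃ k, q = 2 ^ k
  jcase : j = 1 ∨ j = 2 ∨ j = 3
  cardQ : Nat.card Q = q ^ j
  fixed : Nat.card (fixSet α (zpowers u)) = q ^ j + 1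
  twoQ : IsPGroup 2 Q
  Qle : Q ≤ localGen z u
  Qfix : Q ≤ stabilizer G a
  Qmax : ∀ P : Subgroup G, IsPGroup 2 P → P ≤ localGen z u → P ≤ stabilizer G a → Q ≤ P → P = Q
  regQ : ∀ b ∈ fixSet α (zpowers u), ∀ c ∈ fixSet α (zpowers u), b ≠ a → c ≠ a →
    ∃! g : G, g ∈ Q ∧ g • b = c
  leQ : A ≤ Q
  memA : ∀ d ∈ A, d ≠ 1 → d ∈ membersAt z u a
  invA : ∀ d ∈ Q, orderOf d = 2 → d ∈ A
  elem : ∀ d ∈ A, d * d = 1
  centQ : ∀ d ∈ A, ∀ g ∈ Q, Commute d g
  Xle : X ≤ localGen z u
  Xfix : X ≤ stabilizer G a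
  cyclicX : IsCyclic X
  oddX : Odd (Nat.card X)
  centX : ∀ x ∈ X, Commute x u
  normA : X ≤ normalizer (A : Set G)
  normQ : X ≤ normalizer (Q : Set G)
  transA : ∀ d ∈ A, ∀ e ∈ A, d ≠ 1 → e ≠ 1 → ∃ x ∈ X, x * d * x⁻¹ = e
  /-- the centraliser of `u` at `a` acts semilinearly on `A` -/
  semilinear : ∀ g : G, g • a = a → Commute g u → g ∈ normalizer (A : Set G) → ∀ x ∈ X, ∃ y ∈ X,
    ∀ d ∈ A, g * x * g⁻¹ * d * (g * x * g⁻¹)⁻¹ = y * d * y⁻¹

/-- The two statements of the induction piece: the line of every involution with two fixed points has a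
strongly embedded point stabiliser, and of rank at least two it has the data above. -/
def LineStatement (G : Type u) [Group G] [Finite G] (α : Type v) [MulAction G α] [FaithfulSMul G α] : Prop :=
  ∀ z : G, Crit G α z → CriterionBelow.{u} (Nat.card G) →
    ∀ (u : G) (a b : α), orderOf u = 2 → u • a = a → u • b = b → a ≠ b →
      Cfsg.IsStronglyEmbedded ((stabilizer G a).subgroupOf (localGen z u)) ∧
        ((∃ d e, IsConj z d ∧ IsConj z e ∧ d ≠ e ∧ Commute d e ∧ Commute u d ∧ Commute u e) →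
          ∃ (A Q X : Subgroup G) (q j : ℕ), LineData z u a A Q X q j)

end Cfsg.Lib.BenderSE.Crit2
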