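/-
Aschbacher's criterion, the induction piece: the action of the members centralising an involution with two
fixed points on those fixed points satisfies the hypothesis again, also modulo its kernel (helper8).
-/
import Cfsg.Agent.BenderSE.Criterion2.LineSpec

set_option autoImplicit false
set_option linter.unusedSectionVars false
set_option linter.style.haveILetI false

namespace Cfsg.Lib.BenderSE.Crit2

open Subgroup MulAction Cfsg.Lib.InvolCalc Cfsg.Lib.StrongEmb Cfsg.Lib.BenderSE.CritDep

universe u v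

variable {G : Type u} [Group G] [Finite G] {α : Type v} [MulAction G α] {z : G}

theorem conj_smul_fix {g d : G} {x : α} (hx : d • x = x) : (g * d * g⁻¹) • g • x = g • x := by
  rw [mul_smul, mul_smul, inv_smul_smul, hx]

/-- every point carries a member -/
theorem Crit.exists_member (h : Crit G α z) (x : α) : ∃ d, IsConj z d ∧ d • x = x := by
  obtain ⟨d, hd, hdx, -⟩ := h.central x ⊥ IsPGroup.of_bot fun g hg => by rw [mem_bot.1 hg, one_smul]
  exact ⟨d, hd, hdx⟩

theorem Crit.transitive (h : Crit G α z) (x y : α) : ∃ g : G, g • x = y := by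
  obtain ⟨d, hd, hdx⟩ := h.exists_member x
  obtain ⟨e, he, hey⟩ := h.exists_member y
  obtain ⟨g, rfl⟩ := isConj_iff.1 (hd.symm.trans he)
  exact ⟨g, centre_unique h he (conj_smul_fix hdx) hey⟩

theorem Crit.finite (h : Crit G α z) : Finite α := by
  rcases isEmpty_or_nonempty α with hα | ⟨⟨x⟩⟩
  · infer_instance
  · exact Finite.of_surjective (fun g : G => g • x) (h.transitive x)

/-- at every point a member is central in a Sylow subgroup fixing the point -/
theorem Crit.exists_central (h : Crit G α z) (x : α) :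
    ∃ (d : G) (S : Sylow 2 G), IsConj z d ∧ d • x = x ∧ d ∈ S ∧ (∀ s ∈ S, Commute s d) ∧
      ∀ s ∈ S, s • x = x := by
  haveI : Fact (Nat.Prime 2) := ⟨Nat.prime_two⟩
  haveI := h.finite
  obtain ⟨d, hd, hdx⟩ := h.exists_member x
  have hd2 := orderOf_conj h hd
  have hp : IsPGroup 2 (zpowers d) := isPGroup_zpowers_of_two hd2
  have h1 := hp.card_modEq_card_fixedPoints α
  have hfix : fixedPoints (zpowers d) α = {x} := by
    ext y
    refine ⟨fun hy => centre_unique h hd (hy ⟨d, mem_zpowers d⟩) hdx, fun hy g => ?_⟩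
    rw [Set.mem_singleton_iff] at hy
    subst hy
    exact mem_stabilizer_iff.1 (zpowers_le.2 (mem_stabilizer_iff.2 hdx) g.2)
  rw [hfix, Nat.card_unique (α := ({x} : Set α)), Nat.ModEq] at h1
  obtain ⟨S₀⟩ : Nonempty (Sylow 2 G) := inferInstance
  obtain ⟨x₀, hx₀⟩ := S₀.2.nonempty_fixed_point_of_prime_not_dvd_card α (fun hdvd => by
    rw [Nat.mod_eq_zero_of_dvd hdvd] at h1; omega)
  obtain ⟨g, rfl⟩ := h.transitive x₀ x
  set S := g • S₀ with hS
  have hSx : ∀ s ∈ S, s • g • x₀ = g • x₀ := by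
    rintro _ ⟨s, hs, rfl⟩
    exact conj_smul_fix (g := g) (hx₀ ⟨s, hs⟩)
  obtain ⟨e, he, hex, hec⟩ := h.central (g • x₀) (S : Subgroup G) S.2 hSx
  have hsup : IsPGroup 2 ((S : Subgroup G) ⊔ zpowers e : Subgroup G) :=
    IsPGroup.to_sup_of_normal_left' S.2 (isPGroup_zpowers_of_two (orderOf_conj h he))
      (zpowers_le.2 (centralizer_le_normalizer _ (mem_centralizer_iff.2 fun s hs => (hec s hs).eq.symm)))
  have heS : e ∈ (S : Subgroup G) := (S.3 hsup le_sup_left).le (mem_sup_right (mem_zpowers e))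
  exact ⟨e, S, he, hex, heS, fun s hs => (hec s hs).symm, hSx⟩

/-- the setting of the general criterion at a point -/
theorem Crit.pointed (h : Crit G α z) {a b : α} (hab : a ≠ b) :
    ∃ d, IsConj z d ∧ d • a = a ∧ Pointed (stabilizer G a) d := by
  obtain ⟨d, S, hd, hda, hdS, hS, -⟩ := h.exists_central a
  refine ⟨d, hd, hda, orderOf_conj h hd, ⟨S, hdS, hS⟩, hda, fun ht => ?_, fun g hg => ?_⟩
  · obtain ⟨g, hg⟩ := h.transitive a b
    exact hab (hg ▸ (mem_stabilizer_iff.1 (ht.symm ▸ mem_top g)).symm)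
  · exact centre_unique h (hd.trans (isConj_iff.2 ⟨g, rfl⟩)) (conj_smul_fix hda) (mem_stabilizer_iff.1 hg)

/-- the product of two commuting members has its centraliser at their point -/
theorem Crit.centralizer_mul_le (h : Crit G α z) {a : α} {d e : G} (hd : IsConj z d) (he : IsConj z e)
    (hda : d • a = a) (hc : Commute d e) (hne : d ≠ e) :
    centralizer ({d * e} : Set G) ≤ stabilizer G a := by
  intro c hc'
  have hea : e • a = a := by
    obtain ⟨y, hy, -⟩ := h.uniq e he
    rwa [centre_eq_of_commute h hd he hc hda hy]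
  have hw : (d * e) • a = a := by rw [mul_smul, hea, hda]
  exact mem_stabilizer_iff.2 (h.comm d e hd he hc hne (c • a) a (by
    rw [smul_smul, ← mem_centralizer_singleton_iff.1 hc', mul_smul, hw]) hw)

/-- the hypothesis passes to the quotient by the kernel of the action -/
theorem Crit.quotient (h : Crit G α z) (N : Subgroup G) [N.Normal]
    (hN : ∀ n ∈ N, ∀ x : α, n • x = x) {a b : α} (hab : a ≠ b) [MulAction (G ⧸ N) α]
    (hact : ∀ (g : G) (x : α), QuotientGroup.mk' N g • x = g • x) : Crit (G ⧸ N) α (QuotientGroup.mk' N z) := by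
  haveI : Fact (Nat.Prime 2) := ⟨Nat.prime_two⟩
  have hlift : ∀ D, IsConj (QuotientGroup.mk' N z) D → ∃ d, IsConj z d ∧ QuotientGroup.mk' N d = D := by
    intro D hD
    obtain ⟨g, hg⟩ := isConj_iff.1 hD
    obtain ⟨g, rfl⟩ := QuotientGroup.mk'_surjective N g
    exact ⟨_, isConj_iff.2 ⟨g, rfl⟩, by rw [map_mul, map_mul, map_inv, hg]⟩
  have hne1 : QuotientGroup.mk' N z ≠ 1 := fun he => by
    have hz : z ∈ N := (QuotientGroup.eq_one_iff z).1 he
    exact hab ((h.uniq z (IsConj.refl z)).unique (hN z hz a) (hN z hz b))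
  refine ⟨order_two_of_mul_self (by rw [← map_mul, sq_of_order_two h.ord, map_one]) hne1, ?_, ?_, ?_⟩
  · intro D hD
    obtain ⟨d, hd, rfl⟩ := hlift D hD
    obtain ⟨x, hx, hu⟩ := h.uniq d hd
    exact ⟨x, by show QuotientGroup.mk' N d • x = x; rw [hact]; exact hx,
      fun y hy => hu y (by show d • y = y; rw [← hact]; exact hy)⟩
  · intro x P hP hPx
    set B := P.comap (QuotientGroup.mk' N) with hB
    obtain ⟨T⟩ : Nonempty (Sylow 2 B) := inferInstance
    have hBx : ∀ g ∈ B, g • x = x := fun g hg => by rw [← hact]; exact hPx _ hg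
    set f : B →* P := (QuotientGroup.mk' N).subgroupComap P
    have hf : Function.Surjective f :=
      MonoidHom.subgroupComap_surjective_of_surjective _ _ (QuotientGroup.mk'_surjective N)
    have htop : (T.mapSurjective hf : Subgroup P) = ⊤ :=
      ((T.mapSurjective hf).3 (hP.to_subgroup ⊤) le_top).symm
    obtain ⟨d, hd, hdx, hdT⟩ := h.central x ((T : Subgroup B).map B.subtype) (T.2.map _) (by
      rintro _ ⟨t, -, rfl⟩; exact hBx _ t.2)
    refine ⟨_, (QuotientGroup.mk' N).map_isConj hd, by rw [hact]; exact hdx, fun p hp => ?_⟩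
    have : (⟨p, hp⟩ : P) ∈ (T.mapSurjective hf : Subgroup P) := htop.symm ▸ mem_top _
    obtain ⟨t, ht, hte⟩ := this
    rw [show p = QuotientGroup.mk' N (t : G) from (congrArg Subtype.val hte).symm]
    exact (hdT _ ⟨t, ht, rfl⟩).map _
  · intro D E hD hE hc hne x y hx hy
    obtain ⟨d, hd, rfl⟩ := hlift D hD
    obtain ⟨e, he, rfl⟩ := hlift E hE
    rw [← map_mul, hact] at hx hy
    obtain ⟨p, hp, hpu⟩ := h.uniq d hd
    have hep : e • p = p := by
      obtain ⟨r, hr, hru⟩ := h.uniq e he
      have h1 : d • r = r := hru _ (by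
        show e • d • r = d • r
        rw [← hact e, ← hact d, ← mul_smul, ← hc.eq, mul_smul, hact e, hr])
      rwa [← hpu r h1]
    by_contra hxy
    have key : ∀ w : α, (d * e) • w = w → d • w = e • w := fun w hw => by
      conv_lhs => rw [← hw, mul_smul, smul_smul_self h hd]
    have hmove : ∀ w : α, (d * e) • w = w → w ≠ p →
        Odd (orderOf (d * e)) := fun w hw hwp => by
      have hdw : d • w ≠ w := fun e1 => hwp (hpu w e1)
      refine odd_swappers h hd he hdw.symm rfl (smul_smul_self h hd w) (key w hw).symm ?_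
      rw [key w hw, smul_smul_self h he]
    have hodd : Odd (orderOf (d * e)) := by
      by_cases hxp : x = p
      · exact hmove y hy fun hyp => hxy (hxp.trans hyp.symm)
      · exact hmove x hx hxp
    -- the image has order two
    refine hne ?_
    have h2 : QuotientGroup.mk' N (d * e) * QuotientGroup.mk' N (d * e) = 1 := by
      have hdd : ∀ {w : G}, IsConj z w → QuotientGroup.mk' N w * QuotientGroup.mk' N w = 1 := fun {w} hw => by
        rw [← map_mul, sq_of_order_two (orderOf_conj h hw), map_one]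
      rw [map_mul, hc.symm.mul_mul_mul_comm, hdd hd, hdd he, one_mul]
    have h3 : orderOf (QuotientGroup.mk' N (d * e)) ∣ 2 := orderOf_dvd_of_pow_eq_one (by rw [pow_two, h2])
    have h4 : orderOf (QuotientGroup.mk' N (d * e)) = 1 :=
      Nat.dvd_one.1 ((Nat.coprime_two_left.2 hodd) ▸ Nat.dvd_gcd h3 (orderOf_map_dvd _ _))
    rw [orderOf_eq_one_iff, map_mul, mul_eq_one_iff_eq_inv] at h4
    rw [h4, ← map_inv, inv_of_order_two (orderOf_conj h he)]

/-! ### the members centralising an involution -/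

theorem mem_localGen_of {u d : G} (hd : IsConj z d) (hc : Commute d u) : d ∈ localGen z u :=
  subset_closure ⟨hd, hc⟩

theorem commute_of_mem {u k : G} (hk : k ∈ localGen z u) : Commute k u :=
  mem_centralizer_singleton_iff.1 (localGen_le u hk)

theorem mem_line {u : G} {x : α} : x ∈ fixSet α (zpowers u) ↔ u • x = x :=
  ⟨fun hx => hx u (mem_zpowers u), fun hx => mem_fixSet_zpowers hx⟩

/-- the action of the members centralising `u` on the fixed points of `u` -/
instance lineAction (u : G) : MulAction (localGen z u) (fixSet α (zpowers u)) where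
  smul k x := ⟨(k : G) • (x : α), mem_line.2 (by
    rw [smul_smul, ← (commute_of_mem k.2).eq, mul_smul, mem_line.1 x.2])⟩
  one_smul x := Subtype.ext (one_smul G (x : α))
  mul_smul a b x := Subtype.ext (mul_smul (a : G) (b : G) (x : α))

theorem line_smul {u : G} (k : localGen z u) (x : fixSet α (zpowers u)) :
    ((k • x : fixSet α (zpowers u)) : α) = (k : G) • (x : α) := rfl

theorem line_stabilizer {u : G} (x : fixSet α (zpowers u)) :
    stabilizer (localGen z u) x = (stabilizer G (x : α)).subgroupOf (localGen z u) := by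
  ext k
  rw [mem_stabilizer_iff, mem_subgroupOf, mem_stabilizer_iff, Subtype.ext_iff, line_smul]

variable (h : Crit G α z) {u : G} (hu : orderOf u = 2) {a b : α} (hua : u • a = a) (hub : u • b = b)
  (hab : a ≠ b)
include h hu hua hub hab

/-- the members centralising `u` are one class of the group they generate -/
theorem members_conj_line {d e : G} (hd : IsConj z d) (he : IsConj z e) (hdu : Commute d u)
    (heu : Commute e u) :
    ∃ g ∈ localGen z u, g * d * g⁻¹ = e := by
  have step : ∀ d₁ d₂ : G, IsConj z d₁ → IsConj z d₂ → Commute d₁ u → Commute d₂ u →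
      ∀ x y : α, d₁ • x = x → d₂ • y = y → x ≠ y → ∃ g ∈ localGen z u, g * d₁ * g⁻¹ = d₂ := by
    intro d₁ d₂ h1 h2 c1 c2 x y hx hy hxy
    obtain ⟨g, hg, hgd⟩ := Cfsg.Lib.InvolCalc.conj_of_odd (orderOf_conj h h1) (orderOf_conj h h2)
      (odd_product h h1 h2 hx hy hxy)
    refine ⟨g, (closure_le _).2 ?_ hg, hgd⟩
    rintro w (rfl | hw)
    · exact mem_localGen_of h1 c1
    · rw [Set.mem_singleton_iff] at hw
      subst hw
      exact mem_localGen_of h2 c2
  obtain ⟨x, hx, -⟩ := h.uniq d hd
  obtain ⟨y, hy, -⟩ := h.uniq e he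
  by_cases hxy : x = y
  swap
  · exact step d e hd he hdu heu x y hx hy hxy
  subst hxy
  obtain ⟨w, hw, hwx⟩ : ∃ w : α, u • w = w ∧ w ≠ x := by
    by_cases hax : a = x
    · exact ⟨b, hub, fun e' => hab (hax.trans e'.symm)⟩
    · exact ⟨a, hua, hax⟩
  obtain ⟨f, hf, hfw, hfu⟩ := h.central w (zpowers u) (isPGroup_zpowers_of_two hu) (mem_fixSet_zpowers hw)
  obtain ⟨g₁, hg₁, e₁⟩ := step d f hd hf hdu (hfu u (mem_zpowers u)) x w hx hfw hwx.symm
  obtain ⟨g₂, hg₂, e₂⟩ := step f e hf he (hfu u (mem_zpowers u)) heu w x hfw hy hwx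
  exact ⟨g₂ * g₁, mul_mem hg₂ hg₁, by rw [← e₂, ← e₁]; group⟩

/-- the hypothesis holds for the members centralising `u` on the fixed points of `u` -/
theorem crit_line : ∃ z₀ : localGen z u, IsConj z (z₀ : G) ∧ Crit (localGen z u) (fixSet α (zpowers u)) z₀ ∧
    ∀ d : localGen z u, IsConj z₀ d ↔ IsConj z (d : G) := by
  obtain ⟨d₀, hd₀, -, hd₀u⟩ := h.central a (zpowers u) (isPGroup_zpowers_of_two hu) (mem_fixSet_zpowers hua)
  have hd₀K := mem_localGen_of hd₀ (hd₀u u (mem_zpowers u))
  have hiff : ∀ d : localGen z u, IsConj (⟨d₀, hd₀K⟩ : localGen z u) d ↔ IsConj z (d : G) := fun d =>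
    ⟨fun hd => hd₀.trans ((localGen z u).subtype.map_isConj hd), fun hd => by
      obtain ⟨g, hg, hgd⟩ := members_conj_line h hu hua hub hab hd₀ hd (hd₀u u (mem_zpowers u))
        (commute_of_mem d.2)
      exact isConj_iff.2 ⟨⟨g, hg⟩, Subtype.ext hgd⟩⟩
  refine ⟨⟨d₀, hd₀K⟩, hd₀, ⟨by rw [Subgroup.orderOf_mk]; exact orderOf_conj h hd₀, ?_, ?_, ?_⟩, hiff⟩
  · intro d hd
    have hdD := (hiff d).1 hd
    obtain ⟨x, hx, hxu⟩ := h.uniq _ hdD
    exact ⟨⟨x, mem_line.2 (smul_centre h hdD (commute_of_mem d.2).symm hx)⟩, Subtype.ext hx,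
      fun y hy => Subtype.ext (hxu _ (congrArg Subtype.val hy))⟩
  · intro x P hP hPx
    set T := P.map (localGen z u).subtype ⊔ zpowers u with hT
    have hTp : IsPGroup 2 T := IsPGroup.to_sup_of_normal_right'
      (hP.map _) (isPGroup_zpowers_of_two hu) (fun t ht => by
        obtain ⟨p, -, rfl⟩ := ht
        refine centralizer_le_normalizer _ (mem_centralizer_iff.2 fun w hw => ?_)
        obtain ⟨j, rfl⟩ := mem_zpowers_iff.1 hw
        exact ((commute_of_mem p.2).zpow_right j).eq.symm)
    have hTx : T ≤ stabilizer G (x : α) := sup_le (fun t ht => by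
      obtain ⟨p, hp, rfl⟩ := ht
      exact mem_stabilizer_iff.2 (congrArg Subtype.val (hPx p hp)))
      (zpowers_le.2 (mem_stabilizer_iff.2 (mem_line.1 x.2)))
    obtain ⟨d, hd, hdx, hdT⟩ := h.central x T hTp fun t ht => hTx ht
    have hdK := mem_localGen_of hd (hdT u (mem_sup_right (mem_zpowers u)))
    exact ⟨⟨d, hdK⟩, (hiff _).2 hd, Subtype.ext hdx,
      fun p hp => Subtype.ext (hdT _ (mem_sup_left ⟨p, hp, rfl⟩)).eq⟩
  · intro d e hd he hc hne x y hx hy
    exact Subtype.ext (h.comm d e ((hiff d).1 hd) ((hiff e).1 he) (hc.map (localGen z u).subtype)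
      (fun e' => hne (Subtype.ext e')) x y (congrArg Subtype.val hx) (congrArg Subtype.val hy))

end Cfsg.Lib.BenderSE.Crit2
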