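/-
The transfer of a generator (notes/s1175_h6_final.md, W4): if every conjugate in a Sylow `2`-subgroup `S`
of the `2`-element `σ` goes to the involution `w` under `χ : S →* C`, and every conjugate of an even power
of `σ` goes to `1`, then the transfer of `σ` is `w`, so a simple group with these data is commutative.
-/
import Mathlib

set_option autoImplicit false
set_option linter.style.haveILetI false
set_option linter.unusedSectionVars false

namespace Cfsg.Lib.BenderSE.Crit2

open Subgroup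

universe u v

variable {G : Type u} [Group G] [Finite G] {C : Type v} [CommGroup C]

/-- GENERATOR TRANSFER: the transfer of `σ` is the common image of its conjugates. -/
theorem transfer_eq_of_unit (S : Sylow 2 G) (χ : (S : Subgroup G) →* C) {σ : G} {k : ℕ}
    (hσ : orderOf σ = 2 ^ k) {w : C} (hw : w ^ 2 = 1)
    (hone : ∀ g : G, ∀ h : g⁻¹ * σ * g ∈ (S : Subgroup G), χ ⟨_, h⟩ = w)
    (heven : ∀ (g : G) (l : ℕ), Even l → ∀ h : g⁻¹ * σ ^ l * g ∈ (S : Subgroup G), χ ⟨_, h⟩ = 1) :
    MonoidHom.transfer χ σ = w := by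
  classical
  haveI : Fact (Nat.Prime 2) := ⟨Nat.prime_two⟩
  haveI : (S : Subgroup G).FiniteIndex := inferInstance
  letI := Fintype.ofFinite (G ⧸ (S : Subgroup G))
  letI := Fintype.ofFinite (Quotient (MulAction.orbitRel (zpowers σ) (G ⧸ (S : Subgroup G))))
  rw [MonoidHom.transfer_eq_prod_quotient_orbitRel_zpowers_quot]
  set l : Quotient (MulAction.orbitRel (zpowers σ) (G ⧸ (S : Subgroup G))) → ℕ :=
    fun q => Function.minimalPeriod (σ • ·) q.out with hl
  -- every period is `1` or even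
  have hpar : ∀ q, l q = 1 ∨ Even (l q) := by
    intro q
    have hd : l q ∣ 2 ^ k := by
      rw [← hσ]
      refine Function.IsPeriodicPt.minimalPeriod_dvd ?_
      show (σ • ·)^[orderOf σ] q.out = q.out
      rw [smul_iterate_apply, pow_orderOf_eq_one, one_smul]
    obtain ⟨i, -, hi⟩ := (Nat.dvd_prime_pow Nat.prime_two).1 hd
    rcases i with - | i
    · exact Or.inl (by simpa using hi)
    · exact Or.inr (by rw [hi, pow_succ]; exact even_two.mul_left _)
  -- their sum is the odd index
  have hsum : ∑ q, l q = (S : Subgroup G).index := by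
    rw [Subgroup.index_eq_card, Nat.card_congr (quotientEquivSigmaZMod (S : Subgroup G) σ), Nat.card_sigma]
    exact Finset.sum_congr rfl fun q _ => (Nat.card_zmod _).symm
  have hodd : Odd (∑ q, l q) := by
    rw [hsum, ← Nat.not_even_iff_odd]
    exact fun h => S.not_dvd_index h.two_dvd
  -- each factor is `w ^ period`
  have hterm : ∀ q, χ ⟨q.out.out⁻¹ * σ ^ l q * q.out.out,
      QuotientGroup.out_conj_pow_minimalPeriod_mem (S : Subgroup G) σ q.out⟩ = w ^ l q := by
    intro q
    rcases hpar q with h | h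
    · have h1 : q.out.out⁻¹ * σ * q.out.out ∈ (S : Subgroup G) := by
        have := QuotientGroup.out_conj_pow_minimalPeriod_mem (S : Subgroup G) σ q.out
        change q.out.out⁻¹ * σ ^ l q * q.out.out ∈ (S : Subgroup G) at this
        rwa [h, pow_one] at this
      have e := congrArg χ (Subtype.ext (by simp [h]) :
        (⟨q.out.out⁻¹ * σ ^ l q * q.out.out, QuotientGroup.out_conj_pow_minimalPeriod_mem (S : Subgroup G) σ q.out⟩ :
          (S : Subgroup G)) = ⟨_, h1⟩)
      rw [e, hone _ h1, h, pow_one]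
    · obtain ⟨j, hj⟩ := h
      refine (heven _ (l q) ⟨j, hj⟩ _).trans ?_
      rw [hj, ← two_mul, pow_mul, hw, one_pow]
  calc _ = ∏ q, w ^ l q := Finset.prod_congr rfl fun q _ => hterm q
    _ = w ^ ∑ q, l q := (Finset.prod_pow_eq_pow_sum _ _ _)
    _ = w := by
      obtain ⟨j, hj⟩ := hodd
      rw [hj, pow_succ, pow_mul, hw, one_pow, one_mul]

/-- the images of the generator's conjugates in a cyclic quotient of its own order -/
theorem transfer_ne_one_of_cyclic [Finite C] [IsCyclic C] (S : Sylow 2 G) (ψ : (S : Subgroup G) →* C)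
    {σ : G} {k : ℕ} (hσ : orderOf σ = 2 ^ (k + 1)) (hC : Nat.card C = 2 ^ (k + 1))
    (hgen : ∀ g : G, ∀ h : g⁻¹ * σ * g ∈ (S : Subgroup G), orderOf (ψ ⟨_, h⟩) = 2 ^ (k + 1)) :
    ∃ V : G →* C, V σ ≠ 1 := by
  classical
  obtain ⟨x, hx⟩ := IsCyclic.exists_ofOrder_eq_natCard (α := C)
  set w := x ^ 2 ^ k with hw'
  have hxo : orderOf x = 2 ^ (k + 1) := hx.trans hC
  have hw2 : w ^ 2 = 1 := by rw [hw', ← pow_mul, ← pow_succ, ← hxo, pow_orderOf_eq_one]
  have hw1 : w ≠ 1 := fun e => by
    have := Nat.le_of_dvd (by positivity) (orderOf_dvd_of_pow_eq_one e)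
    rw [hxo, pow_succ] at this
    have := Nat.two_pow_pos k
    omega
  let χ : (S : Subgroup G) →* C := (powMonoidHom (2 ^ k)).comp ψ
  refine ⟨MonoidHom.transfer χ, ?_⟩
  rw [transfer_eq_of_unit S χ hσ hw2 ?_ ?_]
  · exact hw1
  · intro g h
    show (ψ ⟨_, h⟩) ^ 2 ^ k = w
    have hy := hgen g h
    have hmem : ψ ⟨_, h⟩ ∈ zpowers x := by
      rw [eq_top_of_card_eq (zpowers x) (by rw [Nat.card_zpowers, hx])]
      exact mem_top _
    obtain ⟨n, hn⟩ := mem_powers_iff_mem_zpowers.2 hmem
    simp only at hn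
    rw [← hn] at hy ⊢
    have hnodd : Odd n := by
      rw [← Nat.not_even_iff_odd]
      rintro ⟨j, rfl⟩
      have : (x ^ (j + j)) ^ 2 ^ k = 1 := by
        rw [← pow_mul, show (j + j) * 2 ^ k = 2 ^ (k + 1) * j by ring, pow_mul, ← hxo,
          pow_orderOf_eq_one, one_pow]
      have := Nat.le_of_dvd (by positivity) (orderOf_dvd_of_pow_eq_one this)
      rw [hy, pow_succ] at this
      have := Nat.two_pow_pos k
      omega
    obtain ⟨j, rfl⟩ := hnodd
    rw [← pow_mul, show (2 * j + 1) * 2 ^ k = 2 ^ (k + 1) * j + 2 ^ k by ring, pow_add, pow_mul, ← hxo,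
      pow_orderOf_eq_one, one_pow, one_mul, hw']
  · rintro g l ⟨j, rfl⟩ h
    show (ψ ⟨_, h⟩) ^ 2 ^ k = 1
    rw [← map_pow]
    have : (⟨_, h⟩ : (S : Subgroup G)) ^ 2 ^ k = 1 := Subtype.ext (by
      push_cast
      have e : g⁻¹ * σ ^ (j + j) * g = MulAut.conj g⁻¹ (σ ^ (j + j)) := by simp
      rw [e, ← map_pow, ← pow_mul, show (j + j) * 2 ^ k = 2 ^ (k + 1) * j by ring, pow_mul, ← hσ,
        pow_orderOf_eq_one, one_pow, map_one])
    rw [this, map_one]

/-- a simple group with a non-trivial homomorphism into a commutative group is commutative -/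
theorem isMulCommutative_of_hom [IsSimpleGroup G] (V : G →* C) {σ : G} (hV : V σ ≠ 1) :
    IsMulCommutative G := by
  rcases IsSimpleGroup.eq_bot_or_eq_top_of_normal V.ker inferInstance with h | h
  · exact ⟨⟨fun a b => (MonoidHom.ker_eq_bot_iff V).1 h (by rw [map_mul, map_mul, mul_comm])⟩⟩
  · exact absurd (MonoidHom.mem_ker.1 (h ▸ mem_top σ)) hV

end Cfsg.Lib.BenderSE.Crit2
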