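/-
Endings for the criterion (notes/s1175_h6_field.md): an involution weakly closed in a Sylow 2-subgroup, an
involution with all its conjugates outside a normal subgroup with cyclic quotient, and the cyclic image of
2-groups in solvable transitive linear groups.
-/
import Cfsg.Agent.BenderSE.Criterion2.GenTransfer
import Cfsg.Agent.InvolCalc.ZStarApps
import Cfsg.Agent.LinearPerm.SolvableTransitive.Main
import Cfsg.Agent.Known.FieldAutLight

set_option autoImplicit false
set_option linter.unusedSectionVars false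
set_option linter.style.haveILetI false

namespace Cfsg.Lib.BenderSE.Crit2

open Subgroup

universe u

variable {G : Type u} [Group G] [Finite G]

/-- Glauberman: a simple group has no isolated involution -/
theorem false_of_isolated [IsSimpleGroup G] (hna : ¬ IsMulCommutative G) {u : G}
    (hu : Cfsg.IsIsolatedInvolution u) : False := by
  have hodd := Cfsg.Lib.ZStarApps.odd_card_pPrimeCore (G := G)
  have hbot : Cfsg.pPrimeCore 2 G = ⊥ := by
    rcases IsSimpleGroup.eq_bot_or_eq_top_of_normal (Cfsg.pPrimeCore 2 G)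
      ((sSup_normal _ fun A hA => hA.1)) with h | h
    · exact h
    · exfalso
      have h2 := Subgroup.orderOf_dvd_natCard (Cfsg.pPrimeCore 2 G) (h ▸ mem_top u : u ∈ _)
      rw [hu.1] at h2
      exact Nat.not_even_iff_odd.2 hodd (even_iff_two_dvd.2 h2)
  have hc : u ∈ center G := mem_center_iff.2 fun g => by
    have h := Cfsg.Lib.ZStarApps.zstarProp hu g
    rw [hbot, mem_bot, mul_inv_eq_one, mul_inv_eq_iff_eq_mul] at h
    exact h.symm
  rcases IsSimpleGroup.eq_bot_or_eq_top_of_normal (center G) inferInstance with h | h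
  · rw [h, mem_bot] at hc
    have := hu.1
    rw [hc, orderOf_one] at this
    omega
  · exact hna ⟨⟨fun a b => (mem_center_iff.1 (h ▸ mem_top b : b ∈ center G) a)⟩⟩

/-- no involution of a simple group is weakly closed in a Sylow 2-subgroup -/
theorem false_of_weaklyClosed [IsSimpleGroup G] (hna : ¬ IsMulCommutative G) (S : Sylow 2 G) {u : G}
    (hu : orderOf u = 2) (hS : ∀ g : G, g * u * g⁻¹ ∈ (S : Subgroup G) → g * u * g⁻¹ = u) : False := by
  haveI : Fact (Nat.Prime 2) := ⟨Nat.prime_two⟩
  refine false_of_isolated hna ⟨hu, fun g hc => ?_⟩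
  set v := g * u * g⁻¹ with hv
  have hu2 : u ^ 2 = 1 := hu ▸ pow_orderOf_eq_one u
  have hv2 : v ^ 2 = 1 := by rw [hv, conj_pow, hu2, mul_one, mul_inv_cancel]
  have hp : IsPGroup 2 (closure {u, v} : Subgroup G) := by
    haveI := isMulCommutative_closure (k := ({u, v} : Set G)) (by
      rintro a (rfl | rfl) b (rfl | rfl)
      exacts [rfl, hc.eq, hc.eq.symm, rfl])
    have key : ∀ x ∈ closure ({u, v} : Set G), x ^ 2 = 1 := fun x hx => by
      induction hx using closure_induction with
      | mem y hy => rcases hy with rfl | rfl <;> assumption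
      | one => exact one_pow 2
      | mul a b ha hb ia ib =>
        have hab : Commute a b := congrArg Subtype.val (mul_comm' (⟨a, ha⟩ : closure ({u, v} : Set G)) ⟨b, hb⟩)
        rw [hab.mul_pow, ia, ib, one_mul]
      | inv a _ ia => rw [inv_pow, ia, inv_one]
    exact fun x => ⟨1, Subtype.ext (by rw [pow_one]; exact key x x.2)⟩
  obtain ⟨P, hP⟩ := hp.exists_le_sylow
  obtain ⟨k, rfl⟩ := MulAction.exists_smul_eq G S P
  have hmem : ∀ x ∈ ({u, v} : Set G), k⁻¹ * x * k ∈ (S : Subgroup G) := fun x hx => by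
    obtain ⟨y, hy, e⟩ := hP (subset_closure hx)
    rw [← e]
    show k⁻¹ * (k * y * k⁻¹) * k ∈ (S : Subgroup G)
    simpa [mul_assoc] using (SetLike.mem_coe.1 hy)
  have h1 : k⁻¹ * u * k = u := by
    have := hS k⁻¹ (by simpa using hmem u (by simp))
    simpa using this
  have h2 : k⁻¹ * v * k = u := by
    have e : k⁻¹ * v * k = (k⁻¹ * g) * u * (k⁻¹ * g)⁻¹ := by rw [hv]; group
    rw [e]
    exact hS _ (e ▸ hmem v (by simp))
  exact mul_left_cancel (mul_right_cancel (h2.trans h1.symm))

/-- an involution with all conjugates in `S` outside a normal subgroup with cyclic quotient -/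
theorem false_of_cyclic_quotient [IsSimpleGroup G] (hna : ¬ IsMulCommutative G) (S : Sylow 2 G) (T : Subgroup G)
    (hTS : T ≤ (S : Subgroup G)) (hN : (S : Subgroup G) ≤ normalizer (T : Set G)) {g : G}
    (hg : g ∈ (S : Subgroup G)) (hgen : (S : Subgroup G) ≤ T ⊔ zpowers g) {u : G} (hu : orderOf u = 2)
    (huS : u ∈ (S : Subgroup G))
    (hout : ∀ x : G, x * u * x⁻¹ ∈ (S : Subgroup G) → x * u * x⁻¹ ∉ T) : False := by
  haveI : Fact (Nat.Prime 2) := ⟨Nat.prime_two⟩
  haveI : (T.subgroupOf (S : Subgroup G)).Normal :=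
    (normal_subgroupOf_iff_le_normalizer hTS).2 hN
  set C := (S : Subgroup G) ⧸ T.subgroupOf (S : Subgroup G)
  let mk : (S : Subgroup G) →* C := QuotientGroup.mk' _
  have htop : ∀ c : C, c ∈ zpowers (mk ⟨g, hg⟩) := fun c => by
    obtain ⟨s, rfl⟩ := QuotientGroup.mk'_surjective _ c
    have hs : (s : G) ∈ T ⊔ zpowers g := hgen s.2
    rw [← SetLike.mem_coe, coe_mul_of_right_le_normalizer_left T (zpowers g) (zpowers_le.2 (hN hg))] at hs
    obtain ⟨t, ht, w, hw, e⟩ := hs
    obtain ⟨n, rfl⟩ := mem_zpowers_iff.1 hw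
    refine mem_zpowers_iff.2 ⟨n, ?_⟩
    rw [show mk s = mk (⟨t, hTS ht⟩ * ⟨g, hg⟩ ^ n) from congrArg mk (Subtype.ext (by simpa using e.symm)),
      map_mul, show mk ⟨t, hTS ht⟩ = 1 from (QuotientGroup.eq_one_iff _).2 (mem_subgroupOf.2 ht), one_mul,
      map_zpow]
  haveI hcyc : IsCyclic C := ⟨⟨mk ⟨g, hg⟩, htop⟩⟩
  letI : CommGroup C := IsCyclic.commGroup
  set w := mk ⟨u, huS⟩
  have hu2 : u ^ 2 = 1 := hu ▸ pow_orderOf_eq_one u
  have hw2 : w ^ 2 = 1 := by
    rw [← map_pow, show (⟨u, huS⟩ : (S : Subgroup G)) ^ 2 = 1 from Subtype.ext hu2, map_one]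
  have hw1 : w ≠ 1 := fun e => by
    have := hout 1 (by simpa using huS)
    exact this (by simpa using mem_subgroupOf.1 ((QuotientGroup.eq_one_iff _).1 e))
  have hV := transfer_eq_of_unit S mk (σ := u) (k := 1) hu hw2 (fun x h => ?_) (fun x l hl h => ?_)
  · exact hna (isMulCommutative_of_hom (MonoidHom.transfer mk) (hV ▸ hw1))
  · -- the only involution of a cyclic group
    have hy2 : (mk ⟨_, h⟩) ^ 2 = 1 := by
      rw [← map_pow, show (⟨x⁻¹ * u * x, h⟩ : (S : Subgroup G)) ^ 2 = 1 from Subtype.ext (by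
        show (x⁻¹ * u * x) ^ 2 = 1
        rw [show x⁻¹ * u * x = x⁻¹ * u * x⁻¹⁻¹ by group, conj_pow, hu2]; group), map_one]
    have hy1 : mk ⟨_, h⟩ ≠ 1 := fun e => by
      have := hout x⁻¹ (by simpa using h)
      exact this (by simpa using mem_subgroupOf.1 ((QuotientGroup.eq_one_iff _).1 e))
    by_contra hne
    classical
    haveI := Fintype.ofFinite C
    have h3 : ({1, w, mk ⟨_, h⟩} : Finset C) ⊆ Finset.univ.filter fun c : C => c ^ 2 = 1 := by
      intro c hc
      simp only [Finset.mem_insert, Finset.mem_singleton] at hc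
      rcases hc with rfl | rfl | rfl <;> simp [hw2, hy2]
    have h4 := (Finset.card_le_card h3).trans (IsCyclic.card_pow_eq_one_le (α := C) (by norm_num : 0 < 2))
    rw [Finset.card_insert_of_notMem (by simp [Ne.symm hw1, Ne.symm hy1]), Finset.card_pair (Ne.symm hne)] at h4
    omega
  · obtain ⟨j, rfl⟩ := hl
    rw [show (⟨_, h⟩ : (S : Subgroup G)) = 1 from Subtype.ext (by
      show x⁻¹ * u ^ (j + j) * x = 1
      rw [← two_mul, pow_mul, hu2, one_pow]; group), map_one]

/-- 2-subgroups of a solvable group transitive on `T` minus `1` act on `T` as cyclic groups -/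
theorem cyclic_image {H T P : Subgroup G} (hH : Group.IsSolvable H) (hHT : H ≤ normalizer (T : Set G))
    (hT : ∀ t ∈ T, t * t = 1) (hne : T ≠ ⊥)
    (htr : ∀ a ∈ T, ∀ b ∈ T, a ≠ 1 → b ≠ 1 → ∃ h ∈ H, h * a * h⁻¹ = b)
    (hP : IsPGroup 2 P) (hPH : P ≤ H) :
    ∃ g ∈ P, P ≤ (P ⊓ centralizer (T : Set G)) ⊔ zpowers g := by
  classical
  letI : CommGroup T :=
    { (inferInstance : Group T) with
      mul_comm := fun x y => Subtype.ext (by
        show (x : G) * y = y * x
        rw [eq_inv_of_mul_eq_one_left (hT _ (mul_mem x.2 y.2)), mul_inv_rev,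
          inv_eq_of_mul_eq_one_right (hT _ x.2), inv_eq_of_mul_eq_one_right (hT _ y.2)]) }
  have h2 : ∀ x : Additive T, 2 • x = 0 := fun x => by
    rw [two_nsmul]
    exact Subtype.ext (hT _ (Additive.toMul x).2)
  letI : Module (ZMod 2) (Additive T) := AddCommGroup.zmodModule h2
  haveI : Fact (Nat.Prime 2) := ⟨Nat.prime_two⟩
  haveI : Nontrivial T := (nontrivial_iff_ne_bot T).2 hne
  haveI : Finite (Additive T) := inferInstanceAs (Finite T)
  let f : H →* MulAut T := (normalizerMonoidHom T).comp (inclusion hHT)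
  let ρ : H →* (Additive T ≃ₗ[ZMod 2] Additive T) :=
    { toFun := fun d => { (f d).toAdditive with
        map_smul' := fun k x => ZMod.map_smul (f d).toAdditive.toAddMonoidHom k x }
      map_one' := LinearEquiv.ext fun x => by
        show Additive.ofMul (f 1 (Additive.toMul x)) = x
        rw [map_one]
        rfl
      map_mul' := fun d d' => LinearEquiv.ext fun x => by
        show Additive.ofMul (f (d * d') (Additive.toMul x)) = _
        rw [map_mul]
        rfl }
  haveI : Finite (Additive T ≃ₗ[ZMod 2] Additive T) :=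
    Finite.of_injective (fun l => (l : Additive T → Additive T)) DFunLike.coe_injective
  haveI := hH
  have htrans : ∀ v w : Additive T, v ≠ 0 → w ≠ 0 → ∃ g : ρ.range, ρ.range.subtype g v = w := by
    intro v w hv hw
    obtain ⟨d, hd, hdv⟩ := htr (Additive.toMul v : T) (Additive.toMul v).2 (Additive.toMul w : T)
      (Additive.toMul w).2 (fun h => hv (Subtype.ext h)) (fun h => hw (Subtype.ext h))
    exact ⟨⟨ρ ⟨d, hd⟩, ⟨d, hd⟩, rfl⟩, Subtype.ext hdv⟩
  rcases Cfsg.Lib.SolvableTransitive.main (q := 2)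
      (Group.isSolvable_of_surjective ρ.rangeRestrict_surjective) ρ.range.subtype
      Subtype.val_injective htrans with ⟨F, hField, hFin, e, he⟩ | hexc
  swap
  · exfalso
    obtain ⟨t, ht, ht1⟩ := T.bot_or_exists_ne_one.resolve_left hne
    have hc : 2 ∣ Nat.card (Additive T) := by
      have h := Subgroup.orderOf_dvd_natCard T ht
      rwa [orderOf_eq_prime (p := 2) (by rw [pow_two, hT t ht]) ht1] at h
    simp only [Set.mem_insert_iff, Set.mem_singleton_iff] at hexc
    rcases hexc with h | h | h | h | h | h <;> rw [h] at hc <;> norm_num at hc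
  letI := hField
  letI := hFin
  choose a σ has' using fun d : H => he ⟨ρ d, d, rfl⟩
  have has : ∀ (d : H) v, e (ρ d v) = a d * σ d (e v) := has'
  obtain ⟨v₁, hv₁⟩ := e.surjective 1
  have ha : ∀ d, e (ρ d v₁) = a d := fun d => (has d v₁).trans (by rw [hv₁, map_one, mul_one])
  have huniq : ∀ (d : H) (b : F) (τ : F ≃+* F), (∀ v, e (ρ d v) = b * τ (e v)) → σ d = τ := by
    intro d b τ h
    have hb : a d = b := by rw [← ha, h v₁, hv₁, map_one, mul_one]
    have ha0 : a d ≠ 0 := fun h0 => by
      have h1 := ha d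
      rw [h0] at h1
      have := (ρ d).map_eq_zero_iff.1 (e.map_eq_zero_iff.1 h1)
      rw [this, map_zero] at hv₁
      exact zero_ne_one hv₁
    ext x
    obtain ⟨v, rfl⟩ := e.surjective x
    exact mul_left_cancel₀ ha0 (((has d v).symm.trans (h v)).trans (by rw [hb]))
  let σH : H →* (F ≃+* F) := MonoidHom.mk' σ (fun d d' => huniq (d * d') (a d * σ d (a d')) _ fun v => by
    show e (ρ (d * d') v) = _
    rw [show ρ (d * d') v = ρ d (ρ d' v) by rw [map_mul]; rfl, has d, has d', map_mul, mul_assoc]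
    rfl)
  haveI : CharP F 2 := CharTwo.of_one_ne_zero_of_two_eq_zero one_ne_zero (by
    have h := congrArg e (h2 v₁)
    rwa [map_nsmul, hv₁, map_zero, nsmul_one, Nat.cast_ofNat] at h)
  obtain ⟨n, -, hn⟩ := FiniteField.card F 2
  haveI := (Cfsg.Lib.Known.FieldLight.ringAut_facts 2 n hn).1
  let τ : P →* (F ≃+* F) := σH.comp (inclusion hPH)
  haveI : IsCyclic τ.range := Subgroup.isCyclic τ.range
  obtain ⟨⟨c, g, rfl⟩, hc⟩ := IsCyclic.exists_generator (α := τ.range)
  refine ⟨g, g.2, fun p hp => ?_⟩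
  obtain ⟨m, hm⟩ := mem_zpowers_iff.1 (hc ⟨τ ⟨p, hp⟩, _, rfl⟩)
  set k : P := (g ^ m)⁻¹ * ⟨p, hp⟩ with hk
  have hk1 : τ k = 1 := by
    have hm' : τ g ^ m = τ ⟨p, hp⟩ := congrArg Subtype.val hm
    rw [hk, map_mul, map_inv, map_zpow, hm', inv_mul_cancel]
  -- an element of 2-power order acting by a scalar acts trivially
  have hkC : (k : G) ∈ centralizer (T : Set G) := by
    set d : H := inclusion hPH k
    have hσd : σ d = 1 := hk1
    have hlin : ∀ v, e (ρ d v) = a d * e v := fun v => by rw [has d v, hσd]; rfl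
    have hpow : ∀ (i : ℕ) (v), e (ρ (d ^ i) v) = a d ^ i * e v := fun i => by
      induction i with
      | zero => intro v; rw [pow_zero, pow_zero, one_mul, map_one]; rfl
      | succ i ih =>
        intro v
        rw [pow_succ', pow_succ', map_mul,
          show (ρ d * ρ (d ^ i)) v = ρ d (ρ (d ^ i) v) from rfl, hlin, ih, mul_assoc]
    obtain ⟨i, hi⟩ := hP k
    have hd1 : d ^ 2 ^ i = 1 := by rw [← map_pow, hi, map_one]
    have ha1 : a d ^ 2 ^ i = 1 := by
      have := hpow (2 ^ i) v₁
      rw [hd1, map_one, hv₁, mul_one] at this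
      rw [← this]
      exact hv₁
    have ha2 : a d = 1 := iterateFrobenius_inj F 2 i (by rw [iterateFrobenius_def, iterateFrobenius_def, ha1, one_pow])
    refine mem_centralizer_iff.2 fun t ht => ?_
    have h := hlin (Additive.ofMul (⟨t, ht⟩ : T))
    rw [ha2, one_mul] at h
    have h' : (k : G) * t * (k : G)⁻¹ = t := congrArg (fun x : Additive T => ((Additive.toMul x : T) : G))
      (e.injective h)
    rw [mul_inv_eq_iff_eq_mul] at h'
    exact h'.symm
  have e1 : p = (g : G) ^ m * (k : G) := by rw [hk]; simp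
  rw [e1]
  exact mul_mem (mem_sup_right (zpow_mem (mem_zpowers _) m)) (mem_sup_left ⟨k.2, hkC⟩)

end Cfsg.Lib.BenderSE.Crit2
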