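/-
Aschbacher's criterion, an involution which is a square in the kernel of its line (notes/s1175_h1_audit.md, A4):
its centraliser contains a Sylow 2-subgroup, none of its conjugates commutes with it through a member, so all of
them centralise the clique and the involution is weakly closed.
-/
import Cfsg.Agent.BenderSE.Criterion2.CyclicEnd
import Cfsg.Agent.InvolCalc.Dihedral

set_option autoImplicit false
set_option linter.unusedSectionVars false
set_option linter.style.haveILetI false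

namespace Cfsg.Lib.BenderSE.Crit2

open Subgroup Cfsg.Lib.InvolCalc

universe u

variable {G : Type u} [Group G] [Finite G]

/-- a 2-subgroup of `K` is conjugate in `K` into a Sylow 2-subgroup lying in `K` -/
theorem exists_conj_into {K : Subgroup G} (S : Sylow 2 G) (hS : (S : Subgroup G) ≤ K) {V : Subgroup G}
    (hV : IsPGroup 2 V) (hVK : V ≤ K) : ∃ k ∈ K, ∀ v ∈ V, k⁻¹ * v * k ∈ (S : Subgroup G) := by
  haveI : Fact (Nat.Prime 2) := ⟨Nat.prime_two⟩
  obtain ⟨R, hR⟩ := (hV.of_equiv (subgroupOfEquivOfLe hVK).symm).exists_le_sylow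
  obtain ⟨k, rfl⟩ := MulAction.exists_smul_eq K (S.subtype hS) R
  refine ⟨k, k.2, fun v hv => ?_⟩
  obtain ⟨x, hx, e⟩ := hR (show (⟨v, hVK hv⟩ : K) ∈ V.subgroupOf K from hv)
  have e' : (k : G) * (x : G) * (k : G)⁻¹ = v := congrArg Subtype.val e
  rw [← e', show (k : G)⁻¹ * ((k : G) * x * (k : G)⁻¹) * k = x by group]
  exact hx

/-- an element conjugating a finite subgroup into itself conjugates it back -/
theorem conj_mem_symm {A : Subgroup G} {c : G} (h : ∀ a ∈ A, c * a * c⁻¹ ∈ A) {a : G} (ha : a ∈ A) :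
    c⁻¹ * a * c ∈ A := by
  have hle : A.map (MulAut.conj c).toMonoidHom ≤ A := by
    rintro _ ⟨b, hb, rfl⟩
    exact h b hb
  have heq := Subgroup.eq_of_le_of_card_ge hle
    (Subgroup.card_map_of_injective (MulAut.conj c).injective).ge
  rw [← heq] at ha
  obtain ⟨b, hb, rfl⟩ := ha
  show c⁻¹ * (c * b * c⁻¹) * c ∈ A
  rwa [show c⁻¹ * (c * b * c⁻¹) * c = b by group]

variable (D : G → Prop)

/-- an involution not fused to its product with a member commutes with every member of a common 2-group -/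
theorem commute_of_not_fused (hD2 : ∀ d, D d → orderOf d = 2) (hconj : ∀ g d, D d → D (g * d * g⁻¹))
    (hmul : ∀ d e, D d → D e → Commute d e → d ≠ e → D (d * e)) {w : G} (hw : orderOf w = 2)
    (hnf : ∀ e, D e → Commute w e → ¬ IsConj w (w * e)) {P : Subgroup G} (hP : IsPGroup 2 P) (hwP : w ∈ P)
    {d : G} (hd : D d) (hdP : d ∈ P) : Commute d w := by
  have hd2 := hD2 d hd
  obtain ⟨k, hk⟩ := hP.exists_orderOf_eq_pow ⟨d * w, mul_mem hdP hwP⟩
  rw [Subgroup.orderOf_mk] at hk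
  match k, hk with
  | 0, hk =>
    rw [pow_zero, orderOf_eq_one_iff] at hk
    rw [eq_inv_of_mul_eq_one_left hk, inv_of_order_two hw]
  | 1, hk =>
    have h := pow_orderOf_eq_one (d * w)
    rw [hk, pow_one, pow_two] at h
    have := eq_inv_of_mul_eq_one_left h
    rw [mul_inv_rev, inv_of_order_two hw, inv_of_order_two hd2] at this
    exact this
  | (j + 2), hk =>
    exfalso
    have hev : Even (orderOf (d * w)) := by
      rw [hk, pow_succ]
      exact even_two.mul_left _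
    obtain ⟨hc, hcd, hcw⟩ := central_spec hd2 hw hev
    have hhalf : orderOf (d * w) / 2 = 2 * 2 ^ j := by
      rw [hk, pow_succ, pow_succ]
      omega
    have hrot := conj_rot hd2 hw
    have hwr : w = (d * w) ^ (-1 : ℤ) * d := snd_eq' hd2 hw
    rw [hhalf] at hc hcd hcw
    set r := d * w with hr
    set c := r ^ (2 * 2 ^ j) with hcdef
    have hcz : c = r ^ (2 * ((2 ^ j : ℕ) : ℤ)) := by
      rw [hcdef, ← zpow_natCast, Nat.cast_mul, Nat.cast_ofNat]
    have hcdD : D (c * d) := by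
      rw [hcz, ← hrot]
      exact hconj _ _ hd
    have hcne : c ≠ 1 := ne_one_of_order_two hc
    have hne : c * d ≠ d := fun e => hcne (mul_eq_right.1 e)
    have hcD : D c := by
      have := hmul (c * d) d hcdD hd (hcd.mul_left (Commute.refl d)) hne
      rwa [mul_assoc, sq_of_order_two hd2, mul_one] at this
    refine hnf c hcD hcw.symm (isConj_iff.2 ⟨r ^ ((2 ^ j : ℕ) : ℤ), ?_⟩)
    rw [← hcw.eq, hcz]
    generalize ((2 ^ j : ℕ) : ℤ) = i
    calc r ^ i * w * (r ^ i)⁻¹ = r ^ (-1 : ℤ) * (r ^ i * d * (r ^ i)⁻¹) := by rw [hwr]; group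
      _ = r ^ (-1 : ℤ) * (r ^ (2 * i) * d) := by rw [hrot]
      _ = r ^ (2 * i) * w := by rw [hwr]; group

/-- a Sylow 2-subgroup centralises an involution fixed by every element normalising the centraliser of its
clique -/
theorem centralises_of_fixed
    (hconj : ∀ g d, D d → D (g * d * g⁻¹)) (S : Sylow 2 G) {u : G}
    (A : Subgroup G) (hAS : A ≤ (S : Subgroup G)) (hAu : ∀ a ∈ A, Commute a u) (memA : ∀ a ∈ A, a ≠ 1 → D a)
    (onlyA : ∀ d ∈ (S : Subgroup G), Commute d u → D d → d ∈ A)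
    (hfix : ∀ y ∈ (S : Subgroup G),
      (∀ x ∈ (S : Subgroup G) ⊓ centralizer {u} ⊓ centralizer (A : Set G),
        y * x * y⁻¹ ∈ (S : Subgroup G) ⊓ centralizer {u} ⊓ centralizer (A : Set G)) → y * u * y⁻¹ = u) :
    ∀ x ∈ (S : Subgroup G), Commute x u := by
  haveI : Fact (Nat.Prime 2) := ⟨Nat.prime_two⟩
  set T := (S : Subgroup G) ⊓ centralizer {u} ⊓ centralizer (A : Set G) with hT
  have memT : ∀ x, x ∈ T ↔ x ∈ (S : Subgroup G) ∧ Commute x u ∧ ∀ a ∈ A, Commute a x := fun x => by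
    rw [hT, mem_inf, mem_inf, mem_centralizer_singleton_iff, mem_centralizer_iff, and_assoc]
    exact Iff.rfl
  -- the clique is normalised
  have hAne : ∀ a ∈ A, a ≠ 1 → ∀ g : G, g * a * g⁻¹ ∈ (S : Subgroup G) → Commute (g * a * g⁻¹) u →
      g * a * g⁻¹ ∈ A := fun a ha ha1 g hg hc => onlyA _ hg hc (hconj g a (memA a ha ha1))
  by_contra hnot
  push Not at hnot
  obtain ⟨x₀, hx₀, hx₀u⟩ := hnot
  set P := ((S : Subgroup G) ⊓ centralizer {u}).subgroupOf (S : Subgroup G)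
  haveI : Group.IsNilpotent (S : Subgroup G) := IsPGroup.isNilpotent S.isPGroup'
  have hlt : P < ⊤ := lt_top_iff_ne_top.2 fun h =>
    hx₀u (mem_centralizer_singleton_iff.1 (mem_inf.1 (subgroupOf_eq_top.1 h hx₀)).2)
  obtain ⟨⟨y, hyS⟩, hy1, hy2⟩ := SetLike.exists_of_lt
    (Group.normalizerCondition_of_isNilpotent (G := (S : Subgroup G)) _ hlt)
  have hyP : ∀ x ∈ (S : Subgroup G), Commute x u → Commute (y * x * y⁻¹) u := fun x hx hxu => by
    have h := (mem_normalizer_iff.1 hy1 ⟨x, hx⟩).1 ⟨hx, mem_centralizer_singleton_iff.2 hxu.eq⟩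
    exact mem_centralizer_singleton_iff.1 (mem_inf.1 (mem_subgroupOf.1 h)).2
  have hyA : ∀ a ∈ A, y * a * y⁻¹ ∈ A := fun a ha => by
    rcases eq_or_ne a 1 with rfl | ha1
    · simp
    · exact hAne a ha ha1 y (mul_mem (mul_mem hyS (hAS ha)) (inv_mem hyS)) (hyP a (hAS ha) (hAu a ha))
  have hyT : ∀ x ∈ T, y * x * y⁻¹ ∈ T := fun x hx => by
    obtain ⟨hxS, hxu, hxA⟩ := (memT x).1 hx
    refine (memT _).2 ⟨mul_mem (mul_mem hyS hxS) (inv_mem hyS), hyP x hxS hxu, fun a ha => ?_⟩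
    have h : Commute (y * (y⁻¹ * a * y) * y⁻¹) (y * x * y⁻¹) :=
      (hxA _ (conj_mem_symm hyA ha)).map (MulAut.conj y).toMonoidHom
    rwa [show y * (y⁻¹ * a * y) * y⁻¹ = a by group] at h
  refine hy2 ⟨hyS, mem_centralizer_singleton_iff.2 ?_⟩
  exact mul_inv_eq_iff_eq_mul.1 (hfix y hyS hyT)

/-- an involution central in a Sylow 2-subgroup and fused with none of its products with members is weakly
closed there; only the conjugates of `u` are needed in `hinv` -/
theorem false_of_central_not_fused' [IsSimpleGroup G] (hna : ¬ IsMulCommutative G)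
    (hD2 : ∀ d, D d → orderOf d = 2) (hmul : ∀ d e, D d → D e → Commute d e → d ≠ e → D (d * e))
    (hconj : ∀ g d, D d → D (g * d * g⁻¹)) (S : Sylow 2 G) {u : G}
    (A : Subgroup G) (hAS : A ≤ (S : Subgroup G)) (hAu : ∀ a ∈ A, Commute a u) (memA : ∀ a ∈ A, a ≠ 1 → D a)
    (onlyA : ∀ d ∈ (S : Subgroup G), Commute d u → D d → d ∈ A)
    (hu : orderOf u = 2) (huD : ¬ D u) (hSu : ∀ x ∈ (S : Subgroup G), Commute x u)
    (hinv : ∀ x ∈ (S : Subgroup G), IsConj u x → Commute x u → (∀ a ∈ A, Commute a x) → x * x = 1 →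
      x ∈ A ∨ u * x ∈ A)
    (hfuse : ∀ e, D e → Commute u e → ¬ IsConj u (u * e)) : False := by
  have hfuseA : ∀ a ∈ A, a ≠ 1 → ¬ IsConj u (u * a) := fun a ha ha1 =>
    hfuse a (memA a ha ha1) (hAu a ha).symm
  -- weakly closed
  refine false_of_weaklyClosed hna S hu fun g hg => ?_
  set w := g * u * g⁻¹ with hw
  have hw2 : orderOf w = 2 := by rw [hw, show g * u * g⁻¹ = MulAut.conj g u from rfl, MulEquiv.orderOf_eq, hu]
  have hnf : ∀ e, D e → Commute w e → ¬ IsConj w (w * e) := by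
    intro e he hwe hc
    obtain ⟨k, hk⟩ := isConj_iff.1 hc
    refine hfuse (g⁻¹ * e * g) (by simpa using hconj g⁻¹ e he) ?_ (isConj_iff.2 ⟨g⁻¹ * k * g, ?_⟩)
    · have h : Commute (g⁻¹ * w * g⁻¹⁻¹) (g⁻¹ * e * g⁻¹⁻¹) := hwe.map (MulAut.conj g⁻¹).toMonoidHom
      rwa [inv_inv, hw, show g⁻¹ * (g * u * g⁻¹) * g = u by group] at h
    · calc g⁻¹ * k * g * u * (g⁻¹ * k * g)⁻¹ = g⁻¹ * (k * w * k⁻¹) * g := by rw [hw]; group
        _ = u * (g⁻¹ * e * g) := by rw [hk, hw]; group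
  have hcA : ∀ a ∈ A, Commute a w := fun a ha => by
    rcases eq_or_ne a 1 with rfl | ha1
    · exact Commute.one_left w
    · exact commute_of_not_fused D hD2 hconj hmul hw2 hnf S.isPGroup' hg (memA a ha ha1) (hAS ha)
  rcases hinv w hg (isConj_iff.2 ⟨g, rfl⟩) (hSu w hg) hcA (sq_of_order_two hw2) with h | h
  · exfalso
    have := hconj g⁻¹ w (memA w h (ne_one_of_order_two hw2))
    rw [hw, inv_inv, show g⁻¹ * (g * u * g⁻¹) * g = u by group] at this
    exact huD this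
  · by_contra hne
    have h1 : u * w ≠ 1 := fun e => hne (by
      rw [← inv_eq_of_mul_eq_one_right e, inv_of_order_two hu])
    refine hfuseA (u * w) h h1 (isConj_iff.2 ⟨g, ?_⟩)
    rw [← mul_assoc, sq_of_order_two hu, one_mul]

/-- an involution central in a Sylow 2-subgroup and fused with none of its products with members is weakly
closed there -/
theorem false_of_central_not_fused [IsSimpleGroup G] (hna : ¬ IsMulCommutative G)
    (hD2 : ∀ d, D d → orderOf d = 2) (hmul : ∀ d e, D d → D e → Commute d e → d ≠ e → D (d * e))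
    (hconj : ∀ g d, D d → D (g * d * g⁻¹)) (S : Sylow 2 G) {u : G}
    (A : Subgroup G) (hAS : A ≤ (S : Subgroup G)) (hAu : ∀ a ∈ A, Commute a u) (memA : ∀ a ∈ A, a ≠ 1 → D a)
    (onlyA : ∀ d ∈ (S : Subgroup G), Commute d u → D d → d ∈ A)
    (hu : orderOf u = 2) (huD : ¬ D u) (hSu : ∀ x ∈ (S : Subgroup G), Commute x u)
    (hinv : ∀ x ∈ (S : Subgroup G), Commute x u → (∀ a ∈ A, Commute a x) → x * x = 1 → x ∈ A ∨ u * x ∈ A)
    (hfuse : ∀ e, D e → Commute u e → ¬ IsConj u (u * e)) : False :=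
  false_of_central_not_fused' D hna hD2 hmul hconj S A hAS hAu memA onlyA hu huD hSu
    (fun x hx _ => hinv x hx) hfuse

/-- NO FUSION: in a simple group an involution is fused with some product with a member centralising it -/
theorem false_of_not_fused' [IsSimpleGroup G] (hna : ¬ IsMulCommutative G)
    (hD2 : ∀ d, D d → orderOf d = 2) (hmul : ∀ d e, D d → D e → Commute d e → d ≠ e → D (d * e))
    (hconj : ∀ g d, D d → D (g * d * g⁻¹)) (S : Sylow 2 G) {u : G}
    (A : Subgroup G) (hAS : A ≤ (S : Subgroup G)) (hAu : ∀ a ∈ A, Commute a u) (memA : ∀ a ∈ A, a ≠ 1 → D a)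
    (onlyA : ∀ d ∈ (S : Subgroup G), Commute d u → D d → d ∈ A)
    (hu : orderOf u = 2) (huS : u ∈ (S : Subgroup G)) (huD : ¬ D u)
    (hinv : ∀ x ∈ (S : Subgroup G), IsConj u x → Commute x u → (∀ a ∈ A, Commute a x) → x * x = 1 →
      x ∈ A ∨ u * x ∈ A)
    (hfuse : ∀ e, D e → Commute u e → ¬ IsConj u (u * e)) : False := by
  refine false_of_central_not_fused' D hna hD2 hmul hconj S A hAS hAu memA onlyA hu huD ?_ hinv hfuse
  refine centralises_of_fixed D hconj S A hAS hAu memA onlyA fun y hyS hy => ?_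
  set w := y * u * y⁻¹ with hw
  have hu' : u ∈ (S : Subgroup G) ⊓ centralizer {u} ⊓ centralizer (A : Set G) :=
    mem_inf.2 ⟨mem_inf.2 ⟨huS, mem_centralizer_singleton_iff.2 rfl⟩,
      mem_centralizer_iff.2 fun a ha => (hAu a ha).eq⟩
  have h := hy u hu'
  rw [mem_inf, mem_inf, mem_centralizer_singleton_iff, mem_centralizer_iff] at h
  have hw2 : w * w = 1 := by
    rw [hw, show y * u * y⁻¹ * (y * u * y⁻¹) = y * (u * u) * y⁻¹ by group, sq_of_order_two hu, mul_one,
      mul_inv_cancel]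
  rcases hinv w h.1.1 (isConj_iff.2 ⟨y, rfl⟩) h.1.2 h.2 hw2 with hA' | hA'
  · exfalso
    refine huD ?_
    have := hconj y⁻¹ w (memA w hA' fun e => ne_one_of_order_two hu (conj_eq_one_iff.1 e))
    rwa [hw, inv_inv, show y⁻¹ * (y * u * y⁻¹) * y = u by group] at this
  · by_contra hne
    have h1 : u * w ≠ 1 := fun e => hne (by
      rw [← inv_eq_of_mul_eq_one_right e, inv_of_order_two hu])
    refine hfuse (u * w) (memA _ hA' h1) (hAu _ hA').symm (isConj_iff.2 ⟨y, ?_⟩)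
    rw [← mul_assoc, sq_of_order_two hu, one_mul]

/-- NO FUSION: in a simple group an involution is fused with some product with a member centralising it -/
theorem false_of_not_fused [IsSimpleGroup G] (hna : ¬ IsMulCommutative G)
    (hD2 : ∀ d, D d → orderOf d = 2) (hmul : ∀ d e, D d → D e → Commute d e → d ≠ e → D (d * e))
    (hconj : ∀ g d, D d → D (g * d * g⁻¹)) (S : Sylow 2 G) {u : G}
    (A : Subgroup G) (hAS : A ≤ (S : Subgroup G)) (hAu : ∀ a ∈ A, Commute a u) (memA : ∀ a ∈ A, a ≠ 1 → D a)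
    (onlyA : ∀ d ∈ (S : Subgroup G), Commute d u → D d → d ∈ A)
    (hu : orderOf u = 2) (huS : u ∈ (S : Subgroup G)) (huD : ¬ D u)
    (hinv : ∀ x ∈ (S : Subgroup G), Commute x u → (∀ a ∈ A, Commute a x) → x * x = 1 → x ∈ A ∨ u * x ∈ A)
    (hfuse : ∀ e, D e → Commute u e → ¬ IsConj u (u * e)) : False :=
  false_of_not_fused' D hna hD2 hmul hconj S A hAS hAu memA onlyA hu huS huD (fun x hx _ => hinv x hx) hfuse

/-- SQUARE: in a simple group no involution is the square of an element centralising its clique, when the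
squares in the centraliser of the clique with at least as large a centraliser are that involution -/
theorem false_of_square [IsSimpleGroup G] (hna : ¬ IsMulCommutative G)
    (hD2 : ∀ d, D d → orderOf d = 2) (hconj : ∀ g d, D d → D (g * d * g⁻¹))
    (hmul : ∀ d e, D d → D e → Commute d e → d ≠ e → D (d * e))
    (S : Sylow 2 G) {u s : G} (hu : orderOf u = 2) (huD : ¬ D u) (huS : u ∈ (S : Subgroup G))
    (hsS : s ∈ (S : Subgroup G)) (hs : s * s = u)
    (A : Subgroup G) (hAS : A ≤ (S : Subgroup G)) (hA : ∀ a ∈ A, ∀ b ∈ A, Commute a b)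
    (hAu : ∀ a ∈ A, Commute a u) (hsA : ∀ a ∈ A, Commute a s) (memA : ∀ a ∈ A, a ≠ 1 → D a)
    (onlyA : ∀ d ∈ (S : Subgroup G), Commute d u → D d → d ∈ A)
    (hinv : ∀ x ∈ (S : Subgroup G), Commute x u → (∀ a ∈ A, Commute a x) → x * x = 1 → x ∈ A ∨ u * x ∈ A)
    (hroot : ∀ g ∈ ((S : Subgroup G) ⊓ centralizer {u} ⊓ centralizer (A : Set G)), orderOf (g * g) = 2 →
      ¬ D (g * g) → Nat.card ↥((S : Subgroup G) ⊓ centralizer {u} ⊓ centralizer (A : Set G) ⊓ centralizer {s}) ≤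
        Nat.card ↥((S : Subgroup G) ⊓ centralizer {u} ⊓ centralizer (A : Set G) ⊓ centralizer {g}) →
      g * g = u) : False := by
  haveI : Fact (Nat.Prime 2) := ⟨Nat.prime_two⟩
  set T := (S : Subgroup G) ⊓ centralizer {u} ⊓ centralizer (A : Set G) with hT
  have memT : ∀ x, x ∈ T ↔ x ∈ (S : Subgroup G) ∧ Commute x u ∧ ∀ a ∈ A, Commute a x := fun x => by
    rw [hT, mem_inf, mem_inf, mem_centralizer_singleton_iff, mem_centralizer_iff, and_assoc]
    exact Iff.rfl
  have hsu : Commute s u := hs ▸ (Commute.refl s).mul_right (Commute.refl s)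
  have hsT : s ∈ T := (memT s).2 ⟨hsS, hsu, hsA⟩
  -- roots
  have hfixed : ∀ y : G, (∀ x ∈ T, y * x * y⁻¹ ∈ T) → y * u * y⁻¹ = u := by
    intro y hy
    have e : y * s * y⁻¹ * (y * s * y⁻¹) = y * u * y⁻¹ := by rw [← hs]; group
    rw [← e]
    refine hroot _ (hy s hsT) ?_ ?_ ?_
    · rw [e, show y * u * y⁻¹ = MulAut.conj y u from rfl, MulEquiv.orderOf_eq, hu]
    · rw [e]
      intro hd
      have := hconj y⁻¹ _ hd
      rw [inv_inv, show y⁻¹ * (y * u * y⁻¹) * y = u by group] at this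
      exact huD this
    · rw [← Subgroup.card_map_of_injective (K := T ⊓ centralizer {s}) (f := (MulAut.conj y).toMonoidHom) (MulAut.conj y).injective]
      refine Subgroup.card_le_of_le ?_
      rintro _ ⟨x, hx, rfl⟩
      obtain ⟨hxT, hxs⟩ := mem_inf.1 hx
      have hxs' : Commute x s := mem_centralizer_singleton_iff.1 hxs
      exact mem_inf.2 ⟨hy x hxT, mem_centralizer_singleton_iff.2 (hxs'.map (MulAut.conj y).toMonoidHom).eq⟩
  -- the clique is normalised
  have hAne : ∀ a ∈ A, a ≠ 1 → ∀ g : G, g * a * g⁻¹ ∈ (S : Subgroup G) → Commute (g * a * g⁻¹) u →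
      g * a * g⁻¹ ∈ A := fun a ha ha1 g hg hc => onlyA _ hg hc (hconj g a (memA a ha ha1))
  -- the Sylow subgroup centralises `u`
  have hSu : ∀ x ∈ (S : Subgroup G), Commute x u :=
    centralises_of_fixed D hconj S A hAS hAu memA onlyA fun y _ hy => hfixed y hy
  have hnormA : ∀ x ∈ (S : Subgroup G), ∀ a ∈ A, x * a * x⁻¹ ∈ A := fun x hx a ha => by
    rcases eq_or_ne a 1 with rfl | ha1
    · simp
    · have hm := mul_mem (mul_mem hx (hAS ha)) (inv_mem hx)
      exact hAne a ha ha1 x hm (hSu _ hm)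
  have hSN : (S : Subgroup G) ≤ normalizer (A : Set G) := fun x hx => mem_normalizer_iff.2 fun a =>
    ⟨fun ha => hnormA x hx a ha, fun ha => by
      have := hnormA x⁻¹ (inv_mem hx) _ ha
      rwa [show x⁻¹ * (x * a * x⁻¹) * x⁻¹⁻¹ = a by group] at this⟩
  -- `T` is a Sylow subgroup of the centraliser of `A`
  have hbound : ∀ R : Subgroup G, IsPGroup 2 R → (∀ r ∈ R, ∀ a ∈ A, Commute a r) →
      Nat.card R ≤ Nat.card T := by
    intro R hR hRA
    have hRN : R ≤ normalizer (A : Set G) := fun r hr => mem_normalizer_iff.2 fun a => by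
      constructor
      · intro ha
        rwa [← (hRA r hr a ha).eq, mul_inv_cancel_right]
      · intro ha
        have h := hRA r hr _ ha
        have e : r * a * r⁻¹ = a := by
          have h' := h.eq
          rw [inv_mul_cancel_right] at h'
          exact mul_left_cancel (a := r) h'.symm
        rwa [e] at ha
    obtain ⟨k, hk, hkR⟩ := exists_conj_into S hSN hR hRN
    rw [← Subgroup.card_map_of_injective (K := R) (f := (MulAut.conj k⁻¹).toMonoidHom) (MulAut.conj k⁻¹).injective]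
    refine Subgroup.card_le_of_le ?_
    rintro _ ⟨r, hr, rfl⟩
    show k⁻¹ * r * k⁻¹⁻¹ ∈ T
    rw [inv_inv]
    refine (memT _).2 ⟨hkR r hr, hSu _ (hkR r hr), fun a ha => ?_⟩
    have hka : k * a * k⁻¹ ∈ A := (mem_normalizer_iff.1 hk a).1 ha
    have h : Commute (k⁻¹ * (k * a * k⁻¹) * k⁻¹⁻¹) (k⁻¹ * r * k⁻¹⁻¹) :=
      (hRA r hr _ hka).map (MulAut.conj k⁻¹).toMonoidHom
    rwa [inv_inv, show k⁻¹ * (k * a * k⁻¹) * k = a by group] at h
  -- no fusion through the clique
  have hfuseA : ∀ a ∈ A, a ≠ 1 → ¬ IsConj u (u * a) := by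
    intro a ha ha1 hc
    obtain ⟨g, hg⟩ := isConj_iff.1 hc
    set C := centralizer ({u * a} : Set G) with hC
    have hgS : ((g • S : Sylow 2 G) : Subgroup G) ≤ C := by
      rw [Sylow.coe_subgroup_smul]
      rintro _ ⟨x, hx, rfl⟩
      refine mem_centralizer_singleton_iff.2 ?_
      rw [← hg]
      exact ((hSu x hx).map (MulAut.conj g).toMonoidHom).eq
    have hAC : A ≤ C := fun b hb => mem_centralizer_singleton_iff.2 ((hAu b hb).mul_right (hA b hb a ha)).eq
    obtain ⟨k, hk, hkA⟩ := exists_conj_into (g • S) hgS (S.isPGroup'.to_le hAS) hAC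
    set c := k * g with hcdef
    have hcu : c * u * c⁻¹ = u * a := by
      rw [show c * u * c⁻¹ = k * (g * u * g⁻¹) * k⁻¹ by rw [hcdef]; group, hg,
        (mem_centralizer_singleton_iff.1 hk : k * (u * a) = u * a * k), mul_inv_cancel_right]
    have hcA : ∀ b ∈ A, c⁻¹ * b * c⁻¹⁻¹ ∈ A := fun b hb => by
      have hm := hkA b hb
      rw [Sylow.coe_subgroup_smul] at hm
      obtain ⟨x, hx, hxe⟩ := hm
      have e : c⁻¹ * b * c⁻¹⁻¹ = x := by
        have hxe' : g * x * g⁻¹ = k⁻¹ * b * k := hxe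
        rw [hcdef, inv_inv, show (k * g)⁻¹ * b * (k * g) = g⁻¹ * (k⁻¹ * b * k) * g by group, ← hxe']
        group
      rcases eq_or_ne b 1 with rfl | hb1
      · simp
      · exact hAne b hb hb1 c⁻¹ (e ▸ hx) (hSu _ (e ▸ hx))
    set Y := centralizer (A : Set G) ⊓ C with hY
    have hTY : T ≤ Y := fun x hx => by
      obtain ⟨hxS, hxu, hxA⟩ := (memT x).1 hx
      exact mem_inf.2 ⟨mem_centralizer_iff.2 fun b hb => (hxA b hb).eq,
        mem_centralizer_singleton_iff.2 (hxu.mul_right (hxA a ha).symm).eq⟩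
    have hT'Y : T.map (MulAut.conj c).toMonoidHom ≤ Y := by
      rintro _ ⟨x, hx, rfl⟩
      obtain ⟨hxS, hxu, hxA⟩ := (memT x).1 hx
      refine mem_inf.2 ⟨mem_centralizer_iff.2 fun b hb => ?_, mem_centralizer_singleton_iff.2 ?_⟩
      · have h : Commute (c * (c⁻¹ * b * c⁻¹⁻¹) * c⁻¹) (c * x * c⁻¹) :=
          (hxA _ (hcA b hb)).map (MulAut.conj c).toMonoidHom
        rw [show c * (c⁻¹ * b * c⁻¹⁻¹) * c⁻¹ = b by group] at h
        exact h.eq
      · rw [← hcu]
        exact (hxu.map (MulAut.conj c).toMonoidHom).eq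
    have hTp : IsPGroup 2 T := S.isPGroup'.to_le (inf_le_left.trans inf_le_left)
    have mkSyl : ∀ T₁ : Subgroup G, T₁ ≤ Y → IsPGroup 2 T₁ → Nat.card T₁ = Nat.card T →
        ∃ Q : Sylow 2 Y, (Q : Subgroup Y) = T₁.subgroupOf Y := by
      intro T₁ h1 hp hcard
      obtain ⟨Q, hQ⟩ := (hp.of_equiv (subgroupOfEquivOfLe h1).symm).exists_le_sylow
      refine ⟨Q, (Subgroup.eq_of_le_of_card_ge hQ ?_).symm⟩
      rw [Nat.card_congr (subgroupOfEquivOfLe h1).toEquiv, hcard,
        ← Subgroup.card_map_of_injective (K := (Q : Subgroup Y)) Y.subtype_injective]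
      refine hbound _ (Q.isPGroup'.map _) ?_
      rintro _ ⟨r, -, rfl⟩ b hb
      exact mem_centralizer_iff.1 (mem_inf.1 r.2).1 b hb
    obtain ⟨Q, hQ⟩ := mkSyl T hTY hTp rfl
    obtain ⟨Q', hQ'⟩ := mkSyl _ hT'Y (hTp.map _) (Subgroup.card_map_of_injective (MulAut.conj c).injective)
    obtain ⟨j, hj⟩ := MulAction.exists_smul_eq Y Q' Q
    set y := (j : G) * c with hy
    have hyT : ∀ x ∈ T, y * x * y⁻¹ ∈ T := fun x hx => by
      have hx' : (⟨c * x * c⁻¹, hT'Y ⟨x, hx, rfl⟩⟩ : Y) ∈ (Q' : Subgroup Y) := by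
        rw [hQ']; exact ⟨x, hx, rfl⟩
      have h : j * ⟨c * x * c⁻¹, hT'Y ⟨x, hx, rfl⟩⟩ * j⁻¹ ∈ (Q : Subgroup Y) := by
        rw [← hj, Sylow.coe_subgroup_smul]
        exact ⟨_, hx', rfl⟩
      rw [hQ, mem_subgroupOf] at h
      have e : y * x * y⁻¹ = (j : G) * (c * x * c⁻¹) * (j : G)⁻¹ := by rw [hy]; group
      rw [e]
      exact h
    have hyu : y * u * y⁻¹ = u * a := by
      rw [show y * u * y⁻¹ = (j : G) * (c * u * c⁻¹) * (j : G)⁻¹ by rw [hy]; group, hcu,
        (mem_centralizer_singleton_iff.1 (mem_inf.1 j.2).2 : (j : G) * (u * a) = u * a * j),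
        mul_inv_cancel_right]
    exact ha1 (mul_eq_left.1 (hyu.symm.trans (hfixed y hyT)))
  have hfuse : ∀ e, D e → Commute u e → ¬ IsConj u (u * e) := by
    intro e he hue hc
    obtain ⟨k, hk, hke⟩ := exists_conj_into (K := centralizer ({u} : Set G)) S
      (fun x hx => mem_centralizer_singleton_iff.2 (hSu x hx).eq)
      (V := zpowers e) (IsPGroup.of_card (n := 1) (by rw [Nat.card_zpowers, hD2 e he, pow_one]))
      (zpowers_le.2 (mem_centralizer_singleton_iff.2 hue.symm.eq))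
    have hm := hke e (mem_zpowers e)
    have ha : k⁻¹ * e * k ∈ A := onlyA _ hm (hSu _ hm) (by simpa using hconj k⁻¹ e he)
    have hku : k⁻¹ * u * k = u := by
      rw [mul_assoc, ← (mem_centralizer_singleton_iff.1 hk : k * u = u * k), inv_mul_cancel_left]
    refine hfuseA _ ha (fun h1 => ne_one_of_order_two (hD2 e he) ?_) ?_
    · have := congrArg (fun x => k * x * k⁻¹) h1
      simpa [mul_assoc] using this
    · refine hc.trans (isConj_iff.2 ⟨k⁻¹, ?_⟩)
      rw [inv_inv]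
      conv_rhs => rw [← hku]
      group
  exact false_of_central_not_fused D hna hD2 hmul hconj S A hAS hAu memA onlyA hu huD hSu hinv hfuse

/-- the square step at a line: the centraliser of the clique is the product of the kernel `U`, with one
involution `u`, and a group `Q` whose involutions and centre lie in the clique -/
theorem false_of_square_kernel [IsSimpleGroup G] (hna : ¬ IsMulCommutative G)
    (hD2 : ∀ d, D d → orderOf d = 2) (hconj : ∀ g d, D d → D (g * d * g⁻¹))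
    (hmul : ∀ d e, D d → D e → Commute d e → d ≠ e → D (d * e))
    (S : Sylow 2 G) {u : G} (hu : orderOf u = 2) (huD : ¬ D u)
    (U Q A : Subgroup G) (huU : u ∈ U) (hAQ : A ≤ Q) (hQS : Q ≤ (S : Subgroup G)) (hUS : U ≤ (S : Subgroup G))
    (hcomm : ∀ t ∈ U, ∀ x ∈ Q, Commute t x) (hdisj : U ⊓ Q = ⊥)
    (hUinv : ∀ t ∈ U, t * t = 1 → t = 1 ∨ t = u) (hsq : ∃ s ∈ U, s * s = u)
    (hQA : ∀ a ∈ A, ∀ x ∈ Q, Commute a x) (hQinv : ∀ x ∈ Q, x * x = 1 → x ∈ A)
    (hQc : ∀ x ∈ Q, (∀ y ∈ Q, Commute x y) → x * x = 1)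
    (hT : ∀ g ∈ (S : Subgroup G), Commute g u → (∀ a ∈ A, Commute a g) → ∃ t ∈ U, ∃ x ∈ Q, g = t * x)
    (memA : ∀ a ∈ A, a ≠ 1 → D a)
    (onlyA : ∀ d ∈ (S : Subgroup G), Commute d u → D d → d ∈ A) : False := by
  classical
  obtain ⟨s, ⟨hsU, hs⟩, hmax⟩ := Set.exists_max_image {s : G | s ∈ U ∧ s * s = u}
    (fun s => Nat.card ↥(U ⊓ centralizer {s})) (Set.toFinite _) hsq
  have uniq : ∀ t ∈ U, ∀ x ∈ Q, ∀ t' ∈ U, ∀ x' ∈ Q, t * x = t' * x' → t = t' ∧ x = x' := by
    intro t ht x hx t' ht' x' hx' e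
    have e' : t'⁻¹ * t = x' * x⁻¹ := by
      rw [eq_mul_inv_iff_mul_eq, mul_assoc, e, inv_mul_cancel_left]
    have h1 : t'⁻¹ * t ∈ U ⊓ Q :=
      mem_inf.2 ⟨mul_mem (inv_mem ht') ht, e' ▸ mul_mem hx' (inv_mem hx)⟩
    rw [hdisj, mem_bot, inv_mul_eq_one] at h1
    subst h1
    exact ⟨rfl, mul_left_cancel e⟩
  have hu1 := sq_of_order_two hu
  have huQ : ∀ x ∈ Q, Commute u x := fun x hx => hcomm u huU x hx
  have hUu : ∀ t ∈ U, Commute t u := by
    intro t ht
    have h2 : t * u * t⁻¹ * (t * u * t⁻¹) = 1 := by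
      rw [show t * u * t⁻¹ * (t * u * t⁻¹) = t * (u * u) * t⁻¹ by group, hu1, mul_one, mul_inv_cancel]
    rcases hUinv _ (mul_mem (mul_mem ht huU) (inv_mem ht)) h2 with h | h
    · exact absurd (conj_eq_one_iff.1 h) (ne_one_of_order_two hu)
    · exact mul_inv_eq_iff_eq_mul.1 h
  have memT : ∀ g, g ∈ ((S : Subgroup G) ⊓ centralizer {u} ⊓ centralizer (A : Set G)) ↔
      ∃ t ∈ U, ∃ x ∈ Q, g = t * x := by
    intro g
    rw [mem_inf, mem_inf, mem_centralizer_singleton_iff, mem_centralizer_iff]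
    constructor
    · rintro ⟨⟨hg, hgu⟩, hgA⟩
      exact hT g hg hgu hgA
    · rintro ⟨t, ht, x, hx, rfl⟩
      exact ⟨⟨mul_mem (hUS ht) (hQS hx), ((hUu t ht).mul_left (huQ x hx).symm).eq⟩,
        fun a ha => ((hcomm t ht a (hAQ ha)).symm.mul_right (hQA a ha x hx)).eq⟩
  have hmulcomp : ∀ t ∈ U, ∀ x ∈ Q, ∀ t' ∈ U, ∀ x' ∈ Q, t * x * (t' * x') = t * t' * (x * x') := by
    intro t _ x hx t' ht' x' _
    exact (hcomm t' ht' x hx).symm.mul_mul_mul_comm t x'
  have hcard : ∀ t ∈ U, ∀ x ∈ Q,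
      Nat.card ↥((S : Subgroup G) ⊓ centralizer {u} ⊓ centralizer (A : Set G) ⊓ centralizer {t * x}) =
        Nat.card ↥(U ⊓ centralizer {t}) * Nat.card ↥(Q ⊓ centralizer {x}) := by
    intro t ht x hx
    rw [← Nat.card_prod]
    let f : ↥(U ⊓ centralizer {t}) × ↥(Q ⊓ centralizer {x}) →
        ↥((S : Subgroup G) ⊓ centralizer {u} ⊓ centralizer (A : Set G) ⊓ centralizer {t * x}) := fun p =>
      ⟨(p.1 : G) * p.2, mem_inf.2 ⟨(memT _).2 ⟨_, p.1.2.1, _, p.2.2.1, rfl⟩, mem_centralizer_singleton_iff.2 (by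
        rw [hmulcomp _ p.1.2.1 _ p.2.2.1 _ ht _ hx, hmulcomp _ ht _ hx _ p.1.2.1 _ p.2.2.1,
          mem_centralizer_singleton_iff.1 p.1.2.2, mem_centralizer_singleton_iff.1 p.2.2.2])⟩⟩
    refine (Nat.card_congr (Equiv.ofBijective f ⟨?_, ?_⟩)).symm
    · intro p p' e
      obtain ⟨e1, e2⟩ := uniq _ p.1.2.1 _ p.2.2.1 _ p'.1.2.1 _ p'.2.2.1 (congrArg Subtype.val e)
      exact Prod.ext (Subtype.ext e1) (Subtype.ext e2)
    · rintro ⟨g, hg⟩
      obtain ⟨h1, h2⟩ := mem_inf.1 hg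
      obtain ⟨t', ht', x', hx', rfl⟩ := (memT g).1 h1
      have h3 := mem_centralizer_singleton_iff.1 h2
      rw [hmulcomp _ ht' _ hx' _ ht _ hx, hmulcomp _ ht _ hx _ ht' _ hx'] at h3
      obtain ⟨e1, e2⟩ := uniq _ (mul_mem ht' ht) _ (mul_mem hx' hx) _ (mul_mem ht ht') _ (mul_mem hx hx') h3
      exact ⟨(⟨t', ⟨ht', mem_centralizer_singleton_iff.2 e1⟩⟩, ⟨x', ⟨hx', mem_centralizer_singleton_iff.2 e2⟩⟩), rfl⟩
  refine false_of_square D hna hD2 hconj hmul S hu huD (hUS huU) (hUS hsU) hs A (hAQ.trans hQS)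
    (fun a ha b hb => hQA a ha b (hAQ hb)) (fun a ha => (huQ a (hAQ ha)).symm)
    (fun a ha => (hcomm s hsU a (hAQ ha)).symm) memA onlyA (fun g hg hgu hgA hg2 => ?_) fun g hg hg2 hgD hle => ?_
  · obtain ⟨t, ht, x, hx, rfl⟩ := hT g hg hgu hgA
    rw [hmulcomp t ht x hx t ht x hx] at hg2
    obtain ⟨e1, e2⟩ := uniq _ (mul_mem ht ht) _ (mul_mem hx hx) 1 (one_mem U) 1 (one_mem Q)
      (by rw [hg2, one_mul])
    have hxA := hQinv x hx e2
    rcases hUinv t ht e1 with rfl | rfl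
    · exact Or.inl (by rwa [one_mul])
    · exact Or.inr (by rwa [← mul_assoc, hu1, one_mul])
  · obtain ⟨t, ht, x, hx, rfl⟩ := (memT g).1 hg
    rw [hmulcomp t ht x hx t ht x hx] at hg2 hgD ⊢
    have h4 := sq_of_order_two hg2
    rw [hmulcomp _ (mul_mem ht ht) _ (mul_mem hx hx) _ (mul_mem ht ht) _ (mul_mem hx hx)] at h4
    obtain ⟨e1, e2⟩ := uniq _ (mul_mem (mul_mem ht ht) (mul_mem ht ht)) _
      (mul_mem (mul_mem hx hx) (mul_mem hx hx)) 1 (one_mem U) 1 (one_mem Q) (by rw [h4, one_mul])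
    rcases hUinv _ (mul_mem ht ht) e1 with h | h
    · rw [h, one_mul] at hg2 hgD
      exact absurd (memA _ (hQinv _ (mul_mem hx hx) e2) (ne_one_of_order_two hg2)) hgD
    · rw [show s = s * 1 from (mul_one s).symm, hcard s hsU 1 (one_mem Q), hcard t ht x hx] at hle
      have hQ1 : Q ⊓ centralizer ({1} : Set G) = Q :=
        inf_eq_left.2 fun y _ => mem_centralizer_singleton_iff.2 (by rw [one_mul, mul_one])
      rw [hQ1] at hle
      have h5 := hle.trans (Nat.mul_le_mul_right _ (hmax t ⟨ht, h⟩))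
      have hpos : 0 < Nat.card ↥(U ⊓ centralizer {s}) := Nat.card_pos
      have h6 : Q ⊓ centralizer ({x} : Set G) = Q :=
        Subgroup.eq_of_le_of_card_ge inf_le_left (Nat.le_of_mul_le_mul_left h5 hpos)
      rw [h, hQc x hx fun y hy => (mem_centralizer_singleton_iff.1 ((h6.symm ▸ hy : y ∈ Q ⊓ centralizer ({x} : Set G)).2)).symm,
        mul_one]

end Cfsg.Lib.BenderSE.Crit2
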