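/-
Aschbacher's criterion: a Sylow 2-subgroup through the line of `u`, and what the square and fusion endings give
for a line whose kernel has one involution (notes/s1175_h1_audit.md A4, notes/s1175_h6_bound.md I).
-/
import Cfsg.Agent.BenderSE.Criterion2.LineBasic
import Cfsg.Agent.BenderSE.Criterion2.Square

set_option autoImplicit false
set_option linter.unusedSectionVars false
set_option linter.style.haveILetI false

namespace Cfsg.Lib.BenderSE.Crit2

open Subgroup MulAction Cfsg.Lib.InvolCalc Cfsg.Lib.BenderSE.CritDep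

universe u v

variable {G : Type u} [Group G] [Finite G] {α : Type v} [MulAction G α] {z : G}

/-- the elements of `S` centralising `u` and fixing all its fixed points -/
def lineKernel (α : Type v) [MulAction G α] (S : Subgroup G) (u : G) : Subgroup G :=
  S ⊓ centralizer {u} ⊓ fixingSubgroup G (fixSet α (zpowers u))

theorem mem_lineKernel {S : Subgroup G} {u g : G} :
    g ∈ lineKernel α S u ↔ g ∈ S ∧ Commute g u ∧ ∀ p : α, u • p = p → g • p = p := by
  rw [lineKernel, mem_inf, mem_inf, mem_centralizer_singleton_iff, mem_fixingSubgroup_iff, and_assoc]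
  exact and_congr Iff.rfl (and_congr Iff.rfl
    ⟨fun h p hp => h p (mem_line.2 hp), fun h p hp => h p (mem_line.1 hp)⟩)

/-- the centraliser of `u` normalises the group of the members centralising it -/
theorem conj_mem_localGen {u g x : G} (hg : Commute g u) (hx : x ∈ localGen z u) :
    g * x * g⁻¹ ∈ localGen z u := by
  have hle : (localGen z u).map (MulAut.conj g).toMonoidHom ≤ localGen z u := by
    rw [localGen, MonoidHom.map_closure, closure_le]
    rintro _ ⟨d, ⟨hd, hc⟩, rfl⟩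
    refine subset_closure ⟨hd.trans (isConj_iff.2 ⟨g, rfl⟩), ?_⟩
    have h : Commute (g * d * g⁻¹) (g * u * g⁻¹) := (show Commute d u from hc).map (MulAut.conj g).toMonoidHom
    rw [hg.eq, mul_inv_cancel_right] at h
    exact h
  exact hle ⟨x, hx, rfl⟩

variable {u : G} {a : α} {A Q X : Subgroup G} {q j : ℕ}

/-- a Sylow subgroup of `G` at `a` through `Q` and a Sylow subgroup of the centraliser of `u` at `a` -/
theorem exists_line_sylow (h : Crit G α z) (hua : u • a = a) (hu : orderOf u = 2)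
    (L : LineData z u a A Q X q j) :
    ∃ S : Sylow 2 G, Q ≤ (S : Subgroup G) ∧ u ∈ (S : Subgroup G) ∧ (∀ s ∈ S, s • a = a) ∧
      ∀ V : Subgroup G, IsPGroup 2 V → V ≤ centralizer {u} ⊓ stabilizer G a →
        ∃ k ∈ centralizer ({u} : Set G) ⊓ stabilizer G a, ∀ v ∈ V, k⁻¹ * v * k ∈ (S : Subgroup G) := by
  haveI : Fact (Nat.Prime 2) := ⟨Nat.prime_two⟩
  set K := centralizer ({u} : Set G) ⊓ stabilizer G a
  have hQK : Q ≤ K := fun x hx =>
    mem_inf.2 ⟨mem_centralizer_singleton_iff.2 (commute_of_mem (L.Qle hx)).eq, L.Qfix hx⟩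
  have huQ : zpowers u ≤ normalizer (Q : Set G) := zpowers_le.2 (centralizer_le_normalizer _
    (mem_centralizer_iff.2 fun x hx => (commute_of_mem (L.Qle hx)).eq))
  have hV0 : IsPGroup 2 (Q ⊔ zpowers u : Subgroup G) :=
    IsPGroup.to_sup_of_normal_left' L.twoQ (isPGroup_zpowers_of_two hu) huQ
  have hV0K : Q ⊔ zpowers u ≤ K := sup_le hQK (zpowers_le.2
    (mem_inf.2 ⟨mem_centralizer_singleton_iff.2 rfl, mem_stabilizer_iff.2 hua⟩))
  obtain ⟨P, hP⟩ := (hV0.of_equiv (subgroupOfEquivOfLe hV0K).symm).exists_le_sylow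
  obtain ⟨-, S₀, -, -, -, -, hS₀⟩ := h.exists_central a
  obtain ⟨k, hk, hkP⟩ := exists_conj_into (K := stabilizer G a) S₀ (fun s hs => mem_stabilizer_iff.2 (hS₀ s hs))
    (V := (P : Subgroup K).map K.subtype) (P.isPGroup'.map _) (by
      rintro _ ⟨x, -, rfl⟩
      exact (mem_inf.1 x.2).2)
  have hPS : ∀ x : K, x ∈ (P : Subgroup K) → (x : G) ∈ ((k • S₀ : Sylow 2 G) : Subgroup G) := fun x hx => by
    rw [Sylow.coe_subgroup_smul]
    exact ⟨k⁻¹ * x * k, hkP _ ⟨x, hx, rfl⟩, show k * (k⁻¹ * (x : G) * k) * k⁻¹ = x by group⟩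
  have hQS : ∀ x, ∀ hx : x ∈ Q ⊔ zpowers u, x ∈ ((k • S₀ : Sylow 2 G) : Subgroup G) := fun x hx =>
    hPS ⟨x, hV0K hx⟩ (hP (show (⟨x, hV0K hx⟩ : K) ∈ (Q ⊔ zpowers u).subgroupOf K from hx))
  refine ⟨k • S₀, fun x hx => hQS x (mem_sup_left hx), hQS u (mem_sup_right (mem_zpowers u)), ?_, ?_⟩
  · intro s hs
    obtain ⟨x, hx, rfl⟩ := hs
    exact mem_stabilizer_iff.1 (mul_mem (mul_mem hk (mem_stabilizer_iff.2 (hS₀ x hx))) (inv_mem hk))
  · intro V hV hVK
    obtain ⟨R, hR⟩ := (hV.of_equiv (subgroupOfEquivOfLe hVK).symm).exists_le_sylow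
    obtain ⟨c, rfl⟩ := MulAction.exists_smul_eq K P R
    refine ⟨c, c.2, fun v hv => ?_⟩
    obtain ⟨x, hx, e⟩ := hR (show (⟨v, hVK hv⟩ : K) ∈ V.subgroupOf K from hv)
    have e' : (c : G) * (x : G) * (c : G)⁻¹ = v := congrArg Subtype.val e
    rw [← e', show (c : G)⁻¹ * ((c : G) * x * (c : G)⁻¹) * c = x by group]
    exact hPS x hx

variable (L : LineData z u a A Q X q j) {S : Sylow 2 G} (hQS : Q ≤ (S : Subgroup G))
  (hSa : ∀ s ∈ S, s • a = a)
include L hQS hSa

/-- the members of the Sylow subgroup centralising `u` form `A`, and the part of `localGen` is `Q` -/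
theorem localGen_inf_sylow : (S : Subgroup G) ⊓ localGen z u = Q :=
  L.Qmax _ (S.isPGroup'.to_le inf_le_left) inf_le_right
    (fun _ hx => mem_stabilizer_iff.2 (hSa _ (mem_inf.1 hx).1)) (le_inf hQS L.Qle)

theorem member_mem_clique (h : Crit G α z) {d : G} (hd : IsConj z d) (hdS : d ∈ (S : Subgroup G))
    (hdu : Commute d u) : d ∈ A := by
  refine L.invA d ?_ (orderOf_conj h hd)
  rw [← localGen_inf_sylow L hQS hSa]
  exact mem_inf.2 ⟨hdS, mem_localGen_of hd hdu⟩

theorem conj_mem_Q {g x : G} (hg : g ∈ (S : Subgroup G)) (hgu : Commute g u) (hx : x ∈ Q) :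
    g * x * g⁻¹ ∈ Q := by
  rw [← localGen_inf_sylow L hQS hSa]
  exact mem_inf.2 ⟨mul_mem (mul_mem hg (hQS hx)) (inv_mem hg), conj_mem_localGen hgu (L.Qle hx)⟩

theorem exists_other_fixed : ∃ b : α, u • b = b ∧ b ≠ a := by
  by_contra hno
  push Not at hno
  have hsub : fixSet α (zpowers u) ⊆ {a} := fun p hp => hno p (mem_line.1 hp)
  have h1 := Set.ncard_le_ncard hsub
  rw [Set.ncard_singleton, ← Nat.card_coe_set_eq, L.fixed] at h1
  have h4 := L.four
  have : 0 < q ^ j := pow_pos (by omega) j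
  omega

/-- an element of `Q` fixing all fixed points of `u` is trivial -/
theorem eq_one_of_fix {x : G} (hx : x ∈ Q) (hfix : ∀ p : α, u • p = p → x • p = p) : x = 1 := by
  obtain ⟨b, hb, hba⟩ := exists_other_fixed L hQS hSa
  exact (L.regQ b (mem_line.2 hb) b (mem_line.2 hb) hba hba).unique ⟨hx, hfix b hb⟩
    ⟨one_mem Q, one_smul G b⟩

theorem kernel_inf_Q : lineKernel α (S : Subgroup G) u ⊓ Q = ⊥ :=
  (Subgroup.eq_bot_iff_forall _).2 fun x hx =>
    eq_one_of_fix L hQS hSa (mem_inf.1 hx).2 (mem_lineKernel.1 (mem_inf.1 hx).1).2.2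

theorem commute_kernel_Q {t x : G} (ht : t ∈ lineKernel α (S : Subgroup G) u) (hx : x ∈ Q) : Commute t x := by
  obtain ⟨htS, htu, htF⟩ := mem_lineKernel.1 ht
  have hxu : Commute x u := commute_of_mem (L.Qle hx)
  have h1 : t * x * t⁻¹ * x⁻¹ = 1 := by
    refine eq_one_of_fix L hQS hSa (mul_mem (conj_mem_Q L hQS hSa htS htu hx) (inv_mem hx)) fun p hp => ?_
    have hp' : u • x⁻¹ • p = x⁻¹ • p := by rw [smul_smul, ← hxu.inv_left.eq, mul_smul, hp]
    rw [mul_smul, mul_smul, mul_smul, inv_smul_eq_iff.2 (htF _ hp').symm, smul_inv_smul, htF p hp]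
  exact mul_inv_eq_iff_eq_mul.1 (mul_inv_eq_one.1 h1)

theorem eq_Q_of_one (hj : j = 1) : A = Q :=
  Subgroup.eq_of_le_of_card_ge L.leQ (by rw [L.card, L.cardQ, hj, pow_one])

/-- on a line with abelian `Q` the centraliser of the clique is the kernel times the clique -/
theorem exists_kernel_mul (hua : u • a = a) (hj : j = 1) {g : G} (hgS : g ∈ (S : Subgroup G))
    (hgu : Commute g u) (hgA : ∀ d ∈ A, Commute d g) :
    ∃ t ∈ lineKernel α (S : Subgroup G) u, ∃ x ∈ Q, g = t * x := by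
  obtain ⟨b, hb, hba⟩ := exists_other_fixed L hQS hSa
  have hAQ := eq_Q_of_one L hQS hSa hj
  have hgb : u • g • b = g • b := by rw [smul_smul, ← hgu.eq, mul_smul, hb]
  have hgba : g • b ≠ a := fun e => hba (smul_left_cancel g (e.trans (hSa g hgS).symm))
  obtain ⟨x, ⟨hx, hxb⟩, -⟩ := L.regQ b (mem_line.2 hb) (g • b) (mem_line.2 hgb) hba hgba
  have hxg : Commute x g := hgA x (hAQ ▸ hx)
  refine ⟨g * x⁻¹, mem_lineKernel.2 ⟨mul_mem hgS (inv_mem (hQS hx)),
    hgu.mul_left (commute_of_mem (L.Qle hx)).inv_left, fun p hp => ?_⟩, x, hx, by group⟩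
  rcases eq_or_ne p a with rfl | hpa
  · rw [mul_smul, inv_smul_eq_iff.2 (hSa x (hQS hx)).symm, hSa g hgS]
  · obtain ⟨y, ⟨hy, hyb⟩, -⟩ := L.regQ b (mem_line.2 hb) p (mem_line.2 hp) hba hpa
    subst hyb
    have hc : Commute y (g * x⁻¹) :=
      (hgA y (hAQ ▸ hy)).mul_right (L.centQ y (hAQ ▸ hy) x hx).inv_right
    rw [smul_smul, ← hc.eq, mul_smul]
    congr 1
    rw [← hxg.inv_left.eq, mul_smul, ← hxb, inv_smul_smul]

omit L hQS hSa in
/-- in a simple group, on a line with abelian `Q` and one involution in the kernel, `u` is fused to its product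
with a member and is no square in the kernel -/
theorem fused_of_line [IsSimpleGroup G] [FaithfulSMul G α] (hna : ¬ IsMulCommutative G) (h : Crit G α z)
    (hu : orderOf u = 2) (hua : u • a = a) (L : LineData z u a A Q X q j) (hj : j = 1)
    (hone : ∀ t : G, orderOf t = 2 → Commute t u → (∀ p : α, u • p = p → t • p = p) →
      (∀ d ∈ A, Commute t d) → t = u) :
    (∃ e, IsConj z e ∧ Commute u e ∧ IsConj u (u * e)) ∧
      ∀ s : G, IsPGroup 2 (zpowers s) → Commute s u → (∀ p : α, u • p = p → s • p = p) → s * s ≠ u := by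
  obtain ⟨S, hQS, huS, hSa, hsyl⟩ := exists_line_sylow h hua hu L
  set U := lineKernel α (S : Subgroup G) u
  have huU : u ∈ U := mem_lineKernel.2 ⟨huS, Commute.refl u, fun p hp => hp⟩
  obtain ⟨b, hb, hba⟩ := exists_other_fixed L hQS hSa
  have huD : ¬ IsConj z u := fun e => hba (centre_unique h e hb hua)
  have hAQ := eq_Q_of_one L hQS hSa hj
  have hD2 : ∀ d, IsConj z d → orderOf d = 2 := fun d hd => orderOf_conj h hd
  have hconj : ∀ g d, IsConj z d → IsConj z (g * d * g⁻¹) := fun g d hd => hd.trans (isConj_iff.2 ⟨g, rfl⟩)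
  have hmul : ∀ d e, IsConj z d → IsConj z e → Commute d e → d ≠ e → IsConj z (d * e) :=
    fun d e => conj_mul_of_commute h
  have hUinv : ∀ t ∈ U, t * t = 1 → t = 1 ∨ t = u := by
    intro t ht ht2
    refine or_iff_not_imp_left.2 fun ht1 => ?_
    obtain ⟨-, htu, htF⟩ := mem_lineKernel.1 ht
    exact hone t (order_two_of_mul_self ht2 ht1) htu htF fun d hd =>
      commute_kernel_Q L hQS hSa ht (L.leQ hd)
  have memA : ∀ d ∈ A, d ≠ 1 → IsConj z d := fun d hd hd1 => (L.memA d hd hd1).1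
  have onlyA : ∀ d ∈ (S : Subgroup G), Commute d u → IsConj z d → d ∈ A := fun d hd hc hD =>
    member_mem_clique L hQS hSa h hD hd hc
  have hAu : ∀ d ∈ A, Commute d u := fun d hd => commute_of_mem (L.Qle (L.leQ hd))
  refine ⟨?_, fun s hs2 hsu hsF hss => ?_⟩
  · by_contra hno
    push Not at hno
    refine false_of_not_fused (fun d => IsConj z d) hna hD2 hmul hconj S A (L.leQ.trans hQS) hAu memA onlyA
      hu huS huD (fun x hx hxu hxA hx2 => ?_) hno
    obtain ⟨t, ht, y, hy, rfl⟩ := exists_kernel_mul L hQS hSa hua hj hx hxu hxA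
    have hy2 : y * y = 1 := L.elem y (hAQ ▸ hy)
    rw [(commute_kernel_Q L hQS hSa ht hy).symm.mul_mul_mul_comm, hy2, mul_one] at hx2
    rcases hUinv t ht hx2 with rfl | rfl
    · exact Or.inl (by rw [one_mul]; exact hAQ ▸ hy)
    · exact Or.inr (by rw [← mul_assoc, sq_of_order_two hu, one_mul]; exact hAQ ▸ hy)
  · obtain ⟨k, hk, hkS⟩ := hsyl (zpowers s) hs2 (zpowers_le.2 (mem_inf.2
      ⟨mem_centralizer_singleton_iff.2 hsu.eq, mem_stabilizer_iff.2 (hsF a hua)⟩))
    obtain ⟨hku, -⟩ := mem_inf.1 hk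
    have hku' : Commute k u := mem_centralizer_singleton_iff.1 hku
    have hconju : k⁻¹ * u * k = u := by rw [mul_assoc, ← hku'.eq, inv_mul_cancel_left]
    have hs'U : k⁻¹ * s * k ∈ U := by
      refine mem_lineKernel.2 ⟨hkS s (mem_zpowers s), (hku'.inv_left.mul_left hsu).mul_left hku', fun p hp => ?_⟩
      have hp' : u • k • p = k • p := by rw [smul_smul, ← hku'.eq, mul_smul, hp]
      rw [mul_smul, mul_smul, hsF _ hp', inv_smul_smul]
    refine false_of_square_kernel (fun d => IsConj z d) hna hD2 hconj hmul S hu huD U Q A huU L.leQ hQS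
      (inf_le_left.trans inf_le_left) (fun t ht x hx => commute_kernel_Q L hQS hSa ht hx)
      (kernel_inf_Q L hQS hSa) hUinv ⟨_, hs'U, ?_⟩ L.centQ (fun x hx _ => hAQ ▸ hx)
      (fun x hx _ => L.elem x (hAQ ▸ hx))
      (fun g hg hgu hgA => exists_kernel_mul L hQS hSa hua hj hg hgu hgA) memA onlyA
    rw [show k⁻¹ * s * k * (k⁻¹ * s * k) = k⁻¹ * (s * s) * k by group, hss, hconju]

end Cfsg.Lib.BenderSE.Crit2
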