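/-
Aschbacher's criterion: an L2 line with one kernel involution and no field automorphism of 2-power order is
impossible (the climb of notes/s1175_h7_plan.md from the line data).
-/
import Cfsg.Agent.BenderSE.Criterion2.Eight
import Cfsg.Agent.BenderSE.Criterion2.LineSylow

set_option autoImplicit false
set_option linter.unusedSectionVars false
set_option linter.style.haveILetI false

namespace Cfsg.Lib.BenderSE.Crit2

open Subgroup MulAction Cfsg.Lib.InvolCalc Cfsg.Lib.BenderSE.CritDep

universe u v

variable {G : Type u} [Group G] [Finite G]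

/-- THE CLIMB: a state below a Sylow subgroup of `G` in `M` does not exist -/
theorem false_of_state [IsSimpleGroup G] (hna : ¬ IsMulCommutative G) {M : Subgroup G} {D : G → Prop} {u : G}
    {A : Subgroup G} {q : ℕ} (S₀ : Sylow 2 G) (hS₀M : (S₀ : Subgroup G) ≤ M) :
    ∀ (X R T : Subgroup G), Torus M D u A X q → State M u A X R T → False := by
  haveI : Fact (Nat.Prime 2) := ⟨Nat.prime_two⟩
  suffices H : ∀ (n : ℕ) (X R T : Subgroup G), Nat.card G - Nat.card R = n → Torus M D u A X q →
      State M u A X R T → False from fun X R T => H _ X R T rfl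
  intro n
  induction n using Nat.strong_induction_on with
  | _ n ih =>
  intro X R T hn hA hS
  obtain ⟨k, hk, hkR⟩ := exists_conj_into S₀ hS₀M hS.two hS.le
  set S := k • S₀ with hSdef
  have hSM : (S : Subgroup G) ≤ M := by
    rw [Sylow.coe_subgroup_smul]
    rintro _ ⟨x, hx, rfl⟩
    exact mul_mem (mul_mem hk (hS₀M hx)) (inv_mem hk)
  have hRS : R ≤ (S : Subgroup G) := fun r hr => by
    rw [Sylow.coe_subgroup_smul]
    exact ⟨k⁻¹ * r * k, hkR r hr, show k * (k⁻¹ * r * k) * k⁻¹ = r by group⟩
  by_cases hRe : R = (S : Subgroup G)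
  · subst hRe
    exact stateEnd M D u A X T q S inferInstance hna hA hS
  · obtain ⟨X2, R', hA2, hS2, hstep⟩ := stepExists_simple G hna M D u A X R T q hA hS S hSM hRS hRe
    obtain ⟨T', hS'⟩ := step_state hA2 hS2 hstep
    have hlt : Nat.card R < Nat.card R' := by
      have h1 := Subgroup.card_mul_index (R.subgroupOf R')
      rw [Nat.card_congr (subgroupOfEquivOfLe hstep.le).toEquiv, ← relIndex, hstep.index, hA.card] at h1
      have h2 := hA.four
      have h3 : 0 < Nat.card R := Nat.card_pos
      nlinarith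
    have := Subgroup.card_le_card_group R'
    exact ih _ (by omega) X2 R' T' rfl hA2 hS'

variable {α : Type v} [MulAction G α] {z : G}

/-- an L2 line with one involution in the kernel has a field automorphism of 2-power order -/
theorem exists_field_of_line [IsSimpleGroup G] [FaithfulSMul G α] (hna : ¬ IsMulCommutative G) (h : Crit G α z)
    {u : G} {a : α} {A Q X : Subgroup G} {q j : ℕ}
    (hu : orderOf u = 2) (hua : u • a = a) (L : LineData z u a A Q X q j) (hj : j = 1)
    (hone : ∀ t : G, orderOf t = 2 → Commute t u → (∀ p : α, u • p = p → t • p = p) →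
      (∀ d ∈ A, Commute t d) → t = u) :
    ∃ g : G, IsPGroup 2 (zpowers g) ∧ g • a = a ∧ Commute g u ∧ g ∈ normalizer (A : Set G) ∧
      ∃ d ∈ A, ¬ Commute d g := by
  by_contra hphi
  push Not at hphi
  haveI : Fact (Nat.Prime 2) := ⟨Nat.prime_two⟩
  obtain ⟨-, hsquare⟩ := fused_of_line hna h hu hua L hj hone
  obtain ⟨S, hQS, huS, hSa, hsyl⟩ := exists_line_sylow h hua hu L
  obtain ⟨b, hub, hba⟩ := exists_other_fixed L hQS hSa
  have huD : ¬ IsConj z u := fun e => hba (centre_unique h e hub hua)
  have hAQ := eq_Q_of_one L hQS hSa hj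
  have hAS : A ≤ (S : Subgroup G) := L.leQ.trans hQS
  have hAu : ∀ d ∈ A, Commute d u := fun d hd => commute_of_mem (L.Qle (L.leQ hd))
  have memA : ∀ d ∈ A, d ≠ 1 → IsConj z d := fun d hd hd1 => (L.memA d hd hd1).1
  have huA : u ∉ A := fun hm => huD (memA u hm (ne_one_of_order_two hu))
  have hu2 := sq_of_order_two hu
  -- the kernel is `⟨u⟩`
  have hU : ∀ t ∈ lineKernel α (S : Subgroup G) u, t = 1 ∨ t = u := by
    intro t ht
    obtain ⟨htS, htu, htF⟩ := mem_lineKernel.1 ht
    have hkerinv : ∀ s ∈ lineKernel α (S : Subgroup G) u, orderOf s = 2 → s = u := fun s hs hs2 =>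
      hone s hs2 (mem_lineKernel.1 hs).2.1 (mem_lineKernel.1 hs).2.2 fun d hd =>
        commute_kernel_Q L hQS hSa hs (L.leQ hd)
    obtain ⟨i, hi⟩ := S.isPGroup'.exists_orderOf_eq_pow ⟨t, htS⟩
    rw [Subgroup.orderOf_mk] at hi
    match i, hi with
    | 0, hi => exact Or.inl (orderOf_eq_one_iff.1 (by rw [hi, pow_zero]))
    | 1, hi => exact Or.inr (hkerinv t ht (by rw [hi, pow_one]))
    | (i + 2), hi =>
      exfalso
      obtain ⟨hsS, hsu, hsF⟩ := mem_lineKernel.1 (pow_mem ht (2 ^ i))
      refine hsquare (t ^ 2 ^ i) (S.isPGroup'.to_le (zpowers_le.2 hsS)) hsu hsF (hkerinv _ ?_ ?_)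
      · exact mul_mem (pow_mem ht _) (pow_mem ht _)
      · rw [← pow_add, ← two_mul, ← pow_succ', orderOf_pow' t (by positivity), hi,
          Nat.gcd_eq_right (pow_dvd_pow 2 (by omega)), Nat.pow_div (by omega) (by omega),
          show i + 2 - (i + 1) = 1 by omega, pow_one]
  -- the centraliser of `u` in the Sylow subgroup
  have hcent : ∀ g ∈ (S : Subgroup G), Commute g u → g ∈ A ⊔ zpowers u := by
    intro g hgS hgu
    have hgA : g ∈ normalizer (A : Set G) := mem_normalizer_iff.2 fun d => by
      rw [hAQ]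
      refine ⟨fun hd => conj_mem_Q L hQS hSa hgS hgu hd, fun hd => ?_⟩
      have := conj_mem_Q L hQS hSa (inv_mem hgS) hgu.inv_left hd
      rwa [show g⁻¹ * (g * d * g⁻¹) * g⁻¹⁻¹ = d by group] at this
    obtain ⟨t, ht, x, hx, rfl⟩ := exists_kernel_mul L hQS hSa hua hj hgS hgu
      (hphi g (S.isPGroup'.to_le (zpowers_le.2 hgS)) (hSa g hgS) hgu hgA)
    refine mul_mem ?_ (mem_sup_left (hAQ ▸ hx))
    rcases hU t ht with rfl | rfl
    · exact one_mem _
    · exact mem_sup_right (mem_zpowers t)
  have huN : zpowers u ≤ normalizer (A : Set G) := zpowers_le.2 (centralizer_le_normalizer _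
    (mem_centralizer_iff.2 fun d hd => (hAu d hd).eq))
  have hmemR : ∀ r : G, r ∈ A ⊔ zpowers u → r ∈ A ∨ u * r ∈ A := by
    intro r hr
    rw [← SetLike.mem_coe, coe_mul_of_right_le_normalizer_left A (zpowers u) huN] at hr
    obtain ⟨d, hd, w, hw, rfl⟩ := hr
    obtain ⟨i, rfl⟩ := mem_zpowers_iff.1 hw
    show d * u ^ i ∈ A ∨ u * (d * u ^ i) ∈ A
    rcases Int.even_or_odd i with ⟨m, rfl⟩ | ⟨m, rfl⟩
    · left
      rw [zpow_add, ← (Commute.refl u).mul_zpow m, hu2, one_zpow, mul_one]
      exact hd
    · right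
      rw [zpow_add, two_mul, zpow_add, zpow_one, ← (Commute.refl u).mul_zpow m, hu2, one_zpow, one_mul,
        ← mul_assoc, ← (hAu d hd).eq, mul_assoc, hu2, mul_one]
      exact hd
  have hconj : ∀ g d : G, IsConj z d → IsConj z (g * d * g⁻¹) :=
    fun g d hd => hd.trans (isConj_iff.2 ⟨g, rfl⟩)
  have hA : Torus (stabilizer G a) (fun d => IsConj z d) u A X q :=
    { two := hu
      memM := mem_stabilizer_iff.2 hua
      leM := L.leQ.trans L.Qfix
      XleM := L.Xfix
      oddX := L.oddX
      commX := fun x hx y hy => by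
        haveI := L.cyclicX
        obtain ⟨g, hg⟩ := IsCyclic.exists_generator (α := X)
        obtain ⟨i, hi⟩ := mem_zpowers_iff.1 (hg ⟨x, hx⟩)
        obtain ⟨k, hk⟩ := mem_zpowers_iff.1 (hg ⟨y, hy⟩)
        have h1 : Commute (g ^ i) (g ^ k) := Commute.zpow_zpow_self g i k
        rw [hi, hk] at h1
        exact congrArg Subtype.val h1.eq
      centX := L.centX
      elem := L.elem
      centA := hAu
      notA := huA
      card := L.card
      four := L.four
      normA := L.normA
      transA := L.transA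
      memA := memA
      conjD := hconj
      cosetA := fun d hd hD => by
        rcases eq_or_ne d 1 with rfl | hd1
        · rw [mul_one] at hD; exact huD hD
        · exact mul_not_conj h hu hua hub hba.symm (memA d hd hd1) (hAu d hd).symm hD
      semilinear := fun g hg => L.semilinear g (mem_stabilizer_iff.1 hg)
      bound := by
        intro w hw hc P hPM hP hPw
        obtain ⟨g, hg⟩ := isConj_iff.1 hc
        -- conjugate inside the stabiliser
        have hpa : u • g⁻¹ • a = g⁻¹ • a := by
          conv_lhs => rw [show u = g⁻¹ * w * g by rw [← hg]; group, mul_smul, mul_smul, smul_inv_smul,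
            mem_stabilizer_iff.1 hw]
        obtain ⟨c, hcu, hca⟩ : ∃ c : G, Commute c u ∧ c • a = g⁻¹ • a := by
          rcases eq_or_ne (g⁻¹ • a) a with e | e
          · exact ⟨1, Commute.one_left u, by rw [one_smul, e]⟩
          · obtain ⟨d, e', hd, hd'⟩ : ∃ d e' : G, (IsConj z d ∧ d • a = a ∧ Commute d u) ∧
                (IsConj z e' ∧ e' • g⁻¹ • a = g⁻¹ • a ∧ Commute e' u) := by
              obtain ⟨d, hd, hda, hdu⟩ := h.central a (zpowers u) (isPGroup_zpowers_of_two hu)
                fun x hx => mem_fixSet_zpowers hua x hx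
              obtain ⟨e', he, hea, heu⟩ := h.central (g⁻¹ • a) (zpowers u) (isPGroup_zpowers_of_two hu)
                fun x hx => mem_fixSet_zpowers hpa x hx
              exact ⟨d, e', ⟨hd, hda, hdu u (mem_zpowers u)⟩, he, hea, heu u (mem_zpowers u)⟩
            obtain ⟨v, -, hva, -, -, hvc⟩ := exists_midpoint h hd.1 hd'.1 hd.2.1 hd'.2.1 e.symm
            exact ⟨v, (hvc u hd.2.2.symm hd'.2.2.symm).symm, hva⟩
        set m := g * c with hm
        have hma : m • a = a := by rw [hm, mul_smul, hca, smul_inv_smul]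
        have hmu : m * u * m⁻¹ = w := by
          rw [hm, show g * c * u * (g * c)⁻¹ = g * (c * u * c⁻¹) * g⁻¹ by group, hcu.eq,
            mul_inv_cancel_right, hg]
        obtain ⟨k, hk, hkP⟩ := hsyl (P.map (MulAut.conj m⁻¹).toMonoidHom) (hP.map _) (by
          rintro _ ⟨p, hp, rfl⟩
          refine mem_inf.2 ⟨mem_centralizer_singleton_iff.2 ?_, ?_⟩
          · have h1 : Commute (m⁻¹ * p * m⁻¹⁻¹) (m⁻¹ * w * m⁻¹⁻¹) :=
              (hPw p hp).map (MulAut.conj m⁻¹).toMonoidHom
            rw [inv_inv, ← hmu, show m⁻¹ * (m * u * m⁻¹) * m = u by group] at h1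
            show m⁻¹ * p * m⁻¹⁻¹ * u = u * (m⁻¹ * p * m⁻¹⁻¹)
            rw [inv_inv]
            exact h1.eq
          · show m⁻¹ * p * m⁻¹⁻¹ ∈ stabilizer G a
            have hm' := mem_stabilizer_iff.2 hma
            exact mul_mem (mul_mem (inv_mem hm') (hPM hp)) (inv_mem (inv_mem hm')))
        obtain ⟨hku, -⟩ := mem_inf.1 hk
        have hle : (P.map (MulAut.conj m⁻¹).toMonoidHom).map (MulAut.conj k⁻¹).toMonoidHom ≤ A ⊔ zpowers u := by
          rintro _ ⟨p, hp, rfl⟩
          show k⁻¹ * p * k⁻¹⁻¹ ∈ A ⊔ zpowers u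
          rw [inv_inv]
          refine hcent _ (hkP p hp) ?_
          have h1 : Commute k u := mem_centralizer_singleton_iff.1 hku
          obtain ⟨p', hp', rfl⟩ := hp
          refine (h1.inv_left.mul_left ?_).mul_left h1
          have h2 : Commute (m⁻¹ * p' * m⁻¹⁻¹) (m⁻¹ * w * m⁻¹⁻¹) :=
            (hPw p' hp').map (MulAut.conj m⁻¹).toMonoidHom
          rw [inv_inv, ← hmu, show m⁻¹ * (m * u * m⁻¹) * m = u by group] at h2
          show Commute (m⁻¹ * p' * m⁻¹⁻¹) u
          rwa [inv_inv]
        have h3 := Subgroup.card_le_of_le hle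
        rw [Subgroup.card_map_of_injective (f := (MulAut.conj k⁻¹).toMonoidHom) (MulAut.conj k⁻¹).injective,
          Subgroup.card_map_of_injective (f := (MulAut.conj m⁻¹).toMonoidHom) (MulAut.conj m⁻¹).injective] at h3
        refine h3.trans ?_
        rw [← SetLike.coe_sort_coe, coe_mul_of_right_le_normalizer_left A (zpowers u) huN]
        refine Set.natCard_mul_le.trans ?_
        rw [SetLike.coe_sort_coe, SetLike.coe_sort_coe, Nat.card_zpowers, hu, L.card, mul_comm] }
  have hS : State (stabilizer G a) u A X (A ⊔ zpowers u) A :=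
    { le := sup_le hA.leM (zpowers_le.2 hA.memM)
      two := S.isPGroup'.to_le (sup_le hAS (zpowers_le.2 huS))
      mem := mem_sup_right (mem_zpowers u)
      leA := le_rfl
      centre := fun d hd r hr => by
        rcases hmemR r hr with h1 | h1
        · exact L.centQ d hd r (L.leQ h1)
        · have h2 : Commute d (u * (u * r)) := (hAu d hd).mul_right (L.centQ d hd _ (L.leQ h1))
          rwa [← mul_assoc, hu2, one_mul] at h2
      fix := fun r hr _ => hr
      normR := fun x hx => by
        have h1 : ∀ y ∈ X, ∀ r ∈ A ⊔ zpowers u, y * r * y⁻¹ ∈ A ⊔ zpowers u := fun y hy r hr => by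
          have hle : (A ⊔ zpowers u).map (MulAut.conj y).toMonoidHom ≤ A ⊔ zpowers u := by
            rw [Subgroup.map_sup, MonoidHom.map_zpowers]
            refine sup_le_sup ?_ (le_of_eq ?_)
            · rintro _ ⟨d, hd, rfl⟩
              exact (mem_normalizer_iff.1 (L.normA hy) d).1 hd
            · show zpowers (y * u * y⁻¹) = zpowers u
              rw [(L.centX y hy).eq, mul_inv_cancel_right]
          exact hle ⟨r, hr, rfl⟩
        refine mem_normalizer_iff.2 fun r => ⟨h1 x hx r, fun hr => ?_⟩
        have := h1 x⁻¹ (inv_mem hx) _ hr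
        rwa [show x⁻¹ * (x * r * x⁻¹) * x⁻¹⁻¹ = r by group] at this
      normT := L.normA
      fixX := fun t ht hfix => by
        by_contra ht1
        have hsub : (A : Set G) ⊆ ({1, t} : Set G) := fun d hd => by
          rcases eq_or_ne d 1 with rfl | hd1
          · exact Set.mem_insert _ _
          · obtain ⟨x, hx, rfl⟩ := L.transA t ht d hd ht1 hd1
            rw [(hfix x hx).eq, mul_inv_cancel_right]
            exact Set.mem_insert_of_mem _ rfl
        have h1 := Set.ncard_le_ncard hsub
        rw [← Nat.card_coe_set_eq, SetLike.coe_sort_coe, L.card] at h1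
        have := h1.trans (Set.ncard_insert_le _ _)
        rw [Set.ncard_singleton] at this
        have := L.four
        omega
      leT := le_sup_left
      index := by
        rw [relIndex, index_eq_two_iff]
        refine ⟨⟨u, mem_sup_right (mem_zpowers u)⟩, fun r => ?_⟩
        rw [mem_subgroupOf, mem_subgroupOf]
        show Xor ((r : G) * u ∈ A) ((r : G) ∈ A)
        rcases hmemR r r.2 with h1 | h1
        · refine Or.inr ⟨h1, fun h2 => huA ?_⟩
          simpa using mul_mem (inv_mem h1) h2
        · have h2 : Commute (r : G) u := by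
            have h3 : Commute (u * (u * (r : G))) u := (Commute.refl u).mul_left (hAu _ h1)
            rwa [← mul_assoc, hu2, one_mul] at h3
          refine Or.inl ⟨by rwa [h2.eq], fun h3 => huA ?_⟩
          simpa using mul_mem h1 (inv_mem h3)
      noConj := fun w hw hc => by
        rcases eq_or_ne w 1 with rfl | hw1
        · obtain ⟨g, hg⟩ := isConj_iff.1 hc
          exact ne_one_of_order_two hu (conj_eq_one_iff.1 hg)
        · exact huD ((memA w hw hw1).trans hc.symm) }
  exact false_of_state hna S (fun s hs => mem_stabilizer_iff.2 (hSa s hs)) X _ _ hA hS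

end Cfsg.Lib.BenderSE.Crit2
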