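/-
Aschbacher's criterion, the final wiring: the criterion follows from the statement on lines and three
propositions on the chosen involution (a second involution in its kernel, a field automorphism of 2-power
order on an L2 line, a Suzuki or unitary line).
-/
import Cfsg.Agent.BenderSE.Criterion2.Choice
import Cfsg.Agent.BenderSE.Criterion2.PlainLine
import Cfsg.Agent.BenderSE.Dependents.ClosedCriterion

set_option autoImplicit false
set_option linter.unusedSectionVars false
set_option linter.style.haveILetI false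

namespace Cfsg.Lib.BenderSE.Crit2

open Subgroup MulAction Cfsg.Lib.InvolCalc Cfsg.Lib.BenderSE.CritDep
open Cfsg.Lib.BenderSE.ClosedCrit (CriterionProp)

universe u

variable {G : Type u} [Group G] [Finite G]

/-- the hypotheses of the criterion on the cosets of `M` -/
theorem crit_cosets (M : Subgroup G) (hM : M ≠ ⊤) {z : G} (hz : orderOf z = 2) (hzM : z ∈ M)
    (h1 : ∃ S : Sylow 2 G, z ∈ S ∧ ∀ s ∈ S, Commute s z) (h2 : ∀ g : G, g * z * g⁻¹ ∈ M → g ∈ M)
    (h3 : ∀ g : G, Commute z (g * z * g⁻¹) → g * z * g⁻¹ ≠ z →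
      centralizer ({z * (g * z * g⁻¹)} : Set G) ≤ M) : Crit G (G ⧸ M) z := by
  have hCz : ∀ c : G, Commute c z → c ∈ M := fun c hc => h2 c (by rwa [hc.eq, mul_inv_cancel_right])
  obtain ⟨S, hzS, hS⟩ := h1
  have hfix : ∀ (g x : G), g • (QuotientGroup.mk x : G ⧸ M) = QuotientGroup.mk x ↔ x⁻¹ * g * x ∈ M := by
    intro g x
    rw [MulAction.Quotient.smul_mk, smul_eq_mul, QuotientGroup.eq, ← inv_mem_iff]
    simp [mul_assoc]
  -- every 2-subgroup of a point commutes with a member at it
  have hcentral : ∀ (x : G) (P : Subgroup G), IsPGroup 2 P → (∀ p ∈ P, x⁻¹ * p * x ∈ M) →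
      ∃ k ∈ M, ∀ p ∈ P, Commute (x * k * z * (x * k)⁻¹) p := by
    intro x P hP hPM
    obtain ⟨k, hk, hkP⟩ := exists_conj_into (K := M) S (fun s hs => hCz s (hS s hs))
      (V := P.map (MulAut.conj x⁻¹).toMonoidHom) (hP.map _) (by
        rintro _ ⟨p, hp, rfl⟩
        simpa using hPM p hp)
    refine ⟨k, hk, fun p hp => ?_⟩
    have h := (hS _ (hkP _ ⟨p, hp, rfl⟩)).symm
    have h' : Commute (x * k * z * (x * k)⁻¹) (x * k * (k⁻¹ * (x⁻¹ * p * x⁻¹⁻¹) * k) * (x * k)⁻¹) :=
      h.map (MulAut.conj (x * k)).toMonoidHom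
    rwa [show x * k * (k⁻¹ * (x⁻¹ * p * x⁻¹⁻¹) * k) * (x * k)⁻¹ = p by group] at h'
  refine ⟨hz, fun d hd => ?_, fun x P hP hPx => ?_, fun d e hd he hde hne x y hx hy => ?_⟩
  · obtain ⟨g, rfl⟩ := isConj_iff.1 hd
    refine ⟨QuotientGroup.mk g, (hfix _ g).2 (by simpa [mul_assoc] using hzM), fun y hy => ?_⟩
    obtain ⟨x, rfl⟩ := QuotientGroup.mk_surjective y
    refine QuotientGroup.eq.2 (h2 _ ?_)
    have := (hfix _ x).1 hy
    simpa [mul_assoc] using this
  · obtain ⟨x, rfl⟩ := QuotientGroup.mk_surjective x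
    obtain ⟨k, hk, hkP⟩ := hcentral x P hP fun p hp => (hfix p x).1 (hPx p hp)
    refine ⟨_, isConj_iff.2 ⟨x * k, rfl⟩, (hfix _ x).2 ?_, hkP⟩
    rw [show x⁻¹ * (x * k * z * (x * k)⁻¹) * x = k * z * k⁻¹ by group]
    exact mul_mem (mul_mem hk hzM) (inv_mem hk)
  · obtain ⟨g, rfl⟩ := isConj_iff.1 hd
    obtain ⟨l, rfl⟩ := isConj_iff.1 he
    -- move the first member to `z`
    set w := g⁻¹ * l with hw
    have hzw : Commute z (w * z * w⁻¹) := by
      have h : Commute (g⁻¹ * (g * z * g⁻¹) * g⁻¹⁻¹) (g⁻¹ * (l * z * l⁻¹) * g⁻¹⁻¹) :=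
        hde.map (MulAut.conj g⁻¹).toMonoidHom
      rwa [show g⁻¹ * (g * z * g⁻¹) * g⁻¹⁻¹ = z by group,
        show g⁻¹ * (l * z * l⁻¹) * g⁻¹⁻¹ = w * z * w⁻¹ by rw [hw]; group] at h
    have hnw : w * z * w⁻¹ ≠ z := fun e => hne (by
      rw [← show g * (w * z * w⁻¹) * g⁻¹ = l * z * l⁻¹ by rw [hw]; group, e])
    set t := z * (w * z * w⁻¹) with ht
    have hwM : w * z * w⁻¹ ∈ M := hCz _ hzw.symm
    have htM : t ∈ M := mul_mem hzM hwM
    have htC := h3 w hzw hnw
    have ht2 : t * t = 1 := by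
      have hw2 : w * z * w⁻¹ * (w * z * w⁻¹) = 1 := by
        rw [show w * z * w⁻¹ * (w * z * w⁻¹) = w * (z * z) * w⁻¹ by group, sq_of_order_two hz, mul_one,
          mul_inv_cancel]
      rw [ht, hzw.symm.mul_mul_mul_comm, sq_of_order_two hz, hw2, one_mul]
    have key : ∀ p : G ⧸ M, (g * z * g⁻¹ * (l * z * l⁻¹)) • p = p → p = QuotientGroup.mk g := by
      intro p hp
      obtain ⟨x, rfl⟩ := QuotientGroup.mk_surjective p
      have hp' := (hfix _ x).1 hp
      set y := g⁻¹ * x with hy
      have hy' : y⁻¹ * t * y ∈ M := by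
        rwa [show y⁻¹ * t * y = x⁻¹ * (g * z * g⁻¹ * (l * z * l⁻¹)) * x by rw [ht, hy, hw]; group]
      obtain ⟨k, hk, hkP⟩ := hcentral y (zpowers t) (by
          refine fun v => ⟨1, Subtype.ext ?_⟩
          obtain ⟨i, hi⟩ := mem_zpowers_iff.1 v.2
          rw [SubmonoidClass.coe_pow, ← hi, pow_one, pow_two, ← (Commute.refl t).mul_zpow i, ht2, one_zpow]
          rfl)
        (fun v hv => by
          obtain ⟨i, rfl⟩ := mem_zpowers_iff.1 hv
          have := zpow_mem hy' i
          rwa [show y⁻¹ * t * y = y⁻¹ * t * y⁻¹⁻¹ by group, conj_zpow, inv_inv] at this)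
      have h4 : y * k ∈ M := h2 _ (htC (mem_centralizer_singleton_iff.2 (hkP t (mem_zpowers t)).eq))
      exact (QuotientGroup.eq.2 ((mul_mem_cancel_right hk).1 h4)).symm
    rw [key x hx, key y hy]

/-- the data of the chosen involution -/
structure LineCase (α : Type u) [MulAction G α] (z u : G) (a : α) (A Q X : Subgroup G) (q j : ℕ) : Prop where
  simple : IsSimpleGroup G
  nonab : ¬ IsMulCommutative G
  crit : Crit G α z
  below : CriterionBelow.{u} (Nat.card G)
  lines : ∀ (v : G) (c d : α), orderOf v = 2 → v • c = c → v • d = d → c ≠ d →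
    Cfsg.IsStronglyEmbedded ((stabilizer G c).subgroupOf (localGen z v)) ∧
      ((∃ x y, IsConj z x ∧ IsConj z y ∧ x ≠ y ∧ Commute x y ∧ Commute v x ∧ Commute v y) →
        ∃ (B R Y : Subgroup G) (r i : ℕ), LineData z v c B R Y r i)
  chosen : Chosen α z u
  fixa : u • a = a
  data : LineData z u a A Q X q j

/-- OPEN 1: the kernel of the chosen involution has no second involution -/
def KernelProp : Prop :=
  ∀ (G α : Type u) [Group G] [Finite G] [MulAction G α] [Finite α] [IsPretransitive G α] [FaithfulSMul G α]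
    (z u : G) (a : α) (A Q X : Subgroup G) (q j : ℕ), LineCase α z u a A Q X q j →
    ∀ t : G, orderOf t = 2 → Commute t u → (∀ p : α, u • p = p → t • p = p) → (∀ d ∈ A, Commute t d) → t = u

/-- OPEN 2: an L2 line with one kernel involution has no field automorphism of 2-power order -/
def FieldProp : Prop :=
  ∀ (G α : Type u) [Group G] [Finite G] [MulAction G α] [Finite α] [IsPretransitive G α] [FaithfulSMul G α]
    (z u : G) (a : α) (A Q X : Subgroup G) (q j : ℕ), LineCase α z u a A Q X q j → j = 1 →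
    (∀ t : G, orderOf t = 2 → Commute t u → (∀ p : α, u • p = p → t • p = p) → (∀ d ∈ A, Commute t d) → t = u) →
    ∀ g : G, IsPGroup 2 (zpowers g) → g • a = a → Commute g u → g ∈ normalizer (A : Set G) →
      (∃ d ∈ A, ¬ Commute d g) → False

/-- OPEN 3: the line of the chosen involution is of type L2 -/
def RootProp : Prop :=
  ∀ (G α : Type u) [Group G] [Finite G] [MulAction G α] [Finite α] [IsPretransitive G α] [FaithfulSMul G α]
    (z u : G) (a : α) (A Q X : Subgroup G) (q j : ℕ), LineCase α z u a A Q X q j → j ≠ 1 →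
    (∀ t : G, orderOf t = 2 → Commute t u → (∀ p : α, u • p = p → t • p = p) → (∀ d ∈ A, Commute t d) → t = u) →
    False

/-- the statement on lines, for every group -/
def LinesProp : Prop :=
  ∀ (G α : Type u) [Group G] [Finite G] [MulAction G α] [Finite α] [FaithfulSMul G α]
    [IsPretransitive G α], IsSimpleGroup G → LineStatement G α

/-- THE WIRING: the criterion from the statement on lines and the three open propositions -/
theorem criterion_of_cases (hlines : LinesProp.{u}) (hker : KernelProp.{u}) (hfield : FieldProp.{u})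
    (hroot : RootProp.{u}) : CriterionProp.{u} := by
  suffices H : ∀ n, CriterionBelow.{u} n from fun L _ _ _ M hM z => H (Nat.card L + 1) L (Nat.lt_succ_self _) M hM z
  intro n
  induction n using Nat.strong_induction_on with
  | _ n ih =>
  intro L _ _ hsimple hL M hM z hz hzM h1 h2 h3
  by_contra hno
  haveI := faithful_cosets hM
  have h := crit_cosets M hM hz hzM h1 h2 h3
  have hna : ¬ IsMulCommutative L := fun hc => by
    haveI : M.Normal := ⟨fun m hm g => by rwa [hc.is_comm.comm g m, mul_inv_cancel_right]⟩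
    rcases IsSimpleGroup.eq_bot_or_eq_top_of_normal M inferInstance with e | e
    · rw [e, mem_bot] at hzM
      exact ne_one_of_order_two hz hzM
    · exact hM e
  obtain ⟨v, hv⟩ := exists_chosen_of_crit M hM z hz hzM h1 h2 hno
  obtain ⟨a, b, hab, ha, hb⟩ := exists_two_fix h hv.rank.1 hv.rank.2.1
  have hl := hlines L (L ⧸ M) inferInstance z h (ih _ hL)
  obtain ⟨-, hdata⟩ := hl v a b hv.rank.1 ha hb hab
  obtain ⟨A, Q, X, q, j, D⟩ := hdata hv.rank.2.2
  have C : LineCase (L ⧸ M) z v a A Q X q j := ⟨inferInstance, hna, h, ih _ hL, hl, hv, ha, D⟩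
  have hone := hker L (L ⧸ M) z v a A Q X q j C
  by_cases hj : j = 1
  · obtain ⟨g, hg, hga, hgv, hgA, hd⟩ := exists_field_of_line hna h hv.rank.1 ha D hj hone
    exact hfield L (L ⧸ M) z v a A Q X q j C hj hone g hg hga hgv hgA hd
  · exact hroot L (L ⧸ M) z v a A Q X q j C hj hone

end Cfsg.Lib.BenderSE.Crit2
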