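/-
The Singer lemma without the oddness hypothesis: the point stabiliser has odd order anyway.

If an involution `w` fixes two points, its conjugates ("reflections") fix `s` points and vectors, `s ^ 2 = q`, and
every pair of points is exchanged by exactly one reflection, so the swapper centralises the stabiliser of the pair.
Either the centraliser of `w` is faithful on `V^w`, a smaller configuration, where by induction a swapper inverts
an element of the stabiliser of its pair; or the reflections with fixed space `V^w` fill the spread `x V^w`, and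
its stabiliser is too small for a 2-subgroup of order `2 q`.
-/
import Cfsg.Agent.BenderSE.Criterion2.Singer
import Cfsg.Agent.TICount.Common

set_option autoImplicit false
set_option linter.unusedSectionVars false
set_option linter.style.haveILetI false

namespace Cfsg.Lib.BenderSE.Crit2.Singer

open Subgroup MulAction
open scoped Pointwise

universe u v w

variable {L : Type u} [Group L] [Finite L] {V : Type v} [AddCommGroup V] [Finite V] [DistribMulAction L V]
  {Ω : Type w} [MulAction L Ω] [Finite Ω] {X : Subgroup L} {a b : Ω}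

namespace Weak

/-- an element normalising `X` with a fixed point besides `a`: its fixed points are an orbit of `C_X` and `a` -/
theorem fix_points (h : Weak V X a) {g : L} (hga : g • a = a) (hgb : g • b = b) (hb : b ≠ a) :
    {c : Ω | g • c = c} = insert a ((· • b) '' ((X ⊓ centralizer {g} : Subgroup L) : Set L)) := by
  ext c
  simp only [Set.mem_setOf_eq, Set.mem_insert_iff, Set.mem_image, SetLike.mem_coe, mem_inf,
    mem_centralizer_singleton_iff]
  constructor
  · intro hc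
    by_cases hca : c = a
    · exact Or.inl hca
    obtain ⟨x, hx, rfl⟩ := trans_points h hb hca
    have hx' : g * x * g⁻¹ ∈ X := (mem_normalizer_iff.1 (h.normal hga) x).1 hx
    refine Or.inr ⟨x, ⟨hx, ?_⟩, rfl⟩
    by_contra hne
    refine h.semireg _ (mul_mem (inv_mem hx) hx') (fun e => hne ?_) b hb ?_
    · rw [inv_mul_eq_one] at e
      calc x * g = g * x * g⁻¹ * g := by rw [← e]
        _ = g * x := by group
    · rw [mul_smul, mul_smul, mul_smul, inv_smul_eq_iff.2 hgb.symm, hc, inv_smul_smul]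
  · rintro (rfl | ⟨x, ⟨-, hxg⟩, rfl⟩)
    · exact hga
    · rw [← mul_smul, ← hxg, mul_smul, hgb]

/-- the same for vectors -/
theorem fix_vectors (h : Weak V X a) {g : L} (hga : g • a = a) {v₀ : V} (hgv : g • v₀ = v₀) (hv : v₀ ≠ 0) :
    {v : V | g • v = v} = insert 0 ((· • v₀) '' ((X ⊓ centralizer {g} : Subgroup L) : Set L)) := by
  ext v
  simp only [Set.mem_setOf_eq, Set.mem_insert_iff, Set.mem_image, SetLike.mem_coe, mem_inf,
    mem_centralizer_singleton_iff]
  constructor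
  · intro hc
    by_cases hv0 : v = 0
    · exact Or.inl hv0
    obtain ⟨x, hx, rfl⟩ := h.trans v₀ v hv hv0
    have hx' : g * x * g⁻¹ ∈ X := (mem_normalizer_iff.1 (h.normal hga) x).1 hx
    refine Or.inr ⟨x, ⟨hx, ?_⟩, rfl⟩
    have e := free h (mul_mem (inv_mem hx) hx') hv (by
      rw [mul_smul, mul_smul, mul_smul, inv_smul_eq_iff.2 hgv.symm, hc, inv_smul_smul])
    rw [inv_mul_eq_one] at e
    calc x * g = g * x * g⁻¹ * g := by rw [← e]
      _ = g * x := by group
  · rintro (rfl | ⟨x, ⟨-, hxg⟩, rfl⟩)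
    · exact smul_zero g
    · rw [← mul_smul, ← hxg, mul_smul, hgv]

theorem ncard_fix (h : Weak V X a) {g : L} (hga : g • a = a) (hgb : g • b = b) (hb : b ≠ a) :
    {c : Ω | g • c = c}.ncard = Nat.card (X ⊓ centralizer {g} : Subgroup L) + 1 := by
  rw [fix_points h hga hgb hb, Set.ncard_insert_of_notMem, Set.ncard_image_of_injOn, ← Nat.card_coe_set_eq]
  · rfl
  · intro x hx y hy e
    change x • b = y • b at e
    by_contra hne
    exact h.semireg (x⁻¹ * y) (mul_mem (inv_mem (mem_inf.1 hx).1) (mem_inf.1 hy).1)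
      (fun e' => hne (inv_mul_eq_one.1 e')) b hb (by rw [mul_smul, ← e, inv_smul_smul])
  · rintro ⟨x, hx, e⟩
    change x • b = a at e
    exact hb (MulAction.injective x (e.trans (show x • a = a from h.le (mem_inf.1 hx).1).symm))

theorem ncard_fixVec (h : Weak V X a) {g : L} (hga : g • a = a) {v₀ : V} (hgv : g • v₀ = v₀) (hv : v₀ ≠ 0) :
    {v : V | g • v = v}.ncard = Nat.card (X ⊓ centralizer {g} : Subgroup L) + 1 := by
  rw [fix_vectors h hga hgv hv, Set.ncard_insert_of_notMem, Set.ncard_image_of_injOn, ← Nat.card_coe_set_eq]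
  · rfl
  · intro x hx y hy e
    change x • v₀ = y • v₀ at e
    exact inv_mul_eq_one.1 (free h (mul_mem (inv_mem (mem_inf.1 hx).1) (mem_inf.1 hy).1) hv
      (by rw [mul_smul, ← e, inv_smul_smul]))
  · rintro ⟨x, hx, e⟩
    change x • v₀ = 0 at e
    exact hv (by have := congrArg (x⁻¹ • ·) e; rwa [inv_smul_smul, smul_zero] at this)

theorem two_dvd_card (h : Weak V X a) : 2 ∣ Nat.card V := by
  obtain ⟨r, hr, e⟩ := exists_rank h
  exact e ▸ dvd_pow_self 2 hr.ne'

/-- a 2-group fixing `a` fixes a second point -/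
theorem exists_fixed (h : Weak V X a) {P : Subgroup L} (hP : IsPGroup 2 P) (hPa : ∀ g ∈ P, g • a = a) :
    ∃ c, c ≠ a ∧ ∀ g ∈ P, g • c = c := by
  haveI : Fact (Nat.Prime 2) := ⟨Nat.prime_two⟩
  by_contra hno
  push Not at hno
  haveI : Unique (fixedPoints P Ω) :=
    { default := ⟨a, fun g => hPa g g.2⟩
      uniq := fun c => Subtype.ext (by
        by_contra hc
        obtain ⟨g, hg, hne⟩ := hno c hc
        exact hne (c.2 ⟨g, hg⟩)) }
  have h1 := hP.card_modEq_card_fixedPoints (α := Ω)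
  rw [Nat.card_unique (α := fixedPoints P Ω), h.card, Nat.ModEq, Nat.mod_eq_zero_of_dvd h.two_dvd_card] at h1
  exact absurd h1 (by norm_num)

theorem isPGroup_two {g : L} (hg : g * g = 1) : IsPGroup 2 (zpowers g) := fun x => ⟨1, by
  obtain ⟨i, hi⟩ := mem_zpowers_iff.1 x.2
  refine Subtype.ext ?_
  rw [Subgroup.coe_pow, Subgroup.coe_one, ← hi, ← zpow_natCast, ← zpow_mul, mul_comm, zpow_mul, zpow_natCast,
    pow_one, pow_two, hg, one_zpow]⟩

/-- the fixed vectors as a subgroup -/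
def fixVec (V : Type v) [AddCommGroup V] [DistribMulAction L V] (g : L) : AddSubgroup V where
  carrier := {v | g • v = v}
  zero_mem' := smul_zero g
  add_mem' := fun {x y} hx hy => by show g • (x + y) = x + y; rw [smul_add, hx, hy]
  neg_mem' := fun {x} hx => by show g • (-x) = -x; rw [smul_neg, hx]

theorem mem_fixVec {g : L} {v : V} : v ∈ fixVec V g ↔ g • v = v := Iff.rfl

/-- an involution at `a`: fixed vectors and fixed points number the square root of `|V|` -/
theorem involution_facts (h : Weak V X a) {g : L} (hg : g * g = 1) (hg1 : g ≠ 1) (hga : g • a = a) :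
    Nat.card (fixVec V g) * Nat.card (fixVec V g) = Nat.card V ∧ 2 ≤ Nat.card (fixVec V g) ∧
      {c : Ω | g • c = c}.ncard = Nat.card (fixVec V g) ∧
      Nat.card (X ⊓ centralizer {g} : Subgroup L) + 1 = Nat.card (fixVec V g) := by
  classical
  obtain ⟨r, hr0, hr⟩ := exists_rank h
  obtain ⟨b, hb, hbfix⟩ := h.exists_fixed (isPGroup_two hg) (fun k hk => by
    obtain ⟨i, rfl⟩ := mem_zpowers_iff.1 hk
    exact Subgroup.zpow_mem (stabilizer L a) hga i)
  have hgb : g • b = b := hbfix g (mem_zpowers g)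
  let φ : V →+ V := AddMonoidHom.mk' (fun v => g • v + v) fun x y => by rw [smul_add]; abel
  have hneg : ∀ v : V, -v = v := fun v => neg_eq_of_add_eq_zero_left (h.two v)
  have hker : φ.ker = fixVec V g := by
    ext v
    show g • v + v = 0 ↔ g • v = v
    rw [add_eq_zero_iff_eq_neg, hneg]
  have hrange : φ.range ≤ fixVec V g := by
    rintro _ ⟨v, rfl⟩
    show g • (g • v + v) = g • v + v
    rw [smul_add, ← mul_smul, hg, one_smul, add_comm]
  have hprod : Nat.card φ.range * Nat.card (fixVec V g) = Nat.card V := by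
    rw [← hker, ← φ.ker.card_mul_index, AddSubgroup.index_ker, mul_comm]
  set s := Nat.card (fixVec V g)
  have hsle : Nat.card φ.range ≤ s := Nat.card_le_card_of_injective _ (AddSubgroup.inclusion_injective hrange)
  have hq4 : 2 ≤ Nat.card V := Nat.le_of_dvd Nat.card_pos h.two_dvd_card
  have hs0 : 0 < s := Nat.card_pos
  have hs2 : 2 ≤ s := by nlinarith [Nat.mul_le_mul_right s hsle]
  obtain ⟨v₀, hv₀, hv0⟩ : ∃ v₀ ∈ fixVec V g, v₀ ≠ 0 := by
    by_contra hno
    push Not at hno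
    haveI : Subsingleton (fixVec V g) := ⟨fun x y => Subtype.ext ((hno x x.2).trans (hno y y.2).symm)⟩
    have := Finite.card_le_one_iff_subsingleton.2 (inferInstance : Subsingleton (fixVec V g))
    omega
  have hv := h.ncard_fixVec hga hv₀ hv0
  have hvs : {v : V | g • v = v}.ncard = s := (Nat.card_coe_set_eq _).symm
  rw [hvs] at hv
  have hdvd : s - 1 ∣ Nat.card V - 1 := by
    rw [hv, Nat.add_sub_cancel, ← card_X h, Nat.add_sub_cancel]
    exact Subgroup.card_dvd_of_le inf_le_left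
  have hsV : s ≠ Nat.card V := fun e => hg1 (h.faithful g fun v => by
    have hu : (fixVec V g : Set V) = Set.univ := Set.eq_of_subset_of_ncard_le (Set.subset_univ _)
      (by rw [Set.ncard_univ, ← Nat.card_coe_set_eq]; exact e.ge) Set.finite_univ
    exact (hu ▸ Set.mem_univ v : v ∈ (fixVec V g : Set V)))
  refine ⟨?_, hs2, (h.ncard_fix hga hgb hb).trans hv.symm, hv.symm⟩
  set t := Nat.card φ.range
  have ht2 : 2 ≤ t := by
    by_contra ht
    have : t = 1 ∨ t = 0 := by omega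
    rcases this with e | e
    · rw [e, one_mul] at hprod; exact hsV hprod
    · rw [e, zero_mul] at hprod; omega
  have h1 : s - 1 ∣ t - 1 := by
    have e : Nat.card V - 1 = t * (s - 1) + (t - 1) := by
      have : t * (s - 1) + t = t * s := by
        rw [← Nat.mul_succ, show (s - 1).succ = s by omega]
      omega
    rw [e] at hdvd
    exact (Nat.dvd_add_right (Dvd.intro_left t rfl)).1 hdvd
  have h2 := Nat.le_of_dvd (by omega) h1
  rw [← hprod, show t = s by omega]

/-- two commuting involutions fixing a point are equal -/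
theorem eq_of_commute (h : Weak V X a) {g k : L} (hg : g * g = 1) (hg1 : g ≠ 1) (hk : k * k = 1) (hk1 : k ≠ 1)
    (hgk : g * k = k * g) {c : Ω} (hgc : g • c = c) (hkc : k • c = c) : g = k := by
  classical
  haveI := h.pre
  obtain ⟨m, hm⟩ := exists_smul_eq L c a
  have hfix : ∀ x : L, x • c = c → (m * x * m⁻¹) • a = a := fun x hx => by
    rw [mul_smul, mul_smul, ← hm, inv_smul_smul, hx]
  set g' := m * g * m⁻¹ with hg'
  set k' := m * k * m⁻¹ with hk'
  have e1 : g' * g' = 1 := by rw [hg', show m * g * m⁻¹ * (m * g * m⁻¹) = m * (g * g) * m⁻¹ by group, hg]; group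
  have e2 : k' * k' = 1 := by rw [hk', show m * k * m⁻¹ * (m * k * m⁻¹) = m * (k * k) * m⁻¹ by group, hk]; group
  have e3 : Commute g' k' := by
    show g' * k' = k' * g'
    rw [hg', hk', show m * g * m⁻¹ * (m * k * m⁻¹) = m * (g * k) * m⁻¹ by group, hgk]; group
  let P : Subgroup L := zpowers g' ⊔ zpowers k'
  have hP : IsPGroup 2 P := (isPGroup_two e1).to_sup_of_normal_left' (isPGroup_two e2)
    (zpowers_le.2 (mem_normalizer_iff.2 fun x => by
      have key : ∀ j : ℤ, k' * g' ^ j * k'⁻¹ = g' ^ j := fun j => by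
        rw [← (e3.zpow_left j).eq, mul_inv_cancel_right]
      constructor <;> intro hx <;> obtain ⟨j, hj⟩ := mem_zpowers_iff.1 hx <;> refine mem_zpowers_iff.2 ⟨j, ?_⟩
      · rw [← hj, key]
      · rw [show x = k'⁻¹ * (k' * x * k'⁻¹) * k' by group, ← hj, mul_assoc, (e3.zpow_left j).eq,
          inv_mul_cancel_left]))
  have hPa : P ≤ stabilizer L a := sup_le (zpowers_le.2 (hfix g hgc)) (zpowers_le.2 (hfix k hkc))
  obtain ⟨b, hb, hbf⟩ := h.exists_fixed hP (fun x hx => hPa hx)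
  obtain ⟨r, -, hr⟩ := exists_rank h
  obtain ⟨hcyc, -⟩ := pair_facts h hb hr
  haveI := hcyc
  set W := stabilizer L a ⊓ stabilizer L b
  let x : W := ⟨g', hfix g hgc, hbf g' (mem_sup_left (mem_zpowers g'))⟩
  let y : W := ⟨k', hfix k hkc, hbf k' (mem_sup_right (mem_zpowers k'))⟩
  by_contra hne
  haveI := Fintype.ofFinite W
  have hxy : x ≠ y := fun e => hne (mul_left_cancel (mul_right_cancel (congrArg Subtype.val e)))
  have hx1 : x ≠ 1 := fun e => hg1 (by
    have : g' = 1 := congrArg Subtype.val e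
    calc g = m⁻¹ * g' * m := by rw [hg']; group
      _ = 1 := by rw [this]; group)
  have hy1 : y ≠ 1 := fun e => hk1 (by
    have : k' = 1 := congrArg Subtype.val e
    calc k = m⁻¹ * k' * m := by rw [hk']; group
      _ = 1 := by rw [this]; group)
  have h3 : ({1, x, y} : Finset W) ⊆ Finset.univ.filter fun z : W => z ^ 2 = 1 := by
    intro z hz
    simp only [Finset.mem_insert, Finset.mem_singleton] at hz
    rcases hz with rfl | rfl | rfl <;> simp [pow_two, Subtype.ext_iff, x, y, e1, e2]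
  have h4 := (Finset.card_le_card h3).trans (IsCyclic.card_pow_eq_one_le (α := W) (by norm_num : 0 < 2))
  rw [Finset.card_eq_three.2 ⟨1, x, y, hx1.symm, hy1.symm, hxy, rfl⟩] at h4
  omega

end Weak

open Weak

/-- a reflection: an involution with a fixed point -/
def Refl (g : L) (Ω : Type w) [MulAction L Ω] : Prop := g * g = 1 ∧ g ≠ 1 ∧ ∃ c : Ω, g • c = c

theorem Refl.conj {g : L} (hg : Refl g Ω) (m : L) : Refl (m * g * m⁻¹) Ω := by
  obtain ⟨h1, h2, c, hc⟩ := hg
  refine ⟨by rw [show m * g * m⁻¹ * (m * g * m⁻¹) = m * (g * g) * m⁻¹ by group, h1]; group,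
    fun e => h2 (conj_eq_one_iff.1 e), m • c, ?_⟩
  rw [← mul_smul, show m * g * m⁻¹ * m = m * g by group, mul_smul, hc]

theorem fixVec_conj (g m : L) : (fixVec V (m * g * m⁻¹) : Set V) = m • (fixVec V g : Set V) := by
  ext v
  rw [Set.mem_smul_set_iff_inv_smul_mem, SetLike.mem_coe, SetLike.mem_coe, mem_fixVec, mem_fixVec, mul_smul,
    mul_smul, eq_inv_smul_iff]

/-- the numbers of the reflections -/
theorem refl_facts (h : Weak V X a) {w₀ : L} (hw : w₀ * w₀ = 1) (hw1 : w₀ ≠ 1) (hwa : w₀ • a = a) :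
    Nat.card {g : L // Refl g Ω} = Nat.card (fixVec V w₀) * (Nat.card (fixVec V w₀) + 1) ∧
    (∀ g : L, Refl g Ω → Nat.card (fixVec V g) = Nat.card (fixVec V w₀)) ∧
    ∀ c d : Ω, c ≠ d → ∃! g : L, Refl g Ω ∧ g • c = d := by
  classical
  haveI := h.pre
  obtain ⟨hq, hs2, hfix, hC⟩ := h.involution_facts hw hw1 hwa
  set s := Nat.card (fixVec V w₀) with hs
  obtain ⟨b, hb, hbf⟩ := h.exists_fixed (isPGroup_two hw) fun k hk => by
    obtain ⟨i, rfl⟩ := mem_zpowers_iff.1 hk
    exact Subgroup.zpow_mem (stabilizer L a) hwa i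
  have hwb : w₀ • b = b := hbf w₀ (mem_zpowers _)
  -- the reflections at `a` are the `X`-conjugates of `w₀`
  have hatA : ∀ g : L, Refl g Ω → g • a = a → ∃ x ∈ X, g = x * w₀ * x⁻¹ := by
    intro g hg hga
    obtain ⟨c, hc, hcf⟩ := h.exists_fixed (isPGroup_two hg.1) fun k hk => by
      obtain ⟨i, rfl⟩ := mem_zpowers_iff.1 hk
      exact Subgroup.zpow_mem (stabilizer L a) hga i
    obtain ⟨x, hx, hxb⟩ := trans_points h hb hc
    refine ⟨x, hx, ?_⟩
    have hg' := hg.conj x⁻¹
    rw [inv_inv] at hg'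
    have hxa : x • a = a := h.le hx
    have hga' : (x⁻¹ * g * x) • a = a := by rw [mul_smul, mul_smul, hxa, hga, inv_smul_eq_iff, hxa]
    have hgb' : (x⁻¹ * g * x) • b = b := by
      rw [mul_smul, mul_smul, hxb, hcf g (mem_zpowers g), inv_smul_eq_iff, hxb]
    -- both are involutions of the pair stabiliser, which is cyclic
    obtain ⟨r, -, hr⟩ := exists_rank h
    obtain ⟨hcyc, -⟩ := pair_facts h hb hr
    letI := hcyc.commGroup
    let p : ↥(stabilizer L a ⊓ stabilizer L b) := ⟨x⁻¹ * g * x, hga', hgb'⟩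
    let p' : ↥(stabilizer L a ⊓ stabilizer L b) := ⟨w₀, hwa, hwb⟩
    have e : x⁻¹ * g * x = w₀ := h.eq_of_commute hg'.1 hg'.2.1 hw hw1
      (congrArg Subtype.val (mul_comm p p')) hga' hwa
    rw [← e]; group
  -- counts at one point
  have hcardA : Nat.card {g : L // Refl g Ω ∧ g • a = a} = s + 1 := by
    set C := (centralizer ({w₀} : Set L)).subgroupOf X with hCdef
    have hCcard : Nat.card C = Nat.card (X ⊓ centralizer {w₀} : Subgroup L) := by
      rw [hCdef, ← inf_subgroupOf_left]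
      exact Nat.card_congr (subgroupOfEquivOfLe inf_le_left).toEquiv
    have hfib : ∀ x y : X, x⁻¹ * y ∈ C ↔ (x : L) * w₀ * (x : L)⁻¹ = (y : L) * w₀ * (y : L)⁻¹ := fun x y => by
      rw [hCdef, mem_subgroupOf, mem_centralizer_singleton_iff]
      push_cast
      constructor <;> intro e
      · calc (x : L) * w₀ * (x : L)⁻¹ = x * (w₀ * ((x : L)⁻¹ * y)) * (y : L)⁻¹ := by group
          _ = x * (((x : L)⁻¹ * y) * w₀) * (y : L)⁻¹ := by rw [e]
          _ = _ := by group
      · calc (x : L)⁻¹ * y * w₀ = (x : L)⁻¹ * ((y : L) * w₀ * (y : L)⁻¹) * y := by group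
          _ = w₀ * ((x : L)⁻¹ * y) := by rw [← e]; group
    let f : X ⧸ C → {g : L // Refl g Ω ∧ g • a = a} := Quotient.lift
      (fun x : X => (⟨(x : L) * w₀ * (x : L)⁻¹, Refl.conj ⟨hw, hw1, a, hwa⟩ _, by
        have hxa : (x : L) • a = a := h.le x.2
        rw [mul_smul, mul_smul, inv_smul_eq_iff.2 hxa.symm, hwa, hxa]⟩ : {g : L // Refl g Ω ∧ g • a = a}))
      fun x y e => Subtype.ext ((hfib x y).1 (QuotientGroup.leftRel_apply.1 e))
    have hbij : Function.Bijective f := by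
      refine ⟨fun p p' => QuotientGroup.induction_on p fun x => QuotientGroup.induction_on p' fun y e =>
        QuotientGroup.eq.2 ((hfib x y).2 (congrArg Subtype.val e)), fun g => ?_⟩
      obtain ⟨x, hx, e⟩ := hatA g g.2.1 g.2.2
      exact ⟨QuotientGroup.mk ⟨x, hx⟩, Subtype.ext e.symm⟩
    rw [← Nat.card_congr (Equiv.ofBijective f hbij)]
    have h1 : Nat.card C * C.index = Nat.card X := C.card_mul_index
    have h2 := card_X h
    rw [hCcard] at h1
    rw [← hq, ← hC] at h2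
    rw [← hC]
    have h3 : Nat.card (X ⊓ centralizer {w₀} : Subgroup L) * C.index =
        Nat.card (X ⊓ centralizer {w₀} : Subgroup L) * (Nat.card (X ⊓ centralizer {w₀} : Subgroup L) + 1 + 1) := by
      rw [h1]; linarith
    exact Nat.eq_of_mul_eq_mul_left Nat.card_pos h3
  have hcardc : ∀ c : Ω, Nat.card {g : L // Refl g Ω ∧ g • c = c} = s + 1 := fun c => by
    obtain ⟨m, hm⟩ := exists_smul_eq L c a
    rw [← hcardA]
    refine Nat.card_congr ((MulAut.conj m).toEquiv.subtypeEquiv fun g => ⟨fun hg => ⟨hg.1.conj m, ?_⟩,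
      fun hg => ⟨?_, ?_⟩⟩)
    · show (m * g * m⁻¹) • a = a
      rw [mul_smul, mul_smul, ← hm, inv_smul_smul, hg.2]
    · have := hg.1.conj m⁻¹
      simpa [mul_assoc] using this
    · have h1 : (m * g * m⁻¹) • a = a := hg.2
      rw [mul_smul, mul_smul, ← hm, inv_smul_smul] at h1
      exact MulAction.injective m h1
  -- every reflection is a conjugate of `w₀`
  have hconj : ∀ g : L, Refl g Ω → ∃ m : L, g = m * w₀ * m⁻¹ := fun g hg => by
    obtain ⟨h1, h2, c, hc⟩ := hg
    obtain ⟨m, hm⟩ := exists_smul_eq L c a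
    obtain ⟨x, -, e⟩ := hatA _ (Refl.conj ⟨h1, h2, c, hc⟩ m) (by
      rw [mul_smul, mul_smul, ← hm, inv_smul_smul, hc])
    exact ⟨m⁻¹ * x, by
      calc g = m⁻¹ * (m * g * m⁻¹) * m := by group
        _ = _ := by rw [e]; group⟩
  have hsame : ∀ g : L, Refl g Ω → Nat.card (fixVec V g) = s ∧ {c : Ω | g • c = c}.ncard = s := fun g hg => by
    obtain ⟨m, rfl⟩ := hconj g hg
    constructor
    · rw [hs, ← SetLike.coe_sort_coe, fixVec_conj, Nat.card_coe_set_eq, Set.ncard_smul_set, ← Nat.card_coe_set_eq]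
      rfl
    · have e : {c : Ω | (m * w₀ * m⁻¹) • c = c} = m • {c : Ω | w₀ • c = c} := by
        ext c
        rw [Set.mem_smul_set_iff_inv_smul_mem, Set.mem_setOf_eq, Set.mem_setOf_eq, mul_smul, mul_smul,
          eq_inv_smul_iff]
      rw [e, Set.ncard_smul_set, hfix]
  -- incidences
  haveI := Fintype.ofFinite Ω
  haveI := Fintype.ofFinite L
  have hN : Nat.card {g : L // Refl g Ω} = s * (s + 1) := by
    have h1 : Nat.card {p : L × Ω // Refl p.1 Ω ∧ p.1 • p.2 = p.2} = Nat.card {g : L // Refl g Ω} * s := by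
      rw [Nat.card_congr ({ toFun := fun p => ⟨⟨p.1.1, p.2.1⟩, p.1.2, p.2.2⟩
                            invFun := fun p => ⟨(p.1.1, p.2.1), p.1.2, p.2.2⟩
                            left_inv := fun _ => rfl
                            right_inv := fun _ => rfl } :
        {p : L × Ω // Refl p.1 Ω ∧ p.1 • p.2 = p.2} ≃ Σ g : {g : L // Refl g Ω}, {c : Ω // g.1 • c = c}),
        Nat.card_sigma, Finset.sum_const_nat (m := s) fun (g : {g : L // Refl g Ω}) _ =>
          show Nat.card {c : Ω // g.1 • c = c} = s from (Nat.card_coe_set_eq {c : Ω | g.1 • c = c}).trans (hsame g.1 g.2).2,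
        Finset.card_univ, Nat.card_eq_fintype_card]
    have h2 : Nat.card {p : L × Ω // Refl p.1 Ω ∧ p.1 • p.2 = p.2} = Nat.card Ω * (s + 1) := by
      rw [Nat.card_congr ({ toFun := fun p => ⟨p.1.2, p.1.1, p.2⟩
                            invFun := fun p => ⟨(p.2.1, p.1), p.2.2⟩
                            left_inv := fun _ => rfl
                            right_inv := fun _ => rfl } :
        {p : L × Ω // Refl p.1 Ω ∧ p.1 • p.2 = p.2} ≃ Σ c : Ω, {g : L // Refl g Ω ∧ g • c = c}),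
        Nat.card_sigma, Finset.sum_const_nat (m := s + 1) fun c _ => hcardc c, Finset.card_univ,
        Nat.card_eq_fintype_card]
    rw [h1, h.card, ← hq] at h2
    exact Nat.eq_of_mul_eq_mul_right (show 0 < s by omega) (by rw [h2]; ring)
  refine ⟨hN, fun g hg => (hsame g hg).1, ?_⟩
  -- swappers: their number is constant, so one
  let Sw : Ω × Ω → Type u := fun p => {g : L // Refl g Ω ∧ g • p.1 = p.2}
  set m := Nat.card (Sw (a, b)) with hm
  have hconst : ∀ c d : Ω, c ≠ d → Nat.card (Sw (c, d)) = m := fun c d hcd => by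
    obtain ⟨k, hkc, hkd⟩ := two_trans h hcd hb.symm
    refine Nat.card_congr ((MulAut.conj k).toEquiv.subtypeEquiv fun g => ⟨fun hg => ⟨hg.1.conj k, ?_⟩,
      fun hg => ⟨?_, ?_⟩⟩)
    · show (k * g * k⁻¹) • a = b
      rw [mul_smul, mul_smul, ← hkc, inv_smul_smul, hg.2, hkd]
    · have := hg.1.conj k⁻¹
      simpa [mul_assoc] using this
    · have h1 : (k * g * k⁻¹) • a = b := hg.2
      rw [mul_smul, mul_smul, ← hkc, inv_smul_smul, ← hkd] at h1
      exact MulAction.injective k h1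
  have hm1 : m = 1 := by
    have h1 : Nat.card (Σ p : {p : Ω × Ω // p.1 ≠ p.2}, Sw p.1) =
        Nat.card {g : L // Refl g Ω} * (Nat.card Ω - s) := by
      rw [Nat.card_congr ({ toFun := fun p => ⟨⟨p.2.1, p.2.2.1⟩, p.1.1.1, fun e => p.1.2 (e.symm.trans p.2.2.2)⟩
                            invFun := fun p => ⟨⟨(p.2.1, p.1.1 • p.2.1), fun e => p.2.2 e.symm⟩, p.1.1, p.1.2, rfl⟩
                            left_inv := fun p => by
                              obtain ⟨⟨⟨c, d⟩, hcd⟩, g, hg, hgd⟩ := p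
                              change g • c = d at hgd
                              subst hgd
                              rfl
                            right_inv := fun _ => rfl } :
        (Σ p : {p : Ω × Ω // p.1 ≠ p.2}, Sw p.1) ≃ Σ g : {g : L // Refl g Ω}, {c : Ω // g.1 • c ≠ c}),
        Nat.card_sigma, Finset.sum_const_nat (m := Nat.card Ω - s) fun g _ => ?_, Finset.card_univ,
        Nat.card_eq_fintype_card (α := {g : L // Refl g Ω})]
      rw [← (hsame g g.2).2, ← Set.ncard_compl, ← Nat.card_coe_set_eq]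
      rfl
    have h2 : Nat.card (Σ p : {p : Ω × Ω // p.1 ≠ p.2}, Sw p.1) =
        (Nat.card Ω * Nat.card Ω - Nat.card Ω) * m := by
      rw [Nat.card_sigma, Finset.sum_const_nat (m := m) fun p _ => hconst _ _ p.2, Finset.card_univ]
      congr 1
      rw [Fintype.card_subtype_compl]
      simp only [Fintype.card_prod, Nat.card_eq_fintype_card]
      congr 1
      exact Fintype.card_congr
        { toFun := fun p => p.1.1, invFun := fun c => ⟨(c, c), rfl⟩,
          left_inv := fun ⟨⟨c, d⟩, e⟩ => Subtype.ext (Prod.ext rfl e), right_inv := fun _ => rfl }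
    rw [h1, hN, h.card, ← hq] at h2
    have e1 : s * (s + 1) * (s * s - s) = s * s * (s * s) - s * s := by
      zify [Nat.le_mul_self s, Nat.le_mul_self (s * s)]
      ring
    rw [e1] at h2
    have hpos : 0 < s * s * (s * s) - s * s := by
      have h4 : 4 ≤ s * s := Nat.mul_le_mul hs2 hs2
      have h8 : 2 * (s * s) ≤ s * s * (s * s) := Nat.mul_le_mul_right _ (by omega)
      omega
    exact Nat.eq_of_mul_eq_mul_left hpos (h2.symm.trans (mul_one _).symm)
  intro c d hcd
  obtain ⟨hsub, ⟨g⟩⟩ := Nat.card_eq_one_iff_unique.1 ((hconst c d hcd).trans hm1)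
  exact ⟨g.1, g.2, fun g' hg' => congrArg Subtype.val (hsub.elim (⟨g', hg'⟩ : Sw (c, d)) g)⟩

/-! ### The spread of a reflection -/

section Spread

variable {w₀ : L}

theorem exists_vec (h : Weak V X a) (hw : w₀ * w₀ = 1) (hw1 : w₀ ≠ 1) (hwa : w₀ • a = a) :
    ∃ v ∈ fixVec V w₀, v ≠ 0 := by
  by_contra hno
  push Not at hno
  haveI : Subsingleton (fixVec V w₀) := ⟨fun x y => Subtype.ext ((hno x x.2).trans (hno y y.2).symm)⟩
  have := Finite.card_le_one_iff_subsingleton.2 (inferInstance : Subsingleton (fixVec V w₀))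
  have := (h.involution_facts hw hw1 hwa).2.1
  omega

theorem centralizer_smul {g : L} (hg : g ∈ centralizer ({w₀} : Set L)) :
    g • (fixVec V w₀ : Set V) = (fixVec V w₀ : Set V) := by
  rw [← fixVec_conj, mem_centralizer_singleton_iff.1 hg, mul_inv_cancel_right]

/-- the members of the spread meet in zero only -/
theorem line_eq (h : Weak V X a) (hwa : w₀ • a = a) {x y : L} (hx : x ∈ X) (hy : y ∈ X) {v v' : V}
    (hv : v ∈ fixVec V w₀) (hv' : v' ∈ fixVec V w₀) (h0 : v ≠ 0) (h0' : v' ≠ 0) (e : x • v = y • v') :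
    x • (fixVec V w₀ : Set V) = y • (fixVec V w₀ : Set V) := by
  have h1 : v' ∈ {u : V | w₀ • u = u} := hv'
  rw [h.fix_vectors hwa hv h0] at h1
  rcases h1 with h1 | ⟨c, hc, h1⟩
  · exact absurd h1 h0'
  change c • v = v' at h1
  obtain ⟨hcX, hcC⟩ := mem_inf.1 hc
  have h2 := free h (mul_mem (inv_mem hx) (mul_mem hy hcX)) h0
    (by rw [mul_smul, mul_smul, h1, ← e, inv_smul_smul])
  rw [inv_mul_eq_one] at h2
  rw [h2, mul_smul, centralizer_smul hcC]

theorem mem_centralizer_of_smul (h : Weak V X a) (hw : w₀ * w₀ = 1) (hw1 : w₀ ≠ 1) (hwa : w₀ • a = a) {x : L}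
    (hx : x ∈ X) (e : x • (fixVec V w₀ : Set V) = (fixVec V w₀ : Set V)) : x ∈ centralizer ({w₀} : Set L) := by
  obtain ⟨v, hv, h0⟩ := exists_vec h hw hw1 hwa
  have h1 : x • v ∈ (fixVec V w₀ : Set V) := e ▸ Set.smul_mem_smul_set hv
  change x • v ∈ {u : V | w₀ • u = u} at h1
  rw [h.fix_vectors hwa hv h0] at h1
  rcases h1 with h1 | ⟨c, hc, h1⟩
  · exact absurd (by have := congrArg (x⁻¹ • ·) h1; rwa [inv_smul_smul, smul_zero] at this) h0
  change c • v = x • v at h1
  obtain ⟨hcX, hcC⟩ := mem_inf.1 hc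
  have h2 := free h (mul_mem (inv_mem hcX) hx) h0 (by rw [mul_smul, ← h1, inv_smul_smul])
  rw [inv_mul_eq_one] at h2
  exact h2 ▸ hcC

/-- the spread has `s + 1` members -/
theorem card_spread (h : Weak V X a) (hw : w₀ * w₀ = 1) (hw1 : w₀ ≠ 1) (hwa : w₀ • a = a) :
    Nat.card (orbit X (fixVec V w₀ : Set V)) = Nat.card (fixVec V w₀) + 1 := by
  obtain ⟨hq, hs2, -, hC⟩ := h.involution_facts hw hw1 hwa
  set M : Set V := (fixVec V w₀ : Set V)
  have h1 : Nat.card (orbit X M) * Nat.card (stabilizer X M) = Nat.card X := by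
    rw [← Nat.card_prod, Nat.card_congr (orbitProdStabilizerEquivGroup X M)]
  have h2 : Nat.card (stabilizer X M) = Nat.card (X ⊓ centralizer {w₀} : Subgroup L) :=
    Nat.card_congr {
      toFun := fun g => ⟨g.1.1, mem_inf.2 ⟨g.1.2, mem_centralizer_of_smul h hw hw1 hwa g.1.2 g.2⟩⟩
      invFun := fun g => ⟨⟨g.1, (mem_inf.1 g.2).1⟩, centralizer_smul (mem_inf.1 g.2).2⟩
      left_inv := fun g => rfl
      right_inv := fun g => rfl }
  rw [h2] at h1
  have h3 := card_X h
  rw [← hq, ← hC, ← h1] at h3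
  rw [← hC]
  exact Nat.eq_of_mul_eq_mul_right (m := Nat.card (X ⊓ centralizer {w₀} : Subgroup L)) Nat.card_pos (by linarith)

/-- two members of the spread span -/
theorem decomp (h : Weak V X a) (hw : w₀ * w₀ = 1) (hw1 : w₀ ≠ 1) (hwa : w₀ • a = a) {x : L} (hx : x ∈ X)
    (hne : x • (fixVec V w₀ : Set V) ≠ (fixVec V w₀ : Set V)) :
    Function.Bijective fun p : fixVec V w₀ × fixVec V w₀ => (p.1 : V) + x • (p.2 : V) := by
  classical
  haveI := Fintype.ofFinite V
  refine (Fintype.bijective_iff_injective_and_card _).2 ⟨fun p p' e => ?_, ?_⟩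
  · change (p.1 : V) + x • (p.2 : V) = (p'.1 : V) + x • (p'.2 : V) at e
    have e1 : x • ((p.2 : V) - (p'.2 : V)) = (p'.1 : V) - (p.1 : V) := by
      rw [smul_sub, sub_eq_sub_iff_add_eq_add, add_comm, e, add_comm]
    by_cases h0 : (p.2 : V) - (p'.2 : V) = 0
    · rw [h0, smul_zero, eq_comm, sub_eq_zero] at e1
      exact Prod.ext (Subtype.ext e1.symm) (Subtype.ext (sub_eq_zero.1 h0))
    exfalso
    have h1 : (p'.1 : V) - (p.1 : V) ≠ 0 := fun e0 => by
      rw [e0] at e1
      exact h0 (by have := congrArg (x⁻¹ • ·) e1; rwa [inv_smul_smul, smul_zero] at this)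
    exact hne ((line_eq h hwa hx (one_mem X) (sub_mem p.2.2 p'.2.2) (sub_mem p'.1.2 p.1.2) h0 h1
      (e1.trans (one_smul L _).symm)).trans (one_smul L _))
  · rw [← Nat.card_eq_fintype_card, ← Nat.card_eq_fintype_card, Nat.card_prod, (h.involution_facts hw hw1 hwa).1]

end Spread

/-- `1 + x` is an element of `X` unless it vanishes -/
theorem exists_one_add (h : Weak V X a) {x : L} (hx : x ∈ X) {v₀ : V} (h0 : v₀ ≠ 0) (hne : v₀ + x • v₀ ≠ 0) :
    ∃ z ∈ X, ∀ v : V, z • v = v + x • v := by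
  obtain ⟨z, hz, e⟩ := h.trans v₀ _ h0 hne
  refine ⟨z, hz, fun v => ?_⟩
  by_cases hv : v = 0
  · rw [hv, smul_zero, smul_zero, add_zero]
  obtain ⟨y, hy, rfl⟩ := h.trans v₀ v h0 hv
  rw [← mul_smul, h.comm z hz y hy, mul_smul, e, smul_add, ← mul_smul, h.comm y hy x hx, mul_smul]

/-- an element trivial on the fixed space of a reflection which moves its fixed point: all reflections have
their fixed spaces in the spread -/
theorem spread_of_kernel (h : Weak V X a) {w₀ : L} (hw : w₀ * w₀ = 1) (hw1 : w₀ ≠ 1) (hwa : w₀ • a = a) {k : L}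
    (hk : k ∈ centralizer ({w₀} : Set L)) (hkV : ∀ v ∈ fixVec V w₀, k • v = v) (hka : k • a ≠ a) (g : L) :
    g • (fixVec V w₀ : Set V) ∈ orbit X (fixVec V w₀ : Set V) := by
  classical
  obtain ⟨hq, hs2, hfix, hC⟩ := h.involution_facts hw hw1 hwa
  obtain ⟨hN, hsame, huniq⟩ := refl_facts h hw hw1 hwa
  have hkc := mem_centralizer_singleton_iff.1 hk
  set c := k • a with hc
  have hwc : w₀ • c = c := by rw [hc, ← mul_smul, ← hkc, mul_smul, hwa]
  -- `k` is an involution
  have hneg : ∀ v : V, -v = v := fun v => neg_eq_of_add_eq_zero_left (h.two v)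
  have hk2 : k * k = 1 := h.faithful _ fun v => by
    have h1 : w₀ • v + v ∈ fixVec V w₀ := by
      show w₀ • (w₀ • v + v) = w₀ • v + v
      rw [smul_add, ← mul_smul, hw, one_smul, add_comm]
    have h2 : k • v + v ∈ fixVec V w₀ := by
      have e := hkV _ h1
      rw [smul_add, ← mul_smul, hkc, mul_smul] at e
      show w₀ • (k • v + v) = k • v + v
      rw [smul_add]
      have e2 : w₀ • k • v + w₀ • v + (k • v + v) = 0 := by
        calc w₀ • k • v + w₀ • v + (k • v + v) = (w₀ • k • v + k • v) + (w₀ • v + v) := by abel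
          _ = 0 := by rw [e, h.two]
      exact (eq_neg_of_add_eq_zero_left e2).trans (hneg _)
    have h3 := hkV _ h2
    rw [smul_add, add_comm (k • v) v, add_left_inj, ← mul_smul] at h3
    exact h3
  obtain ⟨σ, ⟨hσ, hσa⟩, hσu⟩ := huniq a c (Ne.symm hka)
  have hσc : σ • c = a := by rw [← hσa, ← mul_smul, hσ.1, one_smul]
  have hcomm : ∀ r : L, r • a = a → r • c = c → r * σ = σ * r := fun r hra hrc => by
    have e := hσu (r * σ * r⁻¹) ⟨hσ.conj r, by
      rw [mul_smul, mul_smul, inv_smul_eq_iff.2 hra.symm, hσa, hrc]⟩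
    rw [mul_inv_eq_iff_eq_mul] at e
    exact e
  have hσw := hcomm w₀ hwa hwc
  -- `σ k` fixes both points, so it is 1 or `w₀`
  have hkca : k • c = a := by rw [hc, ← mul_smul, hk2, one_smul]
  have hra : (σ * k) • a = a := by rw [mul_smul, ← hc, hσc]
  have hrσ := hcomm _ hra (by rw [mul_smul, hkca, hσa])
  have hr2 : σ * k * (σ * k) = 1 := by
    calc σ * k * (σ * k) = σ * k * σ * k := by group
      _ = σ * (σ * k) * k := by rw [hrσ]
      _ = σ * σ * (k * k) := by group
      _ = 1 := by rw [hσ.1, hk2, mul_one]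
  have hσV : ∀ v ∈ fixVec V w₀, σ • v = v := fun v hv => by
    have hk' : k = σ * (σ * k) := by rw [← mul_assoc, hσ.1, one_mul]
    have h1 : (σ * k) • v = v := by
      by_cases hr1 : σ * k = 1
      · rw [hr1, one_smul]
      · have e : σ * k = w₀ := h.eq_of_commute hr2 hr1 hw hw1
          (by rw [mul_assoc, hkc, ← mul_assoc, ← hσw, mul_assoc]) hra hwa
        rw [e]; exact hv
    have h2 : k • v = v := hkV v hv
    rwa [mul_smul, h2] at h1
  have heq : ∀ g : L, Refl g Ω → (∀ v ∈ fixVec V w₀, g • v = v) →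
      (fixVec V g : Set V) = (fixVec V w₀ : Set V) := fun g hg hgV =>
    (Set.eq_of_subset_of_ncard_le (s := (fixVec V w₀ : Set V)) (t := (fixVec V g : Set V))
      (fun v hv => hgV v hv) (le_of_eq ((Nat.card_coe_set_eq _).symm.trans
        ((hsame g hg).trans (Nat.card_coe_set_eq (fixVec V w₀ : Set V)))))
      (Set.toFinite _)).symm
  -- a reflection on `fixVec w₀` for each fixed point
  have hτ : ∀ d : {d : Ω | w₀ • d = d}, ∃ g : L, Refl g Ω ∧ (fixVec V g : Set V) = (fixVec V w₀ : Set V) ∧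
      g • a = d := by
    rintro ⟨d, hd⟩
    by_cases hda : d = a
    · exact ⟨w₀, ⟨hw, hw1, a, hwa⟩, rfl, hda ▸ hwa⟩
    have hd' : d ∈ {d : Ω | w₀ • d = d} := hd
    rw [h.fix_points hwa hwc hka] at hd'
    rcases hd' with hd' | ⟨x, hx, hxd⟩
    · exact absurd hd' hda
    obtain ⟨hxX, hxC⟩ := mem_inf.1 hx
    have hxa : x • a = a := h.le hxX
    refine ⟨x * σ * x⁻¹, hσ.conj x, ?_, by
      rw [mul_smul, mul_smul, inv_smul_eq_iff.2 hxa.symm, hσa]; exact hxd⟩
    rw [fixVec_conj, heq σ hσ hσV, centralizer_smul hxC]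
  choose τ hτr hτV hτa using hτ
  haveI : Finite (orbit X (fixVec V w₀ : Set V)) := inferInstance
  choose x hx using fun M : orbit X (fixVec V w₀ : Set V) => M.2
  let f : orbit X (fixVec V w₀ : Set V) × {d : Ω | w₀ • d = d} → {g : L // Refl g Ω} :=
    fun p => ⟨(x p.1 : L) * τ p.2 * (x p.1 : L)⁻¹, (hτr p.2).conj _⟩
  have hfV : ∀ p, (fixVec V (f p).1 : Set V) = (p.1 : Set V) := fun p => by
    show (fixVec V ((x p.1 : L) * τ p.2 * (x p.1 : L)⁻¹) : Set V) = _
    rw [fixVec_conj, hτV]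
    exact hx p.1
  have hinj : Function.Injective f := fun p p' e => by
    have e1 : p.1 = p'.1 := Subtype.ext (by rw [← hfV p, ← hfV p', e])
    have e2 : (f p).1 = (f p').1 := congrArg Subtype.val e
    change (x p.1 : L) * τ p.2 * (x p.1 : L)⁻¹ = (x p'.1 : L) * τ p'.2 * (x p'.1 : L)⁻¹ at e2
    rw [← e1] at e2
    have e3 : τ p.2 = τ p'.2 := mul_left_cancel (mul_right_cancel e2)
    exact Prod.ext e1 (Subtype.ext (by rw [← hτa p.2, ← hτa p'.2, e3]))
  have hsurj : Function.Surjective f := (hinj.bijective_of_nat_card_le (by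
    rw [hN, Nat.card_prod, card_spread h hw hw1 hwa, Nat.card_coe_set_eq, hfix, mul_comm])).2
  obtain ⟨p, hp⟩ := hsurj ⟨g * w₀ * g⁻¹, Refl.conj ⟨hw, hw1, a, hwa⟩ g⟩
  rw [← fixVec_conj, ← show (f p).1 = g * w₀ * g⁻¹ from congrArg Subtype.val hp, hfV]
  exact p.1.2

theorem false_of_kernel (h : Weak V X a) {w₀ : L} (hw : w₀ * w₀ = 1) (hw1 : w₀ ≠ 1) (hwa : w₀ • a = a) {k : L}
    (hk : k ∈ centralizer ({w₀} : Set L)) (hkV : ∀ v ∈ fixVec V w₀, k • v = v) (hka : k • a ≠ a) : False := by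
  classical
  haveI : Fact (Nat.Prime 2) := ⟨Nat.prime_two⟩
  haveI := h.pre
  obtain ⟨hq, hs2, -, hC⟩ := h.involution_facts hw hw1 hwa
  obtain ⟨r, hr0, hr⟩ := exists_rank h
  obtain ⟨v₀, hv₀, hv0⟩ := exists_vec h hw hw1 hwa
  have horb := spread_of_kernel h hw hw1 hwa hk hkV hka
  set s := Nat.card (fixVec V w₀)
  set M : Set V := (fixVec V w₀ : Set V) with hM
  have hO : orbit L M = orbit X M := Set.ext fun N =>
    ⟨fun ⟨g, e⟩ => e ▸ horb g, fun ⟨g, e⟩ => ⟨(g : L), e⟩⟩
  have hcardO : Nat.card (orbit L M) = s + 1 := by rw [hO]; exact card_spread h hw hw1 hwa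
  have hs_even : 2 ∣ s := by
    rcases (Nat.prime_two.dvd_mul).1 (hq ▸ hr ▸ dvd_pow_self 2 hr0.ne' : 2 ∣ s * s) with e | e <;> exact e
  -- a 2-subgroup of order `2 q` fixing `M`
  obtain ⟨P, hP, hPM⟩ : ∃ P : Subgroup L, Nat.card P = 2 ^ (r + 1) ∧ P ≤ stabilizer L M := by
    have hdvd : 2 ^ (r + 1) ∣ Nat.card L := by
      rw [← (stabilizer L a).card_mul_index, index_stabilizer_of_transitive, h.card, hr, pow_succ,
        mul_comm (2 ^ r)]
      refine Nat.mul_dvd_mul_right ?_ _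
      have ho : orderOf w₀ = 2 := orderOf_eq_prime (by rw [pow_two, hw]) hw1
      exact ho ▸ Subgroup.orderOf_dvd_natCard _ (show w₀ ∈ stabilizer L a from hwa)
    obtain ⟨P, hP⟩ := Sylow.exists_subgroup_card_pow_prime 2 hdvd
    have h1 := (IsPGroup.of_card hP).card_modEq_card_fixedPoints (α := orbit L M)
    obtain ⟨N, hN⟩ : Nonempty (fixedPoints P (orbit L M)) := by
      by_contra he
      rw [not_nonempty_iff] at he
      rw [Nat.card_of_isEmpty (α := fixedPoints P (orbit L M)), hcardO] at h1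
      have := Nat.modEq_zero_iff_dvd.1 h1
      omega
    obtain ⟨g, hg⟩ := N.2
    refine ⟨P.map (MulAut.conj g⁻¹).toMonoidHom, ?_, ?_⟩
    · rw [Subgroup.card_map_of_injective (MulEquiv.injective _), hP]
    · rintro _ ⟨y, hy, rfl⟩
      have e : y • (g • M) = g • M := by
        have := congrArg Subtype.val (hN ⟨y, hy⟩)
        change g • M = N.1 at hg
        rw [hg]; exact this
      show (g⁻¹ * y * g⁻¹⁻¹) • M = M
      rw [inv_inv, mul_smul, mul_smul, e, inv_smul_smul]
  -- a second member and its stabiliser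
  obtain ⟨M₂, hM₂, hne⟩ : ∃ M₂ ∈ orbit L M, M₂ ≠ M := by
    by_contra hno
    push Not at hno
    haveI : Subsingleton (orbit L M) := ⟨fun x y => Subtype.ext ((hno x x.2).trans (hno y y.2).symm)⟩
    have := Finite.card_le_one_iff_subsingleton.2 (inferInstance : Subsingleton (orbit L M))
    omega
  set P₁ := P ⊓ stabilizer L M₂ with hP₁def
  have hP₁card : 2 * s ≤ Nat.card P₁ := by
    have h1 : Nat.card (orbit P M₂) * Nat.card (stabilizer P M₂) = Nat.card P := by
      rw [← Nat.card_prod, Nat.card_congr (orbitProdStabilizerEquivGroup P M₂)]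
    have h2 : Nat.card (stabilizer P M₂) = Nat.card P₁ := Nat.card_congr {
      toFun := fun g => ⟨g.1.1, g.1.2, g.2⟩
      invFun := fun g => ⟨⟨g.1, g.2.1⟩, g.2.2⟩
      left_inv := fun g => rfl
      right_inv := fun g => rfl }
    have h3 : Nat.card (orbit P M₂) ≤ s := by
      have hsub : orbit P M₂ ⊆ orbit L M \ {M} := by
        rintro _ ⟨g, rfl⟩
        obtain ⟨m, rfl⟩ := hM₂
        refine ⟨⟨(g : L) * m, mul_smul _ _ _⟩, fun e => hne ?_⟩
        have e' : (g : L) • m • M = M := e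
        show m • M = M
        calc m • M = (g : L)⁻¹ • (g : L) • m • M := (inv_smul_smul _ _).symm
          _ = (g : L)⁻¹ • M := by rw [e']
          _ = M := inv_smul_eq_iff.2 (hPM g.2).symm
      rw [Nat.card_coe_set_eq]
      refine (Set.ncard_le_ncard hsub (Set.toFinite _)).trans (le_of_eq ?_)
      rw [Set.ncard_sdiff (Set.singleton_subset_iff.2 (mem_orbit_self M)), Set.ncard_singleton,
        ← Nat.card_coe_set_eq, hcardO, Nat.add_sub_cancel]
    rw [h2, hP, pow_succ, ← hr, ← hq] at h1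
    have h4 : s * s * 2 ≤ s * Nat.card P₁ := h1 ▸ Nat.mul_le_mul_right _ h3
    exact Nat.le_of_mul_le_mul_left (by linarith) (show 0 < s by omega)
  have hP₁ : IsPGroup 2 P₁ := (IsPGroup.of_card hP).to_le inf_le_left
  have hP₁M : ∀ g ∈ P₁, g • M = M := fun g hg => hPM hg.1
  -- a third member
  obtain ⟨M₃, hM₃, hne3, hne3', hfix3⟩ : ∃ M₃ ∈ orbit L M, M₃ ≠ M ∧ M₃ ≠ M₂ ∧ ∀ g ∈ P₁, g • M₃ = M₃ := by
    by_contra hno
    push Not at hno
    have h1 := hP₁.card_modEq_card_fixedPoints (α := orbit L M)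
    have h2 : fixedPoints P₁ (orbit L M) = {⟨M, mem_orbit_self M⟩, ⟨M₂, hM₂⟩} := by
      ext N
      refine ⟨fun hN => ?_, ?_⟩
      · simp only [Set.mem_insert_iff, Set.mem_singleton_iff]
        by_contra hc
        push Not at hc
        obtain ⟨g, hg, hg'⟩ := hno N.1 N.2 (fun e => hc.1 (Subtype.ext e)) (fun e => hc.2 (Subtype.ext e))
        exact hg' (congrArg Subtype.val (hN ⟨g, hg⟩))
      · rintro (rfl | rfl) g
        · exact Subtype.ext (hP₁M g g.2)
        · exact Subtype.ext g.2.2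
    rw [Nat.card_coe_set_eq (s := fixedPoints P₁ (orbit L M)), h2,
      Set.ncard_pair (fun e => hne (congrArg Subtype.val e).symm), hcardO] at h1
    have h3 : (s + 1) % 2 = 0 := h1
    omega
  rw [hO] at hM₂ hM₃
  obtain ⟨⟨y₂, hy₂⟩, rfl⟩ := hM₂
  obtain ⟨⟨y₃, hy₃⟩, rfl⟩ := hM₃
  change y₂ • M ≠ M at hne
  change y₃ • M ≠ M at hne3
  change y₃ • M ≠ y₂ • M at hne3'
  -- coordinates making the third member the diagonal
  obtain ⟨x₁, hx₁, hx₁M, z₁, hz₁, hz₁M, hz₁v⟩ : ∃ x₁ ∈ X, x₁ • M = y₂ • M ∧ ∃ z ∈ X, z • M = y₃ • M ∧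
      ∀ v : V, z • v = v + x₁ • v := by
    obtain ⟨⟨⟨α, hα⟩, ⟨β, hβ⟩⟩, e⟩ := (decomp h hw hw1 hwa hy₂ hne).2 (y₃ • v₀)
    change α + y₂ • β = y₃ • v₀ at e
    have hα0 : α ≠ 0 := fun e0 => by
      rw [e0, zero_add] at e
      have hβ0 : β ≠ 0 := fun e1 => hv0 (by
        rw [e1, smul_zero] at e
        have := congrArg (y₃⁻¹ • ·) e
        rw [smul_zero, inv_smul_smul] at this
        exact this.symm)
      exact hne3' (line_eq h hwa hy₃ hy₂ hv₀ hβ hv0 hβ0 e.symm)
    have hβ0 : β ≠ 0 := fun e1 => by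
      rw [e1, smul_zero, add_zero] at e
      exact hne3 ((line_eq h hwa hy₃ (one_mem X) hv₀ hα hv0 hα0 (e.symm.trans (one_smul L α).symm)).trans
        (one_smul L _))
    obtain ⟨x₁, hx₁, ex⟩ := h.trans α (y₂ • β) hα0 (fun e1 => hβ0 (by
      have := congrArg (y₂⁻¹ • ·) e1
      rwa [inv_smul_smul, smul_zero] at this))
    have e2 : α + x₁ • α = y₃ • v₀ := by rw [ex, e]
    obtain ⟨z, hz, hzv⟩ := exists_one_add h hx₁ hα0 (by
      rw [e2]
      exact fun e1 => hv0 (by have := congrArg (y₃⁻¹ • ·) e1; rwa [inv_smul_smul, smul_zero] at this))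
    exact ⟨x₁, hx₁, line_eq h hwa hx₁ hy₂ hα hβ hα0 hβ0 ex, z, hz,
      line_eq h hwa hz hy₃ hα hv₀ hα0 hv0 ((hzv α).trans e2), hzv⟩
  have hdec := decomp h hw hw1 hwa hx₁ (hx₁M.symm ▸ hne)
  have huniq : ∀ {α β α' β' : V}, α ∈ fixVec V w₀ → β ∈ fixVec V w₀ → α' ∈ fixVec V w₀ → β' ∈ fixVec V w₀ →
      α + x₁ • β = α' + x₁ • β' → α = α' ∧ β = β' := fun {α β α' β'} h1 h2 h3 h4 e => by
    have := hdec.1 (a₁ := (⟨α, h1⟩, ⟨β, h2⟩)) (a₂ := (⟨α', h3⟩, ⟨β', h4⟩)) e
    exact ⟨congrArg (fun p => (p.1 : V)) this, congrArg (fun p => (p.2 : V)) this⟩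
  have hmem : ∀ g ∈ P₁, ∀ u ∈ fixVec V w₀, g • u ∈ fixVec V w₀ := fun g hg u hu => by
    have : g • u ∈ g • M := Set.smul_mem_smul_set hu
    rwa [hP₁M g hg] at this
  -- `P₁` commutes with `x₁` on `M`
  have hcomm : ∀ g ∈ P₁, ∀ u ∈ fixVec V w₀, g • x₁ • u = x₁ • g • u := by
    intro g hg u hu
    obtain ⟨w', hw', ew⟩ : g • x₁ • u ∈ x₁ • M := by
      have h1 : g • x₁ • u ∈ g • x₁ • M := Set.smul_mem_smul_set (Set.smul_mem_smul_set hu)
      rw [hx₁M] at h1 ⊢
      rwa [show g • y₂ • M = y₂ • M from hg.2] at h1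
    obtain ⟨w'', hw'', ez⟩ : g • z₁ • u ∈ z₁ • M := by
      have h1 : g • z₁ • u ∈ g • z₁ • M := Set.smul_mem_smul_set (Set.smul_mem_smul_set hu)
      rw [hz₁M] at h1 ⊢
      rwa [show g • y₃ • M = y₃ • M from hfix3 g hg] at h1
    change x₁ • w' = g • x₁ • u at ew
    change z₁ • w'' = g • z₁ • u at ez
    rw [hz₁v, hz₁v, smul_add, ← ew] at ez
    obtain ⟨e1, e2⟩ := huniq hw'' hw'' (hmem g hg u hu) hw' ez
    rw [← ew, ← e2, e1]
  -- `P₁` normalises the action of `C_X(w₀)` on `M`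
  have hnorm : ∀ g ∈ P₁, ∀ x₀ ∈ X ⊓ centralizer {w₀}, ∃ y ∈ X ⊓ centralizer {w₀},
      ∀ u ∈ fixVec V w₀, g • x₀ • u = y • g • u := by
    intro g hg x₀ hx₀
    have hx₀M : ∀ x ∈ X ⊓ centralizer {w₀}, ∀ u ∈ fixVec V w₀, x • u ∈ fixVec V w₀ := fun x hx u hu => by
      have : x • u ∈ x • M := Set.smul_mem_smul_set hu
      rwa [hM, centralizer_smul (mem_inf.1 hx).2] at this
    have hzex : ∀ x ∈ X ⊓ centralizer {w₀}, ∃ z ∈ X, ∀ v : V, z • v = v + x₁ • x • v := fun x hx => by
      obtain ⟨z, hz, e⟩ := exists_one_add h (mul_mem hx₁ (mem_inf.1 hx).1) hv0 (fun e => hv0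
        (huniq hv₀ (hx₀M x hx v₀ hv₀) (zero_mem _) (zero_mem _) (by rw [← mul_smul, e, smul_zero, add_zero])).1)
      exact ⟨z, hz, fun v => by rw [e, mul_smul]⟩
    obtain ⟨z, hz, hzv⟩ := hzex x₀ hx₀
    have hgz : ∀ u ∈ fixVec V w₀, g • z • u = g • u + x₁ • g • x₀ • u := fun u hu => by
      rw [hzv, smul_add, hcomm g hg _ (hx₀M x₀ hx₀ u hu)]
    obtain ⟨u₀, hu₀, eu⟩ : v₀ ∈ g • M := by rw [hP₁M g hg]; exact hv₀
    change g • u₀ = v₀ at eu
    have hu0 : u₀ ≠ 0 := fun e => hv0 (by rw [← eu, e, smul_zero])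
    have h1 : g • x₀ • u₀ ∈ {u : V | w₀ • u = u} := hmem g hg _ (hx₀M x₀ hx₀ u₀ hu₀)
    rw [h.fix_vectors hwa hv₀ hv0] at h1
    rcases h1 with h1 | ⟨y, hy, h1⟩
    · exfalso
      rw [← smul_zero g] at h1
      exact hu0 (MulAction.injective x₀ ((MulAction.injective g h1).trans (smul_zero x₀).symm))
    change y • v₀ = g • x₀ • u₀ at h1
    obtain ⟨zy, hzy, hzyv⟩ := hzex y hy
    obtain ⟨⟨z', hz'⟩, ez'⟩ := horb (g * z)
    change z' • M = (g * z) • M at ez'
    have hin : ∀ u ∈ fixVec V w₀, g • z • u ∈ z' • M := fun u hu => by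
      rw [ez', mul_smul]
      exact Set.smul_mem_smul_set (Set.smul_mem_smul_set hu)
    obtain ⟨w', hw', ew'⟩ := hin u₀ hu₀
    change z' • w' = g • z • u₀ at ew'
    have ezy : zy • v₀ = g • z • u₀ := by rw [hzyv, hgz u₀ hu₀, eu, h1]
    have hline : zy • M = z' • M := line_eq h hwa hzy hz' hv₀ hw' hv0 (fun e0 => hv0 (by
        rw [e0, smul_zero] at ew'
        rw [← ew'] at ezy
        exact MulAction.injective zy (ezy.trans (smul_zero zy).symm))) (ezy.trans ew'.symm)
    refine ⟨y, hy, fun u hu => ?_⟩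
    obtain ⟨w'', hw'', ew''⟩ : g • z • u ∈ zy • M := hline ▸ hin u hu
    change zy • w'' = g • z • u at ew''
    rw [hzyv, hgz u hu] at ew''
    obtain ⟨e1, e2⟩ := huniq hw'' (hx₀M y hy _ hw'') (hmem g hg u hu) (hmem g hg _ (hx₀M x₀ hx₀ u hu)) ew''
    rw [← e2, e1]
  -- a fixed vector in `M`
  obtain ⟨u₁, hu₁, hu0, hfixu⟩ : ∃ u₁ ∈ fixVec V w₀, u₁ ≠ 0 ∧ ∀ g ∈ P₁, g • u₁ = u₁ := by
    obtain ⟨v, hv, hv'⟩ : ∃ v : V, (∀ g ∈ P₁, g • v = v) ∧ v ≠ 0 := by
      by_contra hno
      push Not at hno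
      haveI : Unique (fixedPoints P₁ V) :=
        { default := ⟨0, fun g => smul_zero (g : L)⟩
          uniq := fun v => Subtype.ext (hno v fun g hg => v.2 ⟨g, hg⟩) }
      have h1 := hP₁.card_modEq_card_fixedPoints (α := V)
      rw [Nat.card_unique (α := fixedPoints P₁ V), hr, Nat.ModEq, Nat.mod_eq_zero_of_dvd (dvd_pow_self 2 hr0.ne')]
        at h1
      exact absurd h1 (by norm_num)
    obtain ⟨⟨⟨α, hα⟩, ⟨β, hβ⟩⟩, e⟩ := hdec.2 v
    change α + x₁ • β = v at e
    have hboth : ∀ g ∈ P₁, g • α = α ∧ g • β = β := fun g hg =>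
      huniq (hmem g hg α hα) (hmem g hg β hβ) hα hβ (by rw [← hcomm g hg β hβ, ← smul_add, e, hv g hg])
    by_cases hα0 : α = 0
    · exact ⟨β, hβ, fun hβ0 => hv' (by rw [← e, hα0, hβ0, smul_zero, add_zero]), fun g hg => (hboth g hg).2⟩
    · exact ⟨α, hα, hα0, fun g hg => (hboth g hg).1⟩
  -- the embedding in `C_X(w₀)`
  set X₀ := X ⊓ centralizer ({w₀} : Set L)
  letI : CommGroup X₀ :=
    { (inferInstance : Group X₀) with
      mul_comm := fun x y => Subtype.ext (h.comm x (mem_inf.1 x.2).1 y (mem_inf.1 y.2).1) }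
  haveI : Nontrivial V := ⟨⟨v₀, 0, hv0⟩⟩
  haveI hcyc : IsCyclic X₀ := Cfsg.Lib.TICount.isCyclic_of_no_fixed (E := V) fun x v hxv => by
    by_cases hv : v = 0
    · exact Or.inr hv
    · exact Or.inl (Subtype.ext (free h (mem_inf.1 x.2).1 hv hxv))
  obtain ⟨ξ, hξ⟩ := hcyc.exists_generator
  have hη : ∀ g : P₁, ∃ η : X₀, ∀ u ∈ fixVec V w₀, (g : L) • (ξ : L) • u = (η : L) • (g : L) • u := fun g => by
    obtain ⟨y, hy, e⟩ := hnorm g g.2 ξ ξ.2
    exact ⟨⟨y, hy⟩, e⟩
  choose η hη using hη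
  have hinj : Function.Injective η := by
    intro g g' e
    have hpow : ∀ i : ℕ, (g : L) • ((ξ ^ i : X₀) : L) • u₁ = (g' : L) • ((ξ ^ i : X₀) : L) • u₁ := by
      intro i
      induction i with
      | zero => rw [pow_zero, Subgroup.coe_one, one_smul, hfixu g g.2, hfixu g' g'.2]
      | succ i ih =>
        have hu : ((ξ ^ i : X₀) : L) • u₁ ∈ fixVec V w₀ := by
          have : ((ξ ^ i : X₀) : L) • u₁ ∈ ((ξ ^ i : X₀) : L) • M := Set.smul_mem_smul_set hu₁
          rwa [hM, centralizer_smul (mem_inf.1 (ξ ^ i : X₀).2).2] at this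
        rw [pow_succ', Subgroup.coe_mul, mul_smul, hη g _ hu, hη g' _ hu, e, ih]
    have hall : ∀ u ∈ fixVec V w₀, (g : L) • u = (g' : L) • u := fun u hu => by
      have h1 : u ∈ {v : V | w₀ • v = v} := hu
      rw [h.fix_vectors hwa hu₁ hu0] at h1
      rcases h1 with h1 | ⟨x, hx, h1⟩
      · rw [h1, smul_zero, smul_zero]
      change x • u₁ = u at h1
      obtain ⟨i, hi⟩ := mem_powers_iff_mem_zpowers.2 (hξ ⟨x, hx⟩)
      rw [← h1, show x = ((ξ ^ i : X₀) : L) from (congrArg Subtype.val hi).symm]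
      exact hpow i
    refine Subtype.ext (inv_mul_eq_one.1 (h.faithful _ fun v => ?_))
    obtain ⟨⟨⟨α, hα⟩, ⟨β, hβ⟩⟩, ev⟩ := hdec.2 v
    change α + x₁ • β = v at ev
    rw [mul_smul, inv_smul_eq_iff, ← ev, smul_add, smul_add, hcomm g g.2 β hβ, hcomm g' g'.2 β hβ,
      hall α hα, hall β hβ]
  have h1 := Nat.card_le_card_of_injective η hinj
  omega

/-- the quotient on the fixed space is smaller and has even point stabilisers -/
theorem false_of_faithful (h : Weak V X a) {w₀ : L} (hw : w₀ * w₀ = 1) (hw1 : w₀ ≠ 1) (hwa : w₀ • a = a)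
    (hK : ∀ k ∈ centralizer ({w₀} : Set L), (∀ v ∈ fixVec V w₀, k • v = v) → k • a = a)
    (IH : ∀ {L' : Type u} [Group L'] [Finite L'] {V' : Type v} [AddCommGroup V'] [Finite V']
      [DistribMulAction L' V'] {Ω' : Type w} [MulAction L' Ω'] [Finite Ω'] {X' : Subgroup L'} {a' : Ω'},
      Nat.card V' < Nat.card V → Weak V' X' a' → Odd (Nat.card (stabilizer L' a'))) : False := by
  classical
  obtain ⟨hq, hs2, hfix, hC⟩ := h.involution_facts hw hw1 hwa
  obtain ⟨-, -, huniq⟩ := refl_facts h hw hw1 hwa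
  obtain ⟨v₀, hv₀, hv0⟩ := exists_vec h hw hw1 hwa
  set C := centralizer ({w₀} : Set L) with hCdef
  have hCc : ∀ g : C, (g : L) * w₀ = w₀ * g := fun g => mem_centralizer_singleton_iff.1 g.2
  set W := fixVec V w₀ with hWdef
  set P₀ := {d : Ω | w₀ • d = d} with hP₀def
  have hactV : ∀ (g : C) (v : V), v ∈ W → (g : L) • v ∈ W := fun g v hv => by
    show w₀ • (g : L) • v = (g : L) • v
    rw [← mul_smul, ← hCc, mul_smul, show w₀ • v = v from hv]
  have hactP : ∀ (g : C) (d : Ω), d ∈ P₀ → (g : L) • d ∈ P₀ := fun g d hd => by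
    show w₀ • (g : L) • d = (g : L) • d
    rw [← mul_smul, ← hCc, mul_smul, show w₀ • d = d from hd]
  letI actW : DistribMulAction C W :=
    { smul := fun g v => ⟨(g : L) • (v : V), hactV g v v.2⟩
      one_smul := fun v => Subtype.ext (one_smul L (v : V))
      mul_smul := fun g g' v => Subtype.ext (mul_smul (g : L) (g' : L) (v : V))
      smul_zero := fun g => Subtype.ext (smul_zero (g : L))
      smul_add := fun g v v' => Subtype.ext (smul_add (g : L) (v : V) (v' : V)) }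
  letI actP : MulAction C P₀ :=
    { smul := fun g d => ⟨(g : L) • (d : Ω), hactP g d d.2⟩
      one_smul := fun d => Subtype.ext (one_smul L (d : Ω))
      mul_smul := fun g g' d => Subtype.ext (mul_smul (g : L) (g' : L) (d : Ω)) }
  have hsw : ∀ d : P₀, (d : Ω) ≠ a → ∃ σ : C, (σ : L) • a = d ∧
      ∀ r : L, r • a = a → r • (d : Ω) = d → r * σ = σ * r := by
    intro d hd
    obtain ⟨σ, ⟨hσ, hσa⟩, hσu⟩ := huniq a d (Ne.symm hd)
    have hcomm : ∀ r : L, r • a = a → r • (d : Ω) = d → r * σ = σ * r := fun r hra hrd => by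
      have e := hσu (r * σ * r⁻¹) ⟨hσ.conj r, by
        rw [mul_smul, mul_smul, inv_smul_eq_iff.2 hra.symm, hσa, hrd]⟩
      rw [mul_inv_eq_iff_eq_mul] at e
      exact e
    exact ⟨⟨σ, mem_centralizer_singleton_iff.2 (hcomm w₀ hwa d.2).symm⟩, hσa, hcomm⟩
  have hto : ∀ d : P₀, ∃ g : C, (g : L) • a = d := fun d => by
    by_cases hd : (d : Ω) = a
    · exact ⟨1, (one_smul L a).trans hd.symm⟩
    · obtain ⟨σ, hσ, -⟩ := hsw d hd
      exact ⟨σ, hσ⟩
  let φ : C →* AddMonoid.End W := DistribMulAction.toAddMonoidEnd C W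
  have hφ : ∀ k : C, k ∈ φ.ker → ∀ v ∈ W, (k : L) • v = v := fun k hk v hv =>
    show ((φ k ⟨v, hv⟩ : W) : V) = v by rw [MonoidHom.mem_ker.1 hk]; rfl
  let ψ : C →* Equiv.Perm P₀ := MulAction.toPermHom C P₀
  have hψ : φ.ker ≤ ψ.ker := fun k hk => Equiv.ext fun d => Subtype.ext (by
    show (k : L) • (d : Ω) = d
    obtain ⟨g, hg⟩ := hto d
    have h1 := hK _ (g⁻¹ * k * g : C).2 (hφ _ (by simpa using φ.normal_ker.conj_mem k hk g⁻¹))
    push_cast at h1
    rw [mul_smul, mul_smul, inv_smul_eq_iff, hg] at h1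
    exact h1)
  haveI : φ.ker.Normal := φ.normal_ker
  let Φ : C ⧸ φ.ker →* AddMonoid.End W := QuotientGroup.lift φ.ker φ le_rfl
  letI : DistribMulAction (C ⧸ φ.ker) W := DistribMulAction.compHom W Φ
  letI : MulAction (C ⧸ φ.ker) P₀ := MulAction.compHom P₀ (QuotientGroup.lift φ.ker ψ hψ)
  let a₀ : P₀ := ⟨a, hwa⟩
  let X₁ : Subgroup (C ⧸ φ.ker) := (X.subgroupOf C).map (QuotientGroup.mk' φ.ker)
  have hweak : Weak (L := C ⧸ φ.ker) W X₁ a₀ := by
    constructor
    · intro g hg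
      induction g using QuotientGroup.induction_on with | _ g => ?_
      exact (QuotientGroup.eq_one_iff g).2 (MonoidHom.mem_ker.2 (DFunLike.ext _ _ fun v => hg v))
    · exact fun v => Subtype.ext (h.two (v : V))
    · refine ⟨fun d d' => ?_⟩
      obtain ⟨g, hg⟩ := hto d
      obtain ⟨g', hg'⟩ := hto d'
      refine ⟨QuotientGroup.mk (g' * g⁻¹), Subtype.ext ?_⟩
      show ((g' : L) * (g : L)⁻¹) • (d : Ω) = d'
      rw [mul_smul, ← hg, inv_smul_smul, hg']
    · rw [Nat.card_coe_set_eq]; exact hfix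
    · exact ⟨⟨v₀, hv₀⟩, fun e => hv0 (congrArg Subtype.val e)⟩
    · rintro _ ⟨x, hx, rfl⟩
      exact Subtype.ext (h.le hx)
    · intro g hg
      induction g using QuotientGroup.induction_on with | _ g => ?_
      have hga : (g : L) • a = a := congrArg Subtype.val (mem_stabilizer_iff.1 hg)
      have hn := mem_normalizer_iff.1 (h.normal hga)
      have key : ∀ g' : C, (g' : L) • a = a → ∀ y ∈ X₁, (g' : C ⧸ φ.ker) * y * (g' : C ⧸ φ.ker)⁻¹ ∈ X₁ := by
        rintro g' hg' _ ⟨x, hx, rfl⟩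
        exact ⟨g' * x * g'⁻¹, (mem_normalizer_iff.1 (h.normal hg') x).1 hx, rfl⟩
      refine mem_normalizer_iff.2 fun y => ⟨key g hga y, fun hy => ?_⟩
      have h1 := key g⁻¹ (by push_cast; rw [inv_smul_eq_iff, hga]) _ hy
      rw [QuotientGroup.mk_inv] at h1
      simpa [mul_assoc] using h1
    · rintro _ ⟨x, hx, rfl⟩ _ ⟨y, hy, rfl⟩
      rw [← map_mul, ← map_mul, show x * y = y * x from Subtype.ext (h.comm _ hx _ hy)]
    · intro v v' hv hv'
      have h1 : ∀ u : W, u ≠ 0 → ∃ x : C, (x : L) ∈ X ∧ (x : L) • v₀ = u := fun u hu => by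
        have h1 : (u : V) ∈ {v : V | w₀ • v = v} := u.2
        rw [h.fix_vectors hwa hv₀ hv0] at h1
        rcases h1 with h1 | ⟨x, hx, h1⟩
        · exact absurd (Subtype.ext h1) hu
        · exact ⟨⟨x, (mem_inf.1 hx).2⟩, (mem_inf.1 hx).1, h1⟩
      obtain ⟨x, hx, ex⟩ := h1 v hv
      obtain ⟨y, hy, ey⟩ := h1 v' hv'
      refine ⟨_, ⟨y * x⁻¹, mul_mem hy (inv_mem hx), rfl⟩, Subtype.ext ?_⟩
      show ((y : L) * (x : L)⁻¹) • (v : V) = v'
      rw [mul_smul, ← ex, inv_smul_smul, ey]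
    · rintro _ ⟨x, hx, rfl⟩ hx1 d hd e
      refine h.semireg (x : L) hx (fun e1 => hx1 ?_) (d : Ω) (fun e1 => hd (Subtype.ext e1))
        (congrArg Subtype.val e)
      rw [show x = 1 from Subtype.ext e1, map_one]
  have hlt : Nat.card W < Nat.card V := by rw [← hq]; nlinarith
  have hdata : Data (L := C ⧸ φ.ker) W X₁ a₀ := ⟨hweak, IH hlt hweak⟩
  obtain ⟨p, ρ, t, d, hp, hp2, hρ, ht, hinv, hd, hρa, hρd, htd⟩ := exists_pair hdata
  have Pr : Pair W X₁ a₀ d p ρ t := ⟨hdata, hp, hp2, hρ, ht, hinv, hd, hρa, hρd, htd⟩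
  induction ρ using QuotientGroup.induction_on with | _ r => ?_
  obtain ⟨σ, hσa, hσc⟩ := hsw d fun e => hd (Subtype.ext e)
  have hc : σ * r = r * σ :=
    Subtype.ext (hσc (r : L) (congrArg Subtype.val hρa) (congrArg Subtype.val hρd)).symm
  obtain ⟨i, hi⟩ := mem_zpowers_iff.1
    (Pr.commute_mem (g := QuotientGroup.mk σ) (congrArg (QuotientGroup.mk' φ.ker) hc))
  have h1 : (QuotientGroup.mk σ : C ⧸ φ.ker) • a₀ = a₀ := by
    rw [← hi]
    exact Subgroup.zpow_mem (stabilizer (C ⧸ φ.ker) a₀) hρa i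
  exact hd (Subtype.ext (hσa.symm.trans (congrArg Subtype.val h1)))

theorem odd_stabilizer_aux (n : ℕ) : ∀ {L : Type u} [Group L] [Finite L] {V : Type v} [AddCommGroup V] [Finite V]
    [DistribMulAction L V] {Ω : Type w} [MulAction L Ω] [Finite Ω] {X : Subgroup L} {a : Ω},
    Nat.card V = n → Weak V X a → Odd (Nat.card (stabilizer L a)) := by
  induction n using Nat.strong_induction_on with
  | _ n IH =>
    intro L _ _ V _ _ _ Ω _ _ X a hn h
    by_contra hodd
    rw [Nat.not_odd_iff_even, even_iff_two_dvd] at hodd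
    haveI : Fact (Nat.Prime 2) := ⟨Nat.prime_two⟩
    obtain ⟨w₀, hw₀⟩ := exists_prime_orderOf_dvd_card' 2 hodd
    have ho : orderOf (w₀ : L) = 2 := by rw [Subgroup.orderOf_coe, hw₀]
    have hw : (w₀ : L) * w₀ = 1 := by rw [← pow_two, ← ho, pow_orderOf_eq_one]
    have hw1 : (w₀ : L) ≠ 1 := fun e => by rw [e, orderOf_one] at ho; exact absurd ho (by norm_num)
    by_cases hK : ∀ k ∈ centralizer ({(w₀ : L)} : Set L), (∀ v ∈ fixVec V (w₀ : L), k • v = v) → k • a = a
    · exact false_of_faithful h hw hw1 w₀.2 hK fun hlt h' => IH _ (hn ▸ hlt) rfl h'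
    · push Not at hK
      obtain ⟨k, hk, hkV, hka⟩ := hK
      exact false_of_kernel h hw hw1 w₀.2 hk hkV hka

/-- the point stabiliser has odd order -/
theorem odd_stabilizer (h : Weak V X a) : Odd (Nat.card (stabilizer L a)) := odd_stabilizer_aux _ rfl h

theorem Weak.toData (h : Weak V X a) : Data V X a := ⟨h, odd_stabilizer h⟩

end Cfsg.Lib.BenderSE.Crit2.Singer
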