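/-
A line with field automorphisms of 2-power order, seen from the point stabiliser `M` (notes/s1175_h6_field.md).
The climb runs inside a subgroup `M'` of `M` containing `C_M(A)` and the torus, up to a state `R = T⟨u⟩` which is
a Sylow subgroup of `C_M(A)`. For `q ≠ 8` the normaliser of `R` in `M` fixes the class of `u` in `R` (the Singer
lemma without oddness), and its elements centralising `u` normalise `T` (the `A × B` lemma and coprime action).
-/
import Cfsg.Agent.BenderSE.Criterion2.StepExists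
import Cfsg.Agent.BenderSE.Criterion2.StateOfStep
import Cfsg.Agent.BenderSE.Criterion2.SingerEven
import Cfsg.Agent.Coprime.Action

set_option autoImplicit false
set_option linter.unusedSectionVars false
set_option linter.style.haveILetI false

namespace Cfsg.Lib.BenderSE.Crit2.Climb

open Subgroup

variable {G : Type*} [Group G] [Finite G] {M M' : Subgroup G} {D : G → Prop} {u : G} {A X R T : Subgroup G}
  {q : ℕ}

/-- no 2-subgroup of `M ∩ C(A)` properly contains `R` -/
def IsTop (M A R : Subgroup G) : Prop :=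
  ∀ P : Subgroup G, IsPGroup 2 P → R ≤ P → P ≤ M → (∀ p ∈ P, ∀ a ∈ A, Commute p a) → P = R

/-- THE CLIMB to the top of the centraliser of the clique -/
theorem exists_top (hA : Torus M' D u A X q) (hS : State M' u A X R T) :
    ∃ X2 R2 T2 : Subgroup G, Torus M' D u A X2 q ∧ State M' u A X2 R2 T2 ∧ IsTop M' A R2 := by
  haveI : Fact (Nat.Prime 2) := ⟨Nat.prime_two⟩
  suffices H : ∀ (n : ℕ) (X R T : Subgroup G), Nat.card G - Nat.card R = n → Torus M' D u A X q →
      State M' u A X R T → ∃ X2 R2 T2 : Subgroup G, Torus M' D u A X2 q ∧ State M' u A X2 R2 T2 ∧ IsTop M' A R2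
    from H _ X R T rfl hA hS
  intro n
  induction n using Nat.strong_induction_on with
  | _ n ih =>
  intro X R T hn hA hS
  by_cases htop : IsTop M' A R
  · exact ⟨X, R, T, hA, hS, htop⟩
  simp only [IsTop] at htop
  push Not at htop
  obtain ⟨P, hP, hRP, hPM, hPA, hne⟩ := htop
  haveI := hP.isNilpotent
  have hlt : R.subgroupOf P < ⊤ := lt_of_le_of_ne le_top fun e =>
    hne (le_antisymm (subgroupOf_eq_top.1 e) hRP)
  obtain ⟨⟨y, hyP⟩, hy, hyR⟩ := SetLike.exists_of_lt (Group.normalizerCondition_of_isNilpotent _ hlt)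
  rw [mem_subgroupOf] at hyR
  have hyn : y ∈ normalizer (R : Set G) := mem_normalizer_iff.2 fun g => by
    constructor
    · intro hg
      exact mem_subgroupOf.1 ((mem_normalizer_iff.1 hy ⟨g, hRP hg⟩).1 (mem_subgroupOf.2 hg))
    · intro hg
      have hgP : g ∈ P := by
        have := mul_mem (mul_mem (inv_mem hyP) (hRP hg)) hyP
        simpa [mul_assoc] using this
      exact mem_subgroupOf.1 ((mem_normalizer_iff.1 hy ⟨g, hgP⟩).2 (mem_subgroupOf.2 hg))
  -- the centraliser of `u` in `P` is in `R`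
  have hcent : ∀ g ∈ P, Commute g u → g ∈ R := by
    intro g hg hgu
    let C : Subgroup G := P ⊓ centralizer {u}
    have hC := hA.bound u hA.memM (IsConj.refl u) C (inf_le_left.trans hPM) (hP.to_le inf_le_left)
      fun p hp => mem_centralizer_singleton_iff.1 (mem_inf.1 hp).2
    have hle : A ⊔ zpowers u ≤ C := sup_le
      (fun a ha => mem_inf.2 ⟨hRP (hS.leT (hS.leA ha)), mem_centralizer_singleton_iff.2 (hA.centA a ha).eq⟩)
      (zpowers_le.2 (mem_inf.2 ⟨hRP hS.mem, mem_centralizer_singleton_iff.2 rfl⟩))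
    have hmem : g ∈ C := mem_inf.2 ⟨hg, mem_centralizer_singleton_iff.2 hgu.eq⟩
    rw [← Subgroup.eq_of_le_of_card_ge hle (hC.trans (card_sup hA).ge)] at hmem
    exact (sup_le (hS.leA.trans hS.leT) (zpowers_le.2 hS.mem)) hmem
  have hmoved : ∀ r ∈ R, r * u * r⁻¹ ≠ y * u * y⁻¹ := fun r hr e => hyR (by
    have h1 : Commute (r⁻¹ * y) u := by
      show r⁻¹ * y * u = u * (r⁻¹ * y)
      calc r⁻¹ * y * u = r⁻¹ * (y * u * y⁻¹) * y := by group
        _ = r⁻¹ * (r * u * r⁻¹) * y := by rw [e]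
        _ = u * (r⁻¹ * y) := by group
    simpa using mul_mem hr (hcent _ (mul_mem (inv_mem (hRP hr)) hyP) h1))
  have F := facts_of_moved hA hS le_rfl (hPM hyP) hyn hmoved
  obtain ⟨c, hc⟩ := exists_cls hA hS F
  have hyK : y ∈ ker M' A R := mem_ker.2 ⟨hPM hyP, hyn, hPA y hyP⟩
  have hcy : c y ≠ 1 := fun e => by
    obtain ⟨s, hs, hsu⟩ := hc.fix y hyn e
    have hsR := hS.leT hs
    exact hyR (by simpa using mul_mem (inv_mem hsR) (hcent _ (mul_mem (hRP hsR) hyP) hsu))
  obtain ⟨X2, R2, hA2, hS2, hstep⟩ := exists_step_of_translation hA hS F hc hyK hcy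
  obtain ⟨T2, hS2'⟩ := step_state hA2 hS2 hstep
  have hlt' : Nat.card R < Nat.card R2 := by
    have h1 := Subgroup.card_mul_index (R.subgroupOf R2)
    rw [Nat.card_congr (subgroupOfEquivOfLe hstep.le).toEquiv, ← relIndex, hstep.index, hA.card] at h1
    have h2 := hA.four
    have h3 : 0 < Nat.card R := Nat.card_pos
    nlinarith
  have := Subgroup.card_le_card_group R2
  exact ih _ (by omega) X2 R2 T2 rfl hA2 hS2'

/-- the ambient stabiliser of a line with field automorphisms: `M'` contains `C_M(A)`, the torus is in `M'`,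
and the centraliser of `u` in `M` acts semilinearly -/
structure Over (M M' : Subgroup G) (u : G) (A X : Subgroup G) : Prop where
  le : M' ≤ M
  centA : ∀ g ∈ M, (∀ a ∈ A, Commute g a) → g ∈ M'
  semilinear : ∀ g ∈ M, Commute g u → g ∈ normalizer (A : Set G) → ∀ x ∈ X, ∃ y ∈ X,
    ∀ a ∈ A, g * x * g⁻¹ * a * (g * x * g⁻¹)⁻¹ = y * a * y⁻¹

/-- semilinearity passes to every torus in `M'`, when `M'` acts on `A` as the first one -/
theorem over_transfer {X0 : Subgroup G} (hA0 : Torus M' D u A X0 q) (hA : Torus M' D u A X q)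
    (hO : Over M M' u A X0) (hact : ∀ g ∈ M', ∃ x ∈ X0, ∀ a ∈ A, g * a * g⁻¹ = x * a * x⁻¹) :
    Over M M' u A X := by
  refine ⟨hO.le, hO.centA, fun g hg hgu hgA x hx => ?_⟩
  haveI : Nontrivial A := Finite.one_lt_card_iff_nontrivial.1 (by rw [hA.card]; have := hA.four; omega)
  obtain ⟨⟨a₀, ha₀⟩, ha₀'⟩ := exists_ne (1 : A)
  have ha₀1 : a₀ ≠ 1 := fun e => ha₀' (Subtype.ext e)
  obtain ⟨y, hy, hyx⟩ := hact x (hA.XleM hx)
  obtain ⟨y', hy', hyy⟩ := hO.semilinear g hg hgu hgA y hy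
  have hya : y' * a₀ * y'⁻¹ ∈ A := (mem_normalizer_iff.1 (hA0.normA hy') a₀).1 ha₀
  obtain ⟨z, hz, hze⟩ := hA.transA a₀ ha₀ _ hya ha₀1 fun e => ha₀1 (conj_eq_one_iff.1 e)
  obtain ⟨z', hz', hzz⟩ := hact z (hA.XleM hz)
  refine ⟨z, hz, fun a ha => ?_⟩
  have hga : g⁻¹ * a * g⁻¹⁻¹ ∈ A := (mem_normalizer_iff.1 (inv_mem hgA) a).1 ha
  have h1 : g * x * g⁻¹ * a * (g * x * g⁻¹)⁻¹ = y' * a * y'⁻¹ := by
    rw [← hyy a ha]
    calc g * x * g⁻¹ * a * (g * x * g⁻¹)⁻¹ = g * (x * (g⁻¹ * a * g⁻¹⁻¹) * x⁻¹) * g⁻¹ := by group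
      _ = g * (y * (g⁻¹ * a * g⁻¹⁻¹) * y⁻¹) * g⁻¹ := by rw [hyx _ hga]
      _ = g * y * g⁻¹ * a * (g * y * g⁻¹)⁻¹ := by group
  rw [h1, hzz a ha]
  have h2 := centA_of_fix hA0 (mul_mem (inv_mem hz') hy') ha₀ ha₀1 (by
    calc z'⁻¹ * y' * a₀ * (z'⁻¹ * y')⁻¹ = z'⁻¹ * (y' * a₀ * y'⁻¹) * z' := by group
      _ = z'⁻¹ * (z' * a₀ * z'⁻¹) * z' := by rw [← hze, hzz a₀ ha₀]
      _ = a₀ := by group) a ha
  calc y' * a * y'⁻¹ = z' * (z'⁻¹ * y' * a * (z'⁻¹ * y')⁻¹) * z'⁻¹ := by group
    _ = z' * a * z'⁻¹ := by rw [h2]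

/-- a 2-element of `M` normalising the top and centralising `A` is in it -/
theorem two_mem_top (hS : State M' u A X R T) (hO : Over M M' u A X) (htop : IsTop M' A R) {k : G} (hk : k ∈ M)
    (hkR : k ∈ normalizer (R : Set G)) (hkA : ∀ a ∈ A, Commute k a) (hk2 : IsPGroup 2 (zpowers k)) : k ∈ R := by
  haveI : Fact (Nat.Prime 2) := ⟨Nat.prime_two⟩
  have hle : R ⊔ zpowers k ≤ M' := sup_le hS.le (zpowers_le.2 (hO.centA k hk hkA))
  have h := htop _ (hS.two.to_sup_of_normal_left' hk2 (zpowers_le.2 hkR)) le_sup_left hle (by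
    intro p hp a ha
    have hc : R ⊔ zpowers k ≤ centralizer ({a} : Set G) := sup_le
      (fun r hr => mem_centralizer_singleton_iff.2 (hS.centre a ha r hr).symm.eq)
      (zpowers_le.2 (mem_centralizer_singleton_iff.2 (hkA a ha).eq))
    exact mem_centralizer_singleton_iff.1 (hc hp))
  exact h ▸ mem_sup_right (mem_zpowers k)

theorem isPGroup_pow_odd_part {k : G} {i m : ℕ} (h : orderOf k = 2 ^ i * m) :
    IsPGroup 2 (zpowers (k ^ m)) := fun x => ⟨i, by
  obtain ⟨j, hj⟩ := mem_zpowers_iff.1 x.2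
  refine Subtype.ext ?_
  rw [Subgroup.coe_pow, Subgroup.coe_one, ← hj, ← zpow_natCast, ← zpow_mul, mul_comm, zpow_mul, zpow_natCast,
    ← pow_mul, mul_comm, ← h, pow_orderOf_eq_one, one_zpow]⟩

/-- TOP: for `q ≠ 8` the normaliser of the top in `M` fixes the class of `u` -/
theorem class_fixed (hA : Torus M' D u A X q) (hS : State M' u A X R T) (hO : Over M M' u A X)
    (htop : IsTop M' A R) (hq8 : q ≠ 8) {n : G} (hn : n ∈ M) (hnR : n ∈ normalizer (R : Set G)) :
    ∃ r ∈ R, n * u * n⁻¹ = r * u * r⁻¹ := by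
  classical
  by_contra hno
  push Not at hno
  have F := facts_of_moved hA hS hO.le hn hnR fun r hr e => hno r hr e.symm
  obtain ⟨c, hc⟩ := exists_cls hA hS F
  let H : Subgroup G := M ⊓ normalizer (R : Set G)
  let f : H →* MulAut A :=
  { toFun := fun h =>
      { toFun := fun a => ⟨h.1 * a.1 * h.1⁻¹, norm_A hA hS (mem_inf.1 h.2).2 a.2⟩
        invFun := fun a => ⟨h.1⁻¹ * a.1 * h.1⁻¹⁻¹, norm_A hA hS (inv_mem (mem_inf.1 h.2).2) a.2⟩
        left_inv := fun a => Subtype.ext (by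
          show h.1⁻¹ * (h.1 * a.1 * h.1⁻¹) * h.1⁻¹⁻¹ = a.1
          group)
        right_inv := fun a => Subtype.ext (by
          show h.1 * (h.1⁻¹ * a.1 * h.1⁻¹⁻¹) * h.1⁻¹ = a.1
          group)
        map_mul' := fun a b => Subtype.ext (by
          show h.1 * (a.1 * b.1) * h.1⁻¹ = h.1 * a.1 * h.1⁻¹ * (h.1 * b.1 * h.1⁻¹)
          group) }
    map_one' := by
      ext a
      show (1 : G) * a.1 * (1 : G)⁻¹ = a.1
      group
    map_mul' := fun h k => by
      ext a
      show h.1 * k.1 * a.1 * (h.1 * k.1)⁻¹ = h.1 * (k.1 * a.1 * k.1⁻¹) * h.1⁻¹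
      group }
  have hf1 : ∀ h : H, f h = 1 ↔ ∀ a ∈ A, Commute h.1 a := fun h => by
    constructor
    · intro e a ha
      exact mul_inv_eq_iff_eq_mul.1 (congrArg Subtype.val (DFunLike.congr_fun e (⟨a, ha⟩ : A)))
    · intro hh
      ext a
      show h.1 * a.1 * h.1⁻¹ = a.1
      rw [(hh a.1 a.2).eq, mul_inv_cancel_right]
  -- the kernel fixes the classes
  have hall : ∀ k ∈ M, k ∈ normalizer (R : Set G) → (∀ a ∈ A, Commute k a) → c k = 1 := by
    intro k hk hkR hkA
    obtain ⟨i, m, hm, hkm⟩ := Nat.exists_eq_two_pow_mul_odd (orderOf_pos k).ne'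
    have h1 : k ^ m ∈ R := two_mem_top hS hO htop (pow_mem hk m) (pow_mem hkR m)
      (fun a ha => (hkA a ha).pow_left m) (isPGroup_pow_odd_part hkm)
    have hpow : ∀ j : ℕ, c (k ^ j) = c k ^ j := fun j => by
      induction j with
      | zero => rw [pow_zero, pow_zero]; exact hc.ofCommute 1 (Commute.one_left u)
      | succ j ih =>
        rw [pow_succ', hc.mul k hkR _ (pow_mem hkR j), (hkA _ (hc.mem _ (pow_mem hkR j))).eq, mul_inv_cancel_right,
          ih, ← pow_succ']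
    have h2 := hc.ofR _ h1
    obtain ⟨j, rfl⟩ := hm
    rwa [hpow, pow_succ, pow_mul, pow_two, hA.elem _ (hc.mem k hkR), one_pow, one_mul] at h2
  have hcw : ∀ h k : H, f h = f k → c h.1 = c k.1 := fun h k e => by
    have h1 : ∀ a ∈ A, Commute (h⁻¹ * k).1 a := (hf1 _).1 (by rw [map_mul, map_inv, e, inv_mul_cancel])
    have h2 := hc.mul h.1 (mem_inf.1 h.2).2 _ (mem_inf.1 (h⁻¹ * k).2).2
    rw [hall _ (mem_inf.1 (h⁻¹ * k).2).1 (mem_inf.1 (h⁻¹ * k).2).2 h1, mul_one, mul_inv_cancel, mul_one] at h2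
    rw [← h2]
    simp
  let L := f.range
  letI : CommGroup A :=
    { (inferInstance : Group A) with
      mul_comm := fun a b => Subtype.ext (hS.centre a.1 a.2 b.1 (hS.leT (hS.leA b.2))).eq }
  letI : DistribMulAction L (Additive A) :=
    { smul := fun g v => Additive.ofMul (g.1 v.toMul)
      one_smul := fun v => rfl
      mul_smul := fun g g' v => rfl
      smul_zero := fun g => congrArg Additive.ofMul (map_one g.1)
      smul_add := fun g v w => congrArg Additive.ofMul (map_mul g.1 v.toMul w.toMul) }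
  let lift : L → H := fun g => Classical.choose g.2
  have hlift : ∀ g : L, f (lift g) = g.1 := fun g => Classical.choose_spec g.2
  let cL : L → A := fun g => ⟨c (lift g).1, hc.mem _ (mem_inf.1 (lift g).2).2⟩
  have hcL : ∀ (g : L) (h : H), f h = g.1 → (cL g : G) = c h.1 := fun g h e =>
    hcw _ _ ((hlift g).trans e.symm)
  letI : MulAction L A :=
    { smul := fun g a => cL g * g.1 a
      one_smul := fun a => by
        show cL 1 * (1 : MulAut A) a = a
        have : cL 1 = 1 := Subtype.ext (by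
          rw [hcL 1 1 (map_one f)]
          exact hc.ofCommute _ (Commute.one_left u))
        rw [this, one_mul]
        rfl
      mul_smul := fun g g' a => by
        show cL (g * g') * (g.1 * g'.1) a = cL g * g.1 (cL g' * g'.1 a)
        rw [map_mul, ← mul_assoc]
        have : cL (g * g') = cL g * g.1 (cL g') := Subtype.ext (by
          rw [hcL (g * g') (lift g * lift g') (by rw [map_mul, hlift, hlift]; rfl), Subgroup.coe_mul,
            hc.mul _ (mem_inf.1 (lift g).2).2 _ (mem_inf.1 (lift g').2).2, Subgroup.coe_mul, ← hlift g]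
          rfl)
        rw [this]
        rfl }
  let xH : X →* H := Subgroup.inclusion fun x hx => mem_inf.2 ⟨hO.le (hA.XleM hx), hS.normR hx⟩
  let xb : Subgroup L := (f.rangeRestrict.comp xH).range
  have hstab : ∀ g : L, g ∈ MulAction.stabilizer L (1 : A) ↔ (cL g : G) = 1 := fun g => by
    show cL g * g.1 1 = 1 ↔ _
    rw [map_one, mul_one]
    exact Subtype.ext_iff
  have hcentre : ∀ g : L, g ∈ MulAction.stabilizer L (1 : A) → ∃ k : H, f k = g.1 ∧ Commute k.1 u := by
    intro g hg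
    obtain ⟨s, hs, hsu⟩ := hc.fix _ (mem_inf.1 (lift g).2).2 ((hstab g).1 hg)
    have hsR := hS.leT hs
    refine ⟨⟨s, mem_inf.2 ⟨hO.le (hS.le hsR), le_normalizer hsR⟩⟩ * lift g, ?_, hsu⟩
    rw [map_mul, hlift, show f ⟨s, mem_inf.2 ⟨hO.le (hS.le hsR), le_normalizer hsR⟩⟩ = 1 from
      (hf1 _).2 fun a ha => (hS.centre a ha s hsR).symm, one_mul]
  haveI : Nontrivial A := Finite.one_lt_card_iff_nontrivial.1 (by rw [hA.card]; have := hA.four; omega)
  have hweak : Singer.Weak (Additive A) xb (1 : A) :=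
    { faithful := fun g hg => Subtype.ext (MulEquiv.ext fun a => Additive.ofMul.injective (hg (Additive.ofMul a)))
      two := fun v => congrArg Additive.ofMul (Subtype.ext (hA.elem _ v.toMul.2) : v.toMul * v.toMul = 1)
      pre := (MulAction.isPretransitive_iff_base (1 : A)).2 fun a => by
        obtain ⟨h, h1, h2, h3⟩ := hc.surj a.1 a.2
        let h' : H := ⟨h, mem_inf.2 ⟨h1, h2⟩⟩
        refine ⟨⟨f h', h', rfl⟩, ?_⟩
        show cL _ * f h' 1 = a
        rw [map_one, mul_one]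
        exact Subtype.ext ((hcL _ h' rfl).trans h3)
      card := rfl
      nontriv := exists_ne (0 : Additive A)
      le := by
        rintro _ ⟨x, rfl⟩
        exact (hstab _).2 ((hcL _ (xH x) rfl).trans (hc.ofCommute _ (hA.centX x.1 x.2)))
      normal := by
        have key : ∀ g ∈ MulAction.stabilizer L (1 : A), ∀ x ∈ xb, g * x * g⁻¹ ∈ xb := by
          rintro g hg _ ⟨x, rfl⟩
          obtain ⟨k, hk, hku⟩ := hcentre g hg
          have hkA : k.1 ∈ normalizer (A : Set G) := by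
            refine mem_normalizer_iff.2 fun a => ⟨fun ha => norm_A hA hS (mem_inf.1 k.2).2 ha, fun ha => ?_⟩
            have := norm_A hA hS (inv_mem (mem_inf.1 k.2).2) ha
            rwa [show k.1⁻¹ * (k.1 * a * k.1⁻¹) * k.1⁻¹⁻¹ = a by group] at this
          obtain ⟨y, hy, hxy⟩ := hO.semilinear k.1 (mem_inf.1 k.2).1 hku hkA x.1 x.2
          refine ⟨⟨y, hy⟩, Subtype.ext ?_⟩
          show f (xH ⟨y, hy⟩) = g.1 * f (xH x) * g.1⁻¹
          rw [← hk, ← map_inv, ← map_mul, ← map_mul]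
          ext a
          exact (hxy a.1 a.2).symm
        intro g hg
        refine mem_normalizer_iff.2 fun x => ⟨key g hg x, fun hx => ?_⟩
        have := key g⁻¹ (inv_mem hg) _ hx
        rwa [show g⁻¹ * (g * x * g⁻¹) * g⁻¹⁻¹ = x by group] at this
      comm := by
        rintro _ ⟨x, rfl⟩ _ ⟨y, rfl⟩
        rw [← map_mul, ← map_mul]
        exact congrArg _ (Subtype.ext (hA.commX x.1 x.2 y.1 y.2).eq)
      trans := by
        intro v w hv hw
        obtain ⟨x, hx, e⟩ := hA.transA _ v.toMul.2 _ w.toMul.2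
          (fun e => hv (congrArg Additive.ofMul (Subtype.ext e : v.toMul = 1)))
          (fun e => hw (congrArg Additive.ofMul (Subtype.ext e : w.toMul = 1)))
        exact ⟨_, ⟨⟨x, hx⟩, rfl⟩, congrArg Additive.ofMul (Subtype.ext e : f (xH ⟨x, hx⟩) v.toMul = w.toMul)⟩
      semireg := by
        rintro _ ⟨x, rfl⟩ hne b hb hfix
        refine hne (Subtype.ext ((hf1 _).2 ?_))
        have h1 : cL ⟨f (xH x), xH x, rfl⟩ = 1 :=
          Subtype.ext ((hcL _ (xH x) rfl).trans (hc.ofCommute _ (hA.centX x.1 x.2)))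
        change cL ⟨f (xH x), xH x, rfl⟩ * f (xH x) b = b at hfix
        rw [h1, one_mul] at hfix
        have h2 := centA_of_fix hA x.2 b.2 (fun e => hb (Subtype.ext e)) (congrArg Subtype.val hfix)
        exact fun a ha => mul_inv_eq_iff_eq_mul.1 (h2 a ha) }
  exact hq8 (hA.card.symm.trans ((Nat.card_congr Additive.ofMul).trans
    (Singer.card_eq_eight (Singer.Weak.toData hweak))))

/-- `A × B`: an element of odd order centralising `u` and `A` centralises the state -/
theorem commute_of_odd (hA : Torus M' D u A X q) (hS : State M' u A X R T) {d : G}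
    (hdR : d ∈ normalizer (R : Set G)) (hdu : Commute d u) (hdA : ∀ a ∈ A, Commute d a) (hd : Odd (orderOf d)) :
    ∀ r ∈ R, Commute d r := by
  haveI : Fact (Nat.Prime 2) := ⟨Nat.prime_two⟩
  haveI := hS.two.isNilpotent
  let C : Subgroup G := R ⊓ centralizer ({d} : Set G)
  have hAu : A ⊔ zpowers u ≤ C := sup_le
    (fun a ha => mem_inf.2 ⟨hS.leT (hS.leA ha), mem_centralizer_singleton_iff.2 (hdA a ha).symm.eq⟩)
    (zpowers_le.2 (mem_inf.2 ⟨hS.mem, mem_centralizer_singleton_iff.2 hdu.symm.eq⟩))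
  suffices hCR : C = R from fun r hr =>
    (show Commute r d from mem_centralizer_singleton_iff.1 (mem_inf.1 (hCR ▸ hr : r ∈ C)).2).symm
  by_contra hne
  have hlt : C.subgroupOf R < ⊤ := lt_of_le_of_ne le_top fun e =>
    hne (le_antisymm inf_le_left (subgroupOf_eq_top.1 e))
  obtain ⟨⟨r, hr⟩, hn, hrC⟩ := SetLike.exists_of_lt (Group.normalizerCondition_of_isNilpotent _ hlt)
  rw [mem_subgroupOf] at hrC
  set c := u * r * u⁻¹ * r⁻¹ with hcdef
  have hcC : c ∈ C := by
    have h1 : r * u⁻¹ * r⁻¹ ∈ C := mem_subgroupOf.1 ((mem_normalizer_iff.1 hn ⟨u⁻¹, inv_mem hS.mem⟩).1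
      (mem_subgroupOf.2 (hAu (inv_mem (mem_sup_right (mem_zpowers u))))))
    have := mul_mem (hAu (mem_sup_right (mem_zpowers u) : u ∈ A ⊔ zpowers u)) h1
    rwa [show u * (r * u⁻¹ * r⁻¹) = c by rw [hcdef]; group] at this
  have hk : ∀ a ∈ zpowers d, r⁻¹ * a * r * a⁻¹ ∈ C := by
    intro a ha
    obtain ⟨i, rfl⟩ := mem_zpowers_iff.1 ha
    have hau : Commute (d ^ i) u := hdu.zpow_left i
    have hac : Commute (d ^ i) c :=
      (show Commute c d from mem_centralizer_singleton_iff.1 (mem_inf.1 hcC).2).symm.zpow_left i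
    set r' := d ^ i * r * (d ^ i)⁻¹ with hr'
    have h1 : u * r' * u⁻¹ = c * r' := by
      calc u * r' * u⁻¹ = (u * d ^ i) * r * ((d ^ i)⁻¹ * u⁻¹) := by rw [hr']; group
        _ = (d ^ i * u) * r * (u⁻¹ * (d ^ i)⁻¹) := by rw [hau.eq, hau.inv_inv.eq]
        _ = d ^ i * (c * r) * (d ^ i)⁻¹ := by rw [hcdef]; group
        _ = c * (d ^ i * r * (d ^ i)⁻¹) := by rw [← mul_assoc, hac.eq]; group
    have h0 : u * r * u⁻¹ = c * r := by rw [hcdef]; group
    have h2 : Commute (r⁻¹ * r') u := by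
      refine (mul_inv_eq_iff_eq_mul.1 ?_).symm
      calc u * (r⁻¹ * r') * u⁻¹ = (u * r * u⁻¹)⁻¹ * (u * r' * u⁻¹) := by group
        _ = r⁻¹ * r' := by rw [h0, h1]; group
    have hr'R : r' ∈ R := (mem_normalizer_iff.1 (zpow_mem hdR i) r).1 hr
    rw [show r⁻¹ * d ^ i * r * (d ^ i)⁻¹ = r⁻¹ * r' by rw [hr']; group]
    exact hAu (hS.fix _ (mul_mem (inv_mem hr) hr'R) h2)
  have hcop : (Nat.card (zpowers d)).Coprime (Nat.card C) := by
    obtain ⟨j, hj⟩ := IsPGroup.iff_card.1 (hS.two.to_le (inf_le_left : C ≤ R))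
    rw [Nat.card_zpowers, hj]
    exact (Nat.coprime_two_right.2 hd).pow_right j
  have h := Cfsg.Lib.Coprime.centralizes_of_coprime_chain hcop
    (zpowers_le.2 (mem_centralizer_iff.2 fun x hx => (mem_centralizer_singleton_iff.1 (mem_inf.1 hx).2)))
    hk
  exact hrC (mem_inf.2 ⟨hr, mem_centralizer_singleton_iff.2 (mem_centralizer_iff.1 h d (mem_zpowers d)).symm⟩)

/-- elements of `C_M(u)` normalising the top normalise `T` -/
theorem norm_T_of_commute (hA : Torus M' D u A X q) (hS : State M' u A X R T) (hO : Over M M' u A X)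
    (htop : IsTop M' A R) {g : G} (hg : g ∈ M) (hgR : g ∈ normalizer (R : Set G)) (hgu : Commute g u) :
    ∀ t ∈ T, g * t * g⁻¹ ∈ T := by
  classical
  haveI : Fact (Nat.Prime 2) := ⟨Nat.prime_two⟩
  have hTn : R ≤ normalizer (T : Set G) := by
    intro r hr
    haveI : (T.subgroupOf R).Normal := normal_of_index_eq_two hS.index
    exact (normal_subgroupOf_iff_le_normalizer hS.leT).1 inferInstance hr
  have hgA : g ∈ normalizer (A : Set G) := mem_normalizer_iff.2 fun a =>
    ⟨fun ha => norm_A hA hS hgR ha, fun ha => by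
      have := norm_A hA hS (inv_mem hgR) ha
      rwa [show g⁻¹ * (g * a * g⁻¹) * g⁻¹⁻¹ = a by group] at this⟩
  -- an element centralising `u` and `A` normalises `T`
  have hcentT : ∀ d ∈ M, d ∈ normalizer (R : Set G) → Commute d u → (∀ a ∈ A, Commute d a) →
      d ∈ normalizer (T : Set G) := by
    intro d hd hdR hdu hdA
    obtain ⟨i, m, hm, hdm⟩ := Nat.exists_eq_two_pow_mul_odd (orderOf_pos d).ne'
    have h1 : d ^ m ∈ normalizer (T : Set G) := hTn (two_mem_top hS hO htop (pow_mem hd m) (pow_mem hdR m)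
      (fun a ha => (hdA a ha).pow_left m) (isPGroup_pow_odd_part hdm))
    have h2 : d ^ 2 ^ i ∈ normalizer (T : Set G) := centralizer_le_normalizer _ (mem_centralizer_iff.2 fun t ht =>
      (commute_of_odd hA hS (pow_mem hdR _) (hdu.pow_left _) (fun a ha => (hdA a ha).pow_left _)
        (hm.of_dvd_nat (orderOf_dvd_of_pow_eq_one (by rw [← pow_mul, ← hdm, pow_orderOf_eq_one]))) t
          (hS.leT ht)).symm.eq)
    obtain ⟨s, s', hss⟩ : IsCoprime ((2 ^ i : ℕ) : ℤ) (m : ℤ) :=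
      Nat.isCoprime_iff_coprime.2 ((Nat.coprime_two_left.2 hm).pow_left i)
    have e : d = (d ^ 2 ^ i) ^ s * (d ^ m) ^ s' := by
      rw [← zpow_natCast, ← zpow_natCast, ← zpow_mul, ← zpow_mul, ← zpow_add, mul_comm ((2 ^ i : ℕ) : ℤ),
        mul_comm (m : ℤ), hss, zpow_one]
    rw [e]
    exact mul_mem (zpow_mem h2 s) (zpow_mem h1 s')
  -- the conjugate torus normalises `T`
  have hz : ∀ x ∈ X, g * x * g⁻¹ ∈ normalizer (T : Set G) := by
    intro x hx
    obtain ⟨y, hy, hxy⟩ := hO.semilinear g hg hgu hgA x hx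
    set z := g * x * g⁻¹ with hzdef
    have hzu : Commute z u := (hgu.mul_left (hA.centX x hx)).mul_left hgu.inv_left
    have hd : y⁻¹ * z ∈ normalizer (T : Set G) := by
      refine hcentT _ (mul_mem (inv_mem (hO.le (hA.XleM hy))) (mul_mem (mul_mem hg (hO.le (hA.XleM hx))) (inv_mem hg)))
        (mul_mem (inv_mem (hS.normR hy)) (mul_mem (mul_mem hgR (hS.normR hx)) (inv_mem hgR)))
        ((hA.centX y hy).inv_left.mul_left hzu) fun a ha => mul_inv_eq_iff_eq_mul.1 ?_
      calc y⁻¹ * z * a * (y⁻¹ * z)⁻¹ = y⁻¹ * (z * a * z⁻¹) * y := by group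
        _ = y⁻¹ * (y * a * y⁻¹) * y := by rw [hxy a ha]
        _ = a := by group
    simpa using mul_mem (hS.normT hy) hd
  -- `T` is the only `X`-invariant subgroup of index two avoiding `u`
  set T₁ : Subgroup G := T.map (MulAut.conj g⁻¹).toMonoidHom with hT₁
  have hmem₁ : ∀ t, t ∈ T₁ ↔ g * t * g⁻¹ ∈ T := fun t => by
    constructor
    · rintro ⟨s, hs, rfl⟩
      simpa [mul_assoc] using hs
    · exact fun h => ⟨_, h, by simp [mul_assoc]⟩
  have hT₁R : T₁ ≤ R := fun t ht => by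
    exact (mem_normalizer_iff.1 hgR t).2 (hS.leT ((hmem₁ t).1 ht))
  have hidx : (T₁.subgroupOf R).index = 2 := by
    have h1 := Subgroup.card_mul_index (T₁.subgroupOf R)
    rw [Nat.card_congr (subgroupOfEquivOfLe hT₁R).toEquiv, hT₁,
      Subgroup.card_map_of_injective (MulEquiv.injective _), card_R hS, mul_comm 2] at h1
    exact Nat.eq_of_mul_eq_mul_left Nat.card_pos h1
  have hXT₁ : ∀ x ∈ X, ∀ t ∈ T₁, x * t * x⁻¹ ∈ T₁ := fun x hx t ht => (hmem₁ _).2 (by
    have := (mem_normalizer_iff.1 (hz x hx) _).1 ((hmem₁ t).1 ht)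
    rwa [show g * x * g⁻¹ * (g * t * g⁻¹) * (g * x * g⁻¹)⁻¹ = g * (x * t * x⁻¹) * g⁻¹ by group] at this)
  have hTT₁ : T ≤ T₁ := by
    intro k hk
    by_contra hk1
    let J : Subgroup G := T ⊓ T₁
    have hXJ : X ≤ normalizer (J : Set G) := fun x hx => Cfsg.Lib.Coprime.mem_normalizer_of_conj_mem
      (fun t ht => mem_inf.2 ⟨(mem_normalizer_iff.1 (hS.normT hx) t).1 (mem_inf.1 ht).1,
        hXT₁ x hx t (mem_inf.1 ht).2⟩)
      (fun t ht => mem_inf.2 ⟨by simpa using (mem_normalizer_iff.1 (hS.normT (inv_mem hx)) t).1 (mem_inf.1 ht).1,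
        by simpa using hXT₁ x⁻¹ (inv_mem hx) t (mem_inf.1 ht).2⟩)
    have hJ2 : IsPGroup 2 J := hS.two.to_le ((inf_le_left : J ≤ T).trans hS.leT)
    have hcop : (Nat.card X).Coprime (Nat.card J) := by
      obtain ⟨j, hj⟩ := IsPGroup.iff_card.1 hJ2
      rw [hj]
      exact (Nat.coprime_two_right.2 hA.oddX).pow_right j
    have hkR := hS.leT hk
    obtain ⟨d, hd, hkd⟩ := Cfsg.Lib.Coprime.exists_fixed_in_coset hXJ hcop
      (Or.inr (by haveI := hJ2.isNilpotent; infer_instance)) (k := k) fun x hx => by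
        have hxk : x * k * x⁻¹ ∈ T := (mem_normalizer_iff.1 (hS.normT hx) k).1 hk
        have hxk1 : x * k * x⁻¹ ∉ T₁ := fun h => hk1 (by simpa [mul_assoc] using hXT₁ x⁻¹ (inv_mem hx) _ h)
        refine mem_inf.2 ⟨by simpa [mul_assoc] using mul_mem (inv_mem hk) hxk, ?_⟩
        have := (mul_mem_iff_of_index_two (H := T₁.subgroupOf R) hidx (a := ⟨k⁻¹, inv_mem hkR⟩)
          (b := ⟨x * k * x⁻¹, hS.leT hxk⟩)).2 (iff_of_false
            (fun h => hk1 (by simpa using inv_mem (mem_subgroupOf.1 h))) fun h => hxk1 (mem_subgroupOf.1 h))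
        simpa [mul_assoc] using mem_subgroupOf.1 this
    have hkd1 : k * d = 1 := hS.fixX _ (mul_mem hk (mem_inf.1 hd).1) fun x hx => mem_centralizer_iff.1 hkd x hx
    exact hk1 (by rw [eq_inv_of_mul_eq_one_left hkd1]; exact inv_mem (mem_inf.1 hd).2)
  exact fun t ht => (hmem₁ t).1 (hTT₁ ht)

end Cfsg.Lib.BenderSE.Crit2.Climb
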