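/-
A line with field automorphisms of 2-power order and none of order two (notes/s1175_h6_field.md): at the top
`R = T⟨u⟩` of the climb every involution of a Sylow subgroup `P` of `N_M(A)` lies in `R`, so `P` is a Sylow
subgroup of `G`, `P / T` is cyclic and no conjugate of `u` lies in `T`: the transfer contradicts simplicity.
-/
import Cfsg.Agent.BenderSE.Criterion2.FieldTop
import Cfsg.Agent.BenderSE.Criterion2.CyclicEnd
import Cfsg.Agent.BenderSE.Criterion2.Square
import Cfsg.Agent.Coprime.Basic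
import Mathlib.GroupTheory.SemidirectProduct

set_option autoImplicit false
set_option linter.unusedSectionVars false
set_option linter.style.haveILetI false

namespace Cfsg.Lib.BenderSE.Crit2.Climb

open Subgroup

universe u₁

variable {G : Type u₁} [Group G] [Finite G] {M M' : Subgroup G} {D : G → Prop} {u : G} {A X R T : Subgroup G}
  {q : ℕ}

theorem solvable_sup {R B : Subgroup G} (hn : B ≤ normalizer (R : Set G)) (hR : Group.IsSolvable R)
    (hB : Group.IsSolvable B) : Group.IsSolvable ↥(R ⊔ B) := by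
  haveI : (R.subgroupOf (R ⊔ B)).Normal :=
    (normal_subgroupOf_iff_le_normalizer le_sup_left).2 (sup_le le_normalizer hn)
  haveI := hB
  haveI := hR
  refine Group.isSolvable_of_ker_le_range (R.subgroupOf (R ⊔ B)).subtype
    (QuotientGroup.mk' (R.subgroupOf (R ⊔ B))) (by simp) (hG' := ?_) (hG'' := ?_)
  · exact Group.isSolvable_of_isSolvable_injective
      (f := (subgroupOfEquivOfLe (le_sup_left : R ≤ R ⊔ B)).toMonoidHom) (MulEquiv.injective _)
  · refine Group.isSolvable_of_surjective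
      (f := (QuotientGroup.mk' (R.subgroupOf (R ⊔ B))).comp (inclusion (le_sup_right : B ≤ R ⊔ B))) ?_
    intro x
    obtain ⟨g, rfl⟩ := QuotientGroup.mk'_surjective _ x
    obtain ⟨a, ha, b, hb, hab⟩ := (Cfsg.Lib.Coprime.mem_sup_of_le_normalizer hn).mp g.2
    refine ⟨⟨b, hb⟩, ?_⟩
    show QuotientGroup.mk' _ _ = QuotientGroup.mk' _ _
    rw [QuotientGroup.mk'_apply, QuotientGroup.mk'_apply, QuotientGroup.eq]
    show b⁻¹ * (g : G) ∈ R
    rw [← hab, ← mul_assoc]
    have h := (mem_normalizer_iff.1 (hn (inv_mem hb)) a).1 ha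
    rwa [inv_inv] at h

/-- a 2-group acting semilinearly on `A` acts as a cyclic group -/
theorem exists_cyclic_action (hA : Torus M' D u A X q) (hO : Over M M' u A X) {C : Subgroup G}
    (hC2 : IsPGroup 2 C) (hCM : C ≤ M) (hCu : ∀ c ∈ C, Commute c u) (hCA : C ≤ normalizer (A : Set G)) :
    ∃ g ∈ C, ∀ c ∈ C, ∃ i : ℤ, ∀ a ∈ A, Commute (g ^ i * c) a := by
  classical
  haveI : Fact (Nat.Prime 2) := ⟨Nat.prime_two⟩
  let f : normalizer (A : Set G) →* MulAut A := normalizerMonoidHom A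
  let fC : C →* MulAut A := f.comp (inclusion hCA)
  let fX : X →* MulAut A := f.comp (inclusion hA.normA)
  have hfC : ∀ (c : C) (a : A), (fC c a : G) = (c : G) * a * (c : G)⁻¹ := fun c a => rfl
  have hfX : ∀ (x : X) (a : A), (fX x a : G) = (x : G) * a * (x : G)⁻¹ := fun x a => rfl
  let Γ := A ⋊[MonoidHom.id (MulAut A)] MulAut A
  haveI : Finite Γ := Finite.of_injective (fun γ : Γ => (γ.left, γ.right)) fun γ δ e =>
    SemidirectProduct.ext (congrArg Prod.fst e) (congrArg Prod.snd e)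
  let iC : C →* Γ := SemidirectProduct.inr.comp fC
  let iX : X →* Γ := SemidirectProduct.inr.comp fX
  let T' : Subgroup Γ := (SemidirectProduct.inl : A →* Γ).range
  let P' : Subgroup Γ := iC.range
  let L' : Subgroup Γ := iX.range
  have hconj : ∀ (σ : MulAut A) (a : A),
      (SemidirectProduct.inr σ : Γ) * SemidirectProduct.inl a * (SemidirectProduct.inr σ)⁻¹ =
        SemidirectProduct.inl (σ a) := fun σ a => by
    rw [← map_inv, ← SemidirectProduct.inl_aut]
    rfl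
  have hPL : P' ≤ normalizer (L' : Set Γ) := by
    have key : ∀ γ ∈ P', ∀ l ∈ L', γ * l * γ⁻¹ ∈ L' := by
      rintro _ ⟨c, rfl⟩ _ ⟨x, rfl⟩
      obtain ⟨y, hy, hxy⟩ := hO.semilinear c (hCM c.2) (hCu c c.2) (hCA c.2) x x.2
      refine ⟨⟨y, hy⟩, ?_⟩
      show SemidirectProduct.inr (fX ⟨y, hy⟩) =
        SemidirectProduct.inr (fC c) * SemidirectProduct.inr (fX x) * (SemidirectProduct.inr (fC c))⁻¹
      rw [← map_inv, ← map_mul, ← map_mul]
      refine congrArg _ (MulEquiv.ext fun a => Subtype.ext ?_)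
      rw [hfX, ← map_inv]
      show y * (a : G) * y⁻¹ = (fC c (fX x (fC c⁻¹ a)) : G)
      rw [hfC, hfX, hfC, ← hxy a a.2]
      push_cast
      group
    intro γ hγ
    exact Cfsg.Lib.Coprime.mem_normalizer_of_conj_mem (key γ hγ)
      fun l hl => by have h := key γ⁻¹ (inv_mem hγ) l hl; rwa [inv_inv] at h
  haveI : Group.IsSolvable L' := by
    letI : CommGroup X :=
      { (inferInstance : Group X) with
        mul_comm := fun x y => Subtype.ext (hA.commX x x.2 y y.2).eq }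
    exact Group.isSolvable_of_surjective (f := iX.rangeRestrict) iX.rangeRestrict_surjective
  haveI : Group.IsSolvable P' := by
    haveI : Group.IsNilpotent C := hC2.isNilpotent
    exact Group.isSolvable_of_surjective (f := iC.rangeRestrict) iC.rangeRestrict_surjective
  have hT'N : ∀ γ : Γ, γ ∈ normalizer (T' : Set Γ) := fun γ => by
    have : T'.Normal := by
      show (SemidirectProduct.inl : A →* Γ).range.Normal
      rw [SemidirectProduct.range_inl_eq_ker_rightHom]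
      infer_instance
    rw [normalizer_eq_top]
    exact mem_top γ
  have hT'2 : ∀ t ∈ T', t * t = 1 := by
    rintro _ ⟨a, rfl⟩
    rw [← map_mul, show a * a = 1 from Subtype.ext (hA.elem a a.2), map_one]
  haveI : Nontrivial A := Finite.one_lt_card_iff_nontrivial.1 (by rw [hA.card]; have := hA.four; omega)
  have hne : T' ≠ ⊥ := fun e => by
    obtain ⟨a, ha⟩ := exists_ne (1 : A)
    refine ha (SemidirectProduct.inl_injective (φ := MonoidHom.id (MulAut A)) ?_)
    rw [map_one]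
    exact mem_bot.1 (e ▸ ⟨a, rfl⟩ : (SemidirectProduct.inl a : Γ) ∈ (⊥ : Subgroup Γ))
  obtain ⟨_, ⟨g, rfl⟩, hg⟩ := Cfsg.Lib.BenderSE.Crit2.cyclic_image (H := L' ⊔ P') (T := T') (P := P')
    (solvable_sup hPL inferInstance inferInstance) (fun γ _ => hT'N γ) hT'2 hne
    (by
      rintro _ ⟨a, rfl⟩ _ ⟨b, rfl⟩ ha hb
      obtain ⟨x, hx, e⟩ := hA.transA a a.2 b b.2 (fun e => ha (by rw [show a = 1 from Subtype.ext e, map_one]))
        (fun e => hb (by rw [show b = 1 from Subtype.ext e, map_one]))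
      refine ⟨iX ⟨x, hx⟩, mem_sup_left ⟨_, rfl⟩, (hconj _ a).trans (congrArg _ (Subtype.ext ?_))⟩
      exact (hfX ⟨x, hx⟩ a).trans e)
    (hC2.of_surjective iC.rangeRestrict iC.rangeRestrict_surjective) le_sup_right
  refine ⟨g, g.2, fun c hc => ?_⟩
  have hbot : P' ⊓ centralizer (T' : Set Γ) ≤ ⊥ := by
    rintro _ ⟨⟨d, rfl⟩, hd⟩
    refine mem_bot.2 ?_
    have h1 : fC d = 1 := MulEquiv.ext fun a => by
      have h2 := (mem_centralizer_iff.1 hd) _ ⟨a, rfl⟩
      refine SemidirectProduct.inl_injective (φ := MonoidHom.id (MulAut A)) ((hconj (fC d) a).symm.trans ?_)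
      show iC d * SemidirectProduct.inl a * (iC d)⁻¹ = SemidirectProduct.inl a
      rw [← h2, mul_inv_cancel_right]
    show SemidirectProduct.inr (fC d) = 1
    rw [h1, map_one]
  have hcm : iC ⟨c, hc⟩ ∈ zpowers (iC g) := by
    have := hg (⟨⟨c, hc⟩, rfl⟩ : iC ⟨c, hc⟩ ∈ P')
    exact (sup_le (hbot.trans bot_le) le_rfl) this
  obtain ⟨i, hi⟩ := mem_zpowers_iff.1 hcm
  rw [← map_zpow] at hi
  have h3 : fC (g ^ (-i) * ⟨c, hc⟩) = 1 := by
    rw [map_mul, zpow_neg, map_inv, SemidirectProduct.inr_injective hi, inv_mul_cancel]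
  refine ⟨-i, fun a ha => mul_inv_eq_iff_eq_mul.1 ?_⟩
  have h4 : (fC (g ^ (-i) * ⟨c, hc⟩) ⟨a, ha⟩ : G) = a := by rw [h3]; rfl
  rw [hfC] at h4
  simpa using h4

/-- an involution's fixed points in `A` are its images `d ↦ d ^ h d` -/
theorem fixed_eq_image (hA : Torus M' D u A X q) (hO : Over M M' u A X) {h : G} (hM : h ∈ M) (hu : Commute h u)
    (hhA : h ∈ normalizer (A : Set G)) (h2 : ∀ a ∈ A, Commute (h * h) a) (hne : ∃ a ∈ A, ¬ Commute h a) {a : G}
    (ha : a ∈ A) (hfix : Commute h a) : ∃ c ∈ A, a = c * (h * c * h⁻¹) := by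
  have hAc : ∀ x ∈ A, ∀ y ∈ A, x * y = y * x := fun x hx y hy => by
    calc x * y = (x * y)⁻¹ := eq_inv_of_mul_eq_one_left (hA.elem _ (mul_mem hx hy))
      _ = y * x := by rw [mul_inv_rev, inv_eq_of_mul_eq_one_right (hA.elem y hy), inv_eq_of_mul_eq_one_right (hA.elem x hx)]
  by_cases ha1 : a = 1
  · exact ⟨1, one_mem A, by rw [ha1]; group⟩
  obtain ⟨b, hb, hbne⟩ := hne
  have hmem : ∀ x ∈ A, h * x * h⁻¹ ∈ A := fun x hx => (mem_normalizer_iff.1 hhA x).1 hx
  set a₁ := b * (h * b * h⁻¹) with ha₁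
  have ha₁A : a₁ ∈ A := mul_mem hb (hmem b hb)
  have ha₁1 : a₁ ≠ 1 := fun e => hbne (mul_inv_eq_iff_eq_mul.1 (by
    have e' := eq_inv_of_mul_eq_one_right (ha₁ ▸ e)
    rw [e']
    exact inv_eq_of_mul_eq_one_right (hA.elem b hb)))
  have ha₁fix : h * a₁ * h⁻¹ = a₁ := by
    calc h * a₁ * h⁻¹ = h * b * h⁻¹ * (h * h * b * (h * h)⁻¹) := by rw [ha₁]; group
      _ = a₁ := by rw [(h2 b hb).eq, mul_inv_cancel_right, ha₁, hAc _ (hmem b hb) b hb]
  obtain ⟨x, hx, hxa⟩ := hA.transA a₁ ha₁A a ha ha₁1 ha1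
  obtain ⟨y, hy, hxy⟩ := hO.semilinear h hM hu hhA x hx
  have hya : y * a₁ * y⁻¹ = a := by
    rw [← hxy a₁ ha₁A]
    calc h * x * h⁻¹ * a₁ * (h * x * h⁻¹)⁻¹ = h * (x * (h⁻¹ * (h * a₁ * h⁻¹) * h) * x⁻¹) * h⁻¹ := by
          rw [ha₁fix]; group
      _ = h * (x * a₁ * x⁻¹) * h⁻¹ := by group
      _ = a := by rw [hxa, hfix.eq, mul_inv_cancel_right]
  have hsame : ∀ v ∈ A, y * v * y⁻¹ = x * v * x⁻¹ := fun v hv => by
    have h3 := centA_of_fix hA (mul_mem (inv_mem hx) hy) ha₁A ha₁1 (by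
      calc x⁻¹ * y * a₁ * (x⁻¹ * y)⁻¹ = x⁻¹ * (y * a₁ * y⁻¹) * x := by group
        _ = a₁ := by rw [hya, ← hxa]; group) v hv
    calc y * v * y⁻¹ = x * (x⁻¹ * y * v * (x⁻¹ * y)⁻¹) * x⁻¹ := by group
      _ = x * v * x⁻¹ := by rw [h3]
  refine ⟨x * b * x⁻¹, (mem_normalizer_iff.1 (hA.normA hx) b).1 hb, ?_⟩
  have h4 : h * (x * b * x⁻¹) * h⁻¹ = x * (h * b * h⁻¹) * x⁻¹ := by
    rw [← hsame _ (hmem b hb), ← hxy _ (hmem b hb)]
    group
  rw [h4, ← hxa, ha₁]
  group

/-- a 2-element of `C_M(u) ∩ C(A)` lies in `A⟨u⟩` -/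
theorem mem_of_cent (hA : Torus M' D u A X q) (hO : Over M M' u A X) {g : G} (hg : g ∈ M)
    (hg2 : IsPGroup 2 (zpowers g)) (hgu : Commute g u) (hgA : ∀ a ∈ A, Commute g a) :
    g ∈ A ⊔ zpowers u := by
  haveI : Fact (Nat.Prime 2) := ⟨Nat.prime_two⟩
  have hu : A ⊔ zpowers u ≤ centralizer ({u} : Set G) ⊓ centralizer ({g} : Set G) := sup_le
    (fun a ha => mem_inf.2 ⟨mem_centralizer_singleton_iff.2 (hA.centA a ha).eq,
      mem_centralizer_singleton_iff.2 (hgA a ha).symm.eq⟩)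
    (zpowers_le.2 (mem_inf.2 ⟨mem_centralizer_singleton_iff.2 rfl, mem_centralizer_singleton_iff.2 hgu.symm.eq⟩))
  have hn : zpowers g ≤ normalizer ((A ⊔ zpowers u : Subgroup G) : Set G) := zpowers_le.2
    (centralizer_le_normalizer _ (mem_centralizer_iff.2 fun x hx =>
      mem_centralizer_singleton_iff.1 (mem_inf.1 (hu hx)).2))
  have hA2 : IsPGroup 2 A := fun a => ⟨1, Subtype.ext (by
    rw [Subgroup.coe_pow, pow_one, pow_two]; exact hA.elem a a.2)⟩
  have hu2 : IsPGroup 2 (zpowers u) := IsPGroup.of_card (n := 1) (by rw [Nat.card_zpowers, hA.two, pow_one])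
  have hB : IsPGroup 2 (A ⊔ zpowers u : Subgroup G) := hA2.to_sup_of_normal_left' hu2
    (zpowers_le.2 (centralizer_le_normalizer _ (mem_centralizer_iff.2 fun a ha => (hA.centA a ha).eq)))
  set P := A ⊔ zpowers u ⊔ zpowers g with hP
  have hPu : P ≤ centralizer ({u} : Set G) :=
    sup_le (fun x hx => (mem_inf.1 (hu hx)).1) (zpowers_le.2 (mem_centralizer_singleton_iff.2 hgu.eq))
  have hPM : P ≤ M' := sup_le (sup_le hA.leM (zpowers_le.2 hA.memM)) (zpowers_le.2 (hO.centA g hg hgA))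
  have h := hA.bound u hA.memM (IsConj.refl u) P hPM (hB.to_sup_of_normal_left' hg2 hn)
    fun p hp => mem_centralizer_singleton_iff.1 (hPu hp)
  have e := Subgroup.eq_of_le_of_card_ge (le_sup_left : A ⊔ zpowers u ≤ P) (h.trans (card_sup hA).ge)
  rw [e]
  exact mem_sup_right (mem_zpowers g)

/-- `q` is a square as soon as a 2-element centralising `u` moves `A` -/
theorem ne_eight_of_field (hA : Torus M' D u A X q) (hO : Over M M' u A X) {g : G} (hg : g ∈ M)
    (hg2 : IsPGroup 2 (zpowers g)) (hgu : Commute g u) (hgA : g ∈ normalizer (A : Set G))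
    (hne : ∃ a ∈ A, ¬ Commute g a) : q ≠ 8 := by
  classical
  obtain ⟨i, hi⟩ := hg2 ⟨g, mem_zpowers g⟩
  have hex : ∃ k : ℕ, ∀ a ∈ A, Commute (g ^ 2 ^ k) a := ⟨i, fun a _ => by
    have h1 : g ^ 2 ^ i = 1 := congrArg Subtype.val hi
    rw [h1]; exact Commute.one_left a⟩
  obtain ⟨k, hk⟩ : ∃ k, Nat.find hex = k + 1 := Nat.exists_eq_succ_of_ne_zero fun e => by
    obtain ⟨a, ha, hna⟩ := hne
    have := Nat.find_spec hex a ha
    rw [e, pow_zero, pow_one] at this
    exact hna this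
  set h := g ^ 2 ^ k with hh
  have hh2 : ∀ a ∈ A, Commute (h * h) a := fun a ha => by
    rw [hh, ← pow_add, ← two_mul, ← pow_succ', ← hk]
    exact Nat.find_spec hex a ha
  have hhne : ∃ a ∈ A, ¬ Commute h a := by
    have := Nat.find_min hex (m := k) (by omega)
    push Not at this
    exact this
  have hhA : h ∈ normalizer (A : Set G) := pow_mem hgA _
  letI : CommGroup A :=
    { (inferInstance : Group A) with
      mul_comm := fun a b => Subtype.ext (by
        show (a : G) * b = b * a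
        calc (a : G) * b = ((a : G) * b)⁻¹ := eq_inv_of_mul_eq_one_left (hA.elem _ (mul_mem a.2 b.2))
          _ = b * a := by
            rw [mul_inv_rev, inv_eq_of_mul_eq_one_right (hA.elem b b.2), inv_eq_of_mul_eq_one_right (hA.elem a a.2)]) }
  let ν : A →* A :=
    { toFun := fun a => a * ⟨h * a * h⁻¹, (mem_normalizer_iff.1 hhA a).1 a.2⟩
      map_one' := Subtype.ext (by show (1 : G) * (h * 1 * h⁻¹) = 1; group)
      map_mul' := fun a b => by
        rw [mul_mul_mul_comm]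
        congr 1
        exact Subtype.ext (show h * ((a : G) * b) * h⁻¹ = h * a * h⁻¹ * (h * b * h⁻¹) by group) }
  have hker : ν.ker = ν.range := by
    ext a
    rw [MonoidHom.mem_ker, MonoidHom.mem_range]
    constructor
    · intro e
      have e1 : (a : G) * (h * a * h⁻¹) = 1 := congrArg Subtype.val e
      have hfix : Commute h a := mul_inv_eq_iff_eq_mul.1
        ((eq_inv_of_mul_eq_one_right e1).trans (inv_eq_of_mul_eq_one_right (hA.elem a a.2)))
      obtain ⟨c, hc, hca⟩ := fixed_eq_image hA hO (pow_mem hg _) (hgu.pow_left _) hhA hh2 hhne a.2 hfix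
      exact ⟨⟨c, hc⟩, Subtype.ext hca.symm⟩
    · rintro ⟨c, rfl⟩
      refine Subtype.ext ?_
      show (c : G) * (h * c * h⁻¹) * (h * ((c : G) * (h * c * h⁻¹)) * h⁻¹) = 1
      calc (c : G) * (h * c * h⁻¹) * (h * ((c : G) * (h * c * h⁻¹)) * h⁻¹)
          = c * (h * ((c : G) * c) * h⁻¹) * (h * h * c * (h * h)⁻¹) := by group
        _ = c * c := by rw [hA.elem c c.2, (hh2 c c.2).eq, mul_inv_cancel_right]; group; exact hA.elem c c.2
        _ = 1 := hA.elem c c.2
  intro h8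
  have h1 := ν.ker.card_mul_index
  rw [index_ker, ← hker, hA.card, h8] at h1
  set m := Nat.card ν.ker
  have hm : m ≤ 3 := by nlinarith
  interval_cases m <;> omega

/-- the generator of a 2-group without field involution -/
theorem exists_gen (hA : Torus M' D u A X q) (hO : Over M M' u A X) {C : Subgroup G}
    (hC2 : IsPGroup 2 C) (hCM : C ≤ M) (hCu : ∀ c ∈ C, Commute c u) (hCA : C ≤ normalizer (A : Set G))
    (huC : u ∈ C) (hsq : ∀ c ∈ C, c * c ∈ A → c ∈ A ⊔ zpowers u) :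
    ∃ g ∈ C, C ≤ A ⊔ zpowers g := by
  classical
  obtain ⟨g, hg, hgen⟩ := exists_cyclic_action hA hO hC2 hCM hCu hCA
  have hle : C ≤ A ⊔ zpowers u ⊔ zpowers g := by
    intro c hc
    obtain ⟨i, hi⟩ := hgen c hc
    have hm : g ^ i * c ∈ C := mul_mem (zpow_mem hg i) hc
    have := mem_of_cent hA hO (hCM hm) (hC2.to_le (zpowers_le.2 hm)) (hCu _ hm) hi
    have h1 : c = g ^ (-i) * (g ^ i * c) := by group
    rw [h1]
    exact mul_mem (mem_sup_right (zpow_mem (mem_zpowers g) _)) (mem_sup_left this)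
  obtain ⟨n, hn⟩ := hC2 ⟨g, hg⟩
  have hex : ∃ k : ℕ, g ^ 2 ^ k ∈ A ⊔ zpowers u := ⟨n, by
    rw [show g ^ 2 ^ n = 1 from congrArg Subtype.val hn]; exact one_mem _⟩
  rcases hk : Nat.find hex with - | k
  · refine ⟨u, huC, hle.trans (sup_le le_rfl (zpowers_le.2 ?_))⟩
    have := Nat.find_spec hex
    rwa [hk, pow_zero, pow_one] at this
  refine ⟨g, hg, hle.trans (sup_le (sup_le le_sup_left (zpowers_le.2 ?_)) le_sup_right)⟩
  set h := g ^ 2 ^ k with hh
  have hh2 : h * h ∈ A ⊔ zpowers u := by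
    rw [hh, ← pow_add, ← two_mul, ← pow_succ', ← hk]
    exact Nat.find_spec hex
  have hpow : h ∈ zpowers g := pow_mem (mem_zpowers g) _
  rcases (mem_sup hA).1 hh2 with h1 | h1
  · exact absurd (hsq h (pow_mem hg _) h1) (Nat.find_min hex (by omega))
  · have := mul_mem (inv_mem (mem_sup_right (S := A) (mul_mem hpow hpow))) (mem_sup_left (T := zpowers g) h1)
    rwa [inv_mul_cancel_left] at this

/-- no field involution: an element of `C_M(u) ∩ N(A)` whose square is in `A` is in `A⟨u⟩` -/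
theorem sq_mem_of_no_field (hA : Torus M' D u A X q) (hO : Over M M' u A X)
    (hno : ∀ φ ∈ M, φ * φ = 1 → Commute φ u → φ ∈ normalizer (A : Set G) → ∀ a ∈ A, Commute φ a) {c : G}
    (hc : c ∈ M) (hc2 : IsPGroup 2 (zpowers c)) (hcu : Commute c u) (hcA : c ∈ normalizer (A : Set G))
    (hcc : c * c ∈ A) : c ∈ A ⊔ zpowers u := by
  by_cases hall : ∀ a ∈ A, Commute c a
  · exact mem_of_cent hA hO hc hc2 hcu hall
  push Not at hall
  exfalso
  have hAc : ∀ a ∈ A, ∀ b ∈ A, Commute a b := fun a ha b hb => by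
    show a * b = b * a
    calc a * b = (a * b)⁻¹ := eq_inv_of_mul_eq_one_left (hA.elem _ (mul_mem ha hb))
      _ = b * a := by rw [mul_inv_rev, inv_eq_of_mul_eq_one_right (hA.elem b hb), inv_eq_of_mul_eq_one_right (hA.elem a ha)]
  obtain ⟨b, hb, hbe⟩ := fixed_eq_image hA hO hc hcu hcA (fun a ha => hAc _ hcc a ha) hall hcc
    ((Commute.refl c).mul_right (Commute.refl c))
  have hb' : c * b * c⁻¹ ∈ A := (mem_normalizer_iff.1 hcA b).1 hb
  have hφ : c * b * (c * b) = 1 := by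
    calc c * b * (c * b) = c * b * c⁻¹ * (c * c) * b := by group
      _ = (c * b * c⁻¹) * (b * (c * b * c⁻¹)) * b := by rw [← hbe]
      _ = (c * b * c⁻¹) * ((c * b * c⁻¹) * b) * b := by rw [(hAc b hb _ hb').eq]
      _ = (c * b * c⁻¹) * (c * b * c⁻¹) * (b * b) := by group
      _ = 1 := by rw [hA.elem _ hb', hA.elem b hb, one_mul]
  have hbM : b ∈ M := hO.le (hA.leM hb)
  obtain ⟨a, ha, hna⟩ := hall
  refine hna ?_
  have h1 := hno (c * b) (mul_mem hc hbM) hφ (hcu.mul_left (hA.centA b hb))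
    (mul_mem hcA (le_normalizer hb)) a ha
  have h2 := h1.mul_left (hAc b⁻¹ (inv_mem hb) a ha)
  rwa [mul_inv_cancel_right] at h2

/-- CYCLIC: at a top without field involutions the transfer contradicts simplicity -/
theorem false_of_no_involution [IsSimpleGroup G] (hna : ¬ IsMulCommutative G) (S₀ : Sylow 2 G)
    (hS₀ : (S₀ : Subgroup G) ≤ M) (hA : Torus M' D u A X q) (hS : State M' u A X R T) (hO : Over M M' u A X)
    (htop : IsTop M' A R) (hq8 : q ≠ 8)
    (hno : ∀ φ ∈ M, φ * φ = 1 → Commute φ u → φ ∈ normalizer (A : Set G) → ∀ a ∈ A, Commute φ a) : False := by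
  classical
  haveI : Fact (Nat.Prime 2) := ⟨Nat.prime_two⟩
  set N : Subgroup G := M ⊓ normalizer (A : Set G) with hN
  have hRN : R ≤ N := fun r hr => mem_inf.2 ⟨hO.le (hS.le hr), centralizer_le_normalizer _
    (mem_centralizer_iff.2 fun a ha => (hS.centre a ha r hr).eq)⟩
  obtain ⟨P₀, hP₀⟩ := (hS.two.of_equiv (subgroupOfEquivOfLe hRN).symm).exists_le_sylow
  set P : Subgroup G := (P₀ : Subgroup N).map N.subtype with hPdef
  have hP2 : IsPGroup 2 P := P₀.2.map _
  have hPN : P ≤ N := map_subtype_le _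
  have hPM : P ≤ M := hPN.trans inf_le_left
  have hRP : R ≤ P := fun r hr => ⟨⟨r, hRN hr⟩, hP₀ (show (⟨r, hRN hr⟩ : N) ∈ R.subgroupOf N from hr), rfl⟩
  have hmax : ∀ P' : Subgroup G, IsPGroup 2 P' → P' ≤ N → P ≤ P' → P' ≤ P := fun P' hP' hP'N hle p hp => by
    have e := P₀.3 (hP'.of_equiv (subgroupOfEquivOfLe hP'N).symm) fun x hx => hle ⟨x, hx, rfl⟩
    exact ⟨⟨p, hP'N hp⟩, e ▸ (show (⟨p, hP'N hp⟩ : N) ∈ P'.subgroupOf N from hp), rfl⟩
  -- `R = P ∩ C(A)` is normal in `P`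
  have hcA : ∀ p ∈ P, (∀ a ∈ A, Commute p a) → p ∈ R := fun p hp hpa => by
    let C : Subgroup G := P ⊓ centralizer (A : Set G)
    have hCA : ∀ x ∈ C, ∀ a ∈ A, Commute x a := fun x hx a ha =>
      ((mem_centralizer_iff.1 (mem_inf.1 hx).2) a ha).symm
    have h := htop C (hP2.to_le inf_le_left)
      (fun r hr => mem_inf.2 ⟨hRP hr, mem_centralizer_iff.2 fun a ha => (hS.centre a ha r hr).eq⟩)
      (fun x hx => hO.centA x (hPM (mem_inf.1 hx).1) (hCA x hx)) hCA
    exact h ▸ mem_inf.2 ⟨hp, mem_centralizer_iff.2 fun a ha => (hpa a ha).symm.eq⟩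
  have hconjR : ∀ p ∈ P, ∀ r ∈ R, p * r * p⁻¹ ∈ R := fun p hp r hr =>
    hcA _ (mul_mem (mul_mem hp (hRP hr)) (inv_mem hp)) fun a ha => by
      have hpA := (mem_inf.1 (hPN hp)).2
      have h1 := hS.centre _ ((mem_normalizer_iff.1 (inv_mem hpA) a).1 ha) r hr
      have h2 := h1.symm.map (MulAut.conj p).toMonoidHom
      simpa [mul_assoc] using h2
  have hPR : P ≤ normalizer (R : Set G) := fun p hp => Cfsg.Lib.Coprime.mem_normalizer_of_conj_mem (hconjR p hp)
    fun r hr => by simpa using hconjR p⁻¹ (inv_mem hp) r hr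
  -- `P = R C_P(u)` normalises `T`
  have hdecomp : ∀ p ∈ P, ∃ r ∈ R, Commute (r⁻¹ * p) u := fun p hp => by
    obtain ⟨r, hr, e⟩ := class_fixed hA hS hO htop hq8 (hPM hp) (hPR hp)
    refine ⟨r, hr, ?_⟩
    show r⁻¹ * p * u = u * (r⁻¹ * p)
    calc r⁻¹ * p * u = r⁻¹ * (p * u * p⁻¹) * p := by group
      _ = r⁻¹ * (r * u * r⁻¹) * p := by rw [e]
      _ = u * (r⁻¹ * p) := by group
  haveI : (T.subgroupOf R).Normal := normal_of_index_eq_two hS.index
  have hRT : R ≤ normalizer (T : Set G) := (normal_subgroupOf_iff_le_normalizer hS.leT).1 inferInstance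
  have hPT : P ≤ normalizer (T : Set G) := fun p hp => by
    obtain ⟨r, hr, hc⟩ := hdecomp p hp
    have hcP : r⁻¹ * p ∈ P := mul_mem (inv_mem (hRP hr)) hp
    have hcn : r⁻¹ * p ∈ normalizer (T : Set G) := Cfsg.Lib.Coprime.mem_normalizer_of_conj_mem
      (norm_T_of_commute hA hS hO htop (hPM hcP) (hPR hcP) hc)
      (fun t ht => by
        simpa [mul_assoc] using norm_T_of_commute hA hS hO htop (inv_mem (hPM hcP)) (inv_mem (hPR hcP)) hc.inv_left t ht)
    simpa using mul_mem (hRT hr) hcn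
  let C : Subgroup G := P ⊓ centralizer ({u} : Set G)
  have hCu : ∀ c ∈ C, Commute c u := fun c hc => mem_centralizer_singleton_iff.1 (mem_inf.1 hc).2
  have hsqC : ∀ c ∈ C, c * c ∈ A → c ∈ A ⊔ zpowers u := fun c hc hcc =>
    sq_mem_of_no_field hA hO hno (hPM (mem_inf.1 hc).1) (hP2.to_le (zpowers_le.2 (mem_inf.1 hc).1)) (hCu c hc)
      (mem_inf.1 (hPN (mem_inf.1 hc).1)).2 hcc
  have hBR : A ⊔ zpowers u ≤ R := sup_le (hS.leA.trans hS.leT) (zpowers_le.2 hS.mem)
  -- the involutions of `P` are in `R`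
  have hinvR : ∀ p ∈ P, p * p = 1 → p ∈ R := fun p hp hp2 => by
    obtain ⟨r, hr, hc⟩ := hdecomp p hp
    have hcP : r⁻¹ * p ∈ P := mul_mem (inv_mem (hRP hr)) hp
    have hsT : r⁻¹ * p * (r⁻¹ * p) ∈ T := by
      have hr' : p * r⁻¹ * p⁻¹ ∈ R := hconjR p hp _ (inv_mem hr)
      have h1 := (mul_mem_iff_of_index_two (H := T.subgroupOf R) hS.index (a := ⟨r⁻¹, inv_mem hr⟩)
        (b := ⟨_, hr'⟩)).2 (by
          rw [mem_subgroupOf, mem_subgroupOf]
          exact mem_normalizer_iff.1 (hPT hp) r⁻¹)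
      have h2 : r⁻¹ * (p * r⁻¹ * p⁻¹) ∈ T := mem_subgroupOf.1 h1
      rwa [show r⁻¹ * (p * r⁻¹ * p⁻¹) = r⁻¹ * p * (r⁻¹ * p) by
        rw [inv_eq_of_mul_eq_one_right hp2]; group] at h2
    have hcA' := fix_T hA hS hsT (hc.mul_left hc)
    simpa using mul_mem hr (hBR (hsqC _ (mem_inf.2 ⟨hcP, mem_centralizer_singleton_iff.2 hc.eq⟩) hcA'))
  -- `P` is a Sylow subgroup of `G`
  obtain ⟨m, hm, hmP⟩ := exists_conj_into S₀ hS₀ hP2 hPM
  set S := m • S₀ with hSdef
  have hSM : (S : Subgroup G) ≤ M := by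
    rw [Sylow.coe_subgroup_smul]
    rintro _ ⟨x, hx, rfl⟩
    exact mul_mem (mul_mem hm (hS₀ hx)) (inv_mem hm)
  have hPS : P ≤ (S : Subgroup G) := fun p hp => by
    rw [Sylow.coe_subgroup_smul]
    exact ⟨m⁻¹ * p * m, hmP p hp, show m * (m⁻¹ * p * m) * m⁻¹ = p by group⟩
  have hPeq : (S : Subgroup G) ≤ P := by
    haveI := S.2.isNilpotent
    by_contra hlt
    have h1 : P.subgroupOf (S : Subgroup G) < ⊤ := lt_of_le_of_ne le_top fun e => hlt (subgroupOf_eq_top.1 e)
    obtain ⟨⟨s, hs⟩, hsn, hsP⟩ :=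
      SetLike.exists_of_lt (Group.normalizerCondition_of_isNilpotent _ h1)
    rw [mem_subgroupOf] at hsP
    have hconjP : ∀ t ∈ (S : Subgroup G), ∀ ht : t ∈ (S : Subgroup G),
        (⟨t, ht⟩ : (S : Subgroup G)) ∈ normalizer ((P.subgroupOf (S : Subgroup G) : Subgroup _) : Set _) →
        ∀ p ∈ P, t * p * t⁻¹ ∈ P := fun t _ ht htn p hp =>
      mem_subgroupOf.1 ((mem_normalizer_iff.1 htn ⟨p, hPS hp⟩).1 (mem_subgroupOf.2 hp))
    have hmemA : ∀ t, ∀ ht : t ∈ (S : Subgroup G),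
        (⟨t, ht⟩ : (S : Subgroup G)) ∈ normalizer ((P.subgroupOf (S : Subgroup G) : Subgroup _) : Set _) →
        ∀ a ∈ A, t * a * t⁻¹ ∈ A := by
      intro t ht htn a ha
      by_cases ha1 : a = 1
      · rw [ha1, mul_one, mul_inv_cancel]; exact one_mem A
      set d := t * a * t⁻¹ with hd
      have hdP : d ∈ P := hconjP t ht ht htn a (hRP (hBR (mem_sup_left ha)))
      have hdR : d ∈ R := hinvR d hdP (by
        rw [hd, show t * a * t⁻¹ * (t * a * t⁻¹) = t * (a * a) * t⁻¹ by group, hA.elem a ha]; group)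
      have hw : t⁻¹ * u * t⁻¹⁻¹ ∈ P := hconjP t⁻¹ (inv_mem ht) (inv_mem ht) (inv_mem htn) u (hRP hS.mem)
      have hwR := hinvR _ hw (by
        rw [show t⁻¹ * u * t⁻¹⁻¹ * (t⁻¹ * u * t⁻¹⁻¹) = t⁻¹ * (u * u) * t by group, u_sq hA]; group)
      have hdu : Commute d u := by
        have h2 := (hS.centre a ha _ hwR).map (MulAut.conj t).toMonoidHom
        simpa [hd, mul_assoc] using h2
      have hdD : D d := hA.conjD t a (hA.memA a ha ha1)
      rcases (mem_sup hA).1 (hS.fix d hdR hdu) with h2 | h2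
      · exact h2
      · refine absurd hdD ?_
        rw [show d = u * (d * u) by rw [← (hA.centA _ h2).eq, mul_assoc, u_sq hA, mul_one]]
        exact hA.cosetA _ h2
    have hsA : s ∈ normalizer (A : Set G) := Cfsg.Lib.Coprime.mem_normalizer_of_conj_mem (hmemA s hs hsn)
      (fun a ha => by simpa using hmemA s⁻¹ (inv_mem hs) (inv_mem hsn) a ha)
    have hle : P ⊔ zpowers s ≤ N := sup_le hPN (zpowers_le.2 (mem_inf.2 ⟨hSM hs, hsA⟩))
    exact hsP (hmax _ (S.2.to_le (sup_le hPS (zpowers_le.2 hs))) hle le_sup_left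
      (mem_sup_right (mem_zpowers s)))
  -- the transfer
  obtain ⟨g, hg, hgen⟩ := exists_gen hA hO (C := C) (hP2.to_le inf_le_left) (inf_le_left.trans hPM) hCu
    (fun c hc => (mem_inf.1 (hPN (mem_inf.1 hc).1)).2)
    (mem_inf.2 ⟨hRP hS.mem, mem_centralizer_singleton_iff.2 rfl⟩) hsqC
  have huT : u ∈ T ⊔ zpowers g := (sup_le_sup_right hS.leA _) (hgen
    (mem_inf.2 ⟨hRP hS.mem, mem_centralizer_singleton_iff.2 rfl⟩))
  have hPgen : P ≤ T ⊔ zpowers g := fun p hp => by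
    obtain ⟨r, hr, hc⟩ := hdecomp p hp
    have hr' : r ∈ T ⊔ zpowers g := by
      rcases mem_or hA hS hr with h | h
      · exact mem_sup_left h
      · have := mul_mem (inv_mem huT) (mem_sup_left (T := zpowers g) h)
        rwa [inv_mul_cancel_left] at this
    have := mul_mem hr' ((sup_le_sup_right hS.leA _) (hgen
      (mem_inf.2 ⟨mul_mem (inv_mem (hRP hr)) hp, mem_centralizer_singleton_iff.2 hc.eq⟩)))
    rwa [mul_inv_cancel_left] at this
  exact Cfsg.Lib.BenderSE.Crit2.false_of_cyclic_quotient hna S T (hS.leT.trans (hRP.trans hPS))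
    (hPeq.trans hPT) (hPS (mem_inf.1 hg).1) (hPeq.trans hPgen) hA.two (hPS (hRP hS.mem))
    fun x _ hx => hS.noConj _ hx (isConj_iff.2 ⟨x, rfl⟩)

end Cfsg.Lib.BenderSE.Crit2.Climb
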