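/-
Aschbacher's criterion: the top of the climb on an L2 line with one kernel involution, inside `C_M(A) X`, and
the branch of FieldProp without a field involution.
-/
import Cfsg.Agent.BenderSE.Criterion2.Assemble
import Cfsg.Agent.BenderSE.Criterion2.FieldCyclic

set_option autoImplicit false
set_option linter.unusedSectionVars false
set_option linter.style.haveILetI false

namespace Cfsg.Lib.BenderSE.Crit2

open Subgroup MulAction Cfsg.Lib.InvolCalc Cfsg.Lib.BenderSE.CritDep

universe u v

variable {G : Type u} [Group G] [Finite G] {α : Type v} [MulAction G α] {z : G}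

/-- `C_M(A) X`: the part of the point stabiliser of `a` acting on `A` as `X` -/
def centTorus (a : α) (A X : Subgroup G) : Subgroup G := (stabilizer G a ⊓ centralizer (A : Set G)) ⊔ X

variable {u : G} {a : α} {A Q X : Subgroup G} {q j : ℕ}

theorem exists_act (hXM : X ≤ stabilizer G a) (hXA : X ≤ normalizer (A : Set G)) {g : G}
    (hg : g ∈ centTorus a A X) : ∃ x ∈ X, ∀ d ∈ A, g * d * g⁻¹ = x * d * x⁻¹ := by
  have hn : X ≤ normalizer ((stabilizer G a ⊓ centralizer (A : Set G) : Subgroup G) : Set G) := fun x hx => by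
    have key : ∀ y ∈ X, ∀ k ∈ stabilizer G a ⊓ centralizer (A : Set G),
        y * k * y⁻¹ ∈ stabilizer G a ⊓ centralizer (A : Set G) := fun y hy k hk => by
      refine mem_inf.2 ⟨mul_mem (mul_mem (hXM hy) (mem_inf.1 hk).1) (inv_mem (hXM hy)),
        mem_centralizer_iff.2 fun d hd => ?_⟩
      have h := (mem_centralizer_iff.1 (mem_inf.1 hk).2) _ ((mem_normalizer_iff.1 (hXA (inv_mem hy)) d).1 hd)
      calc d * (y * k * y⁻¹) = y * (y⁻¹ * d * y⁻¹⁻¹ * k) * y⁻¹ := by group
        _ = y * (k * (y⁻¹ * d * y⁻¹⁻¹)) * y⁻¹ := by rw [h]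
        _ = y * k * y⁻¹ * d := by group
    exact Cfsg.Lib.Coprime.mem_normalizer_of_conj_mem (key x hx)
      fun k hk => by have h := key x⁻¹ (inv_mem hx) k hk; rwa [inv_inv] at h
  rw [centTorus, ← SetLike.mem_coe, coe_mul_of_right_le_normalizer_left _ X hn] at hg
  obtain ⟨k, hk, x, hx, rfl⟩ := hg
  refine ⟨x, hx, fun d hd => ?_⟩
  show k * x * d * (k * x)⁻¹ = x * d * x⁻¹
  have h := (mem_centralizer_iff.1 (mem_inf.1 hk).2) _ ((mem_normalizer_iff.1 (hXA hx) d).1 hd)
  calc k * x * d * (k * x)⁻¹ = k * (x * d * x⁻¹) * k⁻¹ := by group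
    _ = x * d * x⁻¹ := by rw [← h, mul_inv_cancel_right]

/-- a 2-element of `C_M(A) X` centralises `A` -/
theorem commute_of_two (hXM : X ≤ stabilizer G a) (hXA : X ≤ normalizer (A : Set G)) (hX : Odd (Nat.card X))
    {p : G} (hp : p ∈ centTorus a A X) (hp2 : IsPGroup 2 (zpowers p)) : ∀ d ∈ A, Commute p d := by
  obtain ⟨x, hx, hpx⟩ := exists_act hXM hXA hp
  have hpow : ∀ (k : ℕ), ∀ d ∈ A, p ^ k * d * (p ^ k)⁻¹ = x ^ k * d * (x ^ k)⁻¹ := fun k => by
    induction k with
    | zero => intro d _; simp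
    | succ k ih =>
      intro d hd
      calc p ^ (k + 1) * d * (p ^ (k + 1))⁻¹ = p * (p ^ k * d * (p ^ k)⁻¹) * p⁻¹ := by rw [pow_succ']; group
        _ = x * (x ^ k * d * (x ^ k)⁻¹) * x⁻¹ := by
          rw [ih d hd]
          exact hpx _ ((mem_normalizer_iff.1 (hXA (pow_mem hx k)) d).1 hd)
        _ = x ^ (k + 1) * d * (x ^ (k + 1))⁻¹ := by rw [pow_succ']; group
  obtain ⟨i, hi⟩ := hp2 ⟨p, mem_zpowers p⟩
  have hxo : Odd (orderOf x) := hX.of_dvd_nat (Subgroup.orderOf_dvd_natCard X hx)
  obtain ⟨n, hn⟩ : ∃ n, (x ^ 2 ^ i) ^ n = x :=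
    exists_pow_eq_self_of_coprime ((Nat.coprime_two_left.2 hxo).pow_left i)
  intro d hd
  refine mul_inv_eq_iff_eq_mul.1 ((hpx d hd).trans ?_)
  rw [← hn, ← pow_mul, ← hpow _ d hd, pow_mul, show p ^ 2 ^ i = 1 from congrArg Subtype.val hi, one_pow]
  group

variable [FaithfulSMul G α]

/-- the start of the climb: torus, state and ambient -/
theorem exists_start [IsSimpleGroup G] (hna : ¬ IsMulCommutative G) (h : Crit G α z) (hu : orderOf u = 2)
    (hua : u • a = a) (L : LineData z u a A Q X q j) (hj : j = 1)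
    (hone : ∀ t : G, orderOf t = 2 → Commute t u → (∀ p : α, u • p = p → t • p = p) →
      (∀ d ∈ A, Commute t d) → t = u) :
    ∃ S : Sylow 2 G, (S : Subgroup G) ≤ stabilizer G a ∧
      Climb.Over (stabilizer G a) (centTorus a A X) u A X ∧
      Torus (centTorus a A X) (fun d => IsConj z d) u A X q ∧
      State (centTorus a A X) u A X (A ⊔ zpowers u) A := by
  haveI : Fact (Nat.Prime 2) := ⟨Nat.prime_two⟩
  obtain ⟨-, hsquare⟩ := fused_of_line hna h hu hua L hj hone
  obtain ⟨S, hQS, huS, hSa, hsyl⟩ := exists_line_sylow h hua hu L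
  obtain ⟨b, hub, hba⟩ := exists_other_fixed L hQS hSa
  have huD : ¬ IsConj z u := fun e => hba (centre_unique h e hub hua)
  have hAQ := eq_Q_of_one L hQS hSa hj
  have hAS : A ≤ (S : Subgroup G) := L.leQ.trans hQS
  have hAu : ∀ d ∈ A, Commute d u := fun d hd => commute_of_mem (L.Qle (L.leQ hd))
  have memA : ∀ d ∈ A, d ≠ 1 → IsConj z d := fun d hd hd1 => (L.memA d hd hd1).1
  have huA : u ∉ A := fun hm => huD (memA u hm (ne_one_of_order_two hu))
  have hu2 := sq_of_order_two hu
  have hAA : ∀ d ∈ A, ∀ e ∈ A, Commute d e := fun d hd e he => L.centQ d hd e (L.leQ he)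
  have hSM : (S : Subgroup G) ≤ stabilizer G a := fun s hs => mem_stabilizer_iff.2 (hSa s hs)
  have hAM : A ≤ centTorus a A X := fun d hd => mem_sup_left (mem_inf.2
    ⟨hSM (hAS hd), mem_centralizer_iff.2 fun e he => (hAA e he d hd).eq⟩)
  have huM : u ∈ centTorus a A X := mem_sup_left (mem_inf.2
    ⟨mem_stabilizer_iff.2 hua, mem_centralizer_iff.2 fun e he => (hAu e he).eq⟩)
  have hle : centTorus a A X ≤ stabilizer G a := sup_le inf_le_left L.Xfix
  -- the kernel is `⟨u⟩`
  have hU : ∀ t ∈ lineKernel α (S : Subgroup G) u, t = 1 ∨ t = u := by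
    intro t ht
    obtain ⟨htS, htu, htF⟩ := mem_lineKernel.1 ht
    have hkerinv : ∀ s ∈ lineKernel α (S : Subgroup G) u, orderOf s = 2 → s = u := fun s hs hs2 =>
      hone s hs2 (mem_lineKernel.1 hs).2.1 (mem_lineKernel.1 hs).2.2 fun d hd =>
        commute_kernel_Q L hQS hSa hs (L.leQ hd)
    obtain ⟨i, hi⟩ := S.isPGroup'.exists_orderOf_eq_pow ⟨t, htS⟩
    rw [Subgroup.orderOf_mk] at hi
    match i, hi with
    | 0, hi => exact Or.inl (orderOf_eq_one_iff.1 (by rw [hi, pow_zero]))
    | 1, hi => exact Or.inr (hkerinv t ht (by rw [hi, pow_one]))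
    | (i + 2), hi =>
      exfalso
      obtain ⟨hsS, hsu, hsF⟩ := mem_lineKernel.1 (pow_mem ht (2 ^ i))
      refine hsquare (t ^ 2 ^ i) (S.isPGroup'.to_le (zpowers_le.2 hsS)) hsu hsF (hkerinv _ ?_ ?_)
      · exact mul_mem (pow_mem ht _) (pow_mem ht _)
      · rw [← pow_add, ← two_mul, ← pow_succ', orderOf_pow' t (by positivity), hi,
          Nat.gcd_eq_right (pow_dvd_pow 2 (by omega)), Nat.pow_div (by omega) (by omega),
          show i + 2 - (i + 1) = 1 by omega, pow_one]
  have hcent : ∀ g ∈ (S : Subgroup G), Commute g u → (∀ d ∈ A, Commute d g) → g ∈ A ⊔ zpowers u := by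
    intro g hgS hgu hgA
    obtain ⟨t, ht, x, hx, rfl⟩ := exists_kernel_mul L hQS hSa hua hj hgS hgu hgA
    refine mul_mem ?_ (mem_sup_left (hAQ ▸ hx))
    rcases hU t ht with rfl | rfl
    · exact one_mem _
    · exact mem_sup_right (mem_zpowers t)
  have huN : zpowers u ≤ normalizer (A : Set G) := zpowers_le.2 (centralizer_le_normalizer _
    (mem_centralizer_iff.2 fun d hd => (hAu d hd).eq))
  have hA2 : IsPGroup 2 A := S.isPGroup'.to_le hAS
  have hA : Torus (centTorus a A X) (fun d => IsConj z d) u A X q :=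
    { two := hu
      memM := huM
      leM := hAM
      XleM := le_sup_right
      oddX := L.oddX
      commX := fun x hx y hy => by
        haveI := L.cyclicX
        obtain ⟨g, hg⟩ := IsCyclic.exists_generator (α := X)
        obtain ⟨i, hi⟩ := mem_zpowers_iff.1 (hg ⟨x, hx⟩)
        obtain ⟨k, hk⟩ := mem_zpowers_iff.1 (hg ⟨y, hy⟩)
        have h1 : Commute (g ^ i) (g ^ k) := Commute.zpow_zpow_self g i k
        rw [hi, hk] at h1
        exact congrArg Subtype.val h1.eq
      centX := L.centX
      elem := L.elem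
      centA := hAu
      notA := huA
      card := L.card
      four := L.four
      normA := L.normA
      transA := L.transA
      memA := memA
      conjD := fun g d hd => hd.trans (isConj_iff.2 ⟨g, rfl⟩)
      cosetA := fun d hd hD => by
        rcases eq_or_ne d 1 with rfl | hd1
        · rw [mul_one] at hD; exact huD hD
        · exact mul_not_conj h hu hua hub hba.symm (memA d hd hd1) (hAu d hd).symm hD
      semilinear := fun g hg => L.semilinear g (mem_stabilizer_iff.1 (hle hg))
      bound := by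
        intro w hw hc P hPM hP hPw
        have hPA : ∀ p ∈ P, ∀ d ∈ A, Commute p d := fun p hp =>
          commute_of_two L.Xfix L.normA L.oddX (hPM hp) (hP.to_le (zpowers_le.2 hp))
        obtain ⟨g, hg⟩ := isConj_iff.1 hc
        have hw2 : orderOf w = 2 := by
          rw [← hg, show g * u * g⁻¹ = MulAut.conj g u from rfl, MulEquiv.orderOf_eq, hu]
        have hwA : ∀ d ∈ A, Commute w d :=
          commute_of_two L.Xfix L.normA L.oddX hw (isPGroup_zpowers_of_two hw2)
        -- conjugate inside the stabiliser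
        have hpa : u • g⁻¹ • a = g⁻¹ • a := by
          conv_lhs => rw [show u = g⁻¹ * w * g by rw [← hg]; group, mul_smul, mul_smul, smul_inv_smul,
            mem_stabilizer_iff.1 (hle hw)]
        obtain ⟨c, hcu, hca⟩ : ∃ c : G, Commute c u ∧ c • a = g⁻¹ • a := by
          rcases eq_or_ne (g⁻¹ • a) a with e | e
          · exact ⟨1, Commute.one_left u, by rw [one_smul, e]⟩
          · obtain ⟨d, e', hd, hd'⟩ : ∃ d e' : G, (IsConj z d ∧ d • a = a ∧ Commute d u) ∧
                (IsConj z e' ∧ e' • g⁻¹ • a = g⁻¹ • a ∧ Commute e' u) := by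
              obtain ⟨d, hd, hda, hdu⟩ := h.central a (zpowers u) (isPGroup_zpowers_of_two hu)
                fun x hx => mem_fixSet_zpowers hua x hx
              obtain ⟨e', he, hea, heu⟩ := h.central (g⁻¹ • a) (zpowers u) (isPGroup_zpowers_of_two hu)
                fun x hx => mem_fixSet_zpowers hpa x hx
              exact ⟨d, e', ⟨hd, hda, hdu u (mem_zpowers u)⟩, he, hea, heu u (mem_zpowers u)⟩
            obtain ⟨v, -, hva, -, -, hvc⟩ := exists_midpoint h hd.1 hd'.1 hd.2.1 hd'.2.1 e.symm
            exact ⟨v, (hvc u hd.2.2.symm hd'.2.2.symm).symm, hva⟩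
        set m := g * c with hm
        have hma : m ∈ stabilizer G a := mem_stabilizer_iff.2 (by rw [hm, mul_smul, hca, smul_inv_smul])
        have hmu : m * u * m⁻¹ = w := by
          rw [hm, show g * c * u * (g * c)⁻¹ = g * (c * u * c⁻¹) * g⁻¹ by group, hcu.eq,
            mul_inv_cancel_right, hg]
        set f := (MulAut.conj m⁻¹).toMonoidHom with hf
        have hfu : ∀ x, Commute x w → Commute (f x) u := fun x hx => by
          have h1 := hx.map f
          rwa [show f w = u by rw [hf, ← hmu]; simp [mul_assoc]] at h1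
        have hfM : ∀ x ∈ stabilizer G a, f x ∈ stabilizer G a := fun x hx => by
          show m⁻¹ * x * m⁻¹⁻¹ ∈ stabilizer G a
          exact mul_mem (mul_mem (inv_mem hma) hx) (inv_mem (inv_mem hma))
        have hPn : P ≤ normalizer (A : Set G) := fun p hp => centralizer_le_normalizer _
          (mem_centralizer_iff.2 fun d hd => (hPA p hp d hd).symm.eq)
        obtain ⟨k, hk, hkV⟩ := hsyl ((A ⊔ P).map f) ((hA2.to_sup_of_normal_left' hP hPn).map _) (by
          rw [Subgroup.map_sup]
          refine sup_le ?_ ?_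
          · rintro _ ⟨d, hd, rfl⟩
            exact mem_inf.2 ⟨mem_centralizer_singleton_iff.2 (hfu d (hwA d hd).symm).eq, hfM d (hle (hAM hd))⟩
          · rintro _ ⟨p, hp, rfl⟩
            exact mem_inf.2 ⟨mem_centralizer_singleton_iff.2 (hfu p (hPw p hp)).eq, hfM p (hle (hPM hp))⟩)
        have hku : Commute k u := mem_centralizer_singleton_iff.1 (mem_inf.1 hk).1
        set f' : G →* G := ((MulAut.conj k⁻¹).toMonoidHom).comp f with hf'
        have hf'u : ∀ x, Commute x w → Commute (f' x) u := fun x hx => by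
          have h1 := (hfu x hx).map (MulAut.conj k⁻¹).toMonoidHom
          have h2 : (MulAut.conj k⁻¹).toMonoidHom u = u := by
            show k⁻¹ * u * k⁻¹⁻¹ = u
            rw [inv_inv, mul_assoc, ← hku.eq, inv_mul_cancel_left]
          rwa [h2] at h1
        have hf'S : ∀ x ∈ A ⊔ P, f' x ∈ (S : Subgroup G) := fun x hx => by
          show k⁻¹ * f x * k⁻¹⁻¹ ∈ (S : Subgroup G)
          rw [inv_inv]
          exact hkV _ ⟨x, hx, rfl⟩
        have hinj : Function.Injective f' := (MulAut.conj k⁻¹).injective.comp (MulAut.conj m⁻¹).injective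
        have hfA : A.map f' = A := by
          refine Subgroup.eq_of_le_of_card_ge ?_ (le_of_eq (card_map_of_injective hinj).symm)
          rintro _ ⟨d, hd, rfl⟩
          rcases eq_or_ne d 1 with rfl | hd1
          · rw [map_one]; exact one_mem A
          · refine member_mem_clique L hQS hSa h ((memA d hd hd1).trans (isConj_iff.2 ⟨k⁻¹ * m⁻¹, ?_⟩))
              (hf'S d (mem_sup_left hd)) (hf'u d (hwA d hd).symm)
            show k⁻¹ * m⁻¹ * d * (k⁻¹ * m⁻¹)⁻¹ = k⁻¹ * (m⁻¹ * d * m⁻¹⁻¹) * k⁻¹⁻¹
            group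
        have hle' : P.map f' ≤ A ⊔ zpowers u := by
          rintro _ ⟨p, hp, rfl⟩
          refine hcent _ (hf'S p (mem_sup_right hp)) (hf'u p (hPw p hp)) fun d hd => ?_
          obtain ⟨d₀, hd₀, rfl⟩ : d ∈ A.map f' := hfA.symm ▸ hd
          exact ((hPA p hp d₀ hd₀).map f').symm
        have h3 := Subgroup.card_le_of_le hle'
        rw [Subgroup.card_map_of_injective hinj] at h3
        refine h3.trans ?_
        rw [← SetLike.coe_sort_coe, coe_mul_of_right_le_normalizer_left A (zpowers u) huN]
        refine Set.natCard_mul_le.trans ?_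
        rw [SetLike.coe_sort_coe, SetLike.coe_sort_coe, Nat.card_zpowers, hu, L.card, mul_comm] }
  refine ⟨S, hSM, ⟨hle, fun g hg hgA => mem_sup_left (mem_inf.2 ⟨hg,
    mem_centralizer_iff.2 fun d hd => (hgA d hd).symm.eq⟩),
    fun g hg => L.semilinear g (mem_stabilizer_iff.1 hg)⟩, hA, ?_⟩
  have hor : ∀ r : G, r ∈ A ⊔ zpowers u → r ∈ A ∨ r * u ∈ A := fun r hr => (Climb.mem_sup hA).1 hr
  exact
    { le := sup_le hAM (zpowers_le.2 huM)
      two := S.isPGroup'.to_le (sup_le hAS (zpowers_le.2 huS))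
      mem := mem_sup_right (mem_zpowers u)
      leA := le_rfl
      centre := fun d hd r hr => by
        rcases hor r hr with h1 | h1
        · exact hAA d hd r h1
        · have h2 : Commute d (r * u * u) := (hAA d hd _ h1).mul_right (hAu d hd)
          rwa [mul_assoc, hu2, mul_one] at h2
      fix := fun r hr _ => hr
      normR := fun x hx => by
        have h1 : ∀ y ∈ X, ∀ r ∈ A ⊔ zpowers u, y * r * y⁻¹ ∈ A ⊔ zpowers u := fun y hy r hr => by
          have hle : (A ⊔ zpowers u).map (MulAut.conj y).toMonoidHom ≤ A ⊔ zpowers u := by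
            rw [Subgroup.map_sup, MonoidHom.map_zpowers]
            refine sup_le_sup ?_ (le_of_eq ?_)
            · rintro _ ⟨d, hd, rfl⟩
              exact (mem_normalizer_iff.1 (L.normA hy) d).1 hd
            · show zpowers (y * u * y⁻¹) = zpowers u
              rw [(L.centX y hy).eq, mul_inv_cancel_right]
          exact hle ⟨r, hr, rfl⟩
        exact Cfsg.Lib.Coprime.mem_normalizer_of_conj_mem (h1 x hx)
          fun r hr => by have := h1 x⁻¹ (inv_mem hx) r hr; rwa [inv_inv] at this
      normT := L.normA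
      fixX := fun t ht hfix => by
        by_contra ht1
        have hsub : (A : Set G) ⊆ ({1, t} : Set G) := fun d hd => by
          rcases eq_or_ne d 1 with rfl | hd1
          · exact Set.mem_insert _ _
          · obtain ⟨x, hx, rfl⟩ := L.transA t ht d hd ht1 hd1
            rw [(hfix x hx).eq, mul_inv_cancel_right]
            exact Set.mem_insert_of_mem _ rfl
        have h1 := Set.ncard_le_ncard hsub
        rw [← Nat.card_coe_set_eq, SetLike.coe_sort_coe, L.card] at h1
        have := h1.trans (Set.ncard_insert_le _ _)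
        rw [Set.ncard_singleton] at this
        have := L.four
        omega
      leT := le_sup_left
      index := by
        rw [relIndex, index_eq_two_iff]
        refine ⟨⟨u, mem_sup_right (mem_zpowers u)⟩, fun r => ?_⟩
        rw [mem_subgroupOf, mem_subgroupOf]
        show Xor ((r : G) * u ∈ A) ((r : G) ∈ A)
        rcases hor r r.2 with h1 | h1
        · refine Or.inr ⟨h1, fun h2 => huA ?_⟩
          simpa using mul_mem (inv_mem h1) h2
        · refine Or.inl ⟨h1, fun h3 => huA ?_⟩
          simpa using mul_mem (inv_mem h3) h1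
      noConj := fun w hw hc => by
        rcases eq_or_ne w 1 with rfl | hw1
        · obtain ⟨g, hg⟩ := isConj_iff.1 hc
          exact ne_one_of_order_two hu (conj_eq_one_iff.1 hg)
        · exact huD ((memA w hw hw1).trans hc.symm) }

/-- THE TOP of the climb on a line with a field part: `R = T⟨u⟩` is a Sylow subgroup of `C_M(A)`, and `q ≠ 8` -/
theorem exists_field_top [IsSimpleGroup G] (hna : ¬ IsMulCommutative G) (h : Crit G α z) (hu : orderOf u = 2)
    (hua : u • a = a) (L : LineData z u a A Q X q j) (hj : j = 1)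
    (hone : ∀ t : G, orderOf t = 2 → Commute t u → (∀ p : α, u • p = p → t • p = p) →
      (∀ d ∈ A, Commute t d) → t = u) {g : G} (hg2 : IsPGroup 2 (zpowers g)) (hga : g • a = a)
    (hgu : Commute g u) (hgA : g ∈ normalizer (A : Set G)) (hne : ∃ d ∈ A, ¬ Commute d g) :
    ∃ (S : Sylow 2 G) (X2 R T : Subgroup G), (S : Subgroup G) ≤ stabilizer G a ∧ q ≠ 8 ∧
      Torus (centTorus a A X) (fun d => IsConj z d) u A X2 q ∧
      State (centTorus a A X) u A X2 R T ∧
      Climb.Over (stabilizer G a) (centTorus a A X) u A X2 ∧ Climb.IsTop (centTorus a A X) A R := by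
  obtain ⟨S, hSM, hO, hA, hS⟩ := exists_start hna h hu hua L hj hone
  obtain ⟨X2, R, T, hA2, hS2, htop⟩ := Climb.exists_top hA hS
  refine ⟨S, X2, R, T, hSM, ?_, hA2, hS2, Climb.over_transfer hA hA2 hO (fun x hx => exists_act L.Xfix L.normA hx),
    htop⟩
  obtain ⟨d, hd, hnd⟩ := hne
  exact Climb.ne_eight_of_field hA hO (mem_stabilizer_iff.2 hga) hg2 hgu hgA ⟨d, hd, fun e => hnd e.symm⟩

/-- the branch of FieldProp without a field involution -/
theorem false_of_cyclic_field [IsSimpleGroup G] (hna : ¬ IsMulCommutative G) (h : Crit G α z) (hu : orderOf u = 2)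
    (hua : u • a = a) (L : LineData z u a A Q X q j) (hj : j = 1)
    (hone : ∀ t : G, orderOf t = 2 → Commute t u → (∀ p : α, u • p = p → t • p = p) →
      (∀ d ∈ A, Commute t d) → t = u) {g : G} (hg2 : IsPGroup 2 (zpowers g)) (hga : g • a = a)
    (hgu : Commute g u) (hgA : g ∈ normalizer (A : Set G)) (hne : ∃ d ∈ A, ¬ Commute d g)
    (hno : ∀ φ : G, orderOf φ = 2 → φ • a = a → Commute φ u → φ ∈ normalizer (A : Set G) →
      ∀ d ∈ A, Commute φ d) : False := by
  obtain ⟨S, X2, R, T, hSM, hq8, hA, hS, hO, htop⟩ :=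
    exists_field_top hna h hu hua L hj hone hg2 hga hgu hgA hne
  refine Climb.false_of_no_involution hna S hSM hA hS hO htop hq8 fun φ hφM hφ2 hφu hφA => ?_
  rcases eq_or_ne φ 1 with rfl | hφ1
  · exact fun d _ => Commute.one_left d
  · exact hno φ (order_two_of_mul_self hφ2 hφ1) (mem_stabilizer_iff.1 hφM) hφu hφA

end Cfsg.Lib.BenderSE.Crit2
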