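/-
Aschbacher's criterion: FieldProp from the branch with a field involution (the cyclic branch is proved).
-/
import Cfsg.Agent.BenderSE.Criterion2.FieldLine

set_option autoImplicit false
set_option linter.unusedSectionVars false

namespace Cfsg.Lib.BenderSE.Crit2

open Subgroup MulAction Cfsg.Lib.InvolCalc Cfsg.Lib.BenderSE.CritDep

universe u

/-- OPEN 2, split: an L2 line with one kernel involution has no field involution -/
def FieldSplitProp : Prop :=
  ∀ (G α : Type u) [Group G] [Finite G] [MulAction G α] [Finite α] [IsPretransitive G α] [FaithfulSMul G α]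
    (z u : G) (a : α) (A Q X : Subgroup G) (q j : ℕ), LineCase α z u a A Q X q j → j = 1 →
    (∀ t : G, orderOf t = 2 → Commute t u → (∀ p : α, u • p = p → t • p = p) → (∀ d ∈ A, Commute t d) → t = u) →
    ∀ φ : G, orderOf φ = 2 → φ • a = a → Commute φ u → φ ∈ normalizer (A : Set G) →
      (∃ d ∈ A, ¬ Commute φ d) → False

/-- FieldProp from its split branch -/
theorem fieldProp_of_split (h : FieldSplitProp.{u}) : FieldProp.{u} := by
  intro G α _ _ _ _ _ _ z u a A Q X q j C hj hone g hg hga hgu hgA hne
  haveI := C.simple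
  refine false_of_cyclic_field C.nonab C.crit C.chosen.rank.1 C.fixa C.data hj hone hg hga hgu hgA hne
    fun φ hφ hφa hφu hφA d hd => ?_
  by_contra hnd
  exact h G α z u a A Q X q j C hj hone φ hφ hφa hφu hφA ⟨d, hd, hnd⟩

end Cfsg.Lib.BenderSE.Crit2
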