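/-
Aschbacher's criterion, a field involution on a line with `q = 4`: thirteen fixed points are impossible.  The
members centralising `φ` are isolated, so the odd core of their group is transitive on the thirteen points,
and a commuting involution with two fixed points there fixes all of them.
-/
import Cfsg.Agent.BenderSE.Criterion2.Classes
import Cfsg.Agent.BenderSE.Criterion2.LineSylow
import Cfsg.Agent.BenderSE.Pi
import Cfsg.Agent.Coprime.Sylow
import Cfsg.Agent.InvolCalc.ZStarApps

set_option autoImplicit false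
set_option linter.unusedSectionVars false
set_option linter.style.haveILetI false

namespace Cfsg.Lib.BenderSE.Crit2

open Subgroup MulAction Cfsg.Lib.InvolCalc Cfsg.Lib.BenderSE Cfsg.Lib.BenderSE.CritDep

universe u v

variable {G : Type u} [Group G] [Finite G] {α : Type v} [MulAction G α] {z : G}

/-- the odd core of the members centralising `φ` is transitive on its fixed points when these members are isolated -/
theorem exists_core_move (h : Crit G α z) {φ : G} (hφ : orderOf φ = 2) {a x : α} (hφa : φ • a = a)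
    (hφx : φ • x = x)
    (hiso : ∀ d e, IsConj z d → IsConj z e → Commute φ d → Commute φ e → Commute d e → d = e) :
    ∃ o ∈ oddCoreOf (localGen z φ), o • a = x := by
  by_cases hxa : x = a
  · exact ⟨1, one_mem _, by rw [one_smul, hxa]⟩
  obtain ⟨d, hd, hda, hdφ⟩ := h.central a (zpowers φ) (isPGroup_zpowers_of_two hφ) (mem_fixSet_zpowers hφa)
  obtain ⟨e, he, hex, heφ⟩ := h.central x (zpowers φ) (isPGroup_zpowers_of_two hφ) (mem_fixSet_zpowers hφx)
  have hdφ' := hdφ φ (mem_zpowers φ)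
  have heφ' := heφ φ (mem_zpowers φ)
  obtain ⟨v, hv, hva, -, -, hvc⟩ := exists_midpoint h hd he hda hex (Ne.symm hxa)
  have hvφ : Commute v φ := (hvc φ hdφ'.symm heφ'.symm).symm
  obtain ⟨c, hc, -⟩ := h.uniq v hv
  have hca : a ≠ c := fun q => hxa (by rw [← hva, q, hc])
  obtain ⟨w, hw, -, -, hwd, hwc⟩ := exists_midpoint h hd hv hda hc hca
  have hwφ : Commute w φ := (hwc φ hdφ'.symm hvφ.symm).symm
  set K := localGen z φ with hK
  let dK : K := ⟨d, mem_localGen_of hd hdφ'⟩
  let wK : K := ⟨w, mem_localGen_of hw hwφ⟩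
  have hord : orderOf dK = 2 := by rw [← Subgroup.orderOf_coe]; exact orderOf_conj h hd
  have hisoK : Cfsg.IsIsolatedInvolution dK := ⟨hord, fun g hg => Subtype.ext <| by
    show (g : G) * d * (g : G)⁻¹ = d
    refine (hiso d _ hd (hd.trans (isConj_iff.2 ⟨g, rfl⟩)) hdφ'.symm ?_ (congrArg Subtype.val hg :)).symm
    exact (commute_of_mem g.2).symm.mul_right hdφ'.symm |>.mul_right (commute_of_mem g.2).symm.inv_right⟩
  have hz := inv_mem (Cfsg.Lib.ZStarApps.zstarProp hisoK wK)
  refine ⟨w * d * w⁻¹ * d⁻¹, ?_, ?_⟩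
  · refine ⟨_, hz, ?_⟩
    show (d * w * d⁻¹ * w⁻¹)⁻¹ = w * d * w⁻¹ * d⁻¹
    group
  · rw [inv_of_order_two (orderOf_conj h hd), inv_of_order_two (orderOf_conj h hw), mul_smul, hda, hwd]
    exact hva

/-- THIRTEEN POINTS: a commuting involution with two fixed points among thirteen fixes them all -/
theorem false_of_thirteen [Finite α] (h : Crit G α z) {φ u : G} (hφ : orderOf φ = 2) (hu : orderOf u = 2)
    (hc : Commute φ u) {a b : α} (hab : a ≠ b) (hφa : φ • a = a) (hua : u • a = a) (hφb : φ • b = b)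
    (hub : u • b = b) (h13 : Nat.card (fixedBy α φ) = 13) (hu13 : Nat.card (fixedBy α u) < 13)
    (hiso : ∀ d e, IsConj z d → IsConj z e → Commute φ d → Commute φ e → Commute d e → d = e) : False := by
  classical
  haveI : Fact (Nat.Prime 13) := ⟨by norm_num⟩
  set K := localGen z φ with hK
  set O := oddCoreOf K with hO
  have hOK : O ≤ K := oddCoreOf_le K
  have hOfix : ∀ o ∈ O, ∀ x : α, φ • x = x → φ • o • x = o • x := fun o ho x hx => by
    rw [smul_smul, ← (commute_of_mem (hOK ho)).eq, mul_smul, hx]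
  have huK : u ∈ normalizer (K : Set G) :=
    Cfsg.Lib.ZStarApps.mem_normalizer_of_maps fun k hk => conj_mem_localGen hc.symm hk
  have huO : u ∈ normalizer (O : Set G) := normalizer_le_normalizer_oddCoreOf K huK
  obtain ⟨P, hP⟩ := Cfsg.Lib.Coprime.exists_invariant_sylow (A := zpowers u) (K := O) (zpowers_le.2 huO)
    (by rw [Nat.card_zpowers, hu]; exact Nat.coprime_two_left.2 (odd_card_oddCoreOf K)) (Or.inl inferInstance) 13
  set P' := (P : Subgroup O).map O.subtype with hP'
  have hP'O : P' ≤ O := map_subtype_le _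
  -- the action on the fixed points of `φ`
  let F := fixedBy α φ
  letI : MulAction O F :=
    { smul := fun o x => ⟨(o : G) • (x : α), hOfix o o.2 x x.2⟩
      one_smul := fun x => Subtype.ext (one_smul G (x : α))
      mul_smul := fun o o' x => Subtype.ext (mul_smul (o : G) o' (x : α)) }
  let a' : F := ⟨a, hφa⟩
  haveI : IsPretransitive O F := (isPretransitive_iff_base a').2 fun x => by
    obtain ⟨o, ho, hox⟩ := exists_core_move h hφ hφa x.2 hiso
    exact ⟨⟨o, ho⟩, Subtype.ext hox⟩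
  have hidx : (stabilizer O a').index = 13 := by rw [index_stabilizer_of_transitive, h13]
  -- `P` is transitive
  let ρ : P →* Equiv.Perm F := MulAction.toPermHom (P : Subgroup O) F
  have hρ : ∀ (r : P) (x : F), ((ρ r x : F) : α) = (((r : O) : G)) • (x : α) := fun _ _ => rfl
  obtain ⟨r₀, hr₀⟩ : ∃ r : P, ρ r a' ≠ a' := by
    by_contra hno
    push Not at hno
    have hle : (P : Subgroup O) ≤ stabilizer O a' := fun r hr => mem_stabilizer_iff.2 (hno ⟨r, hr⟩)
    have h1 := index_dvd_of_le hle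
    rw [hidx] at h1
    exact P.not_dvd_index h1
  obtain ⟨k, hk⟩ := IsPGroup.iff_card.1 (P.2.of_surjective ρ.rangeRestrict ρ.rangeRestrict_surjective)
  have hk1 : k = 1 := by
    have h1 : 1 < Nat.card ρ.range := Finite.one_lt_card_iff_nontrivial.2
      ⟨⟨ρ r₀, r₀, rfl⟩, 1, fun e => hr₀ (by rw [show ρ r₀ = 1 from congrArg Subtype.val e]; rfl)⟩
    have h2 := Subgroup.card_subgroup_dvd_card ρ.range
    rw [Nat.card_perm, h13, hk] at h2
    rcases k with _ | _ | k
    · rw [hk] at h1; simp at h1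
    · rfl
    · exact absurd ((pow_dvd_pow 13 (show 2 ≤ k + 2 by omega)).trans h2) (by norm_num [Nat.factorial])
  rw [hk1, pow_one] at hk
  have hcyc : ∀ g : ρ.range, g ∈ zpowers (⟨ρ r₀, r₀, rfl⟩ : ρ.range) := fun g =>
    mem_zpowers_of_prime_card hk fun e => hr₀ (by rw [show ρ r₀ = 1 from congrArg Subtype.val e]; rfl)
  have hcomm : ∀ r r' : P, ρ r * ρ r' = ρ r' * ρ r := by
    intro r r'
    obtain ⟨i, hi⟩ := mem_zpowers_iff.1 (hcyc ⟨ρ r, r, rfl⟩)
    obtain ⟨i', hi'⟩ := mem_zpowers_iff.1 (hcyc ⟨ρ r', r', rfl⟩)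
    have e : (⟨ρ r, r, rfl⟩ : ρ.range) * ⟨ρ r', r', rfl⟩ = ⟨ρ r', r', rfl⟩ * ⟨ρ r, r, rfl⟩ := by
      rw [← hi, ← hi']
      exact (Commute.zpow_zpow_self _ i i').eq
    exact congrArg Subtype.val e
  have horbit : Nat.card (orbit P a') = 13 := by
    obtain ⟨m, hm⟩ := P.2.card_orbit a'
    have h1 : 1 < Nat.card (orbit P a') := Finite.one_lt_card_iff_nontrivial.2
      ⟨⟨a', mem_orbit_self a'⟩, ⟨ρ r₀ a', mem_orbit a' r₀⟩, fun e => hr₀ (congrArg Subtype.val e).symm⟩
    have h2 : Nat.card (orbit P a') ≤ 13 := by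
      exact (Nat.card_le_card_of_injective (fun x : orbit P a' => (x : F)) Subtype.val_injective).trans h13.le
    rw [hm] at h1 h2 ⊢
    rcases m with _ | _ | m
    · simp at h1
    · rfl
    · have : 13 ^ 2 ≤ 13 ^ (m + 2) := Nat.pow_le_pow_right (by norm_num) (by omega)
      omega
  have hall : ∀ x : F, ∃ r : P, ρ r a' = x := by
    intro x
    have huniv : orbit P a' = Set.univ := Set.eq_of_subset_of_ncard_le (Set.subset_univ _) (by
      rw [Set.ncard_univ, ← Nat.card_coe_set_eq, horbit, h13]) (Set.toFinite _)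
    obtain ⟨r, hr⟩ : x ∈ orbit P a' := huniv ▸ Set.mem_univ x
    exact ⟨r, hr⟩
  -- `u` centralises the regular group
  obtain ⟨p, hp⟩ := hall ⟨b, hφb⟩
  have hpb : ((p : O) : G) • a = b := congrArg Subtype.val hp
  have hpP' : ((p : O) : G) ∈ P' := ⟨(p : O), p.2, rfl⟩
  have hup : u * ((p : O) : G) * u⁻¹ ∈ P' := (mem_normalizer_iff.1 (hP (mem_zpowers u)) _).1 hpP'
  obtain ⟨p₁, hp₁, hp₁e⟩ := hup
  let q : P := ⟨p₁, hp₁⟩
  have hqG : ((q : O) : G) = u * ((p : O) : G) * u⁻¹ := hp₁e
  have hqa : ρ q a' = ρ p a' := Subtype.ext (by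
    rw [hρ, hρ, hqG, mul_smul, mul_smul, inv_smul_eq_iff.2 hua.symm, hpb, hub])
  have hqp : ρ q = ρ p := Equiv.ext fun x => by
    obtain ⟨r, rfl⟩ := hall x
    show (ρ q * ρ r) a' = (ρ p * ρ r) a'
    rw [hcomm q r, hcomm p r]
    exact congrArg (ρ r) hqa
  have hstep : ∀ x : F, u • (x : α) = x → u • ((ρ p x : F) : α) = (ρ p x : F) := fun x hx => by
    have h1 : ((ρ q x : F) : α) = u • ((ρ p x : F) : α) := by
      rw [hρ, hρ, hqG, mul_smul, mul_smul, inv_smul_eq_iff.2 hx.symm]
    rw [← h1, hqp]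
  have hpow : ∀ m : ℕ, u • (((ρ p ^ m) a' : F) : α) = ((ρ p ^ m) a' : F) := by
    intro m
    induction m with
    | zero => exact hua
    | succ m ih => rw [pow_succ', Equiv.Perm.mul_apply]; exact hstep _ ih
  have hfixall : ∀ x : α, φ • x = x → u • x = x := by
    intro x hx
    obtain ⟨r, hr⟩ := hall ⟨x, hx⟩
    have hgen : (⟨ρ r, r, rfl⟩ : ρ.range) ∈ Submonoid.powers (⟨ρ p, p, rfl⟩ : ρ.range) := by
      rw [mem_powers_iff_mem_zpowers]
      exact mem_zpowers_of_prime_card hk fun e => hab (by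
        rw [← hpb, ← hρ p a', show ρ p = 1 from congrArg Subtype.val e]
        rfl)
    obtain ⟨m, hm⟩ := hgen
    have hm' : ρ p ^ m = ρ r := congrArg Subtype.val hm
    have := hpow m
    rwa [hm', hr] at this
  have hle : Nat.card F ≤ Nat.card (fixedBy α u) :=
    Nat.card_le_card_of_injective (fun x : F => (⟨x, hfixall x x.2⟩ : fixedBy α u))
      fun x y e => Subtype.ext (congrArg (fun w : fixedBy α u => (w : α)) e)
  rw [h13] at hle
  omega

end Cfsg.Lib.BenderSE.Crit2
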