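/-
Aschbacher's criterion: the odd core of the stabiliser of a pair is transitive on the members of `D` at either
point (Z2 of notes/s1175_h7_zstar.md).
-/
import Cfsg.Agent.BenderSE.Criterion2.Basic
import Cfsg.Agent.InvolCalc.ZStarApps
import Cfsg.Agent.Coprime.HalfFixed.Maximal
import Cfsg.Agent.Components.PComponents

set_option autoImplicit false
set_option linter.unusedSectionVars false
set_option linter.style.haveILetI false

namespace Cfsg.Lib.BenderSE.Crit2

open Subgroup MulAction Cfsg.Lib.InvolCalc Cfsg.Lib.StrongEmb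

variable {G α : Type*} [Group G] [MulAction G α]

/-- the elements preserving a pair -/
def pairGroup (G : Type*) [Group G] {α : Type*} [MulAction G α] (x y : α) : Subgroup G where
  carrier := {g | (g • x = x ∧ g • y = y) ∨ (g • x = y ∧ g • y = x)}
  one_mem' := Or.inl ⟨one_smul _ _, one_smul _ _⟩
  mul_mem' := fun {a b} ha hb => by
    rcases ha with ⟨h1, h2⟩ | ⟨h1, h2⟩ <;> rcases hb with ⟨h3, h4⟩ | ⟨h3, h4⟩
    · exact Or.inl ⟨by rw [mul_smul, h3, h1], by rw [mul_smul, h4, h2]⟩
    · exact Or.inr ⟨by rw [mul_smul, h3, h2], by rw [mul_smul, h4, h1]⟩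
    · exact Or.inr ⟨by rw [mul_smul, h3, h1], by rw [mul_smul, h4, h2]⟩
    · exact Or.inl ⟨by rw [mul_smul, h3, h2], by rw [mul_smul, h4, h1]⟩
  inv_mem' := fun {a} ha => by
    rcases ha with ⟨h1, h2⟩ | ⟨h1, h2⟩
    · exact Or.inl ⟨inv_smul_eq_iff.2 h1.symm, inv_smul_eq_iff.2 h2.symm⟩
    · exact Or.inr ⟨inv_smul_eq_iff.2 h2.symm, inv_smul_eq_iff.2 h1.symm⟩

/-- the odd core of the pair stabiliser -/
noncomputable def pairOdd (G : Type*) [Group G] {α : Type*} [MulAction G α] (x y : α) : Subgroup G :=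
  (Cfsg.pPrimeCore 2 (pairGroup G x y)).map (pairGroup G x y).subtype

theorem mem_pairGroup {x y : α} {g : G} :
    g ∈ pairGroup G x y ↔ (g • x = x ∧ g • y = y) ∨ (g • x = y ∧ g • y = x) := Iff.rfl

theorem stabilizer_inf_le_pairGroup (x y : α) : stabilizer G x ⊓ stabilizer G y ≤ pairGroup G x y :=
  fun _ hg => Or.inl ⟨(mem_inf.1 hg).1, (mem_inf.1 hg).2⟩

variable [Finite G]

theorem odd_card_pairOdd (x y : α) : Odd (Nat.card (pairOdd G x y)) := by
  rw [pairOdd, card_map_of_injective (subtype_injective _)]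
  exact Cfsg.Lib.ZStarApps.odd_card_pPrimeCore

theorem pairGroup_le_normalizer (x y : α) :
    pairGroup G x y ≤ normalizer ((pairOdd G x y : Subgroup G) : Set G) := fun g hg => by
  haveI : (Cfsg.pPrimeCore 2 (pairGroup G x y)).Characteristic :=
    Cfsg.Lib.Components.pPrimeCore_characteristic
  exact Cfsg.Lib.HalfFixed.normalizer_le_map_of_characteristic _ _ (le_normalizer hg)

theorem pairOdd_le (x y : α) : pairOdd G x y ≤ stabilizer G x ⊓ stabilizer G y := by
  intro g hg
  have hodd : Odd (orderOf g) := (odd_card_pairOdd x y).of_dvd_nat (Subgroup.orderOf_dvd_natCard _ hg)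
  rcases (map_subtype_le _ hg : g ∈ pairGroup G x y) with ⟨h1, h2⟩ | ⟨h1, h2⟩
  · exact mem_inf.2 ⟨mem_stabilizer_iff.2 h1, mem_stabilizer_iff.2 h2⟩
  obtain ⟨k, hk⟩ := hodd
  have hgg : g * g ∈ stabilizer G x ⊓ stabilizer G y := mem_inf.2
    ⟨mem_stabilizer_iff.2 (by rw [mul_smul, h1, h2]), mem_stabilizer_iff.2 (by rw [mul_smul, h2, h1])⟩
  have : g = (g * g) ^ (k + 1) := by
    rw [← pow_two, ← pow_mul, show 2 * (k + 1) = 2 * k + 1 + 1 by ring, pow_succ, ← hk, pow_orderOf_eq_one,
      one_mul]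
  rw [this]
  exact pow_mem hgg _

theorem stabilizer_inf_le_normalizer (x y : α) :
    stabilizer G x ⊓ stabilizer G y ≤ normalizer ((pairOdd G x y : Subgroup G) : Set G) :=
  (stabilizer_inf_le_pairGroup x y).trans (pairGroup_le_normalizer x y)

variable {z : G}

/-- the product of two swappers in `D` lies in the odd core of the pair stabiliser -/
theorem swappers_mul_mem (h : Crit G α z) {x y : α} (hxy : x ≠ y) {v v' : G} (hv : IsConj z v)
    (hv' : IsConj z v') (hvx : v • x = y) (hvy : v • y = x) (hv'x : v' • x = y) (hv'y : v' • y = x) :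
    v' * v ∈ pairOdd G x y := by
  have hv2 := orderOf_conj h hv
  have hv'2 := orderOf_conj h hv'
  set K := pairGroup G x y
  have hvK : v ∈ K := Or.inr ⟨hvx, hvy⟩
  have hv'K : v' ∈ K := Or.inr ⟨hv'x, hv'y⟩
  have hiso : Cfsg.IsIsolatedInvolution (⟨v, hvK⟩ : K) := by
    refine ⟨by rw [Subgroup.orderOf_mk, hv2], fun g hg => ?_⟩
    by_contra hne
    set w := (g : G) * v * (g : G)⁻¹
    have hw : IsConj z w := hv.trans (isConj_iff.2 ⟨g, rfl⟩)
    have hwK : w ∈ K := mul_mem (mul_mem g.2 hvK) (inv_mem g.2)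
    have hswap : w • x = y ∧ w • y = x := by
      rcases hwK with ⟨h1, h2⟩ | h1
      · exact absurd (centre_unique h hw h1 h2) hxy
      · exact h1
    have hodd := odd_swappers h hv hw hxy hvx hvy hswap.1 hswap.2
    have hc : Commute v w := (congrArg Subtype.val hg.eq : _)
    have h2 : (v * w) ^ 2 = 1 := by
      rw [hc.mul_pow, pow_two, pow_two, sq_of_order_two hv2, sq_of_order_two (orderOf_conj h hw), one_mul]
    have h1 : v * w = 1 := by
      rw [← orderOf_eq_one_iff]
      exact Nat.eq_one_of_dvd_coprimes (Nat.coprime_two_right.2 hodd) dvd_rfl (orderOf_dvd_of_pow_eq_one h2)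
    exact hne (Subtype.ext (by
      show w = v
      rw [eq_inv_of_mul_eq_one_right h1, inv_of_order_two hv2]))
  obtain ⟨g, hg, hgv⟩ := conj_of_odd hv2 hv'2 (odd_swappers h hv hv' hxy hvx hvy hv'x hv'y)
  have hgK : g ∈ K := (closure_le _).2 (by rintro q (rfl | rfl) <;> assumption) hg
  have h1 := Cfsg.Lib.ZStarApps.zstarProp hiso ⟨g, hgK⟩
  refine ⟨_, inv_mem h1, ?_⟩
  show (v * g * v⁻¹ * g⁻¹)⁻¹ = v' * v
  rw [← hgv, inv_of_order_two hv2]
  conv_lhs => rw [mul_inv_rev, mul_inv_rev, mul_inv_rev, inv_inv, inv_of_order_two hv2]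
  group

/-- the odd core of a pair is transitive on the members at either of its points -/
theorem exists_conj_member (h : Crit G α z) {x y : α} (hxy : x ≠ y) {d d' : G} (hd : IsConj z d)
    (hd' : IsConj z d') (hdx : d • x = x) (hd'x : d' • x = x) :
    ∃ r ∈ pairOdd G x y, r * d * r⁻¹ = d' := by
  obtain ⟨e, he, hey, -⟩ := h.central y ⊥ IsPGroup.of_bot fun g hg => by rw [mem_bot.1 hg, one_smul]
  obtain ⟨v, hv, hvx, hvy, hve, -⟩ := exists_midpoint h hd he hdx hey hxy
  obtain ⟨v', hv', hv'x, hv'y, hv'e, -⟩ := exists_midpoint h hd' he hd'x hey hxy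
  have hv2 := orderOf_conj h hv
  have hv'2 := orderOf_conj h hv'
  refine ⟨v' * v, swappers_mul_mem h hxy hv hv' hvx hvy hv'x hv'y, ?_⟩
  rw [mul_inv_rev, inv_of_order_two hv2, inv_of_order_two hv'2,
    show v' * v * d * (v * v') = v' * (v * d * v) * v' by group, hve, ← hv'e,
    show v' * (v' * d' * v') * v' = (v' * v') * d' * (v' * v') by group, sq_of_order_two hv'2, one_mul,
    mul_one]

end Cfsg.Lib.BenderSE.Crit2
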