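/-
Aschbacher's criterion: the members at a fixed point of a four group `{1, u, w, u w}` that fixes a second point.
The odd core of the pair stabiliser is transitive on these members, and the order formula of the four group on it
and on the centraliser of a member gives `k * kV ^ 2 = ku * kw * kuw`.
-/
import Cfsg.Agent.BenderSE.Criterion2.PairCore
import Cfsg.Agent.BenderSE.Criterion2.Classes
import Cfsg.Agent.BenderSE.FourOrder
import Cfsg.Agent.BenderSE.Thick.Dichotomy
import Cfsg.Agent.Coprime.Action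

set_option autoImplicit false
set_option linter.unusedSectionVars false
set_option linter.style.haveILetI false

namespace Cfsg.Lib.BenderSE.Crit2

open Subgroup MulAction Cfsg.Lib.InvolCalc Cfsg.Lib.StrongEmb Cfsg.Lib.BenderSE Cfsg.Lib.Misc.FourConnected
  Cfsg.Lib.BenderSE.FourConn Cfsg.Lib.BenderSE.Thick

variable {G α : Type*} [Group G] [MulAction G α] [Finite G] {z : G}

/-- the members at `x` centralised by a 2-group fixing a pair are one orbit of its fixed points on the odd core -/
theorem card_members_orbit (h : Crit G α z) {x y : α} (hxy : x ≠ y) {A : Subgroup G} (hA : IsPGroup 2 A)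
    (hAxy : A ≤ stabilizer G x ⊓ stabilizer G y) {d : G} (hd : IsConj z d) (hdx : d • x = x)
    (hdA : ∀ a ∈ A, Commute a d) :
    Nat.card {e : G // IsConj z e ∧ e • x = x ∧ ∀ a ∈ A, Commute a e} *
        Nat.card ↥(pairOdd G x y ⊓ centralizer ({d} : Set G) ⊓ centralizer (A : Set G)) =
      Nat.card ↥(pairOdd G x y ⊓ centralizer (A : Set G)) := by
  set R := pairOdd G x y with hR
  set C := R ⊓ centralizer ({d} : Set G) with hC
  set K := R ⊓ centralizer (A : Set G) with hK
  have hle : C ⊓ centralizer (A : Set G) ≤ K := inf_le_inf_right _ inf_le_left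
  have hmem : ∀ r ∈ K, IsConj z (r * d * r⁻¹) ∧ (r * d * r⁻¹) • x = x ∧
      ∀ a ∈ A, Commute a (r * d * r⁻¹) := by
    intro r hr
    obtain ⟨hrR, hrA⟩ := mem_inf.1 hr
    have hrx : r • x = x := mem_stabilizer_iff.1 (mem_inf.1 (pairOdd_le x y hrR)).1
    refine ⟨hd.trans (isConj_iff.2 ⟨r, rfl⟩), by rw [mul_smul, mul_smul, inv_smul_eq_iff.2 hrx.symm, hdx, hrx],
      fun a ha => ?_⟩
    have hc : Commute a r := mem_centralizer_iff.1 hrA a ha
    exact (hc.mul_right (hdA a ha)).mul_right hc.inv_right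
  let f : K ⧸ (C ⊓ centralizer (A : Set G)).subgroupOf K →
      {e : G // IsConj z e ∧ e • x = x ∧ ∀ a ∈ A, Commute a e} :=
    Quotient.lift (fun r : K => ⟨(r : G) * d * (r : G)⁻¹, hmem r r.2⟩) fun r s hrs => by
      have h1 : (r : G)⁻¹ * s ∈ C :=
        (mem_inf.1 (mem_subgroupOf.1 (QuotientGroup.leftRel_apply.1 hrs) :
          ((r⁻¹ * s : K) : G) ∈ C ⊓ centralizer (A : Set G))).1
      have h2 : Commute ((r : G)⁻¹ * s) d := mem_centralizer_singleton_iff.1 (mem_inf.1 h1).2
      refine Subtype.ext ?_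
      calc (r : G) * d * (r : G)⁻¹ = r * (((r : G)⁻¹ * s) * d * ((r : G)⁻¹ * s)⁻¹) * (r : G)⁻¹ := by
            rw [h2.eq, mul_inv_cancel_right]
        _ = (s : G) * d * (s : G)⁻¹ := by group
  have hf : Function.Bijective f := by
    constructor
    · intro p q
      refine Quotient.inductionOn₂ p q ?_
      intro r s hrs
      have h1 : (r : G) * d * (r : G)⁻¹ = (s : G) * d * (s : G)⁻¹ := congrArg Subtype.val hrs
      refine Quotient.sound (QuotientGroup.leftRel_apply.2 (mem_subgroupOf.2 ?_))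
      have hrs' : (r : G)⁻¹ * s ∈ K := mul_mem (inv_mem r.2) s.2
      refine mem_inf.2 ⟨mem_inf.2 ⟨(mem_inf.1 hrs').1, mem_centralizer_singleton_iff.2 ?_⟩, (mem_inf.1 hrs').2⟩
      calc (r : G)⁻¹ * s * d = (r : G)⁻¹ * (s * d * (s : G)⁻¹) * s := by group
        _ = d * ((r : G)⁻¹ * s) := by rw [← h1]; group
    · rintro ⟨e, he, hex, heA⟩
      obtain ⟨r, hr, hre⟩ := exists_conj_member h hxy hd he hdx hex
      have hcop : (Nat.card A).Coprime (Nat.card C) := by
        obtain ⟨n, hn⟩ := IsPGroup.iff_card.1 hA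
        rw [hn]
        exact (Nat.coprime_two_left.2 ((odd_card_pairOdd x y).of_dvd_nat (card_dvd_of_le inf_le_left))).pow_left n
      have hAR : ∀ a ∈ A, a ∈ normalizer (R : Set G) := fun a ha => stabilizer_inf_le_normalizer x y (hAxy ha)
      have hAC : A ≤ normalizer (C : Set G) := fun a ha => by
        refine Cfsg.Lib.ZStarApps.mem_normalizer_of_maps fun g hg => ?_
        obtain ⟨hgR, hgd⟩ := mem_inf.1 hg
        exact mem_inf.2 ⟨(mem_normalizer_iff.1 (hAR a ha) g).1 hgR, mem_centralizer_singleton_iff.2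
          (((hdA a ha).mul_left (show Commute g d from mem_centralizer_singleton_iff.1 hgd)).mul_left
            (hdA a ha).inv_left).eq⟩
      haveI := hA.isNilpotent
      obtain ⟨c, hc, hrc⟩ := Cfsg.Lib.Coprime.exists_fixed_in_coset hAC hcop
        (Or.inl inferInstance) (k := r) fun a ha => by
        refine mem_inf.2 ⟨?_, mem_centralizer_singleton_iff.2 ?_⟩
        · rw [show r⁻¹ * a * r * a⁻¹ = r⁻¹ * (a * r * a⁻¹) by group]
          exact mul_mem (inv_mem hr) ((mem_normalizer_iff.1 (hAR a ha) r).1 hr)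
        · have h3 : Commute (r⁻¹ * a * r) d := by
            have h4 := (heA a ha).map (MulAut.conj r⁻¹).toMonoidHom
            simp only [MulEquiv.coe_toMonoidHom, MulAut.conj_apply, inv_inv, ← hre] at h4
            rwa [show r⁻¹ * (r * d * r⁻¹) * r = d by group] at h4
          exact (h3.mul_left (hdA a ha).inv_left).eq
      refine ⟨⟦⟨r * c, mem_inf.2 ⟨mul_mem hr (mem_inf.1 hc).1, hrc⟩⟩⟧, Subtype.ext ?_⟩
      show r * c * d * (r * c)⁻¹ = e
      rw [← hre, mul_assoc r c d, mem_centralizer_singleton_iff.1 (mem_inf.1 hc).2]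
      group
  rw [← Nat.card_eq_of_bijective f hf, ← Nat.card_congr (subgroupOfEquivOfLe hle).toEquiv,
    ← Subgroup.card_eq_card_quotient_mul_card_subgroup]

/-- Brauer–Wielandt on the members at `x` -/
theorem card_members_four (h : Crit G α z) {x y : α} (hxy : x ≠ y) {u w : G} (hu : orderOf u = 2)
    (hw : orderOf w = 2) (huw : u ≠ w) (hc : Commute u w) (hux : u • x = x) (huy : u • y = y) (hwx : w • x = x)
    (hwy : w • y = y) :
    Nat.card (membersAt z (1 : G) x) * Nat.card {e : G // e ∈ membersAt z u x ∧ Commute w e} ^ 2 =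
      Nat.card (membersAt z u x) * Nat.card (membersAt z w x) * Nat.card (membersAt z (u * w) x) := by
  obtain ⟨V, hV, huV, hwV, hVle⟩ := exists_klein (sq_of_order_two hu) (sq_of_order_two hw)
    (ne_one_of_order_two hu) (ne_one_of_order_two hw) huw hc
  haveI := hV
  have hVxy : V ≤ stabilizer G x ⊓ stabilizer G y := hVle _
    (mem_inf.2 ⟨mem_stabilizer_iff.2 hux, mem_stabilizer_iff.2 huy⟩)
    (mem_inf.2 ⟨mem_stabilizer_iff.2 hwx, mem_stabilizer_iff.2 hwy⟩)
  have hV2 : IsPGroup 2 V := IsPGroup.of_card (n := 2) (by rw [card_klein hV]; norm_num)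
  obtain ⟨d, hd, hdx, hdV⟩ := h.central x V hV2 fun g hg => mem_stabilizer_iff.1 (mem_inf.1 (hVxy hg)).1
  set R := pairOdd G x y with hR
  set C := R ⊓ centralizer ({d} : Set G) with hC
  have orb : ∀ S : Set G, S ⊆ V →
      Nat.card {e : G // IsConj z e ∧ e • x = x ∧ ∀ a ∈ S, Commute a e} *
          Nat.card ↥(C ⊓ centralizer S) = Nat.card ↥(R ⊓ centralizer S) := by
    intro S hS
    have hSV : closure S ≤ V := (closure_le _).2 hS
    have h1 := card_members_orbit h hxy (hV2.to_le hSV) (hSV.trans hVxy) hd hdx fun a ha => (hdV a (hSV ha)).symm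
    rw [centralizer_closure] at h1
    rw [hC, hR, ← h1]
    congr 1
    exact Nat.card_congr (Equiv.subtypeEquivRight fun e => and_congr_right fun _ => and_congr_right fun _ =>
      ⟨fun he a ha => by
        have : e ∈ centralizer (closure S : Set G) := by
          rw [centralizer_closure]
          exact mem_centralizer_iff.2 he
        exact mem_centralizer_iff.1 this a ha, fun he a ha => he a (subset_closure ha)⟩)
  have one : ∀ v ∈ V, Nat.card (membersAt z v x) * Nat.card ↥(C ⊓ centralizer ({v} : Set G)) =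
      Nat.card ↥(R ⊓ centralizer ({v} : Set G)) := by
    intro v hv
    rw [← orb {v} (Set.singleton_subset_iff.2 hv)]
    congr 1
    exact Nat.card_congr (Equiv.subtypeEquivRight fun e =>
      ⟨fun ⟨h1, h2, h3⟩ => ⟨h1, h3, fun a ha => by rw [Set.mem_singleton_iff.1 ha]; exact h2⟩,
        fun ⟨h1, h3, h2⟩ => ⟨h1, h2 v rfl, h3⟩⟩)
  have hall : Nat.card (membersAt z (1 : G) x) * Nat.card C = Nat.card R := by
    have h1 := one 1 (one_mem _)
    have e : centralizer ({1} : Set G) = ⊤ := by
      ext g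
      simp [mem_centralizer_singleton_iff]
    rwa [e, inf_top_eq, inf_top_eq] at h1
  have hboth : Nat.card {e : G // e ∈ membersAt z u x ∧ Commute w e} *
      Nat.card ↥(C ⊓ centralizer ({u, w} : Set G)) = Nat.card ↥(R ⊓ centralizer ({u, w} : Set G)) := by
    rw [← orb {u, w} (Set.insert_subset huV (Set.singleton_subset_iff.2 hwV))]
    congr 1
    refine Nat.card_congr (Equiv.subtypeEquivRight fun e => ?_)
    simp only [Set.mem_insert_iff, Set.mem_singleton_iff, forall_eq_or_imp, forall_eq]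
    exact ⟨fun ⟨⟨h1, h2, h3⟩, h4⟩ => ⟨h1, h3, h2, h4⟩, fun ⟨h1, h3, h2, h4⟩ => ⟨⟨h1, h2, h3⟩, h4⟩⟩
  have hnR : ∀ v ∈ V, v ∈ normalizer (R : Set G) := fun v hv => stabilizer_inf_le_normalizer x y (hVxy hv)
  have hnC : ∀ v ∈ V, v ∈ normalizer (C : Set G) := fun v hv => by
    refine Cfsg.Lib.ZStarApps.mem_normalizer_of_maps fun g hg => ?_
    obtain ⟨hgR, hgd⟩ := mem_inf.1 hg
    have hgd' : Commute g d := mem_centralizer_singleton_iff.1 hgd
    exact mem_inf.2 ⟨(mem_normalizer_iff.1 (hnR v hv) g).1 hgR,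
      mem_centralizer_singleton_iff.2 (((hdV v hv).symm.mul_left hgd').mul_left (hdV v hv).symm.inv_left).eq⟩
  have hRodd : Odd (Nat.card R) := odd_card_pairOdd x y
  have hCodd : Odd (Nat.card C) := hRodd.of_dvd_nat (card_dvd_of_le inf_le_left)
  have fR := card_four_order hRodd (sq_of_order_two hu) (sq_of_order_two hw) hc (hnR u huV) (hnR w hwV)
  have fC := card_four_order hCodd (sq_of_order_two hu) (sq_of_order_two hw) hc (hnC u huV) (hnC w hwV)
  rw [← hall, ← hboth, ← one u huV, ← one w hwV, ← one (u * w) (mul_mem huV hwV)] at fR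
  refine Nat.eq_of_mul_eq_mul_right (Nat.mul_pos Nat.card_pos (pow_pos Nat.card_pos 2) :
    0 < Nat.card C * Nat.card ↥(C ⊓ centralizer ({u, w} : Set G)) ^ 2) ?_
  refine Eq.trans (Eq.trans (by ring) fR) ?_
  rw [fC]
  ring

/-- with one clique size `κ` for the three involutions: `k * kV ^ 2 = κ ^ 3`, and if `kV = κ` then every member at
`x` centralises `u` -/
theorem members_commute_of_cliques (h : Crit G α z) {x y : α} (hxy : x ≠ y) {u w : G} (hu : orderOf u = 2)
    (hw : orderOf w = 2) (huw : u ≠ w) (hc : Commute u w) (hux : u • x = x) (huy : u • y = y) (hwx : w • x = x)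
    (hwy : w • y = y) {κ : ℕ} (ku : Nat.card (membersAt z u x) = κ) (kw : Nat.card (membersAt z w x) = κ)
    (kuw : Nat.card (membersAt z (u * w) x) = κ)
    (kV : Nat.card {e : G // e ∈ membersAt z u x ∧ Commute w e} = κ) :
    Nat.card (membersAt z (1 : G) x) = κ ∧ membersAt z (1 : G) x = membersAt z u x := by
  have h1 := card_members_four h hxy hu hw huw hc hux huy hwx hwy
  rw [ku, kw, kuw, kV] at h1
  obtain ⟨d, hd, hdx, hdu⟩ := h.central x (zpowers u) (isPGroup_zpowers_of_two hu)
    fun g hg => mem_fixSet_zpowers hux g hg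
  haveI : Nonempty (membersAt z u x) := ⟨⟨d, hd, (hdu u (mem_zpowers u)).symm, hdx⟩⟩
  have hκ : 0 < κ := ku ▸ Nat.card_pos
  have hk : Nat.card (membersAt z (1 : G) x) = κ :=
    Nat.eq_of_mul_eq_mul_right (pow_pos hκ 2) (h1.trans (by ring))
  refine ⟨hk, (Set.eq_of_subset_of_ncard_le (show membersAt z u x ⊆ membersAt z (1 : G) x from fun e he => ⟨he.1, Commute.one_left _, he.2.2⟩) ?_).symm⟩
  rw [← Nat.card_coe_set_eq, ← Nat.card_coe_set_eq, hk, ku]

end Cfsg.Lib.BenderSE.Crit2
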