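/-
Aschbacher's criterion, exact members and the two bounds of a line (notes/s1175_h6_bound.md, B2 and B3):
a member `d` at a fixed point of `u` with `d u` of order twice an odd number is the same thing as a member
`e` centralising `u` and a member `d` centralising `u e` with `d e` of odd order.
-/
import Cfsg.Agent.BenderSE.Criterion2.Classes

set_option autoImplicit false
set_option linter.unusedSectionVars false
set_option linter.style.haveILetI false

namespace Cfsg.Lib.BenderSE.Crit2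

open Subgroup MulAction Cfsg.Lib.InvolCalc Cfsg.Lib.StrongEmb

variable {G α : Type*} [Group G] [MulAction G α] {z : G}

/-- the members at `x` centralising `u * e` with odd product with `e` -/
def oddPartners (z u e : G) (x : α) : Set G := {d | d ∈ membersAt z (u * e) x ∧ Odd (orderOf (d * e))}

/-- the members at `x` with product with `u` of order twice an odd number -/
def oddTwice (z u : G) (x : α) : Set G :=
  {d | d ∈ membersAt z (1 : G) x ∧ ∃ m, Odd m ∧ orderOf (d * u) = 2 * m}

/-- conjugation carries odd partners to odd partners -/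
theorem card_oddPartners_conj (g u e : G) (x : α) :
    Nat.card (oddPartners z (g * u * g⁻¹) (g * e * g⁻¹) (g • x)) = Nat.card (oddPartners z u e x) := by
  refine (Nat.card_congr (Equiv.subtypeEquiv (MulAut.conj g).toEquiv fun d => ?_)).symm
  show (IsConj z d ∧ Commute (u * e) d ∧ d • x = x) ∧ Odd (orderOf (d * e)) ↔
    (IsConj z (g * d * g⁻¹) ∧ Commute (g * u * g⁻¹ * (g * e * g⁻¹)) (g * d * g⁻¹) ∧
      (g * d * g⁻¹) • g • x = g • x) ∧ Odd (orderOf (g * d * g⁻¹ * (g * e * g⁻¹)))
  rw [show g * u * g⁻¹ * (g * e * g⁻¹) = MulAut.conj g (u * e) by simp [MulAut.conj_apply],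
    show g * d * g⁻¹ * (g * e * g⁻¹) = MulAut.conj g (d * e) by simp [MulAut.conj_apply],
    MulEquiv.orderOf_eq, mul_smul, mul_smul, inv_smul_smul, smul_left_cancel_iff]
  refine and_congr_left fun _ => and_congr ⟨fun h => h.trans (isConj_iff.2 ⟨g, rfl⟩),
    fun h => h.trans (isConj_iff.2 ⟨g⁻¹, by group⟩)⟩ (and_congr_left fun _ => ?_)
  refine ⟨fun h => by simpa [MulAut.conj_apply] using h.map (MulAut.conj g).toMonoidHom, fun h => ?_⟩
  have h1 := h.map (MulAut.conj g⁻¹).toMonoidHom
  simpa [MulAut.conj_apply, mul_assoc] using h1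

variable (h : Crit G α z) [Finite G] {u : G} (hu : orderOf u = 2) {a : α} (hua : u • a = a)
include h hu hua

/-- `e` is determined by the pair: `u e` is the central involution of `⟨d, u⟩` -/
theorem odd_pair_spec {e d : G} (he : e ∈ membersAt z u a) (hd : d ∈ oddPartners z u e a) (hne : u ≠ e) :
    orderOf (d * u) = 2 * orderOf (d * e) ∧ (d * u) ^ orderOf (d * e) = u * e := by
  obtain ⟨⟨hdD, hcd, -⟩, hodd⟩ := hd
  have hee := sq_of_order_two (orderOf_conj h he.1)
  have huu := sq_of_order_two hu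
  have hvv : (u * e) * (u * e) = 1 := by rw [he.2.1.symm.mul_mul_mul_comm, huu, hee, one_mul]
  have hv2 : orderOf (u * e) = 2 := order_two_of_mul_self hvv fun e' => hne (by
    rw [eq_inv_of_mul_eq_one_left e', inv_eq_of_mul_eq_one_right hee])
  have hce : Commute (u * e) e := he.2.1.mul_left (Commute.refl e)
  have hcde : Commute (d * e) (u * e) := (hcd.mul_right hce).symm
  have hdu : d * u = (d * e) * (u * e) := by
    rw [show (d * e) * (u * e) = d * (e * u) * e by group, ← he.2.1.eq,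
      show d * (u * e) * e = d * u * (e * e) by group, hee, mul_one]
  refine ⟨?_, ?_⟩
  · rw [hdu, hcde.orderOf_mul_eq_mul_orderOf_of_coprime (by rw [hv2]; exact hodd.coprime_two_right), hv2,
      mul_comm]
  · obtain ⟨m, hm⟩ := hodd
    have h1 : (u * e) ^ orderOf (d * e) = u * e := by
      rw [hm, pow_succ, pow_mul, pow_two, hvv, one_pow, one_mul]
    rw [hdu, hcde.mul_pow, pow_orderOf_eq_one, one_mul, h1]

/-- B2: the pairs are the members with product with `u` of order twice an odd number -/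
theorem card_oddTwice (hnD : ¬ IsConj z u) :
    Nat.card (Σ e : membersAt z u a, oddPartners z u (e : G) a) = Nat.card (oddTwice z u a) := by
  have hne : ∀ e : membersAt z u a, u ≠ (e : G) := fun e e' => hnD (e' ▸ e.2.1)
  have himg : ∀ p : (Σ e : membersAt z u a, oddPartners z u (e : G) a), (p.2 : G) ∈ oddTwice z u a :=
    fun p => ⟨⟨p.2.2.1.1, Commute.one_left _, p.2.2.1.2.2⟩, orderOf ((p.2 : G) * p.1), p.2.2.2,
      (odd_pair_spec h hu hua p.1.2 p.2.2 (hne p.1)).1⟩
  refine Nat.card_eq_of_bijective (fun p => ⟨_, himg p⟩) ⟨?_, ?_⟩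
  · rintro ⟨e, d⟩ ⟨e', d'⟩ heq
    have hdd : (d : G) = d' := congrArg Subtype.val heq
    obtain ⟨h1, h2⟩ := odd_pair_spec h hu hua e.2 d.2 (hne e)
    obtain ⟨h1', h2'⟩ := odd_pair_spec h hu hua e'.2 d'.2 (hne e')
    rw [hdd] at h1 h2
    have h3 : orderOf ((d' : G) * e) = orderOf ((d' : G) * e') := by omega
    rw [h3, h2'] at h2
    obtain rfl : e = e' := Subtype.ext (mul_left_cancel h2).symm
    obtain rfl : d = d' := Subtype.ext hdd
    rfl
  · rintro ⟨d, ⟨hd, -, hda⟩, m, hm, hord⟩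
    have hd2 := orderOf_conj h hd
    have hev : Even (orderOf (d * u)) := by rw [hord]; exact even_two_mul m
    obtain ⟨hw, hwd, hwu⟩ := central_spec hd2 hu hev
    have hk : orderOf (d * u) / 2 = m := by omega
    rw [hk] at hw hwd hwu
    set w := (d * u) ^ m with hwdef
    -- `e = u w` is a conjugate of `d`
    obtain ⟨i, hi⟩ := hm
    have hud : u = (d * u) ^ (-1 : ℤ) * d := snd_eq' hd2 hu
    have hconj := conj_rot hd2 hu
    have heD : IsConj z (u * w) := by
      refine hd.trans (isConj_iff.2 ⟨(d * u) ^ (i : ℤ), ?_⟩)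
      rw [← hwu.eq, hwdef]
      generalize d * u = r at hud hconj ⊢
      rw [hud, hconj, hi, ← zpow_natCast, ← mul_assoc, ← zpow_add]
      congr 2
      push_cast
      ring
    have hwa : w • a = a :=
      mem_stabilizer_iff.1 (pow_mem (mem_stabilizer_iff.2 (show (d * u) • a = a by rw [mul_smul, hua, hda])) m)
    have huw : u * (u * w) = w := by rw [← mul_assoc, sq_of_order_two hu, one_mul]
    have he : u * w ∈ membersAt z u a :=
      ⟨heD, (Commute.refl u).mul_right hwu.symm, by rw [mul_smul, hwa, hua]⟩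
    have hodd : Odd (orderOf (d * (u * w))) := by
      refine Odd.of_dvd_nat ⟨i, hi⟩ (orderOf_dvd_of_pow_eq_one ?_)
      have hc : Commute (d * u) w := (Commute.refl _).pow_right m
      rw [← mul_assoc, hc.mul_pow, ← hwdef, ← pow_succ', hi,
        show 2 * i + 1 + 1 = 2 * (i + 1) by ring, pow_mul, pow_two, sq_of_order_two hw, one_pow]
    exact ⟨⟨⟨u * w, he⟩, ⟨d, ⟨hd, huw.symm ▸ hwd, hda⟩, hodd⟩⟩, rfl⟩

/-- B2, the number of pairs -/
theorem card_oddTwice_eq_mul (hnD : ¬ IsConj z u) {b : α} (hub : u • b = b) (hab : a ≠ b) {e : G}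
    (he : e ∈ membersAt z u a) :
    Nat.card (membersAt z u a) * Nat.card (oddPartners z u e a) = Nat.card (oddTwice z u a) := by
  classical
  haveI := Fintype.ofFinite G
  rw [← card_oddTwice h hu hua hnD, Nat.card_sigma, Finset.sum_congr rfl (fun (e' : membersAt z u a) _ => ?_),
    Finset.sum_const, Finset.card_univ, smul_eq_mul, Nat.card_eq_fintype_card (α := membersAt z u a)]
  obtain ⟨g, hgu, hge, -⟩ := partner_conj h hu hua hub hab he.1 e'.2.1 he.2.1 e'.2.2.1
  have hga : g • a = a := conj_centre h e'.2.1 hge he.2.2 e'.2.2.2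
  have h1 := card_oddPartners_conj (z := z) g u e a
  rwa [hge, hga, hgu.eq, mul_inv_cancel_right] at h1

/-- B2: `κ o ≤ k` -/
theorem members_bound (hnD : ¬ IsConj z u) {b : α} (hub : u • b = b) (hab : a ≠ b) {e : G}
    (he : e ∈ membersAt z u a) :
    Nat.card (membersAt z u a) * Nat.card (oddPartners z u e a) ≤ Nat.card (membersAt z (1 : G) a) := by
  rw [card_oddTwice_eq_mul h hu hua hnD hub hab he]
  exact Nat.card_mono (Set.toFinite _) fun d hd => hd.1

/-- B2 with the count: `o (n - f) ≤ f ((f_v - 1) κ_v)` -/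
theorem line_bound [Finite α] [FaithfulSMul G α] (hnD : ¬ IsConj z u) {b : α} (hub : u • b = b) (hab : a ≠ b)
    {e : G} (he : e ∈ membersAt z u a) :
    Nat.card (oddPartners z u e a) * (Nat.card α - Nat.card (fixedBy α u)) ≤
      Nat.card (fixedBy α u) * ((Nat.card (fixedBy α (u * e)) - 1) * Nat.card (membersAt z (u * e) a)) := by
  have hpos : 0 < Nat.card (membersAt z u a) := Nat.card_pos_iff.2 ⟨⟨⟨e, he⟩⟩, inferInstance⟩
  refine Nat.le_of_mul_le_mul_left ?_ hpos
  have h1 := Nat.mul_le_mul_right (Nat.card α - Nat.card (fixedBy α u)) (members_bound h hu hua hnD hub hab he)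
  rw [incidence_count h hu hua hub hab he.1 he.2.1 he.2.2] at h1
  calc _ = _ := (mul_assoc _ _ _).symm
    _ ≤ _ := h1
    _ = _ := by ring

/-- B2: equality if all products with `u` at `a` have order twice an odd number -/
theorem line_bound_eq [Finite α] [FaithfulSMul G α] (hnD : ¬ IsConj z u) {b : α} (hub : u • b = b) (hab : a ≠ b)
    {e : G} (he : e ∈ membersAt z u a)
    (hall : ∀ d ∈ membersAt z (1 : G) a, ∃ m, Odd m ∧ orderOf (d * u) = 2 * m) :
    Nat.card (oddPartners z u e a) * (Nat.card α - Nat.card (fixedBy α u)) =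
      Nat.card (fixedBy α u) * ((Nat.card (fixedBy α (u * e)) - 1) * Nat.card (membersAt z (u * e) a)) := by
  have hpos : 0 < Nat.card (membersAt z u a) := Nat.card_pos_iff.2 ⟨⟨⟨e, he⟩⟩, inferInstance⟩
  have hset : oddTwice z u a = membersAt z (1 : G) a := Set.ext fun d => ⟨fun hd => hd.1, fun hd => ⟨hd, hall d hd⟩⟩
  have h2 := incidence_count h hu hua hub hab he.1 he.2.1 he.2.2
  rw [← hset, ← card_oddTwice_eq_mul h hu hua hnD hub hab he] at h2
  refine Nat.eq_of_mul_eq_mul_left hpos ?_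
  rw [← mul_assoc, h2]
  ring

/-- B2: a product of order divisible by four gives a conjugate `u w` of `u` with `w` central in `⟨d, u⟩` -/
theorem fusion_of_four_dvd {d : G} (hd : d ∈ membersAt z (1 : G) a) (h4 : 4 ∣ orderOf (d * u)) :
    ∃ w, orderOf w = 2 ∧ Commute w u ∧ Commute w d ∧ w • a = a ∧ IsConj u (u * w) := by
  have hd2 := orderOf_conj h hd.1
  have hev : Even (orderOf (d * u)) := even_iff_two_dvd.2 (Nat.dvd_trans (by norm_num) h4)
  obtain ⟨hw, hwd, hwu⟩ := central_spec hd2 hu hev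
  refine ⟨_, hw, hwu, hwd, mem_stabilizer_iff.1 (pow_mem (mem_stabilizer_iff.2
    (show (d * u) • a = a by rw [mul_smul, hua, hd.2.2])) _), ?_⟩
  obtain ⟨j, hj⟩ := h4
  obtain ⟨hud, hconj⟩ := And.intro (snd_eq' hd2 hu) (conj_rot hd2 hu)
  have hk : orderOf (d * u) / 2 = 2 * j := by omega
  rw [hk] at hwu
  rw [hk, ← hwu.eq]
  refine isConj_iff.2 ⟨(d * u) ^ (j : ℤ), ?_⟩
  generalize d * u = r at hud hconj ⊢
  rw [hud, show r ^ (j : ℤ) * (r ^ (-1 : ℤ) * d) * (r ^ (j : ℤ))⁻¹ =
    r ^ (-1 : ℤ) * (r ^ (j : ℤ) * d * (r ^ (j : ℤ))⁻¹) by group, hconj, ← zpow_natCast, ← mul_assoc,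
    ← mul_assoc, ← zpow_add, ← zpow_add]
  congr 2

/-- B3: the lines of `u e`, `e ∈ A`, meet only at `a` -/
theorem lower_bound [Finite α] {b : α} (hub : u • b = b) (hab : a ≠ b) {A : Subgroup G}
    (hA : ∀ e ∈ A, e ≠ 1 → e ∈ membersAt z u a) {e₀ : G} (he₀ : e₀ ∈ A) (he₀1 : e₀ ≠ 1) :
    (Nat.card (fixedBy α u) - 1) + (Nat.card A - 1) * (Nat.card (fixedBy α (u * e₀)) - 1) ≤ Nat.card α - 1 := by
  classical
  haveI := Fintype.ofFinite α
  haveI := Fintype.ofFinite G
  have hfa : ∀ e ∈ A, (u * e) • a = a := fun e he => by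
    by_cases he1 : e = 1
    · rw [he1, mul_one, hua]
    · rw [mul_smul, (hA e he he1).2.2, hua]
  let Z := Σ e : A, {x : α // (u * (e : G)) • x = x ∧ x ≠ a}
  have hinj : Function.Injective (fun p : Z => (⟨(p.2 : α), p.2.2.2⟩ : {x : α // x ≠ a})) := by
    rintro ⟨e, x, hx, hxa⟩ ⟨e', x', hx', hxa'⟩ heq
    obtain rfl : x = x' := congrArg Subtype.val heq
    suffices hee : e = e' by subst hee; rfl
    by_contra hne
    have h1 : ((e : G)⁻¹ * (e' : G)) • x = x := by
      rw [mul_smul, inv_smul_eq_iff]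
      rw [mul_smul] at hx hx'
      exact smul_left_cancel u (hx'.trans hx.symm)
    have hmem : (e : G)⁻¹ * (e' : G) ∈ A := mul_mem (inv_mem e.2) e'.2
    have hne' : (e : G)⁻¹ * (e' : G) ≠ 1 := fun q => hne (Subtype.ext (inv_mul_eq_one.1 q))
    obtain ⟨hD, -, hDa⟩ := hA _ hmem hne'
    exact hxa (centre_unique h hD h1 hDa)
  have hc := Nat.card_le_card_of_injective _ hinj
  have hsub : ∀ P : α → Prop, P a → Nat.card {x : α // P x ∧ x ≠ a} = Nat.card {x : α // P x} - 1 := by
    intro P ha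
    show Nat.card ({x | P x ∧ x ≠ a} : Set α) = Nat.card ({x | P x} : Set α) - 1
    rw [Nat.card_coe_set_eq, Nat.card_coe_set_eq,
      ← Set.ncard_sdiff_singleton_of_mem (s := {x | P x}) ha]
    congr 1
  have hright : Nat.card {x : α // x ≠ a} = Nat.card α - 1 := by
    rw [Nat.card_eq_fintype_card, Fintype.card_subtype_compl, Fintype.card_subtype_eq, Nat.card_eq_fintype_card]
  rw [hright, Nat.card_sigma, ← Finset.add_sum_erase _ _ (Finset.mem_univ (1 : A))] at hc
  refine le_of_eq_of_le ?_ hc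
  have hfix : ∀ e : A, Nat.card {x : α // (u * (e : G)) • x = x ∧ x ≠ a} =
      Nat.card (fixedBy α (u * (e : G))) - 1 := fun e => hsub _ (hfa e e.2)
  refine congr_arg₂ (· + ·) ?_ ?_
  · rw [hfix, OneMemClass.coe_one, mul_one]
  · rw [Finset.sum_congr rfl (fun (e : A) he => ?_), Finset.sum_const, Finset.card_erase_of_mem (Finset.mem_univ _),
      Finset.card_univ, smul_eq_mul, Nat.card_eq_fintype_card (α := A)]
    have he1 : (e : G) ≠ 1 := fun q => (Finset.mem_erase.1 he).1 (Subtype.ext q)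
    obtain ⟨hD, hc1, -⟩ := hA _ e.2 he1
    obtain ⟨hD0, hc0, -⟩ := hA _ he₀ he₀1
    obtain ⟨g, -, -, hg⟩ := partner_conj h hu hua hub hab hD0 hD hc0 hc1
    rw [hfix, ← hg, card_fixedBy_conj]

end Cfsg.Lib.BenderSE.Crit2
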