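/-
Aschbacher's criterion, the bound of a line (notes/s1175_h6_bound.md B2, B3): the fibres of the action of the
members on the line of `v = u e`, the bound `n - f ≤ f (f_v - 1) c`, the cover by the lines of `u e`, and the
orbit bound of a 2-group fixing a point.
-/
import Cfsg.Agent.BenderSE.Criterion2.Members

set_option autoImplicit false
set_option linter.unusedSectionVars false
set_option linter.style.haveILetI false

namespace Cfsg.Lib.BenderSE.Crit2

open Subgroup MulAction Cfsg.Lib.InvolCalc Cfsg.Lib.StrongEmb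

variable {G α : Type*} [Group G] [MulAction G α] {z : G}

/-- the action of `d` on the fixed points of `v` -/
def actOn (α : Type*) [MulAction G α] (v d : G) : fixedBy α v → α := fun x => d • (x : α)

/-- the number of actions of the members at `a` on the fixed points of `v` -/
noncomputable def numActions (α : Type*) [MulAction G α] (z v : G) (a : α) : ℕ :=
  Nat.card (actOn α v '' membersAt z v a)

/-- the lines of `u e` and `u e'` meet only at the point of a member `e⁻¹ e'` -/
theorem eq_of_fix_two (h : Crit G α z) {u e e' : G} {a x : α} (hD : IsConj z (e⁻¹ * e'))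
    (hDa : (e⁻¹ * e') • a = a) (hx : (u * e) • x = x) (hx' : (u * e') • x = x) : x = a := by
  refine centre_unique h hD ?_ hDa
  rw [mul_smul, inv_smul_eq_iff]
  rw [mul_smul] at hx hx'
  exact smul_left_cancel u (hx'.trans hx.symm)

variable (h : Crit G α z) [Finite G]
include h

/-- members acting alike on two fixed points of `v` have a product of odd order -/
theorem odd_of_same_action {v d e : G} {a b : α} (hab : a ≠ b) (hva : v • a = a) (hvb : v • b = b)
    (hd : IsConj z d) (he : IsConj z e) (hact : ∀ x : α, v • x = x → d • x = e • x) :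
    Odd (orderOf (d * e)) := by
  rw [← Nat.not_even_iff_odd]
  intro hev
  have hd2 := orderOf_conj h hd
  have he2 := orderOf_conj h he
  obtain ⟨hw, hwd, hwe⟩ := central_spec hd2 he2 hev
  have hfix : ∀ x : α, v • x = x → ((d * e) ^ (orderOf (d * e) / 2)) • x = x := fun x hx =>
    mem_stabilizer_iff.1 (pow_mem (mem_stabilizer_iff.2 (show (d * e) • x = x by
      rw [mul_smul, ← hact x hx, smul_smul_self h hd])) _)
  have hwD := isConj_rot h hd he ((orderOf (d * e) / 2 : ℕ) : ℤ)
  rw [zpow_natCast] at hwD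
  set w := (d * e) ^ (orderOf (d * e) / 2)
  refine hab (h.comm (w * d) d hwD hd (hwd.mul_left (Commute.refl d))
    (fun e' => ne_one_of_order_two hw (mul_eq_right.1 e')) a b ?_ ?_)
  all_goals rw [mul_assoc, sq_of_order_two hd2, mul_one]
  · exact hfix a hva
  · exact hfix b hvb

/-- conversely, when the members at `a` commute on the line of `v` -/
theorem same_action_of_odd {v d e : G} {a : α} (hd : d ∈ membersAt z v a) (he : e ∈ membersAt z v a)
    (hcomm : ∀ d₁ ∈ membersAt z v a, ∀ d₂ ∈ membersAt z v a, ∀ x : α, v • x = x → d₁ • d₂ • x = d₂ • d₁ • x)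
    (hodd : Odd (orderOf (d * e))) : ∀ x : α, v • x = x → d • x = e • x := by
  intro x hx
  have hd2 := sq_of_order_two (orderOf_conj h hd.1)
  have he2 := sq_of_order_two (orderOf_conj h he.1)
  have hex : v • e • x = e • x := by rw [smul_smul, he.2.1.eq, mul_smul, hx]
  have h2 : ((d * e) ^ 2) • x = x := by
    rw [pow_two, mul_smul, mul_smul, mul_smul, hcomm e he d hd (e • x) hex, smul_smul e e x, he2, one_smul,
      smul_smul, hd2, one_smul]
  obtain ⟨i, hi⟩ := hodd
  have h3 : (d * e) • x = x := by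
    have h4 : ((d * e) ^ orderOf (d * e)) • x = x := by rw [pow_orderOf_eq_one, one_smul]
    rwa [hi, pow_succ', pow_mul, mul_smul,
      mem_stabilizer_iff.1 (pow_mem (mem_stabilizer_iff.2 h2) i)] at h4
  rw [mul_smul] at h3
  conv_lhs => rw [← h3, smul_smul_self h hd.1]

variable {u : G} (hu : orderOf u = 2) {a : α} (hua : u • a = a)
include hu hua

/-- B2 (ii): the odd partners of `e` are the members acting like `e` on the line of `u e` -/
theorem oddPartners_eq {e : G} (he : e ∈ membersAt z u a) {c : α} (hac : a ≠ c) (hc : (u * e) • c = c)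
    (hcomm : ∀ d₁ ∈ membersAt z (u * e) a, ∀ d₂ ∈ membersAt z (u * e) a, ∀ x : α, (u * e) • x = x →
      d₁ • d₂ • x = d₂ • d₁ • x) :
    oddPartners z u e a = {d | d ∈ membersAt z (u * e) a ∧ actOn α (u * e) d = actOn α (u * e) e} := by
  have hva : (u * e) • a = a := by rw [mul_smul, he.2.2, hua]
  have hev : e ∈ membersAt z (u * e) a := ⟨he.1, he.2.1.mul_left (Commute.refl e), he.2.2⟩
  ext d
  refine and_congr_right fun hd => ⟨fun hodd => funext fun x => ?_, fun hact => ?_⟩
  · exact same_action_of_odd h hd hev hcomm hodd x x.2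
  · exact odd_of_same_action h hac hva hc hd.1 he.1 fun x hx => congrFun hact ⟨x, hx⟩

omit h hu hua in
/-- the fibres of the actions have one size if the stabiliser of `a` in `C(v)` is transitive on the actions -/
theorem card_fibre_eq {v e e' g : G} (he : e ∈ membersAt z v a) (hgv : Commute g v) (hga : g • a = a)
    (hge : actOn α v (g * e * g⁻¹) = actOn α v e') :
    Nat.card {d | d ∈ membersAt z v a ∧ actOn α v d = actOn α v e'} =
      Nat.card {d | d ∈ membersAt z v a ∧ actOn α v d = actOn α v e} := by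
  refine (Nat.card_congr (Equiv.subtypeEquiv (MulAut.conj g).toEquiv fun d => ?_)).symm
  show d ∈ membersAt z v a ∧ actOn α v d = actOn α v e ↔
    g * d * g⁻¹ ∈ membersAt z v a ∧ actOn α v (g * d * g⁻¹) = actOn α v e'
  have hgi : g⁻¹ • a = a := inv_smul_eq_iff.2 hga.symm
  rw [← hge]
  refine and_congr ⟨fun hd => ⟨hd.1.trans (isConj_iff.2 ⟨g, rfl⟩),
      (hgv.symm.mul_right hd.2.1).mul_right hgv.symm.inv_right, by rw [mul_smul, mul_smul, hgi, hd.2.2, hga]⟩,
    fun hd => ?_⟩ ⟨fun hact => funext fun x => ?_, fun hact => funext fun x => ?_⟩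
  · have h1 := (hgv.symm.inv_right.mul_right hd.2.1).mul_right hgv.symm
    rw [show g⁻¹ * (g * d * g⁻¹) * g = d by group] at h1
    refine ⟨hd.1.trans (isConj_iff.2 ⟨g⁻¹, by group⟩), h1, ?_⟩
    rw [show d = g⁻¹ * (g * d * g⁻¹) * g by group, mul_smul, mul_smul, hga, hd.2.2, hgi]
  · have hx : v • g⁻¹ • (x : α) = g⁻¹ • (x : α) := by
      rw [smul_smul, hgv.symm.inv_right.eq, mul_smul, x.2]
    show (g * d * g⁻¹) • (x : α) = (g * e * g⁻¹) • (x : α)
    rw [mul_smul, mul_smul, mul_smul, mul_smul]
    exact congrArg (g • ·) (congrFun hact ⟨_, hx⟩)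
  · have hx : v • g • (x : α) = g • (x : α) := by rw [smul_smul, ← hgv.eq, mul_smul, x.2]
    have h1 : (g * d * g⁻¹) • g • (x : α) = (g * e * g⁻¹) • g • (x : α) := congrFun hact ⟨_, hx⟩
    rw [mul_smul, mul_smul, mul_smul, mul_smul, inv_smul_smul, smul_left_cancel_iff] at h1
    exact h1

/-- B2 (ii): `κ_v = c o` when the fibres have one size -/
theorem card_membersAt_eq_numActions {e : G} (he : e ∈ membersAt z u a) {c : α} (hac : a ≠ c)
    (hc : (u * e) • c = c)
    (hcomm : ∀ d₁ ∈ membersAt z (u * e) a, ∀ d₂ ∈ membersAt z (u * e) a, ∀ x : α, (u * e) • x = x →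
      d₁ • d₂ • x = d₂ • d₁ • x)
    (heq : ∀ e' ∈ membersAt z (u * e) a,
      Nat.card {d | d ∈ membersAt z (u * e) a ∧ actOn α (u * e) d = actOn α (u * e) e'} =
        Nat.card {d | d ∈ membersAt z (u * e) a ∧ actOn α (u * e) d = actOn α (u * e) e}) :
    Nat.card (membersAt z (u * e) a) = numActions α z (u * e) a * Nat.card (oddPartners z u e a) := by
  classical
  rw [oddPartners_eq h hu hua he hac hc hcomm]
  set v := u * e
  set S := (Set.toFinite (membersAt z v a)).toFinset with hS
  set o := Nat.card {d | d ∈ membersAt z v a ∧ actOn α v d = actOn α v e}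
  have hI : numActions α z v a = (S.image (actOn α v)).card := by
    rw [numActions, Nat.card_coe_set_eq, ← Set.ncard_coe_finset, Finset.coe_image, hS, Set.Finite.coe_toFinset]
  rw [Nat.card_coe_set_eq, Set.ncard_eq_toFinset_card _ (Set.toFinite _), ← hS, hI]
  refine (Finset.card_eq_sum_card_image (actOn α v) S).trans ?_
  refine (Finset.sum_congr rfl fun f hf => ?_).trans (by rw [Finset.sum_const, smul_eq_mul])
  obtain ⟨e', he', rfl⟩ := Finset.mem_image.1 hf
  rw [hS, Set.Finite.mem_toFinset] at he'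
  refine Eq.trans ?_ (heq e' he')
  rw [Nat.card_coe_set_eq, ← Set.ncard_coe_finset]
  congr 1
  ext d
  simp [hS]

/-- B2 (iii): `n - f ≤ f (f_v - 1) c` -/
theorem points_bound [Finite α] [FaithfulSMul G α] (hnD : ¬ IsConj z u) {b : α} (hub : u • b = b) (hab : a ≠ b)
    {e : G} (he : e ∈ membersAt z u a) {c : ℕ}
    (hc : Nat.card (membersAt z (u * e) a) = c * Nat.card (oddPartners z u e a)) :
    Nat.card α - Nat.card (fixedBy α u) ≤
      Nat.card (fixedBy α u) * ((Nat.card (fixedBy α (u * e)) - 1) * c) := by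
  have hmem : e ∈ oddPartners z u e a := ⟨⟨he.1, he.2.1.mul_left (Commute.refl e), he.2.2⟩, by
    rw [sq_of_order_two (orderOf_conj h he.1), orderOf_one]; exact odd_one⟩
  have hpos : 0 < Nat.card (oddPartners z u e a) := Nat.card_pos_iff.2 ⟨⟨⟨e, hmem⟩⟩, inferInstance⟩
  refine Nat.le_of_mul_le_mul_left ?_ hpos
  refine (line_bound h hu hua hnD hub hab he).trans (le_of_eq ?_)
  rw [hc]
  ring

/-- B2 (iii): equality if all products with `u` at `a` have order twice an odd number -/
theorem points_bound_eq [Finite α] [FaithfulSMul G α] (hnD : ¬ IsConj z u) {b : α} (hub : u • b = b)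
    (hab : a ≠ b) {e : G} (he : e ∈ membersAt z u a) {c : ℕ}
    (hc : Nat.card (membersAt z (u * e) a) = c * Nat.card (oddPartners z u e a))
    (hall : ∀ d ∈ membersAt z (1 : G) a, ∃ m, Odd m ∧ orderOf (d * u) = 2 * m) :
    Nat.card α - Nat.card (fixedBy α u) =
      Nat.card (fixedBy α u) * ((Nat.card (fixedBy α (u * e)) - 1) * c) := by
  have hmem : e ∈ oddPartners z u e a := ⟨⟨he.1, he.2.1.mul_left (Commute.refl e), he.2.2⟩, by
    rw [sq_of_order_two (orderOf_conj h he.1), orderOf_one]; exact odd_one⟩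
  have hpos : 0 < Nat.card (oddPartners z u e a) := Nat.card_pos_iff.2 ⟨⟨⟨e, hmem⟩⟩, inferInstance⟩
  refine Nat.eq_of_mul_eq_mul_left hpos ((line_bound_eq h hu hua hnD hub hab he hall).trans ?_)
  rw [hc]
  ring

/-- B3: one fused partner fuses all of them -/
theorem fused_all {b : α} (hub : u • b = b) (hab : a ≠ b) {e e' : G} (he : e ∈ membersAt z u a)
    (he' : IsConj z e') (hue' : Commute u e') (hfus : IsConj u (u * e)) : IsConj u (u * e') := by
  obtain ⟨g, -, -, hg⟩ := partner_conj h hu hua hub hab he.1 he' he.2.1 hue'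
  exact hfus.trans (isConj_iff.2 ⟨g, hg⟩)

/-- B3 with fusion: `q (f - 1) ≤ n - 1` -/
theorem lower_bound_fused [Finite α] {b : α} (hub : u • b = b) (hab : a ≠ b) {A : Subgroup G}
    (hA : ∀ e ∈ A, e ≠ 1 → e ∈ membersAt z u a) {e₀ : G} (he₀ : e₀ ∈ A) (he₀1 : e₀ ≠ 1)
    (hfus : IsConj u (u * e₀)) :
    Nat.card A * (Nat.card (fixedBy α u) - 1) ≤ Nat.card α - 1 := by
  refine le_of_eq_of_le ?_ (lower_bound h hu hua hub hab hA he₀ he₀1)
  obtain ⟨g, hg⟩ := isConj_iff.1 hfus
  rw [← hg, card_fixedBy_conj]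
  have hpos : 0 < Nat.card A := Nat.card_pos
  obtain ⟨m, hm⟩ : ∃ m, Nat.card A = m + 1 := ⟨Nat.card A - 1, by omega⟩
  rw [hm, Nat.add_sub_cancel]
  ring

omit hua in
/-- B3: the lines of the products with the members centralising `u` cover the points off the line of `u` -/
theorem cover {x : α} (hx : u • x ≠ x) :
    ∃ e, IsConj z e ∧ Commute u e ∧ (u * e) • x = x ∧ ∃ c : α, u • c = c ∧ e • c = c := by
  obtain ⟨d, hd, hdx, -⟩ := h.central x ⊥ IsPGroup.of_bot fun g hg => by rw [mem_bot.1 hg, one_smul]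
  obtain ⟨v, hv, huv, hvx, -⟩ := exists_swap_commute h hu hd hdx hx
  obtain ⟨c, hc, -⟩ := h.uniq v hv
  exact ⟨v, hv, huv, (mul_fix_of_swap h hu huv hvx).1, c, smul_centre h hv huv hc, hc⟩

omit h hu hua

/-- the orbit bound: a group fixing `a` in which the stabiliser of `b` lies in `U` -/
theorem card_le_mul_points [Finite α] {S U : Subgroup G} {a b : α} (hSa : ∀ s ∈ S, s • a = a) (hab : b ≠ a)
    (hSb : ∀ s ∈ S, s • b = b → s ∈ U) : Nat.card S ≤ Nat.card U * (Nat.card α - 1) := by
  classical
  haveI := Fintype.ofFinite α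
  have h1 : Nat.card S = Nat.card (stabilizer S b) * Nat.card (orbit S b) := by
    rw [← (stabilizer S b).card_mul_index, index_stabilizer, Nat.card_coe_set_eq]
  have h2 : Nat.card (stabilizer S b) ≤ Nat.card U :=
    Nat.card_le_card_of_injective (fun s => (⟨((s : S) : G), hSb _ (s : S).2 (mem_stabilizer_iff.1 s.2)⟩ : U))
      fun s t e => Subtype.ext (Subtype.ext (congrArg (fun w : U => (w : G)) e))
  have h3 : Nat.card (orbit S b) ≤ Nat.card α - 1 := by
    rw [Nat.card_coe_set_eq]
    have hle : (orbit S b) ⊆ {a}ᶜ := by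
      rintro _ ⟨s, rfl⟩ (e : (s : G) • b = a)
      refine hab ?_
      rw [← hSa s s.2] at e
      exact smul_left_cancel _ e
    refine (Set.ncard_le_ncard hle (Set.toFinite _)).trans (le_of_eq ?_)
    rw [Set.ncard_compl, Set.ncard_singleton]
  rw [h1]
  exact Nat.mul_le_mul h2 h3

end Cfsg.Lib.BenderSE.Crit2
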