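/-
Aschbacher's criterion, local tools for LINE (notes/s1175_h5_line.md): subgroups with two commuting members and
two centres, the Q-lemma for the odd cores of pairs, the generation lemma, and the members at one centre.
-/
import Cfsg.Agent.BenderSE.Criterion2.Classes
import Cfsg.Agent.BenderSE.Criterion2.PairCore
import Cfsg.Agent.BenderSE.Pi
import Cfsg.Agent.BenderSE.Inverted

set_option autoImplicit false
set_option linter.unusedSectionVars false
set_option linter.style.haveILetI false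

namespace Cfsg.Lib.BenderSE.Crit2

open Subgroup MulAction Cfsg.Lib.InvolCalc Cfsg.Lib.StrongEmb Cfsg.Lib.BenderSE
open scoped commutatorElement

variable {G α : Type*} [Group G] [MulAction G α] {z : G}

/-- the points fixed by a member in `N` -/
def memberCentres (α : Type*) [MulAction G α] (z : G) (N : Subgroup G) : Set α :=
  {x | ∃ d ∈ N, IsConj z d ∧ d • x = x}

/-- a proper subgroup with two commuting members and two centres -/
structure Wide (α : Type*) [MulAction G α] (z : G) (N : Subgroup G) : Prop where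
  ne_top : N ≠ ⊤
  pair : ∃ a ∈ N, ∃ b ∈ N, IsConj z a ∧ IsConj z b ∧ Commute a b ∧ a ≠ b
  moves : ∀ x : α, ∃ e ∈ N, IsConj z e ∧ e • x ≠ x

/-- What LINE uses about the proper subgroups with two commuting members and two centres: the odd core fixes
every centre, and members with the same centre commute modulo it. -/
structure LineFacts (α : Type*) [MulAction G α] (z : G) : Prop where
  core_fix : ∀ N : Subgroup G, Wide α z N → ∀ x ∈ memberCentres α z N, ∀ g ∈ oddCoreOf N, g • x = x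
  sq_mem : ∀ N : Subgroup G, Wide α z N → ∀ d ∈ N, ∀ d' ∈ N, IsConj z d → IsConj z d' → ∀ x : α,
    d • x = x → d' • x = x → d * d' * (d * d') ∈ oddCoreOf N

/-- a proper subgroup containing all members at two points -/
def HasLine (α : Type*) [MulAction G α] (z : G) : Prop :=
  ∃ J : Subgroup G, J ≠ ⊤ ∧ ∃ a b : α, a ≠ b ∧ ∀ d : G, IsConj z d → (d • a = a ∨ d • b = b) → d ∈ J

/-- `O_{r'}` of the odd core of a pair -/
noncomputable def pairCoreR (G : Type*) [Group G] {α : Type*} [MulAction G α] (r : ℕ) (x y : α) : Subgroup G :=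
  (Cfsg.pPrimeCore r (pairOdd G x y)).map (pairOdd G x y).subtype

/-- the members at `x` in `K` together with the odd core of `K` -/
noncomputable def membersCore (z : G) (K : Subgroup G) (x : α) : Subgroup G :=
  closure ({d | d ∈ K ∧ IsConj z d ∧ d • x = x} ∪ (oddCoreOf K : Set G))

theorem pairGroup_comm (x y : α) : pairGroup G x y = pairGroup G y x := by
  ext g
  rw [mem_pairGroup, mem_pairGroup, and_comm (a := g • x = x), and_comm (a := g • x = y)]

theorem pairOdd_comm (x y : α) : pairOdd G x y = pairOdd G y x := by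
  unfold pairOdd
  rw [pairGroup_comm]

variable [Finite G]

theorem coprime_pairCoreR (r : ℕ) (x y : α) : (Nat.card (pairCoreR G r x y)).Coprime r := by
  rw [pairCoreR, card_map_of_injective (subtype_injective _)]
  exact Cfsg.Lib.Components.coprime_card_pPrimeCore r

theorem pairCoreR_le (r : ℕ) (x y : α) : pairCoreR G r x y ≤ pairOdd G x y := map_subtype_le _

theorem pairGroup_le_normalizer_coreR (r : ℕ) (x y : α) :
    pairGroup G x y ≤ normalizer ((pairCoreR G r x y : Subgroup G) : Set G) := by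
  haveI : (Cfsg.pPrimeCore r (pairOdd G x y)).Characteristic :=
    Cfsg.Lib.Components.pPrimeCore_characteristic
  exact (pairGroup_le_normalizer x y).trans (Cfsg.Lib.HalfFixed.normalizer_le_map_of_characteristic _ _)

theorem le_pairCoreR {r : ℕ} {x y : α} {Y : Subgroup G} (hY : Y ≤ pairOdd G x y)
    (hn : pairOdd G x y ≤ normalizer (Y : Set G)) (hc : (Nat.card Y).Coprime r) : Y ≤ pairCoreR G r x y := by
  haveI : (Y.subgroupOf (pairOdd G x y)).Normal := (normal_subgroupOf_iff_le_normalizer hY).2 hn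
  intro g hg
  exact ⟨⟨g, hY hg⟩, Cfsg.Lib.Components.le_pPrimeCore (N := Y.subgroupOf (pairOdd G x y))
    (by rwa [Nat.card_congr (subgroupOfEquivOfLe hY).toEquiv]) hg, rfl⟩

/-- an odd subgroup normalised by the stabiliser of a pair is in its odd core -/
theorem le_pairOdd {x y : α} {Y : Subgroup G} (hY : Y ≤ stabilizer G x ⊓ stabilizer G y)
    (hn : stabilizer G x ⊓ stabilizer G y ≤ normalizer (Y : Set G)) (hodd : Odd (Nat.card Y)) :
    Y ≤ pairOdd G x y := by
  refine (le_oddCoreOf hY hn hodd).trans (le_oddCoreOf (K := pairGroup G x y)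
    ((oddCoreOf_le _).trans (stabilizer_inf_le_pairGroup x y)) ?_ (odd_card_oddCoreOf _))
  refine le_trans ?_ (normalizer_le_normalizer_oddCoreOf _)
  intro g hg
  refine Cfsg.Lib.ZStarApps.mem_normalizer_of_maps fun a ha => ?_
  obtain ⟨hax, hay⟩ := mem_inf.1 ha
  rw [mem_stabilizer_iff] at hax hay
  refine mem_inf.2 ?_
  simp only [mem_stabilizer_iff, mul_smul]
  rcases hg with ⟨h1, h2⟩ | ⟨h1, h2⟩
  · exact ⟨by rw [inv_smul_eq_iff.2 h1.symm, hax, h1], by rw [inv_smul_eq_iff.2 h2.symm, hay, h2]⟩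
  · exact ⟨by rw [inv_smul_eq_iff.2 h2.symm, hay, h2], by rw [inv_smul_eq_iff.2 h1.symm, hax, h1]⟩

/-- the join of an odd group with an odd group normalising it is odd -/
theorem odd_card_sup {N H : Subgroup G} (hN : Odd (Nat.card N)) (hH : Odd (Nat.card H))
    (h : H ≤ normalizer (N : Set G)) : Odd (Nat.card ↥(N ⊔ H)) :=
  (hN.mul hH).of_dvd_nat ⟨_, (Cfsg.Lib.Coprime.card_sup_mul_card_inf h).symm⟩

/-- the subgroup at two joined by normalisers -/
theorem mem_normalizer_sup' {N H : Subgroup G} {g : G} (h1 : g ∈ normalizer (N : Set G))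
    (h2 : g ∈ normalizer (H : Set G)) : g ∈ normalizer ((N ⊔ H : Subgroup G) : Set G) := by
  have hN : N.map (MulAut.conj g).toMonoidHom = N := Cfsg.Lib.Coprime.conjMap_eq_self h1
  have hH : H.map (MulAut.conj g).toMonoidHom = H := Cfsg.Lib.Coprime.conjMap_eq_self h2
  refine Cfsg.Lib.ZStarApps.mem_normalizer_of_maps fun a ha => ?_
  rw [← hN, ← hH, ← Subgroup.map_sup]
  exact ⟨a, ha, by simp [MulAut.conj_apply]⟩

/-- an involution not centralising an odd group inverts one of its elements -/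
theorem exists_inverted {R : Subgroup G} {w : G} (hw : w * w = 1) (hwR : w ∈ normalizer (R : Set G))
    (hne : ¬ ∀ x ∈ R, Commute w x) : ∃ y ∈ R, y ≠ 1 ∧ w * y * w⁻¹ = y⁻¹ := by
  push Not at hne
  obtain ⟨x, hx, hxw⟩ := hne
  have hwi : w⁻¹ = w := inv_eq_of_mul_eq_one_right hw
  refine ⟨x⁻¹ * (w * x * w⁻¹), mul_mem (inv_mem hx) ((mem_normalizer_iff.1 hwR x).1 hx), fun e => hxw ?_, ?_⟩
  · have e' : x = w * x * w⁻¹ := inv_mul_eq_one.1 e
    exact (mul_inv_eq_iff_eq_mul.1 e'.symm)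
  · rw [hwi, show w * (x⁻¹ * (w * x * w)) * w = w * x⁻¹ * w * x * (w * w) by group, hw, mul_one, mul_inv_rev,
      inv_inv, mul_inv_rev, mul_inv_rev, hwi]
    group

section Members

variable (h : Crit G α z)
include h

/-- a member times an element it inverts is a member -/
theorem isConj_mul_inverted {d y : G} (hd : IsConj z d) (hy : Odd (orderOf y)) (hinv : d * y * d⁻¹ = y⁻¹) :
    IsConj z (d * y) := by
  obtain ⟨k, hk⟩ := hy
  set s := y ^ (k + 1) with hs
  have hs2 : s * s = y := by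
    rw [hs, ← pow_add, show k + 1 + (k + 1) = orderOf y + 1 by omega, pow_succ, pow_orderOf_eq_one, one_mul]
  have hds : d * s * d⁻¹ = s⁻¹ := by rw [hs, ← conj_pow, hinv, inv_pow]
  refine hd.trans (isConj_iff.2 ⟨s⁻¹, ?_⟩)
  rw [← hs2]
  calc s⁻¹ * d * s⁻¹⁻¹ = (d * s * d⁻¹) * d * s := by rw [hds, inv_inv]
    _ = d * (s * s) := by group

/-- a member in the normaliser and the odd order products with it -/
theorem conj_in_of_centres {N : Subgroup G} {d e : G} (hd : IsConj z d) (he : IsConj z e) (hdN : d ∈ N)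
    (heN : e ∈ N) {x y : α} (hx : d • x = x) (hy : e • y = y) (hxy : x ≠ y) :
    ∃ g ∈ N, g * d * g⁻¹ = e := by
  obtain ⟨g, hg, hge⟩ := conj_of_odd (orderOf_conj h hd) (orderOf_conj h he) (odd_product h hd he hx hy hxy)
  refine ⟨g, (closure_le _).2 ?_ hg, hge⟩
  rintro q (rfl | rfl) <;> assumption

omit [Finite G] in
theorem wide_mk {N : Subgroup G} (hN : N ≠ ⊤) {a b e : G} (haN : a ∈ N) (hbN : b ∈ N) (heN : e ∈ N)
    (ha : IsConj z a) (hb : IsConj z b) (he : IsConj z e) (hab : Commute a b) (hne : a ≠ b) {x y : α}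
    (hax : a • x = x) (hey : e • y = y) (hxy : x ≠ y) : Wide α z N := by
  refine ⟨hN, ⟨a, haN, b, hbN, ha, hb, hab, hne⟩, fun w => ?_⟩
  by_cases hw : a • w = w
  · refine ⟨e, heN, he, fun h' => hxy ?_⟩
    rw [centre_unique h ha hax hw, centre_unique h he hey h']
  · exact ⟨a, haN, ha, hw⟩

variable {N : Subgroup G}

theorem Wide.conj_in (hN : Wide α z N) {d d' : G} (hd : IsConj z d) (hd' : IsConj z d') (hdN : d ∈ N)
    (hd'N : d' ∈ N) : ∃ g ∈ N, g * d * g⁻¹ = d' := by
  obtain ⟨x, hx, -⟩ := h.uniq d hd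
  obtain ⟨y, hy, -⟩ := h.uniq d' hd'
  by_cases hxy : x = y
  · subst hxy
    obtain ⟨e, heN, he, hex⟩ := hN.moves x
    obtain ⟨w, hw, -⟩ := h.uniq e he
    have hxw : x ≠ w := fun e' => hex (e' ▸ hw)
    obtain ⟨g, hg, hge⟩ := conj_in_of_centres h hd he hdN heN hx hw hxw
    obtain ⟨g', hg', hge'⟩ := conj_in_of_centres h he hd' heN hd'N hw hy hxw.symm
    exact ⟨g' * g, mul_mem hg' hg, by rw [← hge', ← hge]; group⟩
  · exact conj_in_of_centres h hd hd' hdN hd'N hx hy hxy

theorem Wide.partner (hN : Wide α z N) {d : G} (hd : IsConj z d) (hdN : d ∈ N) :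
    ∃ d' ∈ N, IsConj z d' ∧ Commute d d' ∧ d ≠ d' := by
  obtain ⟨a, haN, b, hbN, ha, hb, hab, hne⟩ := hN.pair
  obtain ⟨g, hg, rfl⟩ := Wide.conj_in h hN ha hd haN hdN
  exact ⟨g * b * g⁻¹, mul_mem (mul_mem hg hbN) (inv_mem hg), hb.trans (isConj_iff.2 ⟨g, rfl⟩),
    by simpa using hab.map (MulAut.conj g).toMonoidHom, fun e => hne (by simpa using e)⟩

/-- two centres of `N` are exchanged by a member in `N` -/
theorem exists_swap_in {d e : G} (hd : IsConj z d) (he : IsConj z e) (hdN : d ∈ N) (heN : e ∈ N)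
    {x y : α} (hx : d • x = x) (hy : e • y = y) (hxy : x ≠ y) :
    ∃ v ∈ N, IsConj z v ∧ v • x = y ∧ v • y = x := by
  have hd2 := orderOf_conj h hd
  obtain ⟨g, hg, hge⟩ := conj_of_odd hd2 (orderOf_conj h he) (odd_product h hd he hx hy hxy)
  obtain ⟨k, hk⟩ := odd_product h hd he hx hy hxy
  obtain ⟨v, hv, hvx, hvy⟩ : ∃ v : G, v = (d * e) ^ (k : ℤ) * d ∧ v * d * v = e ∧ v * v = 1 := by
    refine ⟨_, rfl, ?_, sq_of_order_two (orderOf_conj h (isConj_rot h hd he k))⟩
    have hrot : (d * e) ^ (k : ℤ) * d * d * ((d * e) ^ (k : ℤ) * d) = (d * e) ^ (k : ℤ) * (d * e) ^ (k : ℤ) * d := by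
      rw [mul_assoc ((d * e) ^ (k : ℤ)) d d, sq_of_order_two hd2]; group
    rw [hrot, ← zpow_add, show (k : ℤ) + k = -1 + ((orderOf (d * e) : ℕ) : ℤ) by rw [hk]; push_cast; ring,
      zpow_add, zpow_natCast, pow_orderOf_eq_one, mul_one, ← snd_eq' hd2 (orderOf_conj h he)]
  have hvD : IsConj z v := hv ▸ isConj_rot h hd he k
  have h1 : v • x = y := by
    refine centre_unique h he (x := v • x) ?_ hy
    rw [smul_smul, ← hvx, show v * d * v * v = v * d * (v * v) by group, hvy, mul_one, mul_smul, hx]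
  refine ⟨v, hv ▸ mul_mem (zpow_mem (mul_mem hdN heN) _) hdN, hvD, h1, ?_⟩
  rw [← h1, smul_smul, hvy, one_smul]

omit [Finite G] in
theorem centres_smul {x : α} (hx : x ∈ memberCentres α z N) {g : G} (hg : g ∈ N) :
    g • x ∈ memberCentres α z N := by
  obtain ⟨d, hdN, hd, hdx⟩ := hx
  exact ⟨g * d * g⁻¹, mul_mem (mul_mem hg hdN) (inv_mem hg), hd.trans (isConj_iff.2 ⟨g, rfl⟩),
    by rw [mul_smul, mul_smul, inv_smul_smul, hdx]⟩

/-- Q-LEMMA: an odd group normalised by the stabiliser of `c, d, t d` is in the odd core of `c, d` -/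
theorem le_pairOdd_of_triple {t : G} (ht : IsConj z t) {c d : α} (htc : t • c = c) (hcd : c ≠ d)
    {Q : Subgroup G} (hQodd : Odd (Nat.card Q))
    (hQ : Q ≤ stabilizer G c ⊓ stabilizer G d ⊓ stabilizer G (t • d))
    (hQn : stabilizer G c ⊓ stabilizer G d ⊓ stabilizer G (t • d) ≤ normalizer (Q : Set G)) :
    Q ≤ pairOdd G c d := by
  set R := pairOdd G c d
  have hQR : Q ≤ normalizer (R : Set G) := (hQ.trans inf_le_left).trans (stabilizer_inf_le_normalizer c d)
  refine le_trans (le_sup_right : Q ≤ R ⊔ Q) (le_pairOdd (sup_le (pairOdd_le c d) (hQ.trans inf_le_left))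
    (fun g hg => ?_) (odd_card_sup (odd_card_pairOdd c d) hQodd hQR))
  obtain ⟨hgc, hgd⟩ := mem_inf.1 hg
  rw [mem_stabilizer_iff] at hgc hgd
  have ht' : IsConj z (g * t * g⁻¹) := ht.trans (isConj_iff.2 ⟨g, rfl⟩)
  obtain ⟨ρ, hρ, hρt⟩ := exists_conj_member h hcd ht ht' htc
    (by rw [mul_smul, mul_smul, inv_smul_eq_iff.2 hgc.symm, htc, hgc])
  obtain ⟨hρc, hρd⟩ := mem_inf.1 (pairOdd_le c d hρ)
  rw [mem_stabilizer_iff] at hρc hρd
  set k := ρ⁻¹ * g with hk
  have hkt : Commute k t := by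
    refine mul_inv_eq_iff_eq_mul.1 ?_
    calc k * t * k⁻¹ = ρ⁻¹ * (g * t * g⁻¹) * ρ := by rw [hk]; group
      _ = t := by rw [← hρt]; group
  have hkc : k • c = c := by rw [hk, mul_smul, hgc, inv_smul_eq_iff, hρc]
  have hkd : k • d = d := by rw [hk, mul_smul, hgd, inv_smul_eq_iff, hρd]
  have hktd : k • t • d = t • d := by rw [smul_smul, hkt.eq, mul_smul, hkd]
  have hkQ : k ∈ normalizer (Q : Set G) :=
    hQn (mem_inf.2 ⟨mem_inf.2 ⟨hkc, hkd⟩, hktd⟩)
  have hkR : k ∈ normalizer (R : Set G) := stabilizer_inf_le_normalizer c d (mem_inf.2 ⟨hkc, hkd⟩)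
  rw [show g = ρ * k by rw [hk]; group]
  exact mul_mem (le_normalizer (G := G) (mem_sup_left hρ)) (mem_normalizer_sup' hkR hkQ)

/-- GENERATION: `X` fixes the centre of the member `t` -/
theorem gen_le_stabilizer {r : ℕ} [Fact r.Prime] {t : G} {c : α} (ht : IsConj z t) (htc : t • c = c)
    {E : Subgroup G} (hEp : IsPGroup r E) (hEodd : Odd (Nat.card E)) (hEc : E ≤ stabilizer G c)
    (hgen : E ≤ closure {y | y ∈ E ∧ t * y * t⁻¹ = y⁻¹}) {X : Subgroup G} (hX : Odd (Nat.card X))
    (hcop : (Nat.card X).Coprime r) (htX : t ∈ normalizer (X : Set G))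
    (hEX : E ≤ normalizer (X : Set G))
    (hC : ∀ x ∈ X, x ∈ centralizer (E : Set G) → x • c = c) : X ≤ stabilizer G c := by
  induction hn : Nat.card X using Nat.strong_induction_on generalizing X with
  | _ n ih =>
  subst hn
  by_cases hXne : X = ⊥
  · exact hXne ▸ bot_le
  have hle : ⁅X, X⁆ ≤ X := commutator_le.2 fun p hp q hq => by
    rw [commutatorElement_def]
    exact mul_mem (mul_mem (mul_mem hp hq) (inv_mem hp)) (inv_mem hq)
  have hlt : Nat.card ↥⁅X, X⁆ < Nat.card X := by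
    haveI := Cfsg.Agent.PF.isSolvable_of_odd X hX
    haveI : Nontrivial X := (nontrivial_iff_ne_bot X).2 hXne
    have hlt := Group.IsSolvable.commutator_lt_top_of_nontrivial X
    by_contra hge
    have heq : ⁅X, X⁆ = X := Cfsg.Lib.Coprime.eq_of_le_of_card_eq hle
      (le_antisymm (card_le_of_le hle) (not_lt.1 hge))
    apply hlt.ne
    apply Subgroup.map_injective X.subtype_injective
    rw [Subgroup.map_subtype_commutator, ← MonoidHom.range_eq_map, range_subtype]
    exact heq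
  have hX' : ⁅X, X⁆ ≤ stabilizer G c := ih _ hlt (hX.of_dvd_nat (card_dvd_of_le hle))
    (hcop.coprime_dvd_left (card_dvd_of_le hle)) (mem_normalizer_commutator htX)
    (fun e he => mem_normalizer_commutator (hEX he)) (fun x hx => hC x (hle hx)) rfl
  set N := X ⊓ stabilizer G c with hN
  have hNX : N ≤ X := inf_le_left
  have hXN : ⁅X, X⁆ ≤ N := le_inf hle hX'
  have hNo : Odd (Nat.card N) := hX.of_dvd_nat (card_dvd_of_le hNX)
  have htN : t ∈ normalizer (N : Set G) := conj_mem_inf htX (le_normalizer (G := G) htc)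
  have hEN : E ≤ normalizer (N : Set G) := fun e he =>
    conj_mem_inf (hEX he) (le_normalizer (G := G) (hEc he))
  have ht2 := sq_of_order_two (orderOf_conj h ht)
  have hgen1 : ∀ y ∈ E, t * y * t⁻¹ = y⁻¹ → ∀ x ∈ X, y * x * y⁻¹ * x⁻¹ ∈ N := by
    intro y hy hinv x hx
    have hr := isConj_mul_inverted h ht (hEodd.of_dvd_nat (Subgroup.orderOf_dvd_natCard E hy)) hinv
    have hrc : (t * y) • c = c := by rw [mul_smul, show y • c = c from hEc hy, htc]
    have hrX : t * y ∈ normalizer (X : Set G) := mul_mem htX (hEX hy)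
    have hrN : t * y ∈ normalizer (N : Set G) := mul_mem htN (hEN hy)
    have hx' : y * x * y⁻¹ ∈ X := (mem_normalizer_iff.1 (hEX hy) x).1 hx
    have e0 := mul_conj_mem hNX hXN hNo ht2 htX htN
      (fun w hw hwt => mem_inf.2 ⟨hw, mem_stabilizer_iff.2 (smul_centre h ht hwt htc)⟩) hx'
    have e1 := mul_conj_mem hNX hXN hNo (sq_of_order_two (orderOf_conj h hr)) hrX hrN
      (fun w hw hwt => mem_inf.2 ⟨hw, mem_stabilizer_iff.2 (smul_centre h hr hwt hrc)⟩) hx
    have h3 := mul_mem e0 (inv_mem e1)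
    have h4 : y * x * y⁻¹ * (t * (y * x * y⁻¹) * t⁻¹) * (x * (t * y * x * (t * y)⁻¹))⁻¹ =
        y * x * y⁻¹ * x⁻¹ := by group
    rwa [h4] at h3
  have hall : ∀ a ∈ E, a ∈ normalizer (N : Set G) ∧ a ∈ normalizer (X : Set G) ∧
      ∀ x ∈ X, a * x * a⁻¹ * x⁻¹ ∈ N := by
    intro a ha
    have ha' := hgen ha
    clear ha
    induction ha' using Subgroup.closure_induction with
    | mem w hw => exact ⟨hEN hw.1, hEX hw.1, hgen1 w hw.1 hw.2⟩
    | one => exact ⟨one_mem _, one_mem _, fun x _ => by simp⟩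
    | mul p q _ _ hp hq =>
      refine ⟨mul_mem hp.1 hq.1, mul_mem hp.2.1 hq.2.1, fun x hx => ?_⟩
      rw [show p * q * x * (p * q)⁻¹ * x⁻¹ =
        p * (q * x * q⁻¹ * x⁻¹) * p⁻¹ * (p * x * p⁻¹ * x⁻¹) by group]
      exact mul_mem ((mem_normalizer_iff.1 hp.1 _).1 (hq.2.2 x hx)) (hp.2.2 x hx)
    | inv p _ hp =>
      refine ⟨inv_mem hp.1, inv_mem hp.2.1, fun x hx => ?_⟩
      have hx' : p⁻¹ * x * p ∈ X := (mem_normalizer_iff''.1 hp.2.1 x).1 hx
      have h' := inv_mem (hp.2.2 _ hx')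
      rwa [show (p * (p⁻¹ * x * p) * p⁻¹ * (p⁻¹ * x * p)⁻¹)⁻¹ = p⁻¹ * x * p⁻¹⁻¹ * x⁻¹ by group]
        at h'
  intro k hk
  have hkN : ∀ a ∈ E, k⁻¹ * a * k * a⁻¹ ∈ N := by
    intro a ha
    have h' := inv_mem ((hall a ha).2.2 k⁻¹ (inv_mem hk))
    rwa [show (a * k⁻¹ * a⁻¹ * k⁻¹⁻¹)⁻¹ = k⁻¹ * a * k * a⁻¹ by group] at h'
  have hcopN : (Nat.card E).Coprime (Nat.card N) := by
    obtain ⟨j, hj⟩ := IsPGroup.iff_card.1 hEp
    rw [hj]
    exact Nat.Coprime.pow_left j (hcop.coprime_dvd_left (card_dvd_of_le hNX)).symm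
  obtain ⟨d, hd, hkd⟩ := Cfsg.Lib.Coprime.exists_fixed_in_coset hEN hcopN
    (Or.inr (Cfsg.Agent.PF.isSolvable_of_odd N hNo)) hkN
  have h1 : (k * d) • c = c := hC _ (mul_mem hk (hNX hd)) hkd
  have h2 : d • c = c := (mem_inf.1 hd).2
  rwa [mul_smul, h2] at h1

/-- the normaliser of an odd group generated by elements inverted by `t` fixes the centre of `t` -/
theorem normalizer_le_centre [FaithfulSMul G α] {E : Subgroup G}
    (hEodd : Odd (Nat.card E)) (hE : E ≠ ⊥) {t t' : G} {c : α} (ht : IsConj z t) (htc : t • c = c)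
    (ht' : IsConj z t') (htt' : Commute t t') (hne : t ≠ t')
    (hgen : E ≤ closure {y | y ∈ E ∧ t * y * t⁻¹ = y⁻¹}) (htE : t ∈ normalizer (E : Set G))
    (ht'E : t' ∈ normalizer (E : Set G)) : normalizer (E : Set G) ≤ stabilizer G c := by
  by_contra hmove
  obtain ⟨g, hg, hgc⟩ := SetLike.not_le_iff_exists.1 hmove
  have ht'c : t' • c = c := by
    obtain ⟨x, hx, -⟩ := h.uniq t' ht'
    rwa [← centre_eq_of_commute h ht ht' htt' htc hx] at hx
  set w := g * t * g⁻¹ with hwdef
  have hwD : IsConj z w := ht.trans (isConj_iff.2 ⟨g, rfl⟩)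
  have hwE : w ∈ normalizer (E : Set G) := mul_mem (mul_mem hg htE) (inv_mem hg)
  have hwg : w • g • c = g • c := by rw [hwdef, mul_smul, mul_smul, inv_smul_smul, htc]
  have hgc' : c ≠ g • c := fun e => hgc e.symm
  have hconj : ∀ u, IsConj z u → u ∈ normalizer (E : Set G) → u • c = c →
      ∃ k ∈ normalizer (E : Set G), k * t * k⁻¹ = u := by
    intro u hu huE huc
    obtain ⟨k, hk, hkw⟩ := conj_in_of_centres h hwD hu hwE huE hwg huc hgc'.symm
    exact ⟨k * g, mul_mem hk hg, by rw [← hkw, hwdef]; group⟩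
  set N := ⁅E, E⁆ with hN
  have hNE : N ≤ E := commutator_le.2 fun p hp q hq => by
    rw [commutatorElement_def]
    exact mul_mem (mul_mem (mul_mem hp hq) (inv_mem hp)) (inv_mem hq)
  have hnorm : ∀ g' ∈ normalizer (E : Set G), g' ∈ normalizer (N : Set G) :=
    fun g' hg' => mem_normalizer_commutator hg'
  have hcom : ∀ p ∈ E, ∀ q ∈ E, p * q * p⁻¹ * q⁻¹ ∈ N := fun p hp q hq => by
    rw [← commutatorElement_def]
    exact commutator_mem_commutator hp hq
  have hNn : ∀ p ∈ E, ∀ n ∈ N, p * n * p⁻¹ ∈ N := fun p hp n hn =>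
    (mem_normalizer_iff.1 (hnorm p (le_normalizer hp)) n).1 hn
  have ht0 : ∀ e ∈ E, t * e * t⁻¹ * e ∈ N := by
    intro e he
    have he' := hgen he
    clear he
    have : e ∈ E ∧ t * e * t⁻¹ * e ∈ N := by
      induction he' using Subgroup.closure_induction with
      | mem w hw => exact ⟨hw.1, by rw [hw.2, inv_mul_cancel]; exact one_mem _⟩
      | one => exact ⟨one_mem _, by simp⟩
      | mul p q _ _ hp hq =>
        refine ⟨mul_mem hp.1 hq.1, ?_⟩
        set n₁ := t * p * t⁻¹ * p with hn₁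
        set n₂ := t * q * t⁻¹ * q with hn₂
        rw [show t * (p * q) * t⁻¹ * (p * q) =
          n₁ * (p⁻¹ * n₂ * p⁻¹⁻¹) * (p⁻¹ * q⁻¹ * p⁻¹⁻¹ * q⁻¹⁻¹) by rw [hn₁, hn₂]; group]
        exact mul_mem (mul_mem hp.2 (hNn _ (inv_mem hp.1) _ hq.2))
          (hcom _ (inv_mem hp.1) _ (inv_mem hq.1))
      | inv p _ hp =>
        refine ⟨inv_mem hp.1, ?_⟩
        have h' := hNn _ hp.1 _ (inv_mem hp.2)
        rw [show p * (t * p * t⁻¹ * p)⁻¹ * p⁻¹ = t * p⁻¹ * t⁻¹ * p⁻¹ by group] at h'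
        exact h'
    exact this.2
  have hall : ∀ u, IsConj z u → u ∈ normalizer (E : Set G) → u • c = c → ∀ e ∈ E, u * e * u⁻¹ * e ∈ N := by
    intro u hu huE huc e he
    obtain ⟨k, hk, rfl⟩ := hconj u hu huE huc
    have h1 := ht0 _ ((mem_normalizer_iff''.1 hk e).1 he)
    have h2 := (mem_normalizer_iff.1 (hnorm k hk) _).1 h1
    rwa [show k * (t * (k⁻¹ * e * k) * t⁻¹ * (k⁻¹ * e * k)) * k⁻¹ =
      k * t * k⁻¹ * e * (k * t * k⁻¹)⁻¹ * e by group] at h2
  have hsq : ∀ e ∈ E, e * e ∈ N := by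
    intro e he
    have he' : t' * e * t'⁻¹ ∈ E := (mem_normalizer_iff.1 ht'E e).1 he
    have h1 := ht0 _ he'
    have h2 := hall (t * t') (conj_mul_of_commute h ht ht' htt' hne) (mul_mem htE ht'E)
      (by rw [mul_smul, ht'c, htc]) e he
    have h3 := hall t' ht' ht'E ht'c e he
    rw [show t * (t' * e * t'⁻¹) * t⁻¹ * (t' * e * t'⁻¹) =
      t * t' * e * (t * t')⁻¹ * e * (e⁻¹ * (t' * e * t'⁻¹ * e) * e⁻¹) by group] at h1
    have h4 := (Subgroup.mul_mem_cancel_left N h2).1 h1
    have h5 := hNn e he _ h4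
    rw [show e * (e⁻¹ * (t' * e * t'⁻¹ * e) * e⁻¹) * e⁻¹ = t' * e * t'⁻¹ * e * (e * e)⁻¹ by group] at h5
    exact inv_mem_iff.1 ((Subgroup.mul_mem_cancel_left N h3).1 h5)
  have hEN : E ≤ N := fun e he => mem_of_sq_mem hEodd he (hsq e he)
  haveI := Cfsg.Agent.PF.isSolvable_of_odd E hEodd
  haveI : Nontrivial E := (nontrivial_iff_ne_bot E).2 hE
  refine (Group.IsSolvable.commutator_lt_top_of_nontrivial E).ne ?_
  apply Subgroup.map_injective E.subtype_injective
  rw [Subgroup.map_subtype_commutator, ← MonoidHom.range_eq_map, range_subtype]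
  exact le_antisymm hNE hEN

/-- a member centralises a normal subgroup without members modulo its odd core -/
theorem commutator_mem_core [FaithfulSMul G α] {K W : Subgroup G} (hWK : W ≤ K) (hn : K ≤ normalizer (W : Set G))
    (hW : ∀ d ∈ W, ¬ IsConj z d) {u : G} (hu : IsConj z u) (huK : u ∈ K) {g : G} (hg : g ∈ W) :
    u * g * u⁻¹ * g⁻¹ ∈ oddCoreOf K := by
  have hu2 := orderOf_conj h hu
  have huW : u ∈ normalizer (W : Set G) := hn huK
  set S := W ⊔ zpowers u with hS
  have hcomm : ∀ q ∈ S, u * q * u⁻¹ * q⁻¹ ∈ W := by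
    have hS' : S ≤ normalizer (W : Set G) := sup_le le_normalizer (zpowers_le.2 huW)
    intro q hq
    rw [hS, Subgroup.sup_eq_closure] at hq
    induction hq using Subgroup.closure_induction with
    | mem a ha =>
      rcases ha with ha | ⟨i, rfl⟩
      · exact mul_mem ((mem_normalizer_iff.1 huW a).1 ha) (inv_mem ha)
      · rw [show u * u ^ i * u⁻¹ * (u ^ i)⁻¹ = 1 by group]
        exact one_mem _
    | one => simp
    | mul a b ha hb iha ihb =>
      have haS : a ∈ S := by rwa [hS, Subgroup.sup_eq_closure]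
      rw [show u * (a * b) * u⁻¹ * (a * b)⁻¹ =
        (u * a * u⁻¹ * a⁻¹) * (a * (u * b * u⁻¹ * b⁻¹) * a⁻¹) by group]
      exact mul_mem iha ((mem_normalizer_iff.1 (hS' haS) _).1 ihb)
    | inv a ha iha =>
      have haS : a ∈ S := by rwa [hS, Subgroup.sup_eq_closure]
      rw [show u * a⁻¹ * u⁻¹ * a⁻¹⁻¹ = a⁻¹ * (u * a * u⁻¹ * a⁻¹)⁻¹ * a by group]
      exact (mem_normalizer_iff''.1 (hS' haS) _).1 (inv_mem iha)
  have huS : u ∈ S := mem_sup_right (mem_zpowers u)
  have hiso : Cfsg.IsIsolatedInvolution (⟨u, huS⟩ : S) := by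
    refine ⟨by rw [Subgroup.orderOf_mk, hu2], fun q hq => ?_⟩
    by_contra hne
    set w := (q : G) * u * (q : G)⁻¹ with hw
    have hc : Commute u w := congrArg Subtype.val hq.eq
    have hwu : u ≠ w := fun e => hne (Subtype.ext e.symm)
    have hmem : u * w ∈ W := by
      have h1 := hcomm q q.2
      rwa [inv_of_order_two hu2, show u * (q : G) * u * (q : G)⁻¹ = u * w by rw [hw]; group] at h1
    exact hW _ hmem (conj_mul_of_commute h hu (hu.trans (isConj_iff.2 ⟨q, rfl⟩)) hc hwu)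
  have hz := Cfsg.Lib.ZStarApps.zstarProp hiso ⟨g, mem_sup_left hg⟩
  have h1 : u * g * u⁻¹ * g⁻¹ ∈ oddCoreOf S := ⟨_, hz, rfl⟩
  have h2 : u * g * u⁻¹ * g⁻¹ ∈ W := hcomm g (mem_sup_left hg)
  have h3 : oddCoreOf S ⊓ W ≤ oddCoreOf K := by
    refine (le_oddCoreOf inf_le_right (fun w hw => conj_mem_inf
        (le_normalizer_oddCoreOf S (mem_sup_left hw)) (le_normalizer hw))
      ((odd_card_oddCoreOf S).of_dvd_nat (card_dvd_of_le inf_le_left))).trans
      (le_oddCoreOf ((oddCoreOf_le W).trans hWK) (hn.trans (normalizer_le_normalizer_oddCoreOf W))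
        (odd_card_oddCoreOf W))
  exact h3 ⟨h1, h2⟩

variable [FaithfulSMul G α] (hF : LineFacts α z) {K : Subgroup G}
include hF

/-- a normal subgroup without members fixes all centres -/
theorem fix_centres_of_no_member (hK : Wide α z K) {W : Subgroup G} (hWK : W ≤ K)
    (hn : K ≤ normalizer (W : Set G)) (hW : ∀ d ∈ W, ¬ IsConj z d) {x : α} (hx : x ∈ memberCentres α z K)
    {g : G} (hg : g ∈ W) : g • x = x := by
  obtain ⟨u, huK, hu, hux⟩ := hx
  have hu2 := orderOf_conj h hu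
  have h4 := hF.core_fix K hK x ⟨u, huK, hu, hux⟩ _ (commutator_mem_core h hWK hn hW hu huK hg)
  have hgu : (g * u * g⁻¹) • x = x := by
    rw [inv_of_order_two hu2] at h4
    calc (g * u * g⁻¹) • x = u • (u * g * u * g⁻¹) • x := by
          rw [smul_smul, show u * (u * g * u * g⁻¹) = (u * u) * (g * u * g⁻¹) by group,
            sq_of_order_two hu2, one_mul]
      _ = x := by rw [h4, hux]
  exact centre_unique h (hu.trans (isConj_iff.2 ⟨g, rfl⟩))
    (by rw [mul_smul, mul_smul, inv_smul_smul, hux]) hgu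

omit [FaithfulSMul G α] in
theorem membersCore_le (hK : Wide α z K) {x : α} (hx : x ∈ memberCentres α z K) :
    membersCore z K x ≤ K ⊓ stabilizer G x :=
  (closure_le _).2 fun g hg => hg.elim (fun hd => mem_inf.2 ⟨hd.1, hd.2.2⟩)
    fun ho => mem_inf.2 ⟨oddCoreOf_le K ho, hF.core_fix K hK x hx g ho⟩

/-- modulo the odd core the members at a centre form a group with the identity -/
theorem mem_membersCore (hK : Wide α z K) {x : α} {g : G} (hg : g ∈ membersCore z K x) :
    g ∈ oddCoreOf K ∨ ∃ w ∈ K, IsConj z w ∧ w • x = x ∧ w * g ∈ oddCoreOf K := by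
  set O := oddCoreOf K with hO
  have hOn : ∀ k ∈ K, ∀ o ∈ O, k * o * k⁻¹ ∈ O := fun k hk o ho =>
    (mem_normalizer_iff.1 (le_normalizer_oddCoreOf K hk) o).1 ho
  have key : ∀ v ∈ K, ∀ w ∈ K, IsConj z v → IsConj z w → v • x = x → w • x = x →
      v * w ∈ O ∨ ∃ m ∈ K, IsConj z m ∧ m • x = x ∧ m * (v * w) ∈ O := by
    intro v hv w hw hvD hwD hvx hwx
    have hsq := hF.sq_mem K hK v hv w hw hvD hwD x hvx hwx
    have hv2 := orderOf_conj h hvD
    have hw2 := orderOf_conj h hwD
    set π := v * w with hπ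
    rcases Nat.even_or_odd (orderOf π) with hev | hodd
    · right
      obtain ⟨hm, hmv, -⟩ := central_spec hv2 hw2 hev
      obtain ⟨k, hk⟩ := hev
      set m := π ^ (orderOf π / 2) with hm'
      have hmvD : IsConj z (m * v) := by
        have h1 := isConj_rot h hvD hwD ((orderOf π / 2 : ℕ) : ℤ)
        rwa [zpow_natCast] at h1
      have hvv := sq_of_order_two hv2
      have hmD : IsConj z m := by
        have h1 := conj_mul_of_commute h hmvD hvD (hmv.mul_left (Commute.refl v))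
          fun e => ne_one_of_order_two hm (mul_eq_right.1 e)
        rwa [mul_assoc, hvv, mul_one] at h1
      have hπx : π • x = x := by rw [hπ, mul_smul, hwx, hvx]
      refine ⟨m, pow_mem (mul_mem hv hw) _, hmD,
        mem_stabilizer_iff.1 (pow_mem (mem_stabilizer_iff.2 hπx) _), ?_⟩
      have hkodd : Odd k := by
        have h1 : orderOf (π * π) = k := by
          rw [← pow_two, orderOf_pow, hk, Nat.gcd_eq_right ⟨k, by ring⟩]
          omega
        rw [← h1]
        exact (odd_card_oddCoreOf K).of_dvd_nat (Subgroup.orderOf_dvd_natCard _ hsq)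
      obtain ⟨j, hj⟩ := hkodd
      rw [hm', ← pow_succ, show orderOf π / 2 + 1 = 2 * (j + 1) by omega, pow_mul, pow_two]
      exact pow_mem hsq _
    · left
      obtain ⟨k, hk⟩ := hodd
      rw [show π = (π * π) ^ (k + 1) by
        rw [← pow_two, ← pow_mul, show 2 * (k + 1) = orderOf π + 1 by omega, pow_succ, pow_orderOf_eq_one,
          one_mul]]
      exact pow_mem hsq _
  induction hg using Subgroup.closure_induction with
  | mem q hq =>
    rcases hq with ⟨hqK, hqD, hqx⟩ | ho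
    · exact Or.inr ⟨q, hqK, hqD, hqx, by rw [sq_of_order_two (orderOf_conj h hqD)]; exact one_mem _⟩
    · exact Or.inl ho
  | one => exact Or.inl (one_mem _)
  | mul p q _ _ hp hq =>
    rcases hp with hp | ⟨v, hvK, hvD, hvx, hvp⟩
    · rcases hq with hq | ⟨w, hwK, hwD, hwx, hwq⟩
      · exact Or.inl (mul_mem hp hq)
      · refine Or.inr ⟨w, hwK, hwD, hwx, ?_⟩
        rw [show w * (p * q) = (w * p * w⁻¹) * (w * q) by group]
        exact mul_mem (hOn w hwK p hp) hwq
    · rcases hq with hq | ⟨w, hwK, hwD, hwx, hwq⟩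
      · exact Or.inr ⟨v, hvK, hvD, hvx, by rw [← mul_assoc]; exact mul_mem hvp hq⟩
      · have hvv := inv_of_order_two (orderOf_conj h hvD)
        have hww := inv_of_order_two (orderOf_conj h hwD)
        have e : p * q = v * w * ((w * (v * p) * w⁻¹) * (w * q)) := by
          calc p * q = v⁻¹ * (v * p) * (w⁻¹ * (w * q)) := by group
            _ = v * (v * p) * (w * (w * q)) := by rw [hvv, hww]
            _ = _ := by
              rw [hww, show v * w * (w * (v * p) * w * (w * q)) = v * (w * w) * (v * p) * (w * (w * q)) by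
                group, sq_of_order_two (orderOf_conj h hwD), mul_one]
        rcases key v hvK w hwK hvD hwD hvx hwx with h1 | ⟨m, hmK, hmD, hmx, hm⟩
        · exact Or.inl (e ▸ mul_mem h1 (mul_mem (hOn w hwK _ hvp) hwq))
        · refine Or.inr ⟨m, hmK, hmD, hmx, ?_⟩
          rw [e, ← mul_assoc]
          exact mul_mem hm (mul_mem (hOn w hwK _ hvp) hwq)
  | inv p _ hp =>
    rcases hp with hp | ⟨v, hvK, hvD, hvx, hvp⟩
    · exact Or.inl (inv_mem hp)
    · refine Or.inr ⟨v, hvK, hvD, hvx, ?_⟩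
      rw [show v * p⁻¹ = v * (v * p)⁻¹ * v by group]
      have h1 := hOn v hvK _ (inv_mem hvp)
      rwa [inv_of_order_two (orderOf_conj h hvD)] at h1

theorem sq_mem_membersCore (hK : Wide α z K) {x : α} {g : G} (hg : g ∈ membersCore z K x) :
    g * g ∈ oddCoreOf K := by
  rcases mem_membersCore h hF hK hg with h1 | ⟨w, hwK, hwD, -, hwg⟩
  · exact mul_mem h1 h1
  · have hww := inv_of_order_two (orderOf_conj h hwD)
    rw [show g * g = (w⁻¹ * (w * g) * w⁻¹) * (w * g) by group]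
    nth_rewrite 2 [hww]
    refine mul_mem ?_ hwg
    have h1 := (mem_normalizer_iff''.1 (le_normalizer_oddCoreOf K hwK) _).1 hwg
    exact h1

/-- an involution among them is a member -/
theorem member_of_involution (hK : Wide α z K) {x : α} (hx : x ∈ memberCentres α z K) {u : G}
    (hu : orderOf u = 2) (hum : u ∈ membersCore z K x) : IsConj z u ∧ u • x = x := by
  refine ⟨?_, (mem_inf.1 (membersCore_le h hF hK hx hum)).2⟩
  rcases mem_membersCore h hF hK hum with h1 | ⟨w, -, hwD, -, hwu⟩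
  · have := (odd_card_oddCoreOf K).of_dvd_nat (Subgroup.orderOf_dvd_natCard _ h1)
    rw [hu] at this
    exact absurd this (by decide)
  · obtain ⟨g, -, hg⟩ := conj_of_odd (orderOf_conj h hwD) hu
      ((odd_card_oddCoreOf K).of_dvd_nat (Subgroup.orderOf_dvd_natCard _ hwu))
    exact hwD.trans (isConj_iff.2 ⟨g, hg⟩)

end Members

end Cfsg.Lib.BenderSE.Crit2
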