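/-
Aschbacher's criterion, two involutions in the kernel of a line (Z4' of notes/s1175_h7_plan.md): all members of
`D` at a point of the line preserve the common fixed set.
-/
import Cfsg.Agent.BenderSE.Criterion2.PairCore
import Cfsg.Agent.BenderSE.Thick.Dichotomy
import Cfsg.Agent.Coprime.Generation

set_option autoImplicit false
set_option linter.unusedSectionVars false
set_option linter.style.haveILetI false

namespace Cfsg.Lib.BenderSE.Crit2

open Subgroup MulAction Cfsg.Lib.InvolCalc Cfsg.Lib.StrongEmb Cfsg.Lib.Misc.FourConnected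
  Cfsg.Lib.BenderSE.FourConn Cfsg.Lib.BenderSE.Thick

variable {G α : Type*} [Group G] [MulAction G α] [Finite G] {z : G}

/-- two commuting involutions with one fixed point set of at least two points: the members of `D` at any of
these points preserve the set -/
theorem preserves_of_four (h : Crit G α z) {u w : G} (hu : orderOf u = 2) (hw : orderOf w = 2) (huw : u ≠ w)
    (hc : Commute u w) {x y : α} (hxy : x ≠ y) (hux : u • x = x) (huy : u • y = y)
    (hF : ∀ p : α, w • p = p ↔ u • p = p) (hF' : ∀ p : α, (u * w) • p = p ↔ u • p = p)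
    {d : G} (hd : IsConj z d) (hdx : d • x = x) : ∀ p : α, u • (d • p) = d • p ↔ u • p = p := by
  obtain ⟨V, hV, huV, hwV, hVle⟩ := exists_klein (sq_of_order_two hu) (sq_of_order_two hw)
    (ne_one_of_order_two hu) (ne_one_of_order_two hw) huw hc
  haveI := hV
  set R := pairOdd G x y
  let Q : Subgroup G :=
    { carrier := {g | ∀ p : α, u • (g • p) = g • p ↔ u • p = p}
      one_mem' := fun p => by rw [one_smul]
      mul_mem' := fun {a b} ha hb p => by rw [mul_smul]; exact (ha _).trans (hb p)
      inv_mem' := fun {a} ha p => by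
        have := ha (a⁻¹ • p)
        rw [smul_inv_smul] at this
        exact this.symm }
  have hfix : ∀ {a g : G}, (∀ p : α, a • p = p ↔ u • p = p) → Commute g a → g ∈ Q := fun {a g} ha hg p => by
    rw [← ha, ← ha, smul_smul, ← hg.eq, mul_smul, smul_left_cancel_iff]
  have hVx : V ≤ stabilizer G x ⊓ stabilizer G y := hVle _
    (mem_inf.2 ⟨mem_stabilizer_iff.2 hux, mem_stabilizer_iff.2 huy⟩)
    (mem_inf.2 ⟨mem_stabilizer_iff.2 ((hF x).2 hux), mem_stabilizer_iff.2 ((hF y).2 huy)⟩)
  have hcop : (Nat.card V).Coprime (Nat.card R) := by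
    rw [card_klein hV, show 4 = 2 ^ 2 by norm_num]
    exact (Nat.coprime_two_left.2 (odd_card_pairOdd x y)).pow_left 2
  haveI : IsMulCommutative V := ⟨⟨fun a b => Subtype.ext (comm_of_klein (a : G) a.2 (b : G) b.2)⟩⟩
  have hRQ : R ≤ Q := by
    refine (Cfsg.Lib.Coprime.centralizerJoin_eq (K := R) IsKleinFour.not_isCyclic
      (hVx.trans (stabilizer_inf_le_normalizer x y)) hcop).ge.trans ?_
    refine iSup₂_le fun a ha g hg => ?_
    obtain ⟨haV, ha1⟩ := ha
    have hga : Commute g a := mem_centralizer_singleton_iff.1 (mem_inf.1 hg).2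
    rcases klein_cases hV hwV huV (ne_one_of_order_two hw) (ne_one_of_order_two hu) huw.symm haV with
      rfl | rfl | rfl | rfl
    · exact absurd rfl ha1
    · exact hfix hF hga
    · exact hfix (fun p => Iff.rfl) hga
    · exact hfix (fun p => by rw [← hc.eq]; exact hF' p) hga
  obtain ⟨d₀, hd₀, hd₀x, hd₀V⟩ := h.central x V
    (IsPGroup.of_card (n := 2) (by rw [card_klein hV]; norm_num)) fun g hg => (mem_inf.1 (hVx hg)).1
  obtain ⟨r, hr, hrd⟩ := exists_conj_member h hxy hd₀ hd hd₀x hdx
  rw [← hrd]
  exact mul_mem (mul_mem (hRQ hr) (hfix (fun p => Iff.rfl) (hd₀V u huV))) (inv_mem (hRQ hr))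

end Cfsg.Lib.BenderSE.Crit2
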