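/-
The induction of the criterion: a faithful transitive group generated by the class is simple with a strongly
embedded point stabiliser (or all its members isolated), and the hypothesis passes to the action of
`⟨members centralising W⟩` on the fixed points of a 2-group `W`.
-/
import Cfsg.Agent.BenderSE.Criterion2.Classes
import Cfsg.Agent.BenderSE.Criterion2.FourFix
import Cfsg.Agent.BenderSE.Dependents.CriterionGeneral
import Cfsg.Agent.BenderSE.Criterion2.LineBasic

set_option autoImplicit false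
set_option linter.unusedSectionVars false
set_option linter.style.haveILetI false

namespace Cfsg.Lib.BenderSE.Crit2

open Subgroup MulAction Cfsg.Lib.InvolCalc Cfsg.Lib.StrongEmb Cfsg.Lib.BenderSE.CritDep Cfsg.Lib.Misc.FourConnected
  Cfsg.Lib.BenderSE.FourConn Cfsg.Lib.BenderSE.Thick

universe u

section Structure

variable {H : Type u} [Group H] [Finite H] {β : Type*} [MulAction H β] {z : H}

/-- the stabiliser of a centre is pointed -/
theorem pointed_stabilizer [IsPretransitive H β] [Nontrivial β] [FaithfulSMul H β] (h : Crit H β z) {a : β}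
    (ha : z • a = a) : Pointed (stabilizer H a) z := by
  haveI : Fact (Nat.Prime 2) := ⟨Nat.prime_two⟩
  haveI : Finite β := Finite.of_surjective (fun g : H => g • a) (exists_smul_eq H a)
  refine ⟨h.ord, ?_, mem_stabilizer_iff.2 ha, fun htop => ?_, fun g hg => ?_⟩
  · obtain ⟨S₀⟩ : Nonempty (Sylow 2 H) := inferInstance
    obtain ⟨b, hb⟩ := S₀.2.nonempty_fixed_point_of_prime_not_dvd_card β
      (fun h2 => (Nat.not_even_iff_odd.2 (odd_card_points h)) (even_iff_two_dvd.2 h2))
    obtain ⟨d, hd, -, hdS⟩ := h.central b S₀ S₀.2 fun g hg => hb ⟨g, hg⟩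
    obtain ⟨k, rfl⟩ := isConj_iff.1 hd
    have hdmem : k * z * k⁻¹ ∈ (S₀ : Subgroup H) := by
      have h2 : IsPGroup 2 (zpowers (k * z * k⁻¹)) := isPGroup_zpowers_of_two (orderOf_conj h hd)
      have hn : k * z * k⁻¹ ∈ normalizer ((S₀ : Subgroup H) : Set H) :=
        centralizer_le_normalizer _ (mem_centralizer_iff.2 fun g hg => (hdS g hg).eq.symm)
      have h3 := S₀.3 (S₀.2.to_sup_of_normal_left' h2 (zpowers_le.2 hn)) le_sup_left
      exact h3 ▸ mem_sup_right (mem_zpowers _)
    refine ⟨k⁻¹ • S₀, ?_, fun s hs => ?_⟩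
    · rw [← SetLike.mem_coe, Sylow.coe_smul, Set.mem_smul_set_iff_inv_smul_mem]
      simp only [← map_inv, inv_inv, MulAut.smul_def, MulAut.conj_apply]
      exact hdmem
    · rw [← SetLike.mem_coe, Sylow.coe_smul, Set.mem_smul_set_iff_inv_smul_mem] at hs
      have := (hdS _ hs).map (MulAut.conj k⁻¹).toMonoidHom
      simpa [MulAut.conj_apply, mul_assoc] using this.symm
  · obtain ⟨b, hb⟩ := exists_ne a
    obtain ⟨g, hg⟩ := exists_smul_eq H a b
    exact hb (hg.symm.trans (mem_stabilizer_iff.1 (htop ▸ Subgroup.mem_top g)))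
  · exact mem_stabilizer_iff.2 (conj_centre h (isConj_iff.2 ⟨g, rfl⟩) rfl ha (mem_stabilizer_iff.1 hg))

/-- an odd normal subgroup is trivial when two members commute -/
theorem odd_normal_bot [IsPretransitive H β] [FaithfulSMul H β] (h : Crit H β z) {e : H} (he : IsConj z e)
    (hze : Commute z e) (hne : e ≠ z) {O : Subgroup H} [O.Normal] (hO : Odd (Nat.card O)) : O = ⊥ := by
  obtain ⟨a, ha, -⟩ := h.uniq z (IsConj.refl z)
  obtain ⟨b, hb, -⟩ := h.uniq e he
  obtain rfl := centre_eq_of_commute h (IsConj.refl z) he hze ha hb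
  haveI : Finite β := Finite.of_surjective (fun g : H => g • a) (exists_smul_eq H a)
  have hd := conj_mul_of_commute h (IsConj.refl z) he hze hne.symm
  have hda : (z * e) • a = a := by rw [mul_smul, hb, ha]
  obtain ⟨V, hV, hzV, heV, -⟩ := exists_klein (sq_of_order_two h.ord) (sq_of_order_two (orderOf_conj h he))
    (ne_one_of_order_two h.ord) (ne_one_of_order_two (orderOf_conj h he)) hne.symm hze
  haveI := hV
  haveI : IsMulCommutative V := ⟨⟨fun x y => Subtype.ext (comm_of_klein (x : H) x.2 (y : H) y.2)⟩⟩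
  have hcop : (Nat.card V).Coprime (Nat.card O) := by
    rw [card_klein hV, show 4 = 2 ^ 2 by norm_num]
    exact (Nat.coprime_two_left.2 hO).pow_left 2
  have hOa : O ≤ stabilizer H a := by
    refine (Cfsg.Lib.Coprime.centralizerJoin_eq (K := O) IsKleinFour.not_isCyclic
      (le_normalizer_of_normal) hcop).ge.trans ?_
    refine iSup₂_le fun x hx g hg => ?_
    obtain ⟨hxV, hx1⟩ := hx
    have hgx : Commute g x := mem_centralizer_singleton_iff.1 (mem_inf.1 hg).2
    rcases klein_cases hV heV hzV (ne_one_of_order_two (orderOf_conj h he)) (ne_one_of_order_two h.ord) hne hxV with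
      rfl | rfl | rfl | rfl
    · exact absurd rfl hx1
    · exact mem_stabilizer_iff.2 (smul_centre h he hgx hb)
    · exact mem_stabilizer_iff.2 (smul_centre h (IsConj.refl x) hgx ha)
    · exact mem_stabilizer_iff.2 (smul_centre h hd (by rwa [hze.eq]) hda)
  refine (Subgroup.eq_bot_iff_forall O).2 fun o ho => eq_of_smul_eq_smul fun p : β => ?_
  obtain ⟨g, rfl⟩ := exists_smul_eq H a p
  rw [one_smul]
  conv_lhs => rw [show o = g * (g⁻¹ * o * g) * g⁻¹ by group, mul_smul, mul_smul, inv_smul_smul]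
  rw [mem_stabilizer_iff.1 (hOa (by simpa using Subgroup.Normal.conj_mem inferInstance o ho g⁻¹))]

/-- two commuting members make a group generated by the class simple -/
theorem simple_of_gen [IsPretransitive H β] [Nontrivial β] [FaithfulSMul H β] (h : Crit H β z)
    (hgen : Subgroup.normalClosure ({z} : Set H) = ⊤) {e : H} (he : IsConj z e) (hze : Commute z e)
    (hne : e ≠ z) : IsSimpleGroup H ∧ ¬ IsMulCommutative H := by
  obtain ⟨a, ha, -⟩ := h.uniq z (IsConj.refl z)
  haveI : Finite β := Finite.of_surjective (fun g : H => g • a) (exists_smul_eq H a)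
  refine ⟨{ exists_pair_ne := ⟨e, z, hne⟩, eq_bot_or_eq_top_of_normal := fun N hN => ?_ }, fun hc => ?_⟩
  swap
  · obtain ⟨g, rfl⟩ := isConj_iff.1 he
    exact hne (by rw [hc.is_comm.comm g z, mul_inv_cancel_right])
  by_cases hzN : z ∈ N
  · exact Or.inr (eq_top_iff.2 (hgen ▸ normalClosure_le_normal (Set.singleton_subset_iff.2 hzN)))
  refine Or.inl ?_
  -- `z` is isolated in `N⟨z⟩`
  set K : Subgroup H := N ⊔ zpowers z with hK
  have hzK : z ∈ K := mem_sup_right (mem_zpowers z)
  have hiso : Cfsg.IsIsolatedInvolution (⟨z, hzK⟩ : K) := by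
    refine ⟨by rw [Subgroup.orderOf_mk, h.ord], fun g hg => ?_⟩
    by_contra hgne
    have hgne' : (g : H) * z * (g : H)⁻¹ ≠ z := fun e' => hgne (Subtype.ext e')
    have hD := conj_mul_of_commute h (IsConj.refl z) (isConj_iff.2 ⟨(g : H), rfl⟩) (congrArg Subtype.val hg)
      hgne'.symm
    have hmem : z * ((g : H) * z * (g : H)⁻¹) ∈ N := by
      obtain ⟨n, hn, w, hw, hgw⟩ :
          ∃ n ∈ (N : Set H), ∃ w ∈ (zpowers z : Set H), n * w = (g : H) :=
        Set.mem_mul.1 (by rw [← normal_mul]; exact g.2)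
      obtain ⟨k, rfl⟩ := mem_zpowers_iff.1 hw
      rw [← hgw, show n * z ^ k * z * (n * z ^ k)⁻¹ = n * z * n⁻¹ by group,
        show z * (n * z * n⁻¹) = (z * n * z⁻¹) * (z * z) * n⁻¹ by group, sq_of_order_two h.ord, mul_one]
      exact mul_mem (hN.conj_mem n hn z) (inv_mem hn)
    obtain ⟨c, hc⟩ := isConj_iff.1 hD
    apply hzN
    have := hN.conj_mem _ hmem c⁻¹
    rwa [← hc, inv_inv, show c⁻¹ * (c * z * c⁻¹) * c = z by group] at this
  set O₁ := Cfsg.pPrimeCore 2 K
  have hodd : Odd (Nat.card O₁) := Cfsg.Lib.ZStarApps.odd_card_pPrimeCore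
  haveI : (N.subgroupOf K).Normal := inferInstance
  set O₂ := O₁.map K.subtype
  have hO₂ : Odd (Nat.card O₂) := by rwa [Subgroup.card_map_of_injective K.subtype_injective]
  have hnormK : ∀ k ∈ K, ∀ o ∈ O₂, k * o * k⁻¹ ∈ O₂ := by
    rintro k hk _ ⟨o, ho, rfl⟩
    exact ⟨⟨k, hk⟩ * o * ⟨k, hk⟩⁻¹, (inferInstance : O₁.Normal).conj_mem o ho ⟨k, hk⟩, rfl⟩
  -- `[g, z]` lies in the odd core of `N`
  haveI hON : (N.subgroupOf K ⊓ O₁).Normal := inferInstance
  set O₃ := Cfsg.pPrimeCore 2 N with hO₃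
  haveI : (O₃.map N.subtype).Normal := inferInstance
  have hO₃bot : O₃.map N.subtype = ⊥ := odd_normal_bot h he hze hne (by
    rw [Subgroup.card_map_of_injective N.subtype_injective]; exact Cfsg.Lib.ZStarApps.odd_card_pPrimeCore)
  have hcomm : ∀ g ∈ N, Commute z g := by
    intro g hg
    have h1 := Cfsg.Lib.ZStarApps.zstarProp hiso (⟨g, mem_sup_left hg⟩ : K)
    have h2 : z * g * z⁻¹ * g⁻¹ ∈ N := mul_mem (hN.conj_mem g hg z) (inv_mem hg)
    -- an odd normal subgroup of `N`
    have h3 : (O₂.subgroupOf N) ≤ O₃ := by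
      refine le_sSup ⟨⟨fun o ho n => mem_subgroupOf.2 (hnormK n (mem_sup_left n.2) o (mem_subgroupOf.1 ho))⟩, ?_⟩
      refine (Nat.coprime_two_right.2 (hO₂.of_dvd_nat ?_))
      rw [← Subgroup.card_map_of_injective N.subtype_injective]
      exact card_dvd_of_le (map_le_iff_le_comap.2 fun o ho => mem_subgroupOf.1 ho)
    have h4 : z * g * z⁻¹ * g⁻¹ ∈ O₃.map N.subtype :=
      ⟨⟨_, h2⟩, h3 (mem_subgroupOf.2 ⟨_, h1, rfl⟩), rfl⟩
    rw [hO₃bot, mem_bot] at h4
    exact commutatorElement_eq_one_iff_mul_comm.1 h4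
  refine (Subgroup.eq_bot_iff_forall N).2 fun g hg => eq_of_smul_eq_smul fun p : β => ?_
  have hga : g • a = a := smul_centre h (IsConj.refl z) (hcomm g hg).symm ha
  obtain ⟨k, rfl⟩ := exists_smul_eq H a p
  rw [one_smul]
  conv_lhs => rw [show g = k * (k⁻¹ * g * k) * k⁻¹ by group, mul_smul, mul_smul, inv_smul_smul]
  rw [smul_centre h (IsConj.refl z) (hcomm _ (by simpa using hN.conj_mem g hg k⁻¹)).symm ha]

/-- THE INDUCTION: all involutions of a faithful transitive group generated by the class are members -/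
theorem all_conj_of_gen [IsPretransitive H β] [Nontrivial β] [FaithfulSMul H β] {n : ℕ}
    (crit : CriterionBelow.{u} n) (hn : Nat.card H < n) (h : Crit H β z)
    (hgen : Subgroup.normalClosure ({z} : Set H) = ⊤) {i : H} (hi : orderOf i = 2) : IsConj z i := by
  obtain ⟨a, ha, -⟩ := h.uniq z (IsConj.refl z)
  by_cases hiso : Cfsg.IsIsolatedInvolution z
  · exact isolated_case hiso hgen hi
  obtain ⟨g, hcg, hne⟩ : ∃ g : H, Commute z (g * z * g⁻¹) ∧ g * z * g⁻¹ ≠ z := by
    by_contra hno
    push Not at hno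
    exact hiso ⟨h.ord, hno⟩
  obtain ⟨hs, -⟩ := simple_of_gen h hgen (isConj_iff.2 ⟨g, rfl⟩) hcg hne
  haveI := hs
  have W := pointed_stabilizer h ha
  haveI : Finite β := Finite.of_surjective (fun g : H => g • a) (exists_smul_eq H a)
  obtain ⟨K, hK⟩ := crit H hn (stabilizer H a) W.ne z W.two W.mem W.central W.self fun k hk hkne c hc => by
    have hd : IsConj z (k * z * k⁻¹) := isConj_iff.2 ⟨k, rfl⟩
    obtain ⟨b, hb, -⟩ := h.uniq _ hd
    obtain rfl := centre_eq_of_commute h (IsConj.refl z) hd hk ha hb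
    have hp : (z * (k * z * k⁻¹)) • a = a := by rw [mul_smul, hb, ha]
    refine mem_stabilizer_iff.2 (h.comm z _ (IsConj.refl z) hd hk hkne.symm (c • a) a ?_ hp)
    rw [smul_smul, ← (mem_centralizer_singleton_iff.1 hc), mul_smul, hp]
  exact all_conj hK h.ord hi

/-- the point stabiliser is strongly embedded -/
theorem stabilizer_embedded_of_gen [IsPretransitive H β] [Nontrivial β] [FaithfulSMul H β] {n : ℕ}
    (crit : CriterionBelow.{u} n) (hn : Nat.card H < n) (h : Crit H β z)
    (hgen : Subgroup.normalClosure ({z} : Set H) = ⊤) {a : β} (ha : z • a = a) :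
    Cfsg.IsStronglyEmbedded (stabilizer H a) :=
  (pointed_stabilizer h ha).embedded_of_class fun _ _ hi => all_conj_of_gen crit hn h hgen hi

end Structure

section Image

variable {G α : Type u} [Group G] [MulAction G α] {z : G}

/-- the group generated by the members centralising `W` -/
abbrev lineGen (z : G) (W : Subgroup G) : Subgroup G :=
  closure {d | IsConj z d ∧ ∀ w ∈ W, Commute d w}

theorem lineGen_le (z : G) (W : Subgroup G) : lineGen z W ≤ centralizer (W : Set G) :=
  (closure_le _).2 fun _ hd => mem_centralizer_iff.2 fun w hw => (hd.2 w hw).eq.symm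

theorem mem_lineGen {W : Subgroup G} {d : G} (hd : IsConj z d) (hW : ∀ w ∈ W, Commute d w) : d ∈ lineGen z W :=
  subset_closure ⟨hd, hW⟩

theorem lineGen_maps {W : Subgroup G} {g : G} (hg : g ∈ lineGen z W) {x : α} (hx : x ∈ fixSet α W) :
    g • x ∈ fixSet α W := fun w hw => by
  rw [smul_smul, mem_centralizer_iff.1 (lineGen_le z W hg) w hw, mul_smul, hx w hw]

instance instLineAction (z : G) (W : Subgroup G) : MulAction (lineGen z W) (fixSet α W) where
  smul g x := ⟨(g : G) • (x : α), lineGen_maps g.2 x.2⟩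
  one_smul x := Subtype.ext (one_smul G _)
  mul_smul g g' x := Subtype.ext (mul_smul (g : G) (g' : G) _)

/-- the action on the fixed points -/
def lineHom (α : Type u) [MulAction G α] (z : G) (W : Subgroup G) :
    lineGen z W →* Equiv.Perm (fixSet α W) :=
  MulAction.toPermHom (lineGen z W) (fixSet α W)

theorem lineHom_apply (W : Subgroup G) (g : lineGen z W) (x : fixSet α W) :
    ((lineHom α z W g) x : α) = (g : G) • (x : α) := rfl

/-- the image -/
abbrev lineImage (α : Type u) [MulAction G α] (z : G) (W : Subgroup G) : Subgroup (Equiv.Perm (fixSet α W)) :=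
  (lineHom α z W).range

variable [Finite G] [Finite α] (h : Crit G α z) {W : Subgroup G} (hW : IsPGroup 2 W)
  (hfix : (fixSet α W).Nontrivial)
include h hW hfix

/-- any two members of the line are conjugate in it -/
theorem conj_in_line {d e : G} (hd : IsConj z d) (he : IsConj z e) (hdW : ∀ w ∈ W, Commute d w)
    (heW : ∀ w ∈ W, Commute e w) {x y : α} (hdx : d • x = x) (hey : e • y = y) :
    ∃ g ∈ lineGen z W, g * d * g⁻¹ = e := by
  have step : ∀ {d e : G}, IsConj z d → IsConj z e → (∀ w ∈ W, Commute d w) → (∀ w ∈ W, Commute e w) →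
      ∀ {x y : α}, d • x = x → e • y = y → x ≠ y → ∃ g ∈ lineGen z W, g * d * g⁻¹ = e := by
    intro d e hd he hdW heW x y hdx hey hxy
    obtain ⟨v, hv, -, -, hvde, hvc⟩ := exists_midpoint h hd he hdx hey hxy
    exact ⟨v, mem_lineGen hv fun w hw => (hvc w (hdW w hw).symm (heW w hw).symm).symm, by
      rw [inv_of_order_two (orderOf_conj h hv)]; exact hvde⟩
  by_cases hxy : x = y
  swap
  · exact step hd he hdW heW hdx hey hxy
  subst hxy
  obtain ⟨p, hp, hpx⟩ := hfix.exists_ne x
  obtain ⟨f, hf, hfp, hfW⟩ := h.central p W hW hp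
  obtain ⟨g, hg, hgd⟩ := step hd hf hdW hfW hdx hfp hpx.symm
  obtain ⟨g', hg', hge⟩ := step hf he hfW heW hfp hey hpx
  exact ⟨g' * g, mul_mem hg' hg, by rw [← hge, ← hgd]; group⟩

omit hW hfix in
/-- the centre of a member of the line lies on it -/
theorem centre_mem {d : G} (hd : IsConj z d) (hdW : ∀ w ∈ W, Commute d w) {x : α} (hdx : d • x = x) :
    x ∈ fixSet α W := fun w hw => smul_centre h hd (hdW w hw).symm hdx

/-- the line is transitive -/
theorem line_transitive : IsPretransitive (lineGen z W) (fixSet α W) := ⟨fun x y => by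
  by_cases hxy : x = y
  · exact ⟨1, by rw [one_smul, hxy]⟩
  obtain ⟨v, hv, hvW, hvx, -⟩ := exists_swap_fix h hW x.2 y.2 fun e => hxy (Subtype.ext e)
  exact ⟨⟨v, mem_lineGen hv hvW⟩, Subtype.ext hvx⟩⟩

/-- the images of two members with equal action on the line agree in parity -/
theorem line_comm {d e : G} (hd : IsConj z d) (he : IsConj z e) (hdW : ∀ w ∈ W, Commute d w)
    (heW : ∀ w ∈ W, Commute e w)
    (hcomm : Commute (lineHom α z W ⟨d, mem_lineGen hd hdW⟩) (lineHom α z W ⟨e, mem_lineGen he heW⟩))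
    (hne : lineHom α z W ⟨d, mem_lineGen hd hdW⟩ ≠ lineHom α z W ⟨e, mem_lineGen he heW⟩) {x y : α}
    (hdx : d • x = x) (hey : e • y = y) :
    x = y ∧ ∀ p ∈ fixSet α W, (d * e) • p = p → p = x := by
  set d' : lineGen z W := ⟨d, mem_lineGen hd hdW⟩
  set e' : lineGen z W := ⟨e, mem_lineGen he heW⟩
  have hd2 := orderOf_conj h hd
  have he2 := orderOf_conj h he
  have hev : Even (orderOf (d * e)) := by
    rw [← Nat.not_odd_iff_even]
    intro hodd
    apply hne
    have h1 : orderOf (lineHom α z W (d' * e')) ∣ 2 := by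
      refine orderOf_dvd_of_pow_eq_one ?_
      rw [map_mul, pow_two, hcomm.symm.mul_mul_mul_comm, ← map_mul, ← map_mul]
      rw [show d' * d' = 1 from Subtype.ext (sq_of_order_two hd2),
        show e' * e' = 1 from Subtype.ext (sq_of_order_two he2)]
      simp
    have h2 : orderOf (lineHom α z W (d' * e')) ∣ orderOf (d * e) := by
      rw [show orderOf (d * e) = orderOf (d' * e') from (Subgroup.orderOf_coe (d' * e'))]
      exact orderOf_map_dvd _ _
    have h3 : orderOf (lineHom α z W (d' * e')) = 1 :=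
      Nat.eq_one_of_dvd_coprimes (Nat.coprime_two_left.2 hodd) h1 h2
    rw [orderOf_eq_one_iff, map_mul] at h3
    refine (mul_eq_one_iff_eq_inv.1 h3).trans ?_
    rw [← map_inv, show e'⁻¹ = e' from Subtype.ext (inv_of_order_two he2)]
  have hxy : x = y := by
    by_contra hxy
    exact (Nat.not_odd_iff_even.2 hev) (odd_product h hd he hdx hey hxy)
  refine ⟨hxy, fun p hp hpde => ?_⟩
  obtain ⟨hc, hcd, hce⟩ := central_spec hd2 he2 hev
  set k := orderOf (d * e) / 2
  set c := (d * e) ^ k with hcdef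
  have hcp : c • p = p := mem_stabilizer_iff.1 (pow_mem (mem_stabilizer_iff.2 hpde) k)
  have hcx : c • x = x := smul_centre h hd hcd hdx
  have hcD : IsConj z (c * d) := by
    have h1 := isConj_rot h hd he (k : ℤ)
    rwa [zpow_natCast] at h1
  have hne' : c * d ≠ d := fun e'' => ne_one_of_order_two hc (mul_eq_right.1 e'')
  refine h.comm (c * d) d hcD hd (hcd.mul_left (Commute.refl d)) hne' p x ?_ ?_
  all_goals rw [mul_assoc, sq_of_order_two hd2, mul_one]
  · exact hcp
  · exact hcx

/-- a generator of the image -/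
theorem exists_member_image {q : lineImage α z W} {d : G} (hd : IsConj z d) (hdW : ∀ w ∈ W, Commute d w)
    (hq : IsConj ((lineHom α z W).rangeRestrict ⟨d, mem_lineGen hd hdW⟩) q) :
    ∃ (e : G) (he : IsConj z e) (heW : ∀ w ∈ W, Commute e w),
      (q : Equiv.Perm (fixSet α W)) = lineHom α z W ⟨e, mem_lineGen he heW⟩ := by
  obtain ⟨⟨_, g, rfl⟩, hg⟩ := isConj_iff.1 hq
  have he : IsConj z ((g : G) * d * (g : G)⁻¹) := hd.trans (isConj_iff.2 ⟨g, rfl⟩)
  refine ⟨_, he, fun w hw => ?_, ?_⟩
  · have hgw := mem_centralizer_iff.1 (lineGen_le z W g.2) w hw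
    have h1 : Commute (g : G) w := hgw.symm
    exact (h1.mul_left (hdW w hw)).mul_left h1.inv_left
  · rw [← hg]
    show lineHom α z W g * lineHom α z W _ * (lineHom α z W g)⁻¹ = _
    rw [← map_inv, ← map_mul, ← map_mul]
    exact congrArg _ (Subtype.ext rfl)

/-- THE LINE: the image of the members centralising `W` on its fixed points satisfies the hypothesis -/
theorem crit_image {d : G} (hd : IsConj z d) (hdW : ∀ w ∈ W, Commute d w) :
    Crit (lineImage α z W) (fixSet α W)
      ((lineHom α z W).rangeRestrict ⟨d, mem_lineGen hd hdW⟩) := by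
  haveI : Fact (Nat.Prime 2) := ⟨Nat.prime_two⟩
  set zb : lineImage α z W := (lineHom α z W).rangeRestrict ⟨d, mem_lineGen hd hdW⟩
  have mem_image : ∀ {q : lineImage α z W}, IsConj zb q → ∃ (e : G) (he : IsConj z e)
      (heW : ∀ w ∈ W, Commute e w), (q : Equiv.Perm (fixSet α W)) = lineHom α z W ⟨e, mem_lineGen he heW⟩ :=
    fun hq => exists_member_image h hW hfix hd hdW hq
  refine ⟨?_, fun q hq => ?_, fun x P hP hPx => ?_, fun q r hq hr hqr hne x y hx hy => ?_⟩
  · refine order_two_of_mul_self (Subtype.ext ?_) fun h1 => ?_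
    · show lineHom α z W _ * lineHom α z W _ = 1
      rw [← map_mul, show (⟨d, mem_lineGen hd hdW⟩ : lineGen z W) * ⟨d, mem_lineGen hd hdW⟩ = 1 from
        Subtype.ext (sq_of_order_two (orderOf_conj h hd)), map_one]
    · obtain ⟨p, hp, q, hq, hpq⟩ := hfix
      have hfixd : ∀ x ∈ fixSet α W, d • x = x := fun x hx =>
        congrArg Subtype.val (Equiv.Perm.ext_iff.1 (congrArg Subtype.val h1) ⟨x, hx⟩)
      exact hpq (centre_unique h hd (hfixd p hp) (hfixd q hq))
  · obtain ⟨e, he, heW, hqe⟩ := mem_image hq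
    obtain ⟨p, hp, hu⟩ := h.uniq e he
    refine ⟨⟨p, centre_mem h he heW hp⟩, Subtype.ext ?_, fun x hx => Subtype.ext (hu _ ?_)⟩
    · show (((q : Equiv.Perm (fixSet α W)) _ : fixSet α W) : α) = p
      rw [hqe]; exact hp
    · have h1 : (((q : Equiv.Perm (fixSet α W)) x : fixSet α W) : α) = x := congrArg Subtype.val hx
      rw [hqe] at h1
      exact h1
  · -- a Sylow subgroup of the preimage
    set π : lineGen z W →* lineImage α z W := (lineHom α z W).rangeRestrict
    have hπ : Function.Surjective π := (lineHom α z W).rangeRestrict_surjective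
    set P' := P.comap π
    obtain ⟨R⟩ : Nonempty (Sylow 2 P') := inferInstance
    set ρ : P' →* P := π.subgroupComap P
    have hρ : Function.Surjective ρ := π.subgroupComap_surjective_of_surjective P hπ
    have hRP : (R : Subgroup P').map ρ = ⊤ := by
      rw [← Sylow.coe_mapSurjective hρ R]
      exact ((R.mapSurjective hρ).3 (hP.of_equiv Subgroup.topEquiv.symm) le_top).symm
    set R' := ((R : Subgroup P').map P'.subtype).map (lineGen z W).subtype
    have hR' : IsPGroup 2 R' := (R.2.map _).map _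
    have hcom : R' ≤ normalizer (W : Set G) := by
      rintro _ ⟨g, -, rfl⟩
      exact centralizer_le_normalizer _ (lineGen_le z W g.2)
    have hRW : IsPGroup 2 (W ⊔ R' : Subgroup G) := hW.to_sup_of_normal_left' hR' hcom
    have hle : W ⊔ R' ≤ stabilizer G (x : α) := by
      refine sup_le (fun w hw => mem_stabilizer_iff.2 (x.2 w hw)) ?_
      rintro _ ⟨_, ⟨g, -, rfl⟩, rfl⟩
      exact mem_stabilizer_iff.2 (congrArg Subtype.val (hPx _ g.2))
    obtain ⟨e, he, hex, heRW⟩ := h.central x (W ⊔ R') hRW fun g hg => mem_stabilizer_iff.1 (hle hg)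
    have heW : ∀ w ∈ W, Commute e w := fun w hw => heRW w (mem_sup_left hw)
    obtain ⟨a, hda, -⟩ := h.uniq d hd
    obtain ⟨k, hk, hkd⟩ := conj_in_line h hW hfix hd he hdW heW hda hex
    refine ⟨π ⟨e, mem_lineGen he heW⟩, isConj_iff.2 ⟨π ⟨k, hk⟩, ?_⟩, Subtype.ext hex, fun p hp => ?_⟩
    · show π _ * π ⟨d, mem_lineGen hd hdW⟩ * (π _)⁻¹ = π _
      rw [← map_inv, ← map_mul, ← map_mul]
      exact congrArg π (Subtype.ext hkd)
    · obtain ⟨g, hg, hgp⟩ : (⟨p, hp⟩ : P) ∈ (R : Subgroup P').map ρ := hRP ▸ Subgroup.mem_top _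
      have hpe : π (g : lineGen z W) = p := congrArg Subtype.val hgp
      rw [← hpe]
      refine Commute.map ?_ π
      exact Subtype.ext (heRW _ (mem_sup_right ⟨_, ⟨g, hg, rfl⟩, rfl⟩)).eq
  · obtain ⟨e₁, he₁, he₁W, hq₁⟩ := mem_image hq
    obtain ⟨e₂, he₂, he₂W, hr₁⟩ := mem_image hr
    obtain ⟨p₁, hp₁, -⟩ := h.uniq e₁ he₁
    obtain ⟨p₂, hp₂, -⟩ := h.uniq e₂ he₂
    obtain ⟨-, honly⟩ := line_comm h hW hfix he₁ he₂ he₁W he₂W (hq₁ ▸ hr₁ ▸ congrArg Subtype.val hqr)
      (hq₁ ▸ hr₁ ▸ fun e' => hne (Subtype.ext e')) hp₁ hp₂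
    have key : ∀ w : fixSet α W, (q * r) • w = w → (w : α) = p₁ := fun w hw => honly w w.2 (by
      have h1 : ((((q : Equiv.Perm (fixSet α W)) * r) w : fixSet α W) : α) = w := congrArg Subtype.val hw
      rw [hq₁, hr₁] at h1
      rw [mul_smul]
      exact h1)
    exact Subtype.ext ((key x hx).trans (key y hy).symm)

/-- the image is transitive -/
theorem lineImage_transitive : IsPretransitive (lineImage α z W) (fixSet α W) := ⟨fun x y => by
  haveI := line_transitive h hW hfix
  obtain ⟨g, hg⟩ := exists_smul_eq (lineGen z W) x y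
  exact ⟨⟨_, g, rfl⟩, hg⟩⟩

omit h hW hfix in
/-- elements of a closure map into a normal subgroup with the generators -/
theorem range_le_of_gen {K : Type u} [Group K] {S : Set G} (f : closure S →* K) (N : Subgroup K)
    (hS : ∀ x (hx : x ∈ S), f ⟨x, subset_closure hx⟩ ∈ N) (g : closure S) : f g ∈ N := by
  obtain ⟨g, hg⟩ := g
  induction hg using Subgroup.closure_induction with
  | mem x hx => exact hS x hx
  | one => exact (show f ⟨1, one_mem _⟩ = 1 from f.map_one) ▸ one_mem N
  | mul x y hx hy hx' hy' =>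
    rw [show f ⟨x * y, mul_mem hx hy⟩ = f ⟨x, hx⟩ * f ⟨y, hy⟩ from f.map_mul ⟨x, hx⟩ ⟨y, hy⟩]
    exact mul_mem hx' hy'
  | inv x hx hx' =>
    rw [show f ⟨x⁻¹, inv_mem hx⟩ = (f ⟨x, hx⟩)⁻¹ from f.map_inv ⟨x, hx⟩]
    exact inv_mem hx'

/-- the image is generated by the class of a member -/
theorem lineImage_gen {d : G} (hd : IsConj z d) (hdW : ∀ w ∈ W, Commute d w) :
    Subgroup.normalClosure ({(lineHom α z W).rangeRestrict ⟨d, mem_lineGen hd hdW⟩} :
      Set (lineImage α z W)) = ⊤ := by
  rw [eq_top_iff]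
  intro q _
  obtain ⟨g, rfl⟩ := (lineHom α z W).rangeRestrict_surjective q
  refine range_le_of_gen (lineHom α z W).rangeRestrict _ (fun e he => ?_) g
  obtain ⟨a, hda, -⟩ := h.uniq d hd
  obtain ⟨b, heb, -⟩ := h.uniq e he.1
  obtain ⟨k, hk, hkd⟩ := conj_in_line h hW hfix hd he.1 hdW he.2 hda heb
  have hp : (⟨e, subset_closure he⟩ : lineGen z W) = ⟨k, hk⟩ * ⟨d, mem_lineGen hd hdW⟩ * ⟨k, hk⟩⁻¹ :=
    Subtype.ext hkd.symm
  have key : (lineHom α z W).rangeRestrict (⟨e, subset_closure he⟩ : lineGen z W) ∈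
      Subgroup.normalClosure ({(lineHom α z W).rangeRestrict ⟨d, mem_lineGen hd hdW⟩} :
        Set (lineImage α z W)) := by
    rw [hp, map_mul, map_mul, map_inv]
    exact Subgroup.Normal.conj_mem inferInstance _ (subset_normalClosure (Set.mem_singleton _)) _
  exact key

omit hW hfix in
/-- the line is smaller than a simple group -/
theorem card_lineImage_lt [IsSimpleGroup G] (hna : ¬ IsMulCommutative G) (hW1 : W ≠ ⊥) :
    Nat.card (lineImage α z W) < Nat.card G := by
  refine lt_of_le_of_lt (Nat.card_le_card_of_surjective _ (lineHom α z W).rangeRestrict_surjective) ?_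
  refine lt_of_le_of_ne (card_le_card_group _) fun he => hW1 ?_
  have htop := eq_top_iff.1 ((Subgroup.card_eq_iff_eq_top _).1 he)
  refine (Subgroup.eq_bot_iff_forall W).2 fun w hw => ?_
  have hwc : w ∈ center G := mem_center_iff.2 fun g =>
    (mem_centralizer_iff.1 (lineGen_le z W (htop (Subgroup.mem_top g))) w hw).symm
  rcases IsSimpleGroup.eq_bot_or_eq_top_of_normal (center G) inferInstance with hb | hb
  · rwa [hb, mem_bot] at hwc
  · exact absurd ⟨⟨fun x y => (mem_center_iff.1 (hb ▸ Subgroup.mem_top x) y).symm⟩⟩ hna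

/-- THE LINE THEOREM: the point stabiliser in the image is strongly embedded and all its involutions are members -/
theorem line_embedded {n : ℕ} (crit : CriterionBelow.{u} n) (hn : Nat.card (lineImage α z W) < n) {d : G}
    (hd : IsConj z d) (hdW : ∀ w ∈ W, Commute d w) {a : fixSet α W} (hda : d • (a : α) = a) :
    Cfsg.IsStronglyEmbedded (stabilizer (lineImage α z W) a) := by
  haveI : Nontrivial (fixSet α W) := hfix.coe_sort
  haveI := lineImage_transitive h hW hfix
  exact stabilizer_embedded_of_gen crit hn (crit_image h hW hfix hd hdW) (lineImage_gen h hW hfix hd hdW)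
    (a := a) (Subtype.ext hda)

omit hW hfix in
/-- two commuting members centralising `W` act differently on the line -/
theorem line_ne (hfix : (fixSet α W).Nontrivial) {d e : G} (hd : IsConj z d) (he : IsConj z e)
    (hde : Commute d e) (hne : d ≠ e) (hdW : ∀ w ∈ W, Commute d w) (heW : ∀ w ∈ W, Commute e w) :
    lineHom α z W ⟨d, mem_lineGen hd hdW⟩ ≠ lineHom α z W ⟨e, mem_lineGen he heW⟩ := by
  intro heq
  obtain ⟨x, hx, y, hy, hxy⟩ := hfix
  refine hxy (h.comm d e hd he hde hne x y ?_ ?_) <;>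
    rw [mul_smul]
  · have h1 : d • x = e • x := congrArg Subtype.val (Equiv.Perm.ext_iff.1 heq ⟨x, hx⟩)
    rw [← mul_smul, hde.eq, mul_smul, h1, smul_smul_self h he]
  · have h1 : d • y = e • y := congrArg Subtype.val (Equiv.Perm.ext_iff.1 heq ⟨y, hy⟩)
    rw [← mul_smul, hde.eq, mul_smul, h1, smul_smul_self h he]

/-- A LINE OF RANK TWO is a group with a strongly embedded subgroup and two commuting involutions -/
theorem line_setting {n : ℕ} (crit : CriterionBelow.{u} n) (hn : Nat.card (lineImage α z W) < n) {d e : G}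
    (hd : IsConj z d) (he : IsConj z e) (hde : Commute d e) (hne : d ≠ e)
    (hdW : ∀ w ∈ W, Commute d w) (heW : ∀ w ∈ W, Commute e w) {a : fixSet α W} (hda : d • (a : α) = a) :
    Cfsg.Lib.BenderSE.Setting (stabilizer (lineImage α z W) a) := by
  haveI := lineImage_transitive h hW hfix
  refine ⟨line_embedded h hW hfix crit hn hd hdW hda, ?_, ?_⟩
  · refine (Subgroup.eq_bot_iff_forall _).2 fun g hg => eq_of_smul_eq_smul fun p : fixSet α W => ?_
    obtain ⟨k, rfl⟩ := exists_smul_eq (lineImage α z W) a p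
    rw [one_smul]
    conv_lhs => rw [show g = k * (k⁻¹ * g * k) * k⁻¹ by group, mul_smul, mul_smul, inv_smul_smul]
    have h1 : k⁻¹ * g * k ∈ stabilizer (lineImage α z W) a := by
      simpa [mul_assoc] using hg k⁻¹
    rw [mem_stabilizer_iff.1 h1]
  · have C := crit_image h hW hfix hd hdW
    refine ⟨(lineHom α z W).rangeRestrict ⟨d, mem_lineGen hd hdW⟩, (lineHom α z W).rangeRestrict
      ⟨e, mem_lineGen he heW⟩, C.ord, ?_, fun heq => line_ne h hfix hd he hde hne hdW heW
        (congrArg Subtype.val heq), ?_⟩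
    · exact orderOf_conj (crit_image h hW hfix he heW) (IsConj.refl _)
    · rw [← map_mul, ← map_mul]
      exact congrArg _ (Subtype.ext hde.eq)

end Image

end Cfsg.Lib.BenderSE.Crit2
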