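/-
Aschbacher's criterion: the facts used for LINE follow from the criterion for smaller simple groups. A proper
subgroup with two commuting members and two centres satisfies the hypothesis on its centres, so its image there
has a strongly embedded point stabiliser, whose involutions commute.
-/
import Cfsg.Agent.BenderSE.Criterion2.LineGen
import Cfsg.Agent.BenderSE.Criterion2.LineInd
import Cfsg.Agent.BenderSE.Dependents.Frame
import Cfsg.Agent.BenderSE.Final

set_option autoImplicit false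
set_option linter.unusedSectionVars false
set_option linter.style.haveILetI false

namespace Cfsg.Lib.BenderSE.Crit2

open Subgroup MulAction Cfsg.Lib.InvolCalc Cfsg.Lib.StrongEmb Cfsg.Lib.BenderSE Cfsg.Lib.Misc.FourConnected Cfsg.Lib.BenderSE.FourConn Cfsg.Lib.BenderSE.Thick

universe u

variable {G α : Type u} [Group G] [MulAction G α] {z : G}

theorem centres_maps {N : Subgroup G} (g : N) (x : memberCentres α z N) :
    (g : G) • (x : α) ∈ memberCentres α z N := by
  obtain ⟨d, hdN, hd, hdx⟩ := x.2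
  exact ⟨g * d * (g : G)⁻¹, mul_mem (mul_mem g.2 hdN) (inv_mem g.2), hd.trans (isConj_iff.2 ⟨g, rfl⟩),
    by rw [mul_smul, mul_smul, inv_smul_smul, hdx]⟩

instance instCentreAction (z : G) (N : Subgroup G) : MulAction N (memberCentres α z N) where
  smul g x := ⟨(g : G) • (x : α), centres_maps g x⟩
  one_smul x := Subtype.ext (one_smul G _)
  mul_smul g g' x := Subtype.ext (mul_smul (g : G) (g' : G) _)

/-- the action on the centres -/
def centreHom (α : Type u) [MulAction G α] (z : G) (N : Subgroup G) :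
    N →* Equiv.Perm (memberCentres α z N) :=
  MulAction.toPermHom N (memberCentres α z N)

theorem centreHom_apply (N : Subgroup G) (g : N) (x : memberCentres α z N) :
    ((centreHom α z N g) x : α) = (g : G) • (x : α) := rfl

/-- the image -/
abbrev centreImage (α : Type u) [MulAction G α] (z : G) (N : Subgroup G) :
    Subgroup (Equiv.Perm (memberCentres α z N)) :=
  (centreHom α z N).range

variable [Finite G] [Finite α] [FaithfulSMul G α] (h : Crit G α z)
include h

/-- the odd core of a subgroup with two commuting members and two centres fixes every centre -/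
theorem core_fix_of_crit {N : Subgroup G} (hN : Wide α z N) {x : α} (hx : x ∈ memberCentres α z N) {g : G}
    (hg : g ∈ oddCoreOf N) : g • x = x := by
  obtain ⟨a, haN, ha, hax⟩ := hx
  obtain ⟨b, hbN, hb, hab, hne⟩ := Wide.partner h hN ha haN
  obtain ⟨w, hbw, -⟩ := h.uniq b hb
  obtain rfl := centre_eq_of_commute h ha hb hab hax hbw
  have hd := conj_mul_of_commute h ha hb hab hne
  have hdx : (a * b) • x = x := by rw [mul_smul, hbw, hax]
  obtain ⟨V, hV, haV, hbV, -⟩ := exists_klein (sq_of_order_two (orderOf_conj h ha))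
    (sq_of_order_two (orderOf_conj h hb)) (ne_one_of_order_two (orderOf_conj h ha))
    (ne_one_of_order_two (orderOf_conj h hb)) hne hab
  haveI := hV
  haveI : IsMulCommutative V := ⟨⟨fun p q => Subtype.ext (comm_of_klein (p : G) p.2 (q : G) q.2)⟩⟩
  have hVN : ∀ v ∈ V, v ∈ normalizer ((oddCoreOf N : Subgroup G) : Set G) := by
    intro v hv
    rcases klein_cases hV hbV haV (ne_one_of_order_two (orderOf_conj h hb))
      (ne_one_of_order_two (orderOf_conj h ha)) hne.symm hv with rfl | rfl | rfl | rfl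
    · exact one_mem _
    · exact le_normalizer_oddCoreOf N hbN
    · exact le_normalizer_oddCoreOf N haN
    · exact mul_mem (le_normalizer_oddCoreOf N hbN) (le_normalizer_oddCoreOf N haN)
  have hcop : (Nat.card V).Coprime (Nat.card (oddCoreOf N)) := by
    rw [card_klein hV, show 4 = 2 ^ 2 by norm_num]
    exact (Nat.coprime_two_left.2 (odd_card_oddCoreOf N)).pow_left 2
  suffices hle : oddCoreOf N ≤ stabilizer G x from mem_stabilizer_iff.1 (hle hg)
  refine (Cfsg.Lib.Coprime.centralizerJoin_eq (K := oddCoreOf N) IsKleinFour.not_isCyclic hVN hcop).ge.trans ?_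
  refine iSup₂_le fun v hv q hq => ?_
  obtain ⟨hvV, hv1⟩ := hv
  have hqv : Commute q v := mem_centralizer_singleton_iff.1 (mem_inf.1 hq).2
  rcases klein_cases hV hbV haV (ne_one_of_order_two (orderOf_conj h hb))
    (ne_one_of_order_two (orderOf_conj h ha)) hne.symm hvV with rfl | rfl | rfl | rfl
  · exact absurd rfl hv1
  · exact mem_stabilizer_iff.2 (smul_centre h hb hqv hbw)
  · exact mem_stabilizer_iff.2 (smul_centre h ha hqv hax)
  · exact mem_stabilizer_iff.2 (smul_centre h hd (by rwa [hab.eq]) hdx)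

omit [Finite α] in
/-- every 2-subgroup at a centre centralises a member of the subgroup at that centre -/
theorem central_member {N : Subgroup G} {x : α} (hx : x ∈ memberCentres α z N) {P : Subgroup G}
    (hP : IsPGroup 2 P) (hPN : P ≤ N ⊓ stabilizer G x) :
    ∃ m ∈ N, IsConj z m ∧ m • x = x ∧ ∀ p ∈ P, Commute m p := by
  classical
  haveI : Fact (Nat.Prime 2) := ⟨Nat.prime_two⟩
  obtain ⟨d, hdN, hd, hdx⟩ := hx
  set U := N ⊓ stabilizer G x with hU
  have hdU : zpowers d ≤ U := zpowers_le.2 (mem_inf.2 ⟨hdN, mem_stabilizer_iff.2 hdx⟩)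
  obtain ⟨S₁, hS₁⟩ := (hP.of_equiv (subgroupOfEquivOfLe hPN).symm).exists_le_sylow
  obtain ⟨S₀, hS₀⟩ :=
    ((isPGroup_zpowers_of_two (orderOf_conj h hd)).of_equiv (subgroupOfEquivOfLe hdU).symm).exists_le_sylow
  obtain ⟨g, hg⟩ := MulAction.exists_smul_eq U S₀ S₁
  set T := (S₁ : Subgroup U).map U.subtype with hT
  have hTp : IsPGroup 2 T := S₁.2.map _
  have hTU : T ≤ U := map_subtype_le _
  have hPT : P ≤ T := fun p hp => ⟨⟨p, hPN hp⟩, hS₁ (mem_subgroupOf.2 hp), rfl⟩
  have hd' : (g : G) * d * (g : G)⁻¹ ∈ T := by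
    rw [hT, ← hg, Cfsg.Lib.Coprime.map_subtype_smul, Cfsg.Lib.Coprime.mem_conjMap,
      show (g : G)⁻¹ * ((g : G) * d * (g : G)⁻¹) * g = d by group]
    exact ⟨⟨d, hdU (mem_zpowers d)⟩, hS₀ (mem_subgroupOf.2 (mem_zpowers d)), rfl⟩
  let S : ℕ → Prop := fun n => ∃ m ∈ T, IsConj z m ∧ Nat.card ↥(T ⊓ centralizer ({m} : Set G)) = n
  have hS : S _ := ⟨_, hd', hd.trans (isConj_iff.2 ⟨g, rfl⟩), rfl⟩
  obtain ⟨m, hmT, hm, hn⟩ := Nat.findGreatest_spec (n := Nat.card G) (Subgroup.card_le_card_group _) hS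
  refine ⟨m, (mem_inf.1 (hTU hmT)).1, hm, mem_stabilizer_iff.1 (mem_inf.1 (hTU hmT)).2, fun p hp => ?_⟩
  set C := T ⊓ centralizer ({m} : Set G) with hC
  suffices hTC : T ≤ C from (mem_centralizer_singleton_iff.1 (mem_inf.1 (hTC (hPT hp))).2).symm
  by_contra hne
  have hlt : C.subgroupOf T < ⊤ := lt_top_iff_ne_top.2 fun e => hne (subgroupOf_eq_top.1 e)
  haveI := hTp.isNilpotent
  obtain ⟨w, hwn, hwC⟩ := SetLike.exists_of_lt (Group.normalizerCondition_of_isNilpotent (G := T) _ hlt)
  rw [← subgroupOf_normalizer_eq inf_le_left] at hwn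
  obtain ⟨k, hk⟩ := hTp w
  have hex : ∃ j, (w : G) ^ 2 ^ j ∈ C := ⟨k, by rw [show (w : G) ^ 2 ^ k = 1 from congrArg Subtype.val hk]; exact one_mem _⟩
  have hj0 : Nat.find hex ≠ 0 := fun e => hwC (mem_subgroupOf.2 (by simpa [e] using Nat.find_spec hex))
  obtain ⟨i, hi⟩ := Nat.exists_eq_succ_of_ne_zero hj0
  set q := (w : G) ^ 2 ^ i with hq
  have hqC : q ∉ C := Nat.find_min hex (by omega)
  have hqq : q * q ∈ C := by
    have := Nat.find_spec hex
    rwa [hi, pow_succ, pow_mul, pow_two] at this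
  have hqT : q ∈ T := pow_mem w.2 _
  have hqn : q ∈ normalizer (C : Set G) := pow_mem (mem_subgroupOf.1 hwn) _
  set m' := q * m * q⁻¹ with hm'
  have hmC : m ∈ C := mem_inf.2 ⟨hmT, mem_centralizer_singleton_iff.2 rfl⟩
  have hm'C : m' ∈ C := (mem_normalizer_iff.1 hqn m).1 hmC
  have hcent : ∀ c ∈ C, Commute c m ∧ Commute c m' := by
    intro c hc
    have h1 : ∀ c ∈ C, Commute c m := fun c hc => mem_centralizer_singleton_iff.1 (mem_inf.1 hc).2
    refine ⟨h1 c hc, ?_⟩
    have h2 := (h1 _ ((mem_normalizer_iff''.1 hqn c).1 hc)).map (MulAut.conj q).toMonoidHom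
    simpa [MulAut.conj_apply, mul_assoc, hm'] using h2
  have hmm' : m ≠ m' := fun e => hqC (mem_inf.2 ⟨hqT, mem_centralizer_singleton_iff.2
    (mul_inv_eq_iff_eq_mul.1 e.symm)⟩)
  have hcm : Commute m m' := (hcent m hmC).2
  have hM := conj_mul_of_commute h hm (hm.trans (isConj_iff.2 ⟨q, rfl⟩)) hcm hmm'
  have hqM : Commute q (m * m') := by
    have h1 : q * m' * q⁻¹ = m := by
      rw [hm', show q * (q * m * q⁻¹) * q⁻¹ = (q * q) * m * (q * q)⁻¹ by group, (hcent _ hqq).1.eq,
        mul_inv_cancel_right]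
    refine mul_inv_eq_iff_eq_mul.1 ?_
    rw [show q * (m * m') * q⁻¹ = (q * m * q⁻¹) * (q * m' * q⁻¹) by group, h1, ← hm', hcm.eq]
  have hle : C ⊔ zpowers q ≤ T ⊓ centralizer ({m * m'} : Set G) := sup_le
    (fun c hc => mem_inf.2 ⟨(mem_inf.1 hc).1,
      mem_centralizer_singleton_iff.2 ((hcent c hc).1.mul_right (hcent c hc).2)⟩)
    (zpowers_le.2 (mem_inf.2 ⟨hqT, mem_centralizer_singleton_iff.2 hqM⟩))
  have hbig : Nat.card ↥(T ⊓ centralizer ({m * m'} : Set G)) ≤ Nat.card C := hn.symm ▸ Nat.le_findGreatest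
    (Subgroup.card_le_card_group _) ⟨m * m', mul_mem hmT (mem_inf.1 hm'C).1, hM, rfl⟩
  have heq := Subgroup.eq_of_le_of_card_ge (le_sup_left.trans hle) hbig
  exact hqC (heq ▸ hle (mem_sup_right (mem_zpowers q)))

variable {N : Subgroup G} (hN : Wide α z N)
include hN

/-- the image on the centres -/
theorem crit_centres {a : G} (ha : IsConj z a) (haN : a ∈ N) :
    Crit (centreImage α z N) (memberCentres α z N) ((centreHom α z N).rangeRestrict ⟨a, haN⟩) := by
  haveI : Fact (Nat.Prime 2) := ⟨Nat.prime_two⟩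
  set π := (centreHom α z N).rangeRestrict with hπdef
  have hπ : Function.Surjective π := (centreHom α z N).rangeRestrict_surjective
  set zb := π ⟨a, haN⟩
  have member_image : ∀ {q : centreImage α z N}, IsConj zb q → ∃ e : N, IsConj z (e : G) ∧ π e = q := by
    intro q hq
    obtain ⟨k, rfl⟩ := isConj_iff.1 hq
    obtain ⟨k, rfl⟩ := hπ k
    exact ⟨k * ⟨a, haN⟩ * k⁻¹, ha.trans (isConj_iff.2 ⟨k, rfl⟩), by rw [map_mul, map_mul, map_inv]⟩
  refine ⟨?_, fun q hq => ?_, fun x P hP hPx => ?_, fun q r hq hr hqr hne x y hx hy => ?_⟩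
  · refine order_two_of_mul_self ?_ fun h1 => ?_
    · rw [← map_mul, show (⟨a, haN⟩ : N) * ⟨a, haN⟩ = 1 from Subtype.ext (sq_of_order_two (orderOf_conj h ha)),
        map_one]
    · obtain ⟨x, hx, -⟩ := h.uniq a ha
      obtain ⟨e, heN, he, hex⟩ := hN.moves x
      obtain ⟨y, hy, -⟩ := h.uniq e he
      have h2 : a • y = y :=
        congrArg Subtype.val (Equiv.Perm.ext_iff.1 (congrArg Subtype.val h1) ⟨y, e, heN, he, hy⟩)
      exact hex (by rw [centre_unique h ha hx h2, hy])
  · obtain ⟨e, he, rfl⟩ := member_image hq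
    obtain ⟨p, hp, hu⟩ := h.uniq (e : G) he
    exact ⟨⟨p, e, e.2, he, hp⟩, Subtype.ext hp, fun x hx => Subtype.ext (hu _ (congrArg Subtype.val hx))⟩
  · set P' := P.comap π
    obtain ⟨R⟩ : Nonempty (Sylow 2 P') := inferInstance
    set ρ : P' →* P := π.subgroupComap P
    have hρ : Function.Surjective ρ := π.subgroupComap_surjective_of_surjective P hπ
    have hRP : (R : Subgroup P').map ρ = ⊤ := by
      rw [← Sylow.coe_mapSurjective hρ R]
      exact ((R.mapSurjective hρ).3 (hP.of_equiv Subgroup.topEquiv.symm) le_top).symm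
    set R' := ((R : Subgroup P').map P'.subtype).map N.subtype with hR'
    have hle : R' ≤ N ⊓ stabilizer G (x : α) := by
      rintro _ ⟨_, ⟨g, -, rfl⟩, rfl⟩
      exact mem_inf.2 ⟨(g : N).2, mem_stabilizer_iff.2 (congrArg Subtype.val (hPx _ g.2))⟩
    obtain ⟨e, heN, he, hex, heR⟩ := central_member h x.2 ((R.2.map _).map _) hle
    obtain ⟨k, hk, hkd⟩ := Wide.conj_in h hN ha he haN heN
    refine ⟨π ⟨e, heN⟩, isConj_iff.2 ⟨π ⟨k, hk⟩, ?_⟩, Subtype.ext hex, fun p hp => ?_⟩
    · show π _ * π ⟨a, haN⟩ * (π _)⁻¹ = π _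
      rw [← map_inv, ← map_mul, ← map_mul]
      exact congrArg π (Subtype.ext hkd)
    · obtain ⟨g, hg, hgp⟩ : (⟨p, hp⟩ : P) ∈ (R : Subgroup P').map ρ := hRP ▸ Subgroup.mem_top _
      rw [← show π (g : N) = p from congrArg Subtype.val hgp]
      exact Commute.map (Subtype.ext (heR _ ⟨_, ⟨g, hg, rfl⟩, rfl⟩).eq) π
  · obtain ⟨d, hd, rfl⟩ := member_image hq
    obtain ⟨e, he, rfl⟩ := member_image hr
    have hd2 := orderOf_conj h hd
    have he2 := orderOf_conj h he
    obtain ⟨p, hp, -⟩ := h.uniq (d : G) hd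
    have hev : Even (orderOf ((d : G) * e)) := by
      rw [← Nat.not_odd_iff_even]
      intro hodd
      apply hne
      have hde : d * d = 1 := Subtype.ext (sq_of_order_two hd2)
      have hee : e * e = 1 := Subtype.ext (sq_of_order_two he2)
      have h1 : orderOf (π (d * e)) ∣ 2 := orderOf_dvd_of_pow_eq_one (by
        rw [map_mul, pow_two, hqr.symm.mul_mul_mul_comm, ← map_mul, ← map_mul, hde, hee, map_one, mul_one])
      have h2 : orderOf (π (d * e)) ∣ orderOf ((d : G) * e) := by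
        rw [show orderOf ((d : G) * e) = orderOf (d * e) from Subgroup.orderOf_coe (d * e)]
        exact orderOf_map_dvd _ _
      have h3 : π (d * e) = 1 :=
        orderOf_eq_one_iff.1 (Nat.eq_one_of_dvd_coprimes (Nat.coprime_two_left.2 hodd) h1 h2)
      rw [map_mul] at h3
      rw [mul_eq_one_iff_eq_inv.1 h3, ← map_inv, inv_eq_of_mul_eq_one_right hee]
    obtain ⟨hc, hcd, -⟩ := central_spec hd2 he2 hev
    set k := orderOf ((d : G) * e) / 2
    set c := ((d : G) * e) ^ k with hcdef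
    have hcD : IsConj z (c * d) := by
      have h1 := isConj_rot h hd he (k : ℤ)
      rwa [zpow_natCast] at h1
    have hne' : c * d ≠ d := fun e'' => ne_one_of_order_two hc (mul_eq_right.1 e'')
    have hcp : c • p = p := smul_centre h hd hcd hp
    have key : ∀ w : memberCentres α z N, (π d * π e) • w = w → (w : α) = p := by
      intro w hw
      have h1 : ((d : G) * e) • (w : α) = w := (mul_smul _ _ _).trans (congrArg Subtype.val hw)
      refine h.comm (c * d) d hcD hd (hcd.mul_left (Commute.refl _)) hne' w p ?_ ?_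
      all_goals rw [mul_assoc, sq_of_order_two hd2, mul_one]
      · exact mem_stabilizer_iff.1 (pow_mem (mem_stabilizer_iff.2 h1) k)
      · exact hcp
    exact Subtype.ext ((key x hx).trans (key y hy).symm)

theorem centreImage_transitive : IsPretransitive (centreImage α z N) (memberCentres α z N) := ⟨fun x y => by
  obtain ⟨d, hdN, hd, hdx⟩ := x.2
  obtain ⟨e, heN, he, hey⟩ := y.2
  obtain ⟨g, hg, hge⟩ := Wide.conj_in h hN hd he hdN heN
  exact ⟨(centreHom α z N).rangeRestrict ⟨g, hg⟩, Subtype.ext (conj_centre h he hge hdx hey)⟩⟩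

theorem nontrivial_centres : Nontrivial (memberCentres α z N) := by
  obtain ⟨a, haN, b, -, ha, -⟩ := hN.pair
  obtain ⟨x, hx, -⟩ := h.uniq a ha
  obtain ⟨e, heN, he, hex⟩ := hN.moves x
  obtain ⟨y, hy, -⟩ := h.uniq e he
  exact ⟨⟨x, a, haN, ha, hx⟩, ⟨y, e, heN, he, hy⟩, fun e' => hex (by rw [show x = y from congrArg Subtype.val e', hy])⟩

/-- two members with the same centre in a group generated by members commute on the centres -/
theorem commute_on_centres {n : ℕ} (crit : CriterionBelow.{u} n) (hn : Nat.card N < n)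
    (hgen : N ≤ closure {d | d ∈ N ∧ IsConj z d}) {d d' : G} (hdN : d ∈ N) (hd'N : d' ∈ N)
    (hd : IsConj z d) (hd' : IsConj z d') {x : α} (hx : d • x = x) (hx' : d' • x = x) :
    Commute (centreHom α z N ⟨d, hdN⟩) (centreHom α z N ⟨d', hd'N⟩) := by
  have C := crit_centres h hN hd hdN
  haveI := centreImage_transitive h hN
  haveI := nontrivial_centres h hN
  set π := (centreHom α z N).rangeRestrict with hπdef
  have hlt : Nat.card (centreImage α z N) < n :=
    lt_of_le_of_lt (Nat.card_le_card_of_surjective _ (centreHom α z N).rangeRestrict_surjective) hn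
  have hgen' : Subgroup.normalClosure ({π ⟨d, hdN⟩} : Set (centreImage α z N)) = ⊤ := by
    set M := Subgroup.normalClosure ({π ⟨d, hdN⟩} : Set (centreImage α z N)) with hM
    rw [eq_top_iff]
    intro q _
    obtain ⟨g, rfl⟩ := (centreHom α z N).rangeRestrict_surjective q
    have key : ∀ w ∈ closure {d | d ∈ N ∧ IsConj z d}, ∀ hw : w ∈ N, π ⟨w, hw⟩ ∈ M := by
      intro w hw
      induction hw using Subgroup.closure_induction with
      | mem e he =>
        intro heN
        obtain ⟨k, hk, rfl⟩ := Wide.conj_in h hN hd he.2 hdN he.1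
        have hp : (⟨k * d * k⁻¹, heN⟩ : N) = ⟨k, hk⟩ * ⟨d, hdN⟩ * ⟨k, hk⟩⁻¹ := rfl
        rw [hp, map_mul, map_mul, map_inv]
        exact Subgroup.Normal.conj_mem inferInstance _ (subset_normalClosure (Set.mem_singleton _)) _
      | one =>
        intro h1
        rw [show (⟨1, h1⟩ : N) = 1 from rfl, map_one]
        exact one_mem M
      | mul p q hp hq ihp ihq =>
        intro hpq
        have hpN : p ∈ N := (closure_le N).2 (fun _ h => h.1) hp
        have hqN : q ∈ N := (closure_le N).2 (fun _ h => h.1) hq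
        rw [show (⟨p * q, hpq⟩ : N) = ⟨p, hpN⟩ * ⟨q, hqN⟩ from rfl, map_mul]
        exact mul_mem (ihp hpN) (ihq hqN)
      | inv p hp ihp =>
        intro hpi
        have hpN : p ∈ N := (closure_le N).2 (fun _ h => h.1) hp
        rw [show (⟨p⁻¹, hpi⟩ : N) = ⟨p, hpN⟩⁻¹ from rfl, map_inv]
        exact inv_mem (ihp hpN)
    exact key g (hgen g.2) g.2
  set xc : memberCentres α z N := ⟨x, d, hdN, hd, hx⟩
  have hfixd : π ⟨d, hdN⟩ • xc = xc := Subtype.ext hx
  obtain ⟨b, hbN, hb, hdb, hne⟩ := Wide.partner h hN hd hdN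
  have hS : Setting (stabilizer (centreImage α z N) xc) := by
    refine ⟨stabilizer_embedded_of_gen crit hlt C hgen' hfixd, ?_, ?_⟩
    · refine (Subgroup.eq_bot_iff_forall _).2 fun g hg => eq_of_smul_eq_smul fun p : memberCentres α z N => ?_
      obtain ⟨k, rfl⟩ := exists_smul_eq (centreImage α z N) xc p
      rw [one_smul]
      conv_lhs => rw [show g = k * (k⁻¹ * g * k) * k⁻¹ by group, mul_smul, mul_smul, inv_smul_smul]
      have h1 : k⁻¹ * g * k ∈ stabilizer (centreImage α z N) xc := by simpa [mul_assoc] using hg k⁻¹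
      rw [mem_stabilizer_iff.1 h1]
    · refine ⟨π ⟨d, hdN⟩, π ⟨b, hbN⟩, C.ord, (crit_centres h hN hb hbN).ord, fun heq => ?_, ?_⟩
      · obtain ⟨y, hy⟩ := exists_ne xc
        obtain ⟨e, heN, he, hey⟩ := y.2
        obtain ⟨w, hbw, -⟩ := h.uniq b hb
        obtain rfl := centre_eq_of_commute h hd hb hdb hx hbw
        have h1 : d • (y : α) = b • (y : α) :=
          congrArg Subtype.val (Equiv.Perm.ext_iff.1 (congrArg Subtype.val heq) y)
        refine hy (Subtype.ext (h.comm d b hd hb hdb hne y x ?_ (by rw [mul_smul, hbw, hx])))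
        rw [← hdb.symm.eq, mul_smul, h1, smul_smul_self h hb]
      · rw [← map_mul, ← map_mul]
        exact congrArg _ (Subtype.ext hdb.eq)
  obtain ⟨L, Q, F⟩ := exists_frame regProp hS
  have h2 : orderOf (π ⟨d', hd'N⟩) = 2 := (crit_centres h hN hd' hd'N).ord
  obtain ⟨hd'Q, -⟩ := F.qinvol _ h2 (mem_stabilizer_iff.2 (Subtype.ext hx'))
  have h3 := (F.qinvol _ C.ord (mem_stabilizer_iff.2 hfixd)).2 _ hd'Q
  exact congrArg Subtype.val h3

omit hN in
/-- THE FACTS FOR LINE from the criterion for smaller simple groups -/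
theorem lineFacts_of_below {n : ℕ} (crit : CriterionBelow.{u} n) (hn : ∀ N : Subgroup G, N ≠ ⊤ → Nat.card N < n) :
    LineFacts α z := by
  refine ⟨fun N hN x hx g hg => core_fix_of_crit h hN hx hg, fun N hN d hdN d' hd'N hd hd' x hx hx' => ?_⟩
  set N₀ := closure {w | w ∈ N ∧ IsConj z w} with hN₀def
  have hN₀N : N₀ ≤ N := (closure_le N).2 fun _ h => h.1
  have hN₀ : Wide α z N₀ := by
    obtain ⟨a, haN, b, hbN, ha, hb, hab, hne⟩ := hN.pair
    refine ⟨fun e => hN.ne_top (top_le_iff.1 (e ▸ hN₀N)), ⟨a, subset_closure ⟨haN, ha⟩, b,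
      subset_closure ⟨hbN, hb⟩, ha, hb, hab, hne⟩, fun y => ?_⟩
    obtain ⟨e, heN, he, hey⟩ := hN.moves y
    exact ⟨e, subset_closure ⟨heN, he⟩, he, hey⟩
  have hdN₀ : d ∈ N₀ := subset_closure ⟨hdN, hd⟩
  have hd'N₀ : d' ∈ N₀ := subset_closure ⟨hd'N, hd'⟩
  have hgen : N₀ ≤ closure {w | w ∈ N₀ ∧ IsConj z w} :=
    (closure_le _).2 fun w hw => subset_closure ⟨subset_closure hw, hw.2⟩
  have hnorm : N ≤ normalizer (N₀ : Set G) := by
    intro g hg
    refine Cfsg.Lib.ZStarApps.mem_normalizer_of_maps fun w hw => ?_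
    induction hw using Subgroup.closure_induction with
    | mem q hq =>
      exact subset_closure ⟨mul_mem (mul_mem hg hq.1) (inv_mem hg), hq.2.trans (isConj_iff.2 ⟨g, rfl⟩)⟩
    | one => simp
    | mul a b _ _ iha ihb =>
      rw [show g * (a * b) * g⁻¹ = (g * a * g⁻¹) * (g * b * g⁻¹) by group]; exact mul_mem iha ihb
    | inv a _ iha => rw [show g * a⁻¹ * g⁻¹ = (g * a * g⁻¹)⁻¹ by group]; exact inv_mem iha
  have hsub : oddCoreOf N₀ ≤ oddCoreOf N := le_oddCoreOf ((oddCoreOf_le N₀).trans hN₀N)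
    (hnorm.trans (normalizer_le_normalizer_oddCoreOf N₀)) (odd_card_oddCoreOf N₀)
  refine hsub ?_
  have hc := commute_on_centres h hN₀ crit
    (hn N₀ hN₀.ne_top) hgen hdN₀ hd'N₀ hd hd' hx hx'
  set φ := centreHom α z N₀
  set W := φ.ker.map N₀.subtype with hW
  set π := d * d' with hπ
  have hπW : π * π ∈ W := by
    refine ⟨⟨d, hdN₀⟩ * ⟨d', hd'N₀⟩ * (⟨d, hdN₀⟩ * ⟨d', hd'N₀⟩), ?_, rfl⟩
    show φ _ = 1
    rw [map_mul, map_mul, hc.symm.mul_mul_mul_comm, ← map_mul, ← map_mul,
      show (⟨d, hdN₀⟩ : N₀) * ⟨d, hdN₀⟩ = 1 from Subtype.ext (sq_of_order_two (orderOf_conj h hd)),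
      show (⟨d', hd'N₀⟩ : N₀) * ⟨d', hd'N₀⟩ = 1 from Subtype.ext (sq_of_order_two (orderOf_conj h hd')),
      map_one, mul_one]
  have hWn : N₀ ≤ normalizer (W : Set G) := by
    intro g hg
    refine Cfsg.Lib.ZStarApps.mem_normalizer_of_maps ?_
    rintro _ ⟨w, hw, rfl⟩
    exact ⟨⟨g, hg⟩ * w * ⟨g, hg⟩⁻¹, (inferInstance : φ.ker.Normal).conj_mem w hw _, rfl⟩
  have hWno : ∀ w ∈ W, ¬ IsConj z w := by
    rintro _ ⟨w, hw, rfl⟩ hwD
    obtain ⟨y, hy, -⟩ := h.uniq (w : G) hwD
    obtain ⟨e, heN, he, hey⟩ := hN₀.moves y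
    obtain ⟨p, hp, -⟩ := h.uniq e he
    have h1 : (w : G) • p = p := congrArg Subtype.val (Equiv.Perm.ext_iff.1 hw ⟨p, e, heN, he, hp⟩)
    exact hey (by rw [centre_unique h hwD hy h1, hp])
  have h4 : (π * π) * (π * π) ∈ oddCoreOf N₀ := by
    have h1 := commutator_mem_core h (map_subtype_le _) hWn hWno hd hdN₀ hπW
    have hd2 := sq_of_order_two (orderOf_conj h hd)
    have hd'2 := sq_of_order_two (orderOf_conj h hd')
    have e1 : d * (π * π) * d⁻¹ = (π * π)⁻¹ := by
      rw [hπ, mul_inv_rev, mul_inv_rev, inv_of_order_two (orderOf_conj h hd), inv_of_order_two (orderOf_conj h hd'),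
        show d * (d * d' * (d * d')) * d = (d * d) * (d' * d * d' * d) by group, hd2, one_mul]
      group
    rw [e1, ← mul_inv_rev] at h1
    exact inv_mem_iff.1 h1
  rcases Nat.even_or_odd (orderOf (π * π)) with hev | hodd
  · exfalso
    have hd2' := orderOf_conj h hd
    have hd'2' := orderOf_conj h hd'
    have hev' : Even (orderOf π) := by
      rw [even_iff_two_dvd] at hev ⊢
      exact hev.trans (orderOf_dvd_of_mem_zpowers (mul_mem (mem_zpowers π) (mem_zpowers π)))
    obtain ⟨hm, hmd, -⟩ := central_spec hd2' hd'2' hev'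
    have hmvD : IsConj z (π ^ (orderOf π / 2) * d) := by
      have h1 := isConj_rot h hd hd' ((orderOf π / 2 : ℕ) : ℤ)
      rwa [zpow_natCast] at h1
    have hmD : IsConj z (π ^ (orderOf π / 2)) := by
      have h1 := conj_mul_of_commute h hmvD hd (hmd.mul_left (Commute.refl d))
        fun e => ne_one_of_order_two hm (mul_eq_right.1 e)
      rwa [mul_assoc, sq_of_order_two hd2', mul_one] at h1
    refine hWno _ ?_ hmD
    obtain ⟨j, hj⟩ := hev
    have hord : orderOf π = 2 * orderOf (π * π) := by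
      have h1 : orderOf (π * π) = orderOf π / 2 := by
        rw [← pow_two, orderOf_pow, Nat.gcd_eq_right (even_iff_two_dvd.1 hev')]
      obtain ⟨i, hi⟩ := hev'
      omega
    rw [show orderOf π / 2 = 2 * j by omega, pow_mul, pow_two]
    exact pow_mem hπW _
  · obtain ⟨k, hk⟩ := hodd
    rw [show π * π = ((π * π) * (π * π)) ^ (k + 1) by
      rw [← pow_two (π * π), ← pow_mul, show 2 * (k + 1) = orderOf (π * π) + 1 by omega, pow_succ,
        pow_orderOf_eq_one, one_mul]]
    exact pow_mem h4 _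

end Cfsg.Lib.BenderSE.Crit2
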