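/-
Aschbacher's criterion, facts on one L2 line: the clique number is its `q`, the members at a point act on the
line like the elements of the clique, and their number is `q - 1` times the number of odd partners.
-/
import Cfsg.Agent.BenderSE.Criterion2.Bound
import Cfsg.Agent.BenderSE.Criterion2.Choice
import Cfsg.Agent.BenderSE.Criterion2.LineFacts
import Cfsg.Agent.BenderSE.Criterion2.LineSylow

set_option autoImplicit false
set_option linter.unusedSectionVars false
set_option linter.style.haveILetI false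

namespace Cfsg.Lib.BenderSE.Crit2

open Subgroup MulAction Cfsg.Lib.InvolCalc Cfsg.Lib.BenderSE.CritDep

universe u

variable {G α : Type u} [Group G] [Finite G] [MulAction G α] {z : G} (h : Crit G α z)
include h

omit [Finite G] in
theorem clique_mul_self {u : G} {A : Subgroup G} (hA : IsClique z u A) {g : G} (hg : g ∈ A) : g * g = 1 := by
  rcases eq_or_ne g 1 with rfl | hg1
  · rw [one_mul]
  · exact sq_of_order_two (orderOf_conj h ((hA g hg).2 hg1))

omit [Finite G] in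
theorem clique_comm {u : G} {A : Subgroup G} (hA : IsClique z u A) {g k : G} (hg : g ∈ A) (hk : k ∈ A) :
    Commute g k := by
  have h1 := eq_inv_of_mul_eq_one_left (clique_mul_self h hA (mul_mem hg hk))
  rw [mul_inv_rev, inv_eq_of_mul_eq_one_right (clique_mul_self h hA hg),
    inv_eq_of_mul_eq_one_right (clique_mul_self h hA hk)] at h1
  exact h1

/-- the clique number of an involution with line data is the `q` of its line -/
theorem cliqueNum_eq {v : G} {a : α} {A Q X : Subgroup G} {q j : ℕ} (hv : orderOf v = 2) (hva : v • a = a)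
    (L : LineData z v a A Q X q j) : cliqueNum z v = q := by
  have hA : IsClique z v A := fun g hg => by
    rcases eq_or_ne g 1 with rfl | hg1
    · exact ⟨Commute.one_right v, fun e => absurd rfl e⟩
    · exact ⟨(L.memA g hg hg1).2.1, fun _ => (L.memA g hg hg1).1⟩
  refine le_antisymm ?_ (L.card ▸ le_cliqueNum hA)
  obtain ⟨C, hC, hcard⟩ := exists_clique z v
  rw [← hcard]
  rcases eq_or_ne C ⊥ with rfl | hne
  · rw [Subgroup.card_bot]
    exact le_trans (by norm_num) L.four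
  obtain ⟨d₀, hd₀, hd₀1⟩ := C.bot_or_exists_ne_one.resolve_left hne
  obtain ⟨p, hp, -⟩ := h.uniq d₀ ((hC d₀ hd₀).2 hd₀1)
  have hCfix : ∀ g ∈ C, g • p = p := by
    intro g hg
    rcases eq_or_ne g 1 with rfl | hg1
    · rw [one_smul]
    · obtain ⟨p', hp', -⟩ := h.uniq g ((hC g hg).2 hg1)
      rw [centre_eq_of_commute h ((hC d₀ hd₀).2 hd₀1) ((hC g hg).2 hg1) (clique_comm h hC hd₀ hg) hp hp']
      exact hp'
  have hvp : v • p = p := smul_centre h ((hC d₀ hd₀).2 hd₀1) (hC d₀ hd₀).1 hp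
  obtain ⟨c, hcv, hca⟩ : ∃ c : G, Commute c v ∧ c • a = p := by
    rcases eq_or_ne a p with e | e
    · exact ⟨1, Commute.one_left v, by rw [one_smul, e]⟩
    · obtain ⟨d, hd, hda, hdv⟩ := h.central a (zpowers v) (isPGroup_zpowers_of_two hv)
        fun x hx => mem_fixSet_zpowers hva x hx
      obtain ⟨w, -, hwa, -, -, hwc⟩ := exists_midpoint h hd ((hC d₀ hd₀).2 hd₀1) hda hp e
      exact ⟨w, (hwc v (hdv v (mem_zpowers v)).symm (hC d₀ hd₀).1).symm, hwa⟩
  obtain ⟨S, hQS, -, hSa, hsyl⟩ := exists_line_sylow h hva hv L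
  have hCp : IsPGroup 2 C := fun g => ⟨1, Subtype.ext (by
    rw [pow_one, SubmonoidClass.coe_pow, pow_two, clique_mul_self h hC g.2]; rfl)⟩
  have hcinv : c⁻¹ • p = a := by rw [← hca, inv_smul_smul]
  obtain ⟨k, hk, hkC⟩ := hsyl (C.map (MulAut.conj c⁻¹).toMonoidHom) (hCp.map _) (by
    rintro _ ⟨g, hg, rfl⟩
    refine mem_inf.2 ⟨mem_centralizer_singleton_iff.2 ?_, mem_stabilizer_iff.2 ?_⟩
    · show c⁻¹ * g * c⁻¹⁻¹ * v = v * (c⁻¹ * g * c⁻¹⁻¹)
      rw [inv_inv]
      exact ((hcv.inv_left.mul_left (hC g hg).1.symm).mul_left hcv).eq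
    · show (c⁻¹ * g * c⁻¹⁻¹) • a = a
      rw [inv_inv, mul_smul, mul_smul, hca, hCfix g hg, hcinv])
  obtain ⟨hkv, -⟩ := mem_inf.1 hk
  have hkv' : Commute k v := mem_centralizer_singleton_iff.1 hkv
  rw [← L.card, ← Subgroup.card_map_of_injective (K := C) (f := (MulAut.conj c⁻¹).toMonoidHom)
    (MulAut.conj c⁻¹).injective, ← Subgroup.card_map_of_injective
    (K := C.map (MulAut.conj c⁻¹).toMonoidHom) (f := (MulAut.conj k⁻¹).toMonoidHom) (MulAut.conj k⁻¹).injective]
  refine Subgroup.card_le_of_le ?_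
  rintro _ ⟨g', hg', rfl⟩
  show k⁻¹ * g' * k⁻¹⁻¹ ∈ A
  rw [inv_inv]
  have hS := hkC g' hg'
  obtain ⟨g, hg, rfl⟩ := hg'
  rcases eq_or_ne g 1 with rfl | hg1
  · simp
  · refine member_mem_clique L hQS hSa h (((hC g hg).2 hg1).trans (isConj_iff.2 ⟨k⁻¹ * c⁻¹, ?_⟩)) hS ?_
    · show k⁻¹ * c⁻¹ * g * (k⁻¹ * c⁻¹)⁻¹ = k⁻¹ * (c⁻¹ * g * c⁻¹⁻¹) * k
      group
    · show Commute (k⁻¹ * (c⁻¹ * g * c⁻¹⁻¹) * k) v
      rw [inv_inv]
      exact (hkv'.inv_left.mul_left ((hcv.inv_left.mul_left (hC g hg).1.symm).mul_left hcv)).mul_left hkv'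

variable [Finite α] [FaithfulSMul G α] [IsSimpleGroup G]

/-- on an L2 line a member at `a` acts like an element of the clique -/
theorem line_actions (hna : ¬ IsMulCommutative G) (crit : CriterionBelow.{u} (Nat.card G)) {v : G} {a : α}
    {A Q X : Subgroup G} {q j : ℕ} (hv : orderOf v = 2) (hva : v • a = a) (L : LineData z v a A Q X q j)
    (hj : j = 1) {d : G} (hd : d ∈ membersAt z v a) :
    ∃ e ∈ A, e ≠ 1 ∧ ∀ p : α, v • p = p → d • p = e • p := by
  obtain ⟨S, hQS, -, hSa, -⟩ := exists_line_sylow h hva hv L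
  obtain ⟨b, hvb, hba⟩ := exists_other_fixed L hQS hSa
  have hAQ := eq_Q_of_one L hQS hSa hj
  set N := localGen z v with hN
  have hNv : N ≠ ⊤ := fun htop => hna ⟨⟨fun x y => by
    have hc : v ∈ center G := mem_center_iff.2 fun g => (commute_of_mem (htop ▸ mem_top g : g ∈ N)).eq
    rcases IsSimpleGroup.eq_bot_or_eq_top_of_normal (center G) inferInstance with e | e
    · rw [e, mem_bot] at hc
      exact absurd hc (ne_one_of_order_two hv)
    · exact (mem_center_iff.1 (e ▸ mem_top y : y ∈ center G) x)⟩⟩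
  obtain ⟨e₁, he₁, e₁1, e₂, he₂, e₂1, h12⟩ : ∃ e₁ ∈ A, e₁ ≠ 1 ∧ ∃ e₂ ∈ A, e₂ ≠ 1 ∧ e₁ ≠ e₂ := by
    haveI : Nontrivial A := Finite.one_lt_card_iff_nontrivial.1 (by rw [L.card]; have := L.four; omega)
    obtain ⟨⟨e₁, he₁⟩, hne⟩ := exists_ne (1 : A)
    have e₁1 : e₁ ≠ 1 := fun e => hne (Subtype.ext e)
    refine ⟨e₁, he₁, e₁1, ?_⟩
    by_contra hno
    push Not at hno
    have hsub : (A : Set G) ⊆ ({1, e₁} : Set G) := fun g hg => by
      rcases eq_or_ne g 1 with rfl | hg1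
      · exact Set.mem_insert _ _
      · exact Set.mem_insert_of_mem _ (hno g hg hg1).symm
    have h1 := Set.ncard_le_ncard hsub
    rw [← Nat.card_coe_set_eq, SetLike.coe_sort_coe, L.card] at h1
    have := h1.trans (Set.ncard_insert_le _ _)
    rw [Set.ncard_singleton] at this
    have := L.four
    omega
  have hAN : ∀ e ∈ A, e ∈ N := fun e he => L.Qle (L.leQ he)
  have hW : Wide α z N := by
    refine ⟨hNv, ⟨e₁, hAN _ he₁, e₂, hAN _ he₂, (L.memA _ he₁ e₁1).1, (L.memA _ he₂ e₂1).1,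
      L.centQ e₁ he₁ e₂ (L.leQ he₂), h12⟩, fun x => ?_⟩
    obtain ⟨g, hg, hgb, hgv⟩ := h.central b (zpowers v) (isPGroup_zpowers_of_two hv)
      fun y hy => mem_fixSet_zpowers hvb y hy
    by_cases hx : x = a
    · subst hx
      exact ⟨g, mem_localGen_of hg (hgv v (mem_zpowers v)), hg, fun e => hba (centre_unique h hg hgb e)⟩
    · exact ⟨e₁, hAN _ he₁, (L.memA _ he₁ e₁1).1,
        fun e => hx (centre_unique h (L.memA _ he₁ e₁1).1 e (L.memA _ he₁ e₁1).2.2)⟩
  have hF : LineFacts α z := lineFacts_of_below h crit fun K hK =>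
    (Subgroup.card_le_card_group K).lt_of_ne fun e => hK (Subgroup.eq_top_of_card_eq K e)
  have hdN : d ∈ N := mem_localGen_of hd.1 hd.2.1.symm
  have hd2 := sq_of_order_two (orderOf_conj h hd.1)
  have hcomm : ∀ x ∈ A, ∀ p : α, v • p = p → d • x • p = x • d • p := by
    intro x hx p hp
    rcases eq_or_ne x 1 with rfl | hx1
    · rw [one_smul, one_smul]
    obtain ⟨hxD, -, hxa⟩ := L.memA x hx hx1
    have hcore := hF.sq_mem N hW d hdN x (hAN x hx) hd.1 hxD a hd.2.2 hxa
    obtain ⟨g, hg, hgp, hgv⟩ := h.central p (zpowers v) (isPGroup_zpowers_of_two hv)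
      fun y hy => mem_fixSet_zpowers hp y hy
    have h1 := hF.core_fix N hW p ⟨g, mem_localGen_of hg (hgv v (mem_zpowers v)), hg, hgp⟩ _ hcore
    rw [mul_smul, mul_smul, mul_smul] at h1
    have h2 : x • d • x • p = d • p := by
      have := congrArg (d • ·) h1
      rwa [smul_smul d d, hd2, one_smul] at this
    have := congrArg (x • ·) h2
    rwa [smul_smul x x, L.elem x hx, one_smul] at this
  have hdb : v • d • b = d • b := by rw [smul_smul, hd.2.1.eq, mul_smul, hvb]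
  have hdba : d • b ≠ a := fun e => hba (smul_left_cancel d (e.trans hd.2.2.symm))
  obtain ⟨e, ⟨he, heb⟩, -⟩ := L.regQ b (mem_line.2 hvb) (d • b) (mem_line.2 hdb) hba hdba
  rw [← hAQ] at he
  refine ⟨e, he, fun e' => ?_, fun p hp => ?_⟩
  · subst e'
    rw [one_smul] at heb
    exact hba (centre_unique h hd.1 heb.symm hd.2.2)
  · rcases eq_or_ne p a with rfl | hpa
    · rcases eq_or_ne e 1 with rfl | he1
      · rw [hd.2.2, one_smul]
      · rw [hd.2.2, (L.memA e he he1).2.2]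
    · obtain ⟨y, ⟨hy, hyb⟩, -⟩ := L.regQ b (mem_line.2 hvb) p (mem_line.2 hp) hba hpa
      rw [← hyb, hcomm y (hAQ ▸ hy) b hvb, ← heb, smul_smul, smul_smul, (L.centQ e he y hy).eq]

/-- `κ_v = (q - 1) o` on an L2 line, for `v = u e` -/
theorem card_membersAt_line (hna : ¬ IsMulCommutative G) (crit : CriterionBelow.{u} (Nat.card G)) {u e : G}
    {a : α} {A Q X : Subgroup G} {q j : ℕ} (hu : orderOf u = 2) (hua : u • a = a) (he : e ∈ membersAt z u a)
    (hv : orderOf (u * e) = 2) (L : LineData z (u * e) a A Q X q j) (hj : j = 1) :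
    Nat.card (membersAt z (u * e) a) = (q - 1) * Nat.card (oddPartners z u e a) := by
  classical
  have hva : (u * e) • a = a := by rw [mul_smul, he.2.2, hua]
  obtain ⟨S, hQS, -, hSa, -⟩ := exists_line_sylow h hva hv L
  obtain ⟨c, hvc, hca⟩ := exists_other_fixed L hQS hSa
  have hev : e ∈ membersAt z (u * e) a := ⟨he.1, he.2.1.mul_left (Commute.refl e), he.2.2⟩
  have act : ∀ d ∈ membersAt z (u * e) a, ∃ x ∈ A, x ≠ 1 ∧ ∀ p : α, (u * e) • p = p → d • p = x • p :=
    fun d hd => line_actions h hna crit hv hva L hj hd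
  have hmem : ∀ x ∈ A, ∀ p : α, (u * e) • p = p → (u * e) • x • p = x • p := fun x hx p hp => by
    rw [smul_smul, ← (commute_of_mem (L.Qle (L.leQ hx))).eq, mul_smul, hp]
  have hcomm : ∀ d₁ ∈ membersAt z (u * e) a, ∀ d₂ ∈ membersAt z (u * e) a, ∀ x : α, (u * e) • x = x →
      d₁ • d₂ • x = d₂ • d₁ • x := by
    intro d₁ hd₁ d₂ hd₂ p hp
    obtain ⟨x, hx, -, hx'⟩ := act d₁ hd₁
    obtain ⟨y, hy, -, hy'⟩ := act d₂ hd₂
    rw [hx' p hp, hy' p hp, hx' _ (hmem y hy p hp), hy' _ (hmem x hx p hp), smul_smul, smul_smul,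
      (L.centQ x hx y (L.leQ hy)).eq]
  rw [card_membersAt_eq_numActions h hu hua he hca.symm hvc hcomm fun e' he' => ?_]
  · congr 1
    -- the actions are those of the nontrivial elements of `A`
    have hset : {f | ∃ d ∈ membersAt z (u * e) a, actOn α (u * e) d = f} =
        (actOn α (u * e)) '' ((A : Set G) \ {1}) := by
      ext f
      constructor
      · rintro ⟨d, hd, rfl⟩
        obtain ⟨x, hx, hx1, hx'⟩ := act d hd
        exact ⟨x, ⟨hx, hx1⟩, funext fun p => (hx' p p.2).symm⟩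
      · rintro ⟨x, ⟨hx, hx1⟩, rfl⟩
        exact ⟨x, L.memA x hx hx1, rfl⟩
    show Nat.card ↥(actOn α (u * e) '' membersAt z (u * e) a) = q - 1
    rw [show actOn α (u * e) '' membersAt z (u * e) a = {f | ∃ d ∈ membersAt z (u * e) a, actOn α (u * e) d = f}
      from rfl, hset, Nat.card_image_of_injOn, Nat.card_coe_set_eq, Set.ncard_sdiff_singleton_of_mem (one_mem A),
      ← Nat.card_coe_set_eq, SetLike.coe_sort_coe, L.card]
    intro x hx y hy hxy
    have h1 : x • c = y • c := congrFun hxy ⟨c, hvc⟩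
    refine (L.regQ c (mem_line.2 hvc) (y • c) (mem_line.2 ?_) hca ?_).unique ⟨L.leQ hx.1, h1⟩ ⟨L.leQ hy.1, rfl⟩
    · exact hmem y hy.1 c hvc
    · exact fun e' => hca (smul_left_cancel y (e'.trans (L.memA y hy.1 hy.2).2.2.symm))
  · obtain ⟨x, hx, hx1, hxe⟩ := act e hev
    obtain ⟨y, hy, hy1, hye⟩ := act e' he'
    obtain ⟨g, hg, hgx⟩ := L.transA x hx y hy hx1 hy1
    refine card_fibre_eq hev (L.centX g hg) (L.Xfix hg) (funext fun p => ?_)
    show (g * e * g⁻¹) • (p : α) = e' • (p : α)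
    have hgv : (u * e) • g⁻¹ • (p : α) = g⁻¹ • (p : α) := by
      rw [smul_smul, ← (L.centX g hg).inv_left.eq, mul_smul, p.2]
    rw [mul_smul, mul_smul, hxe _ hgv, hye _ p.2, ← hgx, mul_smul, mul_smul]

end Cfsg.Lib.BenderSE.Crit2
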