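/-
Aschbacher's criterion: the members at `a` centralising `u` act on the line of `u` as the nontrivial elements of
the clique `A` do, so `κ_u = (q - 1) o`, and the bound `n - f ≤ f (f_v - 1) (q_v - 1)` (no LINE).
-/
import Cfsg.Agent.BenderSE.Criterion2.Bound
import Cfsg.Agent.BenderSE.Criterion2.LineGen
import Cfsg.Agent.BenderSE.Criterion2.LineSylow

set_option autoImplicit false
set_option linter.unusedSectionVars false
set_option linter.style.haveILetI false

namespace Cfsg.Lib.BenderSE.Crit2

open Subgroup MulAction Cfsg.Lib.InvolCalc Cfsg.Lib.BenderSE.CritDep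
open scoped Pointwise

universe u v

variable {G : Type u} [Group G] [Finite G] {α : Type v} [MulAction G α] {z : G} {u : G} {a : α}
  {A Q X : Subgroup G} {q j : ℕ}

/-- `u` is central in no proper part: in a simple group `localGen z u` is proper -/
theorem localGen_ne_top [IsSimpleGroup G] (hna : ¬ IsMulCommutative G) (hu : orderOf u = 2) :
    localGen z u ≠ ⊤ := by
  intro htop
  have huc : u ∈ center G := mem_center_iff.2 fun g => (commute_of_mem (z := z) (htop ▸ mem_top g)).eq
  rcases IsSimpleGroup.eq_bot_or_eq_top_of_normal (center G) inferInstance with e | e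
  · rw [e, mem_bot] at huc
    exact ne_one_of_order_two hu huc
  · exact hna ⟨⟨fun x y => mem_center_iff.1 (e ▸ mem_top y : y ∈ center G) x⟩⟩

/-- the members centralising a line of rank two form a wide subgroup -/
theorem LineData.wide [IsSimpleGroup G] (hna : ¬ IsMulCommutative G) (h : Crit G α z)
    (L : LineData z u a A Q X q j) (hu : orderOf u = 2) {b : α} (hub : u • b = b) (hba : b ≠ a) :
    Wide α z (localGen z u) := by
  obtain ⟨d, hd, d', hd', hne, hne1, hne1'⟩ : ∃ d ∈ A, ∃ d' ∈ A, d ≠ d' ∧ d ≠ 1 ∧ d' ≠ 1 := by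
    have h3 : 1 < ((A : Set G) \ {1}).ncard := by
      rw [Set.ncard_sdiff_singleton_of_mem (s := (A : Set G)) (one_mem A), ← Nat.card_coe_set_eq,
        SetLike.coe_sort_coe, L.card]
      have := L.four
      omega
    obtain ⟨d, hd, d', hd', hne⟩ := (Set.one_lt_ncard (Set.toFinite _)).1 h3
    exact ⟨d, hd.1, d', hd'.1, hne, fun e => hd.2 e, fun e => hd'.2 e⟩
  obtain ⟨e, he, heb, heu⟩ := h.central b (zpowers u) (isPGroup_zpowers_of_two hu) (mem_fixSet_zpowers hub)
  obtain ⟨hdD, hdu, hda⟩ := L.memA d hd hne1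
  obtain ⟨hdD', -, -⟩ := L.memA d' hd' hne1'
  exact wide_mk h (localGen_ne_top hna hu) (L.Qle (L.leQ hd)) (L.Qle (L.leQ hd'))
    (mem_localGen_of he (heu u (mem_zpowers u))) hdD hdD' he (L.centQ d hd d' (L.leQ hd')) hne hda heb hba.symm

theorem exists_other_point (L : LineData z u a A Q X q j) : ∃ b : α, u • b = b ∧ b ≠ a := by
  by_contra hno
  push Not at hno
  have hsub : fixSet α (zpowers u) ⊆ {a} := fun p hp => hno p (mem_line.1 hp)
  have h1 := Set.ncard_le_ncard hsub
  rw [Set.ncard_singleton, ← Nat.card_coe_set_eq, L.fixed] at h1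
  have h4 := L.four
  have : 0 < q ^ j := pow_pos (by omega) j
  omega

variable (h : Crit G α z) (hF : LineFacts α z) (hW : Wide α z (localGen z u)) (hu : orderOf u = 2)
  (hua : u • a = a) (L : LineData z u a A Q X q j)
include h hF hW hu

omit hua L in
/-- the members at `a` centralising `u` commute on the line -/
theorem members_commute_on_line {d d' : G} (hd : d ∈ membersAt z u a) (hd' : d' ∈ membersAt z u a) {x : α}
    (hx : u • x = x) : d • d' • x = d' • d • x := by
  obtain ⟨c, hc, hcx, hcu⟩ := h.central x (zpowers u) (isPGroup_zpowers_of_two hu) (mem_fixSet_zpowers hx)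
  have hc' : x ∈ memberCentres α z (localGen z u) :=
    ⟨c, mem_localGen_of hc (hcu u (mem_zpowers u)), hc, hcx⟩
  have hsq := hF.sq_mem _ hW d (mem_localGen_of hd.1 hd.2.1.symm) d' (mem_localGen_of hd'.1 hd'.2.1.symm)
    hd.1 hd'.1 a hd.2.2 hd'.2.2
  have h1 := hF.core_fix _ hW x hc' _ hsq
  have hi : d'⁻¹ = d' := inv_of_order_two (orderOf_conj h hd'.1)
  rw [mul_smul, mul_smul, mul_smul] at h1
  have h2 : d • d' • x = (d * d')⁻¹ • x := eq_inv_smul_iff.2 (by rw [mul_smul]; exact h1)
  rw [h2, mul_inv_rev, hi, inv_of_order_two (orderOf_conj h hd.1), mul_smul]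

include hua L

omit h hF hW hu in
/-- a 2-subgroup of the stabiliser of `a` in `localGen z u` goes into `Q` there -/
theorem exists_conj_into_Q {R : Subgroup G} (hR : IsPGroup 2 R) (hRle : R ≤ localGen z u ⊓ stabilizer G a) :
    ∃ k ∈ localGen z u ⊓ stabilizer G a, ∀ r ∈ R, k⁻¹ * r * k ∈ Q := by
  haveI : Fact (Nat.Prime 2) := ⟨Nat.prime_two⟩
  set H := localGen z u ⊓ stabilizer G a
  have hQH : Q ≤ H := le_inf L.Qle L.Qfix
  obtain ⟨P, hP⟩ := (L.twoQ.of_equiv (subgroupOfEquivOfLe hQH).symm).exists_le_sylow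
  have hPQ : (P : Subgroup H).map H.subtype = Q := by
    refine L.Qmax _ (P.2.map _) ((map_subtype_le _).trans inf_le_left) ((map_subtype_le _).trans inf_le_right)
      fun g hg => ⟨⟨g, hQH hg⟩, hP (mem_subgroupOf.2 hg), rfl⟩
  obtain ⟨T, hT⟩ := (hR.of_equiv (subgroupOfEquivOfLe hRle).symm).exists_le_sylow
  obtain ⟨k, rfl⟩ := MulAction.exists_smul_eq H P T
  refine ⟨k, k.2, fun r hr => ?_⟩
  obtain ⟨x, hx, e⟩ := hT (show (⟨r, hRle hr⟩ : H) ∈ R.subgroupOf H from hr)
  have e' : (k : G) * (x : G) * (k : G)⁻¹ = r := congrArg Subtype.val e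
  rw [← e', show (k : G)⁻¹ * ((k : G) * x * (k : G)⁻¹) * k = x by group, ← hPQ]
  exact ⟨x, hx, rfl⟩

/-- a member at `a` centralising `u` acts on the line as an element of the clique -/
theorem member_acts_like_clique {d : G} (hd : d ∈ membersAt z u a) :
    ∃ e ∈ A, e ≠ 1 ∧ ∀ x : α, u • x = x → d • x = e • x := by
  classical
  haveI : Fact (Nat.Prime 2) := ⟨Nat.prime_two⟩
  set P := A ⊔ zpowers d with hPdef
  have hdloc : d ∈ localGen z u := mem_localGen_of hd.1 hd.2.1.symm
  have hPle : P ≤ localGen z u ⊓ stabilizer G a := sup_le (le_inf (L.leQ.trans L.Qle) (L.leQ.trans L.Qfix))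
    (zpowers_le.2 (mem_inf.2 ⟨hdloc, mem_stabilizer_iff.2 hd.2.2⟩))
  have hPcl : P = closure ((A : Set G) ∪ {d}) := by rw [Subgroup.closure_union, Subgroup.closure_eq, ← zpowers_eq_closure]
  have hgenmem : ∀ g ∈ (A : Set G) ∪ {d}, g = 1 ∨ g ∈ membersAt z u a := by
    rintro g (hg | rfl)
    · rcases eq_or_ne g 1 with e | e
      · exact Or.inl e
      · exact Or.inr (L.memA g hg e)
    · exact Or.inr hd
  have hline : ∀ g ∈ P, ∀ x : α, u • x = x → u • g • x = g • x := fun g hg x hx => by
    rw [smul_smul, ← (commute_of_mem (mem_inf.1 (hPle hg)).1).eq, mul_smul, hx]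
  -- the elements of `P` commute on the line
  have hcomm : ∀ g ∈ P, ∀ k ∈ P, ∀ x : α, u • x = x → g • k • x = k • g • x := by
    have hgen : ∀ g ∈ (A : Set G) ∪ {d}, ∀ k ∈ P, ∀ x : α, u • x = x → g • k • x = k • g • x := by
      intro g hg k hk
      rw [hPcl] at hk
      induction hk using Subgroup.closure_induction with
      | mem k hk =>
        intro x hx
        rcases hgenmem g hg with rfl | hg'
        · rw [one_smul, one_smul]
        rcases hgenmem k hk with rfl | hk'
        · rw [one_smul, one_smul]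
        exact members_commute_on_line h hF hW hu hg' hk' hx
      | one => intro x _; rw [one_smul, one_smul]
      | mul p p' hp hp' ihp ihp' =>
        intro x hx
        rw [← hPcl] at hp'
        rw [mul_smul, mul_smul, ihp _ (hline p' hp' x hx), ihp' x hx]
      | inv p hp ihp =>
        intro x hx
        rw [← hPcl] at hp
        rw [eq_inv_smul_iff, ← ihp _ (hline _ (inv_mem hp) x hx), smul_inv_smul]
    intro g hg
    rw [hPcl] at hg
    induction hg using Subgroup.closure_induction with
    | mem g hg => exact hgen g hg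
    | one => intro k _ x _; rw [one_smul, one_smul]
    | mul p p' hp hp' ihp ihp' =>
      intro k hk x hx
      rw [← hPcl] at hp'
      rw [mul_smul, mul_smul, ihp' k hk x hx, ihp k hk _ (hline p' hp' x hx)]
    | inv p hp ihp =>
      intro k hk x hx
      rw [← hPcl] at hp
      rw [inv_smul_eq_iff, ihp k hk _ (hline _ (inv_mem hp) x hx), smul_inv_smul]
  -- they are involutions there
  have hinvol : ∀ g ∈ P, ∀ x : α, u • x = x → g • g • x = x := by
    intro g hg
    rw [hPcl] at hg
    induction hg using Subgroup.closure_induction with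
    | mem g hg =>
      intro x _
      rcases hgenmem g hg with rfl | hg'
      · rw [one_smul, one_smul]
      · exact smul_smul_self h hg'.1 x
    | one => intro x _; rw [one_smul, one_smul]
    | mul p p' hp hp' ihp ihp' =>
      intro x hx
      rw [← hPcl] at hp hp'
      rw [mul_smul, mul_smul, hcomm p' hp' p hp _ (hline p' hp' x hx), ihp _ (hline p' hp' _ (hline p' hp' x hx)),
        ihp' x hx]
    | inv p hp ihp =>
      intro x hx
      rw [inv_smul_eq_iff, inv_smul_eq_iff, ihp x hx]
  -- a Sylow 2-subgroup of `P` above `A` covers the action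
  have hAP : A ≤ P := le_sup_left
  obtain ⟨R, hR⟩ := ((L.twoQ.to_le L.leQ).of_equiv (subgroupOfEquivOfLe hAP).symm).exists_le_sylow
  set RG := (R : Subgroup P).map P.subtype with hRG
  have hAR : A ≤ RG := fun g hg => ⟨⟨g, hAP hg⟩, hR (mem_subgroupOf.2 hg), rfl⟩
  have hRP : RG ≤ P := map_subtype_le _
  set K := (fixingSubgroup G (fixSet α (zpowers u))).subgroupOf P with hK
  have hKmem : ∀ g : P, g ∈ K ↔ ∀ x : α, u • x = x → (g : G) • x = x := fun g => by
    rw [hK, mem_subgroupOf, mem_fixingSubgroup_iff]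
    exact ⟨fun hh x hx => hh x (mem_line.2 hx), fun hh x hx => hh x (mem_line.1 hx)⟩
  haveI hKn : K.Normal := ⟨fun k hk g => (hKmem _).2 fun x hx => by
    have hx' := hline _ (inv_mem g.2) x hx
    show ((g : G) * k * (g : G)⁻¹) • x = x
    rw [mul_smul, mul_smul, (hKmem k).1 hk _ hx', smul_inv_smul]⟩
  have htop : (R : Subgroup P) ⊔ K = ⊤ := by
    rw [← Subgroup.index_eq_one]
    -- the quotient has exponent two
    by_contra hne
    obtain ⟨r, hr, hrdvd⟩ := Nat.exists_prime_and_dvd hne
    haveI := Fact.mk hr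
    obtain ⟨w, hw⟩ := exists_prime_orderOf_dvd_card' (G := P ⧸ K) r
      (hrdvd.trans (index_dvd_of_le (H := K) le_sup_right))
    obtain ⟨g, rfl⟩ := QuotientGroup.mk_surjective w
    have hg2 : (g : P ⧸ K) ^ 2 = 1 := by
      rw [← QuotientGroup.mk_pow, QuotientGroup.eq_one_iff, hKmem]
      intro x hx
      rw [pow_two, Subgroup.coe_mul, mul_smul]
      exact hinvol g g.2 x hx
    have hr2 : r = 2 := (Nat.prime_dvd_prime_iff_eq hr Nat.prime_two).1 (hw ▸ orderOf_dvd_of_pow_eq_one hg2)
    subst hr2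
    exact R.not_dvd_index (hrdvd.trans (index_dvd_of_le le_sup_left))
  obtain ⟨r, hr, c, hc, hrc⟩ : ∃ r ∈ (R : Subgroup P), ∃ c ∈ K, r * c = (⟨d, mem_sup_right (mem_zpowers d)⟩ : P) := by
    have hd' : (⟨d, mem_sup_right (mem_zpowers d)⟩ : P) ∈ ((R : Subgroup P) : Set P) * (K : Set P) := by
      rw [← coe_mul_of_left_le_normalizer_right (R : Subgroup P) K
        (fun g _ => (normalizer_eq_top_iff.2 hKn).ge (mem_top g)), htop]
      exact Set.mem_univ _
    obtain ⟨r, hr, c, hc, e⟩ := hd'
    exact ⟨r, hr, c, hc, e⟩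
  -- that Sylow subgroup is `A`
  obtain ⟨k, hk, hkR⟩ := exists_conj_into_Q hua L (R.2.map _) (hRP.trans hPle)
  have hsq : ∀ g ∈ RG, g * g = 1 := by
    intro g hg
    have hgg : g * g ∈ RG := mul_mem hg hg
    have hky : ∀ x : α, u • x = x → u • k • x = k • x := fun x hx => by
      rw [smul_smul, ← (commute_of_mem (mem_inf.1 hk).1).eq, mul_smul, hx]
    have h1 : k⁻¹ * (g * g) * k = 1 := by
      obtain ⟨b, hub, hba⟩ := exists_other_point L
      refine (L.regQ b (mem_line.2 hub) b (mem_line.2 hub) hba hba).unique ⟨hkR _ hgg, ?_⟩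
        ⟨one_mem Q, one_smul G b⟩
      rw [mul_smul, mul_smul, mul_smul, hinvol g (hRP hg) _ (hky b hub), inv_smul_smul]
    rwa [mul_eq_one_iff_eq_inv, inv_mul_eq_iff_eq_mul, mul_inv_cancel] at h1
  have hsub : RG.map (MulAut.conj k⁻¹).toMonoidHom ≤ A := by
    rintro _ ⟨g, hg, rfl⟩
    show k⁻¹ * g * k⁻¹⁻¹ ∈ A
    rw [inv_inv]
    by_cases hg1 : k⁻¹ * g * k = 1
    · rw [hg1]; exact one_mem A
    · refine L.invA _ (hkR g hg) (order_two_of_mul_self ?_ hg1)
      rw [show k⁻¹ * g * k * (k⁻¹ * g * k) = k⁻¹ * (g * g) * k by group, hsq g hg]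
      group
  have hRA : RG = A := (Subgroup.eq_of_le_of_card_ge hAR (by
    have := card_le_of_le hsub
    rwa [card_map_of_injective (MulAut.conj k⁻¹).injective] at this)).symm
  have hrA : (r : G) ∈ A := hRA ▸ ⟨r, hr, rfl⟩
  have hact : ∀ x : α, u • x = x → d • x = (r : G) • x := fun x hx => by
    have h2 : (r : G) * c = d := congrArg Subtype.val hrc
    rw [← h2, mul_smul, (hKmem c).1 hc x hx]
  refine ⟨r, hrA, fun e => ?_, hact⟩
  obtain ⟨b, hub, hba⟩ := exists_other_point L
  refine hba (centre_unique h hd.1 ?_ hd.2.2)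
  rw [hact b hub, e, one_smul]

omit hua in
/-- distinct elements of the clique act differently on the line -/
theorem clique_action_inj {e e' : G} (he : e ∈ A) (he' : e' ∈ A)
    (hact : ∀ x : α, u • x = x → e • x = e' • x) : e = e' := by
  obtain ⟨b, hub, hba⟩ := exists_other_point L
  have h1 := (L.regQ b (mem_line.2 hub) b (mem_line.2 hub) hba hba).unique
    ⟨L.leQ (mul_mem (inv_mem he) he'), by rw [mul_smul, ← hact b hub, inv_smul_smul]⟩ ⟨one_mem Q, one_smul G b⟩
  exact (inv_mul_eq_one.1 h1)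

/-- the members at `a` centralising `u` have `q - 1` actions on the line -/
theorem numActions_eq : numActions α z u a = q - 1 := by
  have himg : actOn α u '' membersAt z u a = actOn α u '' ((A : Set G) \ {1}) := by
    refine subset_antisymm ?_ (Set.image_mono fun e he => L.memA e he.1 he.2)
    rintro _ ⟨d, hd, rfl⟩
    obtain ⟨e, he, he1, hact⟩ := member_acts_like_clique h hF hW hu hua L hd
    exact ⟨e, ⟨he, he1⟩, funext fun x => (hact x x.2).symm⟩
  rw [numActions, himg, Nat.card_coe_set_eq, Set.InjOn.ncard_image,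
    Set.ncard_sdiff_singleton_of_mem (s := (A : Set G)) (one_mem A), ← Nat.card_coe_set_eq, SetLike.coe_sort_coe,
    L.card]
  exact fun e he e' he' heq => clique_action_inj h hF hW hu L he.1 he'.1 fun x hx => congrFun heq ⟨x, hx⟩

/-- every action on the line is that of equally many members -/
theorem fibre_eq {e e' : G} (he : e ∈ membersAt z u a) (he' : e' ∈ membersAt z u a) :
    Nat.card {d | d ∈ membersAt z u a ∧ actOn α u d = actOn α u e'} =
      Nat.card {d | d ∈ membersAt z u a ∧ actOn α u d = actOn α u e} := by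
  obtain ⟨y, hy, hy1, hey⟩ := member_acts_like_clique h hF hW hu hua L he
  obtain ⟨y', hy', hy1', hey'⟩ := member_acts_like_clique h hF hW hu hua L he'
  obtain ⟨g, hg, hgy⟩ := L.transA y hy y' hy' hy1 hy1'
  have hgu := L.centX g hg
  refine card_fibre_eq he hgu (mem_stabilizer_iff.1 (L.Xfix hg)) (funext fun x => ?_)
  show (g * e * g⁻¹) • (x : α) = e' • (x : α)
  have hx : u • g⁻¹ • (x : α) = g⁻¹ • (x : α) := by
    rw [smul_smul, ← hgu.inv_left.eq, mul_smul, x.2]
  rw [hey' _ x.2, ← hgy, mul_smul, mul_smul, hey _ hx, ← mul_smul, ← mul_smul]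

/-- `κ_u = (q - 1) o`: by the actions on the line -/
theorem card_members_eq {w e : G} (hw : orderOf w = 2) (hwa : w • a = a) (he : e ∈ membersAt z w a)
    (hwe : w * e = u) : Nat.card (membersAt z u a) = (q - 1) * Nat.card (oddPartners z w e a) := by
  obtain ⟨b, hub, hba⟩ := exists_other_point L
  subst hwe
  have heu : e ∈ membersAt z (w * e) a := ⟨he.1, he.2.1.mul_left (Commute.refl e), he.2.2⟩
  rw [card_membersAt_eq_numActions h hw hwa he hba.symm hub
      (fun d₁ hd₁ d₂ hd₂ x hx => members_commute_on_line h hF hW hu hd₁ hd₂ hx)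
      fun e' he' => fibre_eq h hF hW hu hua L heu he',
    numActions_eq h hF hW hu hua L]

omit h hF hW hu hua L

/-- `κ_u = (q - 1) o` for a member `e` centralising `u` -/
theorem card_membersAt_line_gen (h : Crit G α z) (hF : LineFacts α z) (hW : Wide α z (localGen z u))
    (hu : orderOf u = 2) (hua : u • a = a) (huD : ¬ IsConj z u) (L : LineData z u a A Q X q j) {e : G}
    (he : e ∈ membersAt z u a) :
    Nat.card (membersAt z u a) = (q - 1) * Nat.card (oddPartners z (u * e) e a) := by
  have hee := sq_of_order_two (orderOf_conj h he.1)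
  refine card_members_eq h hF hW hu hua L (order_two_of_mul_self ?_ fun e' => huD ?_) ?_
    ⟨he.1, he.2.1.mul_left (Commute.refl e), he.2.2⟩ (by rw [mul_assoc, hee, mul_one])
  · rw [he.2.1.symm.mul_mul_mul_comm, sq_of_order_two hu, hee, one_mul]
  · rw [eq_inv_of_mul_eq_one_left e', inv_of_order_two (orderOf_conj h he.1)]
    exact he.1
  · rw [mul_smul, he.2.2, hua]

/-- B2 on lines: `n - f ≤ f (f_v - 1) (q_v - 1)` -/
theorem line_points_bound [Finite α] [FaithfulSMul G α] (h : Crit G α z) (hF : LineFacts α z) {u e : G}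
    (hu : orderOf u = 2) (hua : u • a = a) (hnD : ¬ IsConj z u) {b : α} (hub : u • b = b) (hab : a ≠ b)
    (he : e ∈ membersAt z u a) (hW : Wide α z (localGen z (u * e))) {Av Qv Xv : Subgroup G} {qv jv : ℕ}
    (Lv : LineData z (u * e) a Av Qv Xv qv jv) :
    Nat.card α - Nat.card (fixedBy α u) ≤
        Nat.card (fixedBy α u) * ((Nat.card (fixedBy α (u * e)) - 1) * (qv - 1)) ∧
      ((∀ d ∈ membersAt z (1 : G) a, ∃ m, Odd m ∧ orderOf (d * u) = 2 * m) →
        Nat.card α - Nat.card (fixedBy α u) =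
          Nat.card (fixedBy α u) * ((Nat.card (fixedBy α (u * e)) - 1) * (qv - 1))) := by
  have hee := sq_of_order_two (orderOf_conj h he.1)
  have hv2 : orderOf (u * e) = 2 := order_two_of_mul_self
    (by rw [he.2.1.symm.mul_mul_mul_comm, sq_of_order_two hu, hee, one_mul])
    fun e' => hnD (by rw [eq_inv_of_mul_eq_one_left e', inv_of_order_two (orderOf_conj h he.1)]; exact he.1)
  have hva : (u * e) • a = a := by rw [mul_smul, he.2.2, hua]
  have hc := card_members_eq h hF hW hv2 hva Lv hu hua he rfl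
  exact ⟨points_bound h hu hua hnD hub hab he hc, points_bound_eq h hu hua hnD hub hab he hc⟩

end Cfsg.Lib.BenderSE.Crit2
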