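/-
Aschbacher's criterion: a LINE gives exact numbers (notes/s1175_h5_line.md, section 3). The members at `a`
generate a group `Y Ā` with `Y` odd and normal in the stabiliser of `a`; for an involution `u` outside the class
with a member `e` centralising it, `(Q - 1)(n - f) = (q - 1)^2 f (f_v - 1)`, `v = u e`, where `q` and `Q` count
the classes of members modulo `Y`.
-/
import Cfsg.Agent.BenderSE.Criterion2.LineGen
import Cfsg.Agent.BenderSE.Criterion2.Members

set_option autoImplicit false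
set_option linter.unusedSectionVars false
set_option linter.style.haveILetI false

namespace Cfsg.Lib.BenderSE.Crit2

open Subgroup MulAction Cfsg.Lib.InvolCalc Cfsg.Lib.StrongEmb Cfsg.Lib.BenderSE

variable {G α : Type*} [Group G] [MulAction G α] {z : G}

/-- the group generated by the members at a point -/
abbrev membersGroup (z : G) (a : α) : Subgroup G := closure (membersAt z (1 : G) a)

/-- `Y`: modulo it the members at `a` are the nontrivial elements of an elementary group -/
structure MemberCore (α : Type*) [MulAction G α] (z : G) (a : α) (Y : Subgroup G) : Prop where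
  odd : Odd (Nat.card Y)
  le : Y ≤ membersGroup z a
  norm : ∀ g : G, g • a = a → g ∈ normalizer (Y : Set G)
  mem_or : ∀ g ∈ membersGroup z a, g ∈ Y ∨ ∃ d ∈ membersAt z (1 : G) a, d * g ∈ Y
  fix_other : ∃ b, b ≠ a ∧ ∀ y ∈ Y, y • b = b

/-- the number of classes of the group of members at `a` centralising `u`, modulo `Y` -/
noncomputable def lineRank (z u : G) (a : α) (Y : Subgroup G) : ℕ :=
  Nat.card ((QuotientGroup.mk : G → G ⧸ Y) '' ((membersGroup z a ⊓ centralizer ({u} : Set G) : Subgroup G) : Set G))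

theorem mem_members_one {a : α} {d : G} (hd : IsConj z d) (hda : d • a = a) : d ∈ membersAt z (1 : G) a :=
  ⟨hd, Commute.one_left d, hda⟩

theorem membersGroup_le_stabilizer (z : G) (a : α) : membersGroup z a ≤ stabilizer G a :=
  (closure_le _).2 fun _ hd => mem_stabilizer_iff.2 hd.2.2

/-- an element fixing `a` normalises the group of members there -/
theorem mem_normalizer_membersGroup [Finite G] {a : α} {g : G} (hga : g • a = a) :
    g ∈ normalizer (membersGroup z a : Set G) := by
  refine Cfsg.Lib.ZStarApps.mem_normalizer_of_maps fun w hw => ?_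
  induction hw using Subgroup.closure_induction with
  | mem q hq =>
    exact subset_closure (mem_members_one (hq.1.trans (isConj_iff.2 ⟨g, rfl⟩))
      (by rw [mul_smul, mul_smul, inv_smul_eq_iff.2 hga.symm, hq.2.2, hga]))
  | one => simp
  | mul p q _ _ ihp ihq =>
    rw [show g * (p * q) * g⁻¹ = (g * p * g⁻¹) * (g * q * g⁻¹) by group]; exact mul_mem ihp ihq
  | inv p _ ihp => rw [show g * p⁻¹ * g⁻¹ = (g * p * g⁻¹)⁻¹ by group]; exact inv_mem ihp

/-- a set is the number of its classes times the common class size -/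
theorem card_eq_image_mul [Finite G] {β : Type*} (f : G → β) (S : Set G) (c : ℕ)
    (hc : ∀ x ∈ S, Nat.card {y | y ∈ S ∧ f y = f x} = c) : Nat.card S = Nat.card (f '' S) * c := by
  classical
  set T := (Set.toFinite S).toFinset with hT
  rw [Nat.card_coe_set_eq, Set.ncard_eq_toFinset_card _ (Set.toFinite _), Nat.card_coe_set_eq, ← hT,
    show (f '' S).ncard = (T.image f).card by
      rw [← Set.ncard_coe_finset, Finset.coe_image, hT, Set.Finite.coe_toFinset]]
  refine (Finset.card_eq_sum_card_image f T).trans ?_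
  refine (Finset.sum_congr rfl fun v hv => ?_).trans (by rw [Finset.sum_const, smul_eq_mul])
  obtain ⟨x, hx, rfl⟩ := Finset.mem_image.1 hv
  rw [hT, Set.Finite.mem_toFinset] at hx
  refine Eq.trans ?_ (hc x hx)
  rw [Nat.card_coe_set_eq, ← Set.ncard_coe_finset]
  congr 1
  ext d
  simp [hT]

section Line

variable [Finite G] [IsPretransitive G α] (h : Crit G α z)
include h

/-- a LINE passes through every point -/
theorem hasLine_at (hL : HasLine α z) (a : α) :
    ∃ (J : Subgroup G) (b : α), J ≠ ⊤ ∧ b ≠ a ∧ ∀ d : G, IsConj z d → (d • a = a ∨ d • b = b) → d ∈ J := by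
  obtain ⟨J, hJ, a', b', hab, hmem⟩ := hL
  obtain ⟨g, rfl⟩ := exists_smul_eq G a' a
  refine ⟨J.map (MulAut.conj g).toMonoidHom, g • b', fun htop => hJ ?_, fun e => hab (smul_left_cancel g e).symm,
    fun d hd hdx => ?_⟩
  · refine Subgroup.eq_top_iff' J |>.2 fun x => ?_
    obtain ⟨y, hy, hyx⟩ : MulAut.conj g x ∈ J.map (MulAut.conj g).toMonoidHom := htop ▸ Subgroup.mem_top _
    rwa [← (MulAut.conj g).injective hyx]
  · refine ⟨g⁻¹ * d * g, hmem _ (hd.trans (isConj_iff.2 ⟨g⁻¹, by rw [inv_inv]⟩)) ?_, by simp [mul_assoc]⟩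
    rcases hdx with e | e
    · exact Or.inl (by rw [mul_smul, mul_smul, e, inv_smul_smul])
    · exact Or.inr (by rw [mul_smul, mul_smul, e, inv_smul_smul])

/-- the core of the members at `a` on a LINE -/
theorem exists_memberCore [FaithfulSMul G α] (hF : LineFacts α z) {d₀ e₀ : G} (hd₀ : IsConj z d₀)
    (he₀ : IsConj z e₀) (hc₀ : Commute d₀ e₀) (hne₀ : d₀ ≠ e₀) (hL : HasLine α z) (a : α) :
    ∃ Y : Subgroup G, MemberCore α z a Y := by
  obtain ⟨J, b, hJ, hba, hmem⟩ := hasLine_at h hL a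
  obtain ⟨d, hd, hda, -⟩ := h.central a ⊥ IsPGroup.of_bot fun g hg => by rw [mem_bot.1 hg, one_smul]
  obtain ⟨e', he', he'b, -⟩ := h.central b ⊥ IsPGroup.of_bot fun g hg => by rw [mem_bot.1 hg, one_smul]
  obtain ⟨g, rfl⟩ := isConj_iff.1 (hd₀.symm.trans hd)
  have he : IsConj z (g * e₀ * g⁻¹) := he₀.trans (isConj_iff.2 ⟨g, rfl⟩)
  have hc : Commute (g * d₀ * g⁻¹) (g * e₀ * g⁻¹) := by simpa using hc₀.map (MulAut.conj g).toMonoidHom
  obtain ⟨w, hw, -⟩ := h.uniq _ he
  obtain rfl := centre_eq_of_commute h hd he hc hda hw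
  have hW : Wide α z J := wide_mk h hJ (hmem _ hd (Or.inl hda)) (hmem _ he (Or.inl hw)) (hmem _ he' (Or.inr he'b))
    hd he he' hc (fun e' => hne₀ (by simpa using e')) hda he'b hba.symm
  have ha : a ∈ memberCentres α z J := ⟨_, hmem _ hd (Or.inl hda), hd, hda⟩
  set M₀ := membersGroup z a with hM₀
  have hM₀J : M₀ ≤ J := (closure_le _).2 fun q hq => hmem q hq.1 (Or.inl hq.2.2)
  have hinJ : ∀ q ∈ M₀, q ∈ membersCore z J a := fun q hq => by
    refine (closure_le (membersCore z J a)).2 (fun p hp => subset_closure (Or.inl ⟨?_, hp.1, hp.2.2⟩)) hq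
    exact hmem p hp.1 (Or.inl hp.2.2)
  have hOJ : ∀ q ∈ M₀, q ∈ oddCoreOf J → q ∈ oddCoreOf M₀ := fun q hq hqO => by
    refine le_oddCoreOf (L := M₀ ⊓ oddCoreOf J) inf_le_left (fun m hm => conj_mem_inf (le_normalizer hm)
      (le_normalizer_oddCoreOf J (hM₀J hm))) ((odd_card_oddCoreOf J).of_dvd_nat (card_dvd_of_le inf_le_right))
      (mem_inf.2 ⟨hq, hqO⟩)
  refine ⟨oddCoreOf M₀, odd_card_oddCoreOf M₀, oddCoreOf_le M₀, fun q hq =>
    normalizer_le_normalizer_oddCoreOf M₀ (mem_normalizer_membersGroup hq), fun q hq => ?_, b, hba, fun y hy => ?_⟩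
  · rcases mem_membersCore h hF hW (hinJ q hq) with h1 | ⟨m, -, hm, hma, hmq⟩
    · exact Or.inl (hOJ q hq h1)
    · exact Or.inr ⟨m, mem_members_one hm hma,
        hOJ _ (mul_mem (subset_closure (mem_members_one hm hma)) hq) hmq⟩
  · refine hF.core_fix J hW b ⟨e', hmem _ he' (Or.inr he'b), he', he'b⟩ y ?_
    rcases mem_membersCore h hF hW (hinJ y (oddCoreOf_le M₀ hy)) with h1 | ⟨m, hmJ, hm, hma, hmy⟩
    · exact h1
    · exfalso
      have hmy' := hOJ _ (mul_mem (subset_closure (mem_members_one hm hma)) (oddCoreOf_le M₀ hy)) hmy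
      have hm' : m ∈ oddCoreOf M₀ := by
        rw [show m = m * y * y⁻¹ by group]
        exact mul_mem hmy' (inv_mem hy)
      have h2 := (odd_card_oddCoreOf M₀).of_dvd_nat (Subgroup.orderOf_dvd_natCard _ hm')
      rw [orderOf_conj h hm] at h2
      exact absurd h2 (by decide)

end Line

section Core

variable [Finite G] (h : Crit G α z) {a : α} {Y : Subgroup G} (hY : MemberCore α z a Y)
include h hY

theorem MemberCore.sq {g : G} (hg : g ∈ membersGroup z a) : g * g ∈ Y := by
  rcases hY.mem_or g hg with h1 | ⟨d, hd, hdg⟩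
  · exact mul_mem h1 h1
  · rw [show g * g = (d⁻¹ * (d * g) * d⁻¹) * (d * g) by group]
    nth_rewrite 2 [inv_of_order_two (orderOf_conj h hd.1)]
    exact mul_mem ((mem_normalizer_iff''.1 (hY.norm d hd.2.2) _).1 hdg) hdg

theorem MemberCore.mem_of_odd {g : G} (hg : g ∈ membersGroup z a) (hodd : Odd (orderOf g)) : g ∈ Y := by
  obtain ⟨k, hk⟩ := hodd
  rw [show g = (g * g) ^ (k + 1) by
    rw [← pow_two, ← pow_mul, show 2 * (k + 1) = orderOf g + 1 by omega, pow_succ, pow_orderOf_eq_one, one_mul]]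
  exact pow_mem (hY.sq h hg) _

theorem MemberCore.commutator {g k : G} (hg : g ∈ membersGroup z a) (hk : k ∈ membersGroup z a) :
    g * k * g⁻¹ * k⁻¹ ∈ Y := by
  rw [show g * k * g⁻¹ * k⁻¹ = (g * g) * ((g⁻¹ * k) * (g⁻¹ * k)) * (k⁻¹ * k⁻¹) by group]
  exact mul_mem (mul_mem (hY.sq h hg) (hY.sq h (mul_mem (inv_mem hg) hk))) (hY.sq h (inv_mem hk))

omit hY in
theorem mk_eq_iff {d d' : G} (hd : IsConj z d) :
    (QuotientGroup.mk d : G ⧸ Y) = QuotientGroup.mk d' ↔ d * d' ∈ Y := by
  rw [QuotientGroup.eq, inv_of_order_two (orderOf_conj h hd)]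

theorem MemberCore.notMem {d : G} (hd : IsConj z d) : d ∉ Y := fun hdY => by
  have h2 := hY.odd.of_dvd_nat (Subgroup.orderOf_dvd_natCard _ hdY)
  rw [orderOf_conj h hd] at h2
  exact absurd h2 (by decide)

omit hY in
/-- the classes fixed by an element of order two at `a` outside the class -/
theorem oddTwice_of_sq {u : G} (hu : orderOf u = 2) (hnD : ¬ IsConj z u) (hY : MemberCore α z a Y) {d : G}
    (hd : d ∈ membersAt z (1 : G) a) (hdu : d * u * (d * u) ∈ Y) : d ∈ oddTwice z u a := by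
  refine ⟨hd, orderOf (d * u * (d * u)), hY.odd.of_dvd_nat (Subgroup.orderOf_dvd_natCard _ hdu), ?_⟩
  have hev : Even (orderOf (d * u)) := by
    rw [← Nat.not_odd_iff_even]
    intro hodd
    obtain ⟨g, -, hg⟩ := conj_of_odd (orderOf_conj h hd.1) hu hodd
    exact hnD (hd.1.trans (isConj_iff.2 ⟨g, hg⟩))
  rw [← pow_two, orderOf_pow, Nat.gcd_eq_right (even_iff_two_dvd.1 hev)]
  obtain ⟨i, hi⟩ := hev
  omega

variable {u : G} (hu : orderOf u = 2) (hnD : ¬ IsConj z u) (hua : u • a = a)
include hu hnD hua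

/-- a class is fixed by `u` exactly when it has a member centralising `u` -/
theorem MemberCore.class_fixed_iff {d : G} (hd : d ∈ membersAt z (1 : G) a) :
    d * u * (d * u) ∈ Y ↔ ∃ e ∈ membersAt z u a, d * e ∈ Y := by
  have huu := sq_of_order_two hu
  have hui : u⁻¹ = u := inv_eq_of_mul_eq_one_right huu
  have hdd := sq_of_order_two (orderOf_conj h hd.1)
  constructor
  · intro hdu
    obtain ⟨-, m, hm, hord⟩ := oddTwice_of_sq h hu hnD hY hd hdu
    obtain ⟨hevn, hk⟩ : Even (orderOf (d * u)) ∧ orderOf (d * u) / 2 = m :=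
      ⟨hord ▸ even_two_mul m, by omega⟩
    obtain ⟨hw, hwd, hwu⟩ := central_spec (orderOf_conj h hd.1) hu hevn
    rw [hk] at hw hwd hwu
    set w := (d * u) ^ m with hwdef
    obtain ⟨i, hi⟩ := hm
    have hwM : w * u ∈ membersAt z u a := by
      refine ⟨?_, hwu.symm.mul_right (Commute.refl u), ?_⟩
      · have h1 := isConj_rot h hd.1 (hd.1.trans (isConj_iff.2 ⟨u, rfl⟩)) (i : ℤ)
        have h2 : (d * (u * d * u⁻¹)) ^ (i : ℤ) * d = w * u := by
          rw [hui, show d * (u * d * u) = (d * u) * (d * u) by group, zpow_natCast, ← pow_two, ← pow_mul, hwdef, hi,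
            pow_succ, mul_assoc, mul_assoc, huu, mul_one]
        rwa [h2] at h1
      · rw [mul_smul, hua]
        exact mem_stabilizer_iff.1 (pow_mem (mem_stabilizer_iff.2 (show (d * u) • a = a by
          rw [mul_smul, hua, hd.2.2])) m)
    have hdw : d * (w * u) = w * (d * u) := by rw [← mul_assoc, ← hwd.eq, mul_assoc]
    refine ⟨w * u, hwM, hY.mem_of_odd h (mul_mem (subset_closure hd) (subset_closure (mem_members_one hwM.1 hwM.2.2))) ?_⟩
    rw [hdw]
    refine (show Odd m from ⟨i, hi⟩).of_dvd_nat (orderOf_dvd_of_pow_eq_one ?_)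
    rw [((Commute.refl (d * u)).pow_left m).mul_pow, ← hwdef, ← pow_succ, hi,
      show 2 * i + 1 + 1 = 2 * (i + 1) by ring, pow_mul, pow_two, sq_of_order_two hw, one_pow]
  · rintro ⟨e, he, hde⟩
    have hudu : u * (d * e) * u⁻¹ ∈ Y := (mem_normalizer_iff.1 (hY.norm u hua) _).1 hde
    rw [hui] at hudu
    have hee := sq_of_order_two (orderOf_conj h he.1)
    have key : d * u * (d * u) = (d * e) * (e * (u * (d * e) * u) * e) := by
      rw [show (d * e) * (e * (u * (d * e) * u) * e) = d * (e * e) * u * d * (e * u) * e by group, hee, mul_one,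
        ← he.2.1.eq, show d * u * d * (u * e) * e = d * u * (d * u) * (e * e) by group, hee, mul_one]
    rw [key]
    refine mul_mem hde ?_
    have := (mem_normalizer_iff.1 (hY.norm e he.2.2) _).1 hudu
    rwa [inv_of_order_two (orderOf_conj h he.1)] at this

/-- the classes of the members centralising `u` and the identity class -/
theorem MemberCore.lineRank_eq :
    lineRank z u a Y = Nat.card ((QuotientGroup.mk : G → G ⧸ Y) '' membersAt z u a) + 1 := by
  classical
  have huu := sq_of_order_two hu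
  set mk : G → G ⧸ Y := QuotientGroup.mk
  have hset : mk '' ((membersGroup z a ⊓ centralizer ({u} : Set G) : Subgroup G) : Set G) =
      insert (mk 1) (mk '' membersAt z u a) := by
    ext c
    constructor
    · rintro ⟨g, hg, rfl⟩
      obtain ⟨hgM, hgu⟩ := mem_inf.1 hg
      rcases hY.mem_or g hgM with h1 | ⟨d, hd, hdg⟩
      · exact Or.inl (QuotientGroup.eq.2 (by rw [mul_one]; exact inv_mem h1))
      · refine Or.inr ?_
        have hgu' : Commute g u := mem_centralizer_singleton_iff.1 hgu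
        have hdu : d * u * (d * u) ∈ Y := by
          have h1 : u * (d * g) * u⁻¹ ∈ Y := (mem_normalizer_iff.1 (hY.norm u hua) _).1 hdg
          have h2 := (mem_normalizer_iff.1 (hY.norm d hd.2.2) _).1 (mul_mem h1 (inv_mem hdg))
          rw [inv_of_order_two (orderOf_conj h hd.1)] at h2
          rw [inv_of_order_two hu, show u * (d * g) * u * (d * g)⁻¹ = u * d * (g * u) * g⁻¹ * d⁻¹ by group,
            hgu'.eq, inv_of_order_two (orderOf_conj h hd.1),
            show u * d * (u * g) * g⁻¹ * d = u * d * u * d by group,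
            show d * (u * d * u * d) * d = d * u * (d * u) * (d * d) by group,
            sq_of_order_two (orderOf_conj h hd.1), mul_one] at h2
          exact h2
        obtain ⟨e, he, hde⟩ := (hY.class_fixed_iff h hu hnD hua hd).1 hdu
        refine ⟨e, he, ((mk_eq_iff h he.1).2 ?_)⟩
        rw [show e * g = (e * d) * (d * g) by
          rw [show (e * d) * (d * g) = e * (d * d) * g by group, sq_of_order_two (orderOf_conj h hd.1), mul_one]]
        refine mul_mem ?_ hdg
        have := inv_mem hde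
        rwa [mul_inv_rev, inv_of_order_two (orderOf_conj h hd.1), inv_of_order_two (orderOf_conj h he.1)] at this
    · rintro (rfl | ⟨e, he, rfl⟩)
      · exact ⟨1, one_mem _, rfl⟩
      · exact ⟨e, mem_inf.2 ⟨subset_closure (mem_members_one he.1 he.2.2),
          mem_centralizer_singleton_iff.2 he.2.1.symm⟩, rfl⟩
  rw [lineRank, hset, Nat.card_coe_set_eq, Nat.card_coe_set_eq, Set.ncard_insert_of_notMem ?_ (Set.toFinite _)]
  rintro ⟨e, he, hee⟩
  refine hY.notMem h he.1 ?_
  have h1 := (mk_eq_iff h he.1).1 hee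
  rwa [mul_one] at h1

omit hu hnD hua in
/-- all classes: the group of members -/
theorem MemberCore.lineRank_one :
    lineRank z (1 : G) a Y = Nat.card ((QuotientGroup.mk : G → G ⧸ Y) '' membersAt z (1 : G) a) + 1 := by
  classical
  set mk : G → G ⧸ Y := QuotientGroup.mk
  have hset : mk '' ((membersGroup z a ⊓ centralizer ({(1 : G)} : Set G) : Subgroup G) : Set G) =
      insert (mk 1) (mk '' membersAt z (1 : G) a) := by
    ext c
    constructor
    · rintro ⟨g, hg, rfl⟩
      rcases hY.mem_or g (mem_inf.1 hg).1 with h1 | ⟨d, hd, hdg⟩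
      · exact Or.inl (QuotientGroup.eq.2 (by rw [mul_one]; exact inv_mem h1))
      · exact Or.inr ⟨d, hd, (mk_eq_iff h hd.1).2 hdg⟩
    · rintro (rfl | ⟨e, he, rfl⟩)
      · exact ⟨1, one_mem _, rfl⟩
      · exact ⟨e, mem_inf.2 ⟨subset_closure he, mem_centralizer_singleton_iff.2 (by rw [mul_one, one_mul])⟩, rfl⟩
  rw [lineRank, hset, Nat.card_coe_set_eq, Nat.card_coe_set_eq, Set.ncard_insert_of_notMem ?_ (Set.toFinite _)]
  rintro ⟨e, he, hee⟩
  refine hY.notMem h he.1 ?_
  have h1 := (mk_eq_iff h he.1).1 hee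
  rwa [mul_one] at h1

/-- the members centralising `u`: classes times odd partners -/
theorem MemberCore.card_members {b : α} (hub : u • b = b) (hab : a ≠ b) {e : G} (he : e ∈ membersAt z u a) :
    Nat.card (membersAt z u a) =
      (lineRank z u a Y - 1) * Nat.card (oddPartners z (u * e) e a) := by
  rw [hY.lineRank_eq h hu hnD hua, Nat.add_sub_cancel]
  refine card_eq_image_mul _ _ _ fun x hx => ?_
  have hset : ∀ x ∈ membersAt z u a, {y | y ∈ membersAt z u a ∧ (QuotientGroup.mk y : G ⧸ Y) = QuotientGroup.mk x} =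
      oddPartners z (u * x) x a := by
    intro x hx
    ext y
    have hux : u * x * x = u := by rw [mul_assoc, sq_of_order_two (orderOf_conj h hx.1), mul_one]
    constructor
    · rintro ⟨hy, hyx⟩
      refine ⟨hux.symm ▸ hy, hY.odd.of_dvd_nat (Subgroup.orderOf_dvd_natCard _ ((mk_eq_iff h hy.1).1 hyx))⟩
    · rintro ⟨hy, hodd⟩
      rw [hux] at hy
      exact ⟨hy, (mk_eq_iff h hy.1).2 (hY.mem_of_odd h (mul_mem (subset_closure (mem_members_one hy.1 hy.2.2))
        (subset_closure (mem_members_one hx.1 hx.2.2))) hodd)⟩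
  rw [hset x hx]
  obtain ⟨g, hgu, hge, -⟩ := partner_conj h hu hua hub hab he.1 hx.1 he.2.1 hx.2.1
  have hga : g • a = a := conj_centre h hx.1 hge he.2.2 hx.2.2
  have h1 := card_oddPartners_conj (z := z) g (u * e) e a
  rwa [show g * (u * e) * g⁻¹ = (g * u * g⁻¹) * (g * e * g⁻¹) by group, hgu.eq, mul_inv_cancel_right, hge, hga]
    at h1

/-- the classes of `u` and of its product with a member centralising it agree -/
theorem MemberCore.lineRank_mul [FaithfulSMul G α] {b : α} (hub : u • b = b) (hab : a ≠ b) {e : G}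
    (he : e ∈ membersAt z u a) : lineRank z (u * e) a Y = lineRank z u a Y := by
  have huu := sq_of_order_two hu
  have hee := sq_of_order_two (orderOf_conj h he.1)
  have hv : orderOf (u * e) = 2 := order_two_of_mul_self
    (by rw [he.2.1.symm.mul_mul_mul_comm, huu, hee, one_mul]) fun e' => hnD (by
      rw [eq_inv_of_mul_eq_one_left e', inv_eq_of_mul_eq_one_right hee]; exact he.1)
  have hvD := mul_not_conj h hu hua hub hab he.1 he.2.1
  have hva : (u * e) • a = a := by rw [mul_smul, he.2.2, hua]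
  rw [hY.lineRank_eq h hv hvD hva, hY.lineRank_eq h hu hnD hua]
  congr 2
  have key : ∀ d ∈ membersAt z (1 : G) a, d * u * (d * u) ∈ Y ↔ d * (u * e) * (d * (u * e)) ∈ Y := by
    intro d hd
    have hc : d * e * d * e ∈ Y := by
      have := hY.commutator h (subset_closure hd) (subset_closure (mem_members_one he.1 he.2.2))
      rwa [inv_of_order_two (orderOf_conj h hd.1), inv_of_order_two (orderOf_conj h he.1)] at this
    have e1 : d * (u * e) * (d * (u * e)) = (d * u * (d * u)) * ((d * u)⁻¹ * (e * d * e * d) * (d * u)) := by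
      rw [mul_inv_rev, inv_of_order_two (orderOf_conj h hd.1), inv_of_order_two hu,
        show d * u * (d * u) * (u * d * (e * d * e * d) * (d * u)) =
          d * u * d * (u * u) * d * e * d * e * (d * d) * u by group, huu, sq_of_order_two (orderOf_conj h hd.1),
        mul_one, mul_one, show d * u * d * d = d * u * (d * d) by group, sq_of_order_two (orderOf_conj h hd.1),
        mul_one, show d * (u * e) * (d * (u * e)) = d * u * (e * d * (u * e)) by group, he.2.1.eq]
      group
    have hn : (d * u)⁻¹ * (e * d * e * d) * (d * u) ∈ Y := by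
      refine (mem_normalizer_iff''.1 (hY.norm _ ?_) _).1 ?_
      · rw [mul_smul, hua, hd.2.2]
      · have := inv_mem hc
        rwa [mul_inv_rev, mul_inv_rev, mul_inv_rev, inv_of_order_two (orderOf_conj h hd.1),
          inv_of_order_two (orderOf_conj h he.1), ← mul_assoc, ← mul_assoc] at this
    rw [e1, Subgroup.mul_mem_cancel_right Y hn]
  have hrep : ∀ (w : G), orderOf w = 2 → ¬ IsConj z w → w • a = a →
      (QuotientGroup.mk : G → G ⧸ Y) '' membersAt z w a =
        QuotientGroup.mk '' {d | d ∈ membersAt z (1 : G) a ∧ d * w * (d * w) ∈ Y} := by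
    intro w hw hwD hwa
    ext c
    constructor
    · rintro ⟨x, hx, rfl⟩
      refine ⟨x, ⟨mem_members_one hx.1 hx.2.2, (hY.class_fixed_iff h hw hwD hwa (mem_members_one hx.1 hx.2.2)).2
        ⟨x, hx, ?_⟩⟩, rfl⟩
      rw [sq_of_order_two (orderOf_conj h hx.1)]
      exact one_mem Y
    · rintro ⟨x, ⟨hx, hxw⟩, rfl⟩
      obtain ⟨y, hy, hxy⟩ := (hY.class_fixed_iff h hw hwD hwa hx).1 hxw
      exact ⟨y, hy, ((mk_eq_iff h hx.1).2 hxy).symm⟩
  rw [hrep _ hv hvD hva, hrep _ hu hnD hua]
  congr 2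
  ext d
  exact and_congr_right fun hd => (key d hd).symm

omit hu hnD hua in
/-- all members at `a`: classes times class size -/
theorem MemberCore.card_all {x : G} (hx : x ∈ membersAt z (1 : G) a) :
    Nat.card (membersAt z (1 : G) a) = (lineRank z (1 : G) a Y - 1) *
      Nat.card {y | y ∈ membersAt z (1 : G) a ∧ (QuotientGroup.mk y : G ⧸ Y) = QuotientGroup.mk x} := by
  rw [hY.lineRank_one h, Nat.add_sub_cancel]
  refine card_eq_image_mul _ _ _ fun x' hx' => ?_
  obtain ⟨b, hb, -⟩ := hY.fix_other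
  obtain ⟨g, -, hg⟩ := members_conj h (P := ⊥) IsPGroup.of_bot
    ⟨a, fun q hq => by rw [mem_bot.1 hq, one_smul], b, fun q hq => by rw [mem_bot.1 hq, one_smul], hb.symm⟩
    hx.1 hx'.1 (fun q hq => by rw [mem_bot.1 hq]; exact Commute.one_left _)
    (fun q hq => by rw [mem_bot.1 hq]; exact Commute.one_left _)
  have hga : g • a = a := conj_centre h hx'.1 hg hx.2.2 hx'.2.2
  refine (Nat.card_congr (Equiv.subtypeEquiv (MulAut.conj g).toEquiv fun y => ?_)).symm
  show y ∈ membersAt z (1 : G) a ∧ (QuotientGroup.mk y : G ⧸ Y) = QuotientGroup.mk x ↔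
    g * y * g⁻¹ ∈ membersAt z (1 : G) a ∧ (QuotientGroup.mk (g * y * g⁻¹) : G ⧸ Y) = QuotientGroup.mk x'
  have hgi : g⁻¹ • a = a := inv_smul_eq_iff.2 hga.symm
  have hmem : ∀ p, p ∈ membersAt z (1 : G) a ↔ g * p * g⁻¹ ∈ membersAt z (1 : G) a := fun p =>
    ⟨fun hp => mem_members_one (hp.1.trans (isConj_iff.2 ⟨g, rfl⟩))
      (by rw [mul_smul, mul_smul, hgi, hp.2.2, hga]),
    fun hp => mem_members_one (hp.1.trans (isConj_iff.2 ⟨g⁻¹, by group⟩)) (by
      rw [show p = g⁻¹ * (g * p * g⁻¹) * g by group, mul_smul, mul_smul, hga, hp.2.2, hgi])⟩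
  refine and_congr (hmem y) ?_
  rw [QuotientGroup.eq, QuotientGroup.eq, ← hg, show (g * y * g⁻¹)⁻¹ * (g * x * g⁻¹) = g * (y⁻¹ * x) * g⁻¹ by group]
  exact mem_normalizer_iff.1 (hY.norm g hga) _

/-- EXACT NUMBERS on a LINE: `(Q - 1)(n - f) = (q - 1)^2 f (f_v - 1)` -/
theorem MemberCore.exact_count [Finite α] [FaithfulSMul G α] {b : α} (hub : u • b = b) (hab : a ≠ b) {e : G}
    (he : e ∈ membersAt z u a) :
    (lineRank z (1 : G) a Y - 1) * (Nat.card α - Nat.card (fixedBy α u)) =
        (lineRank z u a Y - 1) * (lineRank z u a Y - 1) *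
          (Nat.card (fixedBy α u) * (Nat.card (fixedBy α (u * e)) - 1)) ∧
      Nat.card (membersAt z (1 : G) a) = (lineRank z (1 : G) a Y - 1) *
        (Nat.card (oddPartners z (u * e) e a) * Nat.card (oddPartners z u e a)) ∧
      Nat.card (membersAt z u a) = (lineRank z u a Y - 1) * Nat.card (oddPartners z (u * e) e a) ∧
      Nat.card (membersAt z (u * e) a) = (lineRank z u a Y - 1) * Nat.card (oddPartners z u e a) := by
  have huu := sq_of_order_two hu
  have hee := sq_of_order_two (orderOf_conj h he.1)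
  set q := lineRank z u a Y - 1 with hq
  set o := Nat.card (oddPartners z (u * e) e a)
  set o' := Nat.card (oddPartners z u e a)
  have hκ : Nat.card (membersAt z u a) = q * o := hY.card_members h hu hnD hua hub hab he
  obtain ⟨x, y, hxy, hx, hy⟩ := mul_two_fix h hu hua hub hab he.1 he.2.1
  have hva : (u * e) • a = a := by rw [mul_smul, he.2.2, hua]
  obtain ⟨c, hac, hc⟩ : ∃ c, a ≠ c ∧ (u * e) • c = c := by
    by_cases hax : a = x
    · exact ⟨y, hax ▸ hxy, hy⟩
    · exact ⟨x, hax, hx⟩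
  have hev : e ∈ membersAt z (u * e) a := ⟨he.1, he.2.1.mul_left (Commute.refl e), he.2.2⟩
  have hκv : Nat.card (membersAt z (u * e) a) = q * o' := by
    have hv : orderOf (u * e) = 2 := order_two_of_mul_self
      (by rw [he.2.1.symm.mul_mul_mul_comm, huu, hee, one_mul]) fun e' => hnD (by
        rw [eq_inv_of_mul_eq_one_left e', inv_eq_of_mul_eq_one_right hee]; exact he.1)
    rw [hY.card_members h hv (mul_not_conj h hu hua hub hab he.1 he.2.1) hva hc hac hev,
      hY.lineRank_mul h hu hnD hua hub hab he, mul_assoc u e e, hee, mul_one]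
  -- the class of `e`
  set F := {y | y ∈ membersAt z (1 : G) a ∧ (QuotientGroup.mk y : G ⧸ Y) = QuotientGroup.mk e}
  have hk : Nat.card (membersAt z (1 : G) a) = (lineRank z (1 : G) a Y - 1) * Nat.card F :=
    hY.card_all h (mem_members_one he.1 he.2.2)
  -- the members of the classes fixed by `u`
  have hodd : oddTwice z u a = {d | d ∈ membersAt z (1 : G) a ∧ d * u * (d * u) ∈ Y} := by
    ext d
    refine ⟨fun hd => ⟨hd.1, ?_⟩, fun hd => oddTwice_of_sq h hu hnD hY hd.1 hd.2⟩
    obtain ⟨hdm, m, hm, hord⟩ := hd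
    exact hY.mem_of_odd h (by
      have hdM : d ∈ membersGroup z a := subset_closure hdm
      have hud : u * d * u⁻¹ ∈ membersGroup z a :=
        (mem_normalizer_iff.1 (mem_normalizer_membersGroup hua) d).1 hdM
      rw [inv_of_order_two hu] at hud
      rw [show d * u * (d * u) = d * (u * d * u) by group]
      exact mul_mem hdM hud) (by
      rw [← pow_two, orderOf_pow, hord, Nat.gcd_eq_right (dvd_mul_right 2 m), Nat.mul_div_cancel_left m two_pos]
      exact hm)
  have hfixed : Nat.card (oddTwice z u a) = q * Nat.card F := by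
    rw [hodd, hq, hY.lineRank_eq h hu hnD hua, Nat.add_sub_cancel]
    have himg : (QuotientGroup.mk : G → G ⧸ Y) '' {d | d ∈ membersAt z (1 : G) a ∧ d * u * (d * u) ∈ Y} =
        QuotientGroup.mk '' membersAt z u a := by
      ext c
      constructor
      · rintro ⟨x, ⟨hx, hxw⟩, rfl⟩
        obtain ⟨y, hy, hxy⟩ := (hY.class_fixed_iff h hu hnD hua hx).1 hxw
        exact ⟨y, hy, ((mk_eq_iff h hx.1).2 hxy).symm⟩
      · rintro ⟨x, hx, rfl⟩
        refine ⟨x, ⟨mem_members_one hx.1 hx.2.2, (hY.class_fixed_iff h hu hnD hua (mem_members_one hx.1 hx.2.2)).2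
          ⟨x, hx, ?_⟩⟩, rfl⟩
        rw [sq_of_order_two (orderOf_conj h hx.1)]
        exact one_mem Y
    rw [← himg]
    refine card_eq_image_mul _ _ _ fun x hx => ?_
    have hsub : {y | (y ∈ membersAt z (1 : G) a ∧ y * u * (y * u) ∈ Y) ∧
        (QuotientGroup.mk y : G ⧸ Y) = QuotientGroup.mk x} =
        {y | y ∈ membersAt z (1 : G) a ∧ (QuotientGroup.mk y : G ⧸ Y) = QuotientGroup.mk x} := by
      ext y
      refine ⟨fun hy => ⟨hy.1.1, hy.2⟩, fun hy => ⟨⟨hy.1, (hY.class_fixed_iff h hu hnD hua hy.1).2 ?_⟩, hy.2⟩⟩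
      obtain ⟨p, hp, hxp⟩ := (hY.class_fixed_iff h hu hnD hua hx.1).1 hx.2
      refine ⟨p, hp, (mk_eq_iff h hy.1.1).1 (hy.2.trans ((mk_eq_iff h hx.1.1).2 hxp))⟩
    refine (congrArg (fun s : Set G => Nat.card s) hsub).trans ?_
    have h1 := hY.card_all h hx.1
    rw [hk] at h1
    exact (Nat.eq_of_mul_eq_mul_left (by
      have hpos : 0 < Nat.card (membersAt z (1 : G) a) := Nat.card_pos_iff.2 ⟨⟨⟨x, hx.1⟩⟩, inferInstance⟩
      rw [hk] at hpos
      exact Nat.pos_of_mul_pos_right hpos) h1).symm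
  have hqpos : 0 < q ∧ 0 < o ∧ 0 < o' := by
    have h1 : 0 < Nat.card (membersAt z u a) := Nat.card_pos_iff.2 ⟨⟨⟨e, he⟩⟩, inferInstance⟩
    have h2 : 0 < Nat.card (membersAt z (u * e) a) := Nat.card_pos_iff.2 ⟨⟨⟨e, hev⟩⟩, inferInstance⟩
    rw [hκ] at h1
    rw [hκv] at h2
    exact ⟨Nat.pos_of_mul_pos_right h1, Nat.pos_of_mul_pos_left h1, Nat.pos_of_mul_pos_left h2⟩
  have hF : Nat.card F = o * o' := by
    refine Nat.eq_of_mul_eq_mul_left hqpos.1 ?_
    rw [← hfixed, ← card_oddTwice_eq_mul h hu hua hnD hub hab he, hκ, mul_assoc]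
  refine ⟨?_, by rw [hk, hF], hκ, hκv⟩
  have hcount := incidence_count h hu hua hub hab he.1 he.2.1 he.2.2
  rw [hk, hF, hκ, hκv] at hcount
  refine Nat.eq_of_mul_eq_mul_left (Nat.mul_pos hqpos.2.1 hqpos.2.2) ?_
  calc _ = _ := by ring
    _ = _ := hcount
    _ = _ := by ring

end Core

section Rank

variable {G α : Type*} [Group G] [MulAction G α] {z : G} [Finite G]

/-- the classes of a subgroup are its index over `Y` -/
theorem lineRank_eq_relIndex (u : G) (a : α) (Y : Subgroup G) :
    lineRank z u a Y = Y.relIndex (membersGroup z a ⊓ centralizer ({u} : Set G)) := by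
  set H := membersGroup z a ⊓ centralizer ({u} : Set G)
  symm
  refine Nat.card_eq_of_bijective (Quotient.lift (fun g : H => (⟨QuotientGroup.mk (g : G), g, g.2, rfl⟩ :
    (QuotientGroup.mk : G → G ⧸ Y) '' (H : Set G))) fun g g' hgg => Subtype.ext (QuotientGroup.eq.2
      (mem_subgroupOf.1 (QuotientGroup.leftRel_apply.1 hgg)))) ⟨?_, ?_⟩
  · rintro ⟨g⟩ ⟨g'⟩ hgg
    exact QuotientGroup.eq.2 (mem_subgroupOf.2 (QuotientGroup.eq.1 (congrArg Subtype.val hgg :)))
  · rintro ⟨_, g, hg, rfl⟩
    exact ⟨QuotientGroup.mk ⟨g, hg⟩, rfl⟩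

variable {a : α} {Y : Subgroup G}

/-- the number of classes is a power of two -/
theorem MemberCore.exists_lineRank_pow (h : Crit G α z) (hY : MemberCore α z a Y) (u : G) :
    ∃ i, lineRank z u a Y = 2 ^ i := by
  set H := membersGroup z a ⊓ centralizer ({u} : Set G)
  haveI : (Y.subgroupOf H).Normal := ⟨fun y hy g => mem_subgroupOf.2 ((mem_normalizer_iff.1 (hY.norm (g : G)
    (mem_stabilizer_iff.1 (membersGroup_le_stabilizer z a (mem_inf.1 g.2).1))) _).1 (mem_subgroupOf.1 hy))⟩
  have h2 : IsPGroup 2 (H ⧸ Y.subgroupOf H) := by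
    intro q
    induction q using QuotientGroup.induction_on with
    | _ g =>
      refine ⟨1, ?_⟩
      rw [pow_one, pow_two, ← QuotientGroup.mk_mul, QuotientGroup.eq_one_iff, mem_subgroupOf]
      exact hY.sq h (mem_inf.1 g.2).1
  haveI : Fact (Nat.Prime 2) := ⟨Nat.prime_two⟩
  obtain ⟨i, hi⟩ := IsPGroup.iff_card.1 h2
  exact ⟨i, by rw [lineRank_eq_relIndex]; exact hi⟩

theorem lineRank_le_one (u : G) : lineRank z u a Y ≤ lineRank z (1 : G) a Y :=
  Nat.card_mono (Set.toFinite _) (Set.image_mono fun g hg => mem_inf.2 ⟨(mem_inf.1 hg).1,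
    mem_centralizer_singleton_iff.2 (by rw [mul_one, one_mul])⟩)

theorem MemberCore.lineRank_dvd (h : Crit G α z) (hY : MemberCore α z a Y) (u : G) :
    lineRank z u a Y ∣ lineRank z (1 : G) a Y := by
  obtain ⟨i, hi⟩ := hY.exists_lineRank_pow h u
  obtain ⟨j, hj⟩ := hY.exists_lineRank_pow h 1
  have hle : lineRank z u a Y ≤ lineRank z (1 : G) a Y := lineRank_le_one u
  rw [hi, hj] at hle ⊢
  exact pow_dvd_pow 2 ((Nat.pow_le_pow_iff_right (by norm_num : 1 < 2)).1 hle)

/-- a member centralising `u` gives two classes -/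
theorem MemberCore.two_le_lineRank (h : Crit G α z) (hY : MemberCore α z a Y) {u e : G}
    (he : e ∈ membersAt z u a) : 2 ≤ lineRank z u a Y := by
  classical
  refine le_of_eq_of_le (Set.ncard_pair (a := (QuotientGroup.mk (1 : G) : G ⧸ Y)) (b := QuotientGroup.mk e) ?_).symm ?_
  · intro h1
    refine hY.notMem h he.1 ?_
    have h2 := QuotientGroup.eq.1 h1
    rwa [inv_one, one_mul] at h2
  · rw [lineRank, Nat.card_coe_set_eq]
    refine Set.ncard_le_ncard ?_ (Set.toFinite _)
    rintro c (rfl | rfl)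
    · exact ⟨1, one_mem _, rfl⟩
    · exact ⟨e, mem_inf.2 ⟨subset_closure (mem_members_one he.1 he.2.2),
        mem_centralizer_singleton_iff.2 he.2.1.symm⟩, rfl⟩

end Rank

end Cfsg.Lib.BenderSE.Crit2
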