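/-
Aschbacher's criterion, the dichotomy on a LINE (notes/s1175_h1_dichotomy.md): the fixed numbers of an involution
and of its product with a member agree, and either it centralises the group of members modulo `Y` (`Q = q`) or
`Q = q²` and its line is not of Suzuki type.
-/
import Cfsg.Agent.BenderSE.Criterion2.LineCount
import Mathlib.NumberTheory.LucasLehmer

set_option autoImplicit false
set_option linter.unusedSectionVars false
set_option linter.style.haveILetI false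

namespace Cfsg.Lib.BenderSE.Crit2

open Subgroup MulAction Cfsg.Lib.InvolCalc Cfsg.Lib.StrongEmb Cfsg.Lib.BenderSE

/-- `2^a - 1 ∣ (2^b - 1)² (2^(jb) + 1)` with `b < a ≤ 2b` only for `a = 2b`, `j` odd -/
theorem two_pow_dichotomy {a b j : ℕ} (hb : 2 ≤ b) (hba : b ≤ a) (hab : a ≤ 2 * b)
    (hj : j = 1 ∨ j = 2 ∨ j = 3) (hdvd : 2 ^ a - 1 ∣ (2 ^ b - 1) ^ 2 * (2 ^ (j * b) + 1)) :
    a = b ∨ (a = 2 * b ∧ j ≠ 2) := by
  rcases Nat.eq_or_lt_of_le hba with h | hlt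
  · exact Or.inl h.symm
  right
  rcases Nat.eq_or_lt_of_le hab with h2 | hlt2
  · refine ⟨h2, fun hj2 => ?_⟩
    subst h2 hj2
    have hx : 4 ≤ 2 ^ b := (show 4 = 2 ^ 2 by norm_num) ▸ Nat.pow_le_pow_right two_pos hb
    rw [mul_comm 2 b, pow_mul] at hdvd
    generalize 2 ^ b = x at hx hdvd ⊢
    obtain ⟨c, hc⟩ := hdvd
    have hcz : ((x : ℤ) - 1) ^ 2 * ((x : ℤ) ^ 2 + 1) = ((x : ℤ) ^ 2 - 1) * c := by
      have := congrArg (fun n : ℕ => (n : ℤ)) hc
      push_cast [Nat.cast_sub (show 1 ≤ x by omega), Nat.cast_sub (show 1 ≤ x ^ 2 from Nat.one_le_pow _ _ (by omega))] at this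
      linarith
    have hc' : ((x : ℤ) - 1) * ((x : ℤ) ^ 2 + 1) = ((x : ℤ) + 1) * c :=
      mul_left_cancel₀ (show (x : ℤ) - 1 ≠ 0 by omega) (by linear_combination hcz)
    have h4 : ((x : ℤ) + 1) ∣ 4 := ⟨((x : ℤ) ^ 2 - 2 * x + 3) - c, by linear_combination -hc'⟩
    have := Int.le_of_dvd (by norm_num) h4
    omega
  exfalso
  set g := Nat.gcd a b with hg
  have hgpos : 0 < g := Nat.gcd_pos_of_pos_right _ (by omega)
  have hgle : g ≤ a - b := Nat.le_of_dvd (by omega) (Nat.dvd_sub (Nat.gcd_dvd_left a b) (Nat.gcd_dvd_right a b))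
  obtain ⟨A, hA⟩ := Nat.gcd_dvd_left a b
  obtain ⟨B, hB⟩ := Nat.gcd_dvd_right a b
  rw [← hg] at hA hB
  have hBA : B < A := Nat.lt_of_mul_lt_mul_left (a := g) (by omega)
  have hB2 : 2 ≤ B := by
    by_contra hB2
    have : g * B ≤ g * 1 := Nat.mul_le_mul_left g (by omega)
    rw [mul_one] at this
    omega
  have hA3 : 3 ≤ A := by omega
  have hgcd : Nat.gcd (2 ^ a - 1) (2 ^ b - 1) = 2 ^ g - 1 := Nat.pow_sub_one_gcd_pow_sub_one 2 a b
  set D := Nat.gcd (2 ^ a - 1) (2 ^ (j * b) + 1) with hD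
  have hle : 2 ^ a - 1 ≤ (2 ^ g - 1) ^ 2 * D := by
    have hpa : 2 ≤ 2 ^ a := Nat.le_self_pow (n := a) (by omega) 2
    refine Nat.le_of_dvd ?_ ?_
    · have h1 : 0 < 2 ^ g - 1 := by have := Nat.le_self_pow (n := g) (by omega) 2; omega
      have h2 : 0 < D := Nat.gcd_pos_of_pos_right _ (Nat.succ_pos _)
      positivity
    · refine dvd_trans (Nat.dvd_gcd dvd_rfl hdvd) ((Nat.gcd_mul_right_dvd_mul_gcd _ _ _).trans ?_)
      refine Nat.mul_dvd_mul ?_ dvd_rfl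
      rw [pow_two, pow_two, ← hgcd]
      exact Nat.gcd_mul_right_dvd_mul_gcd _ _ _
  set h := Nat.gcd a (j * b) with hh
  have hDodd : Odd D := Odd.of_dvd_nat (by
    rw [Nat.odd_iff]
    have : 2 ∣ 2 ^ a := dvd_pow_self 2 (by omega)
    have := Nat.le_self_pow (n := a) (by omega) 2
    omega) (Nat.gcd_dvd_left _ _)
  have hsq1 : ∀ m : ℕ, m ^ 2 - 1 = (m + 1) * (m - 1) := fun m => by simpa using Nat.sq_sub_sq m 1
  have hDsq : D ∣ 2 ^ Nat.gcd a (2 * (j * b)) - 1 := by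
    rw [← Nat.pow_sub_one_gcd_pow_sub_one]
    refine Nat.dvd_gcd (Nat.gcd_dvd_left _ _) (dvd_trans (Nat.gcd_dvd_right _ _) ?_)
    rw [show 2 ^ (2 * (j * b)) - 1 = (2 ^ (j * b) + 1) * (2 ^ (j * b) - 1) by
      rw [mul_comm 2 (j * b), pow_mul 2 (j * b) 2, hsq1]]
    exact dvd_mul_right _ _
  have hh1 : D.Coprime (2 ^ h - 1) := by
    refine Nat.coprime_of_dvd' fun p hp hpD hph => ?_
    have h1 : p ∣ 2 ^ (j * b) - 1 := hph.trans (Nat.pow_sub_one_dvd_pow_sub_one 2 (Nat.gcd_dvd_right a (j * b)))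
    have h2 : p ∣ 2 ^ (j * b) + 1 := hpD.trans (Nat.gcd_dvd_right _ _)
    have hp1 : 1 ≤ 2 ^ (j * b) := Nat.one_le_two_pow
    have h3 : p ∣ 2 := by
      have := Nat.dvd_sub h2 h1
      rwa [show 2 ^ (j * b) + 1 - (2 ^ (j * b) - 1) = 2 by omega] at this
    rw [(Nat.prime_dvd_prime_iff_eq hp Nat.prime_two).1 h3] at hpD
    exact absurd (even_iff_two_dvd.2 hpD) (Nat.not_even_iff_odd.2 hDodd)
  have hx : 2 ≤ 2 ^ g := Nat.le_self_pow (by omega) 2
  by_cases hD1 : D = 1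
  · rw [hD1, mul_one] at hle
    have h2 : 2 ^ (2 * g) < 2 ^ a :=
      Nat.pow_lt_pow_right (by norm_num) (by have := Nat.mul_le_mul_left g hA3; omega)
    rw [mul_comm 2 g, pow_mul] at h2
    have h3 : (2 ^ g - 1) ^ 2 + 1 ≤ (2 ^ g) ^ 2 := by
      obtain ⟨x, hx'⟩ : ∃ x, 2 ^ g = x + 1 := ⟨2 ^ g - 1, by omega⟩
      rw [hx', Nat.add_sub_cancel]
      nlinarith
    omega
  have hgh : g ∣ h := Nat.dvd_gcd (Nat.gcd_dvd_left a b) ((Nat.gcd_dvd_right a b).mul_left j)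
  have h2h : Nat.gcd a (2 * (j * b)) = 2 * h := by
    have h1 : h ∣ Nat.gcd a (2 * (j * b)) :=
      Nat.dvd_gcd (Nat.gcd_dvd_left _ _) ((Nat.gcd_dvd_right a (j * b)).mul_left 2)
    have h2 : Nat.gcd a (2 * (j * b)) ∣ 2 * h := by
      rw [hh, ← Nat.gcd_mul_left]
      exact Nat.dvd_gcd ((Nat.gcd_dvd_left _ _).mul_left 2) (Nat.gcd_dvd_right _ _)
    obtain ⟨c, hc⟩ := h1
    rw [hc, mul_comm 2 h] at h2
    have hhpos : 0 < h := Nat.gcd_pos_of_pos_left _ (by omega)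
    rcases (Nat.dvd_prime Nat.prime_two).1 (Nat.dvd_of_mul_dvd_mul_left hhpos h2) with hc' | hc'
    · exfalso
      rw [hc, hc', mul_one] at hDsq
      exact hD1 (Nat.eq_one_of_dvd_coprimes hh1 dvd_rfl hDsq)
    · rw [hc, hc', mul_comm]
  rw [h2h, mul_comm 2 h, pow_mul, show (2 ^ h) ^ 2 - 1 = (2 ^ h + 1) * (2 ^ h - 1) from by
    rw [← one_pow 2, Nat.sq_sub_sq, one_pow]] at hDsq
  have hDle : D ≤ 2 ^ h + 1 := Nat.le_of_dvd (by positivity) (hh1.dvd_of_dvd_mul_right hDsq)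
  have hhdvd : 2 * h ∣ a := h2h ▸ Nat.gcd_dvd_left _ _
  obtain ⟨H, hH⟩ := hgh
  obtain ⟨c, hc⟩ := hhdvd
  have hAeven : A = 2 * (H * c) :=
    Nat.eq_of_mul_eq_mul_left hgpos (by rw [← hA, hc, hH]; ring)
  have ha4 : 4 * g ≤ a := by
    rw [hA, mul_comm 4 g]
    exact Nat.mul_le_mul_left g (by omega)
  have hhle : 2 * h ≤ a := by
    rcases Nat.eq_zero_or_pos c with rfl | hc0
    · omega
    · rw [hc]; exact Nat.le_mul_of_pos_right _ hc0
  have hgh' : g ≤ h := Nat.le_of_dvd (Nat.gcd_pos_of_pos_left _ (by omega)) ⟨H, hH⟩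
  have hpow : (2 ^ g) ^ 2 * 2 ^ h ≤ 2 ^ a := by
    rw [← pow_mul, ← pow_add]
    exact Nat.pow_le_pow_right two_pos (by omega)
  have hy : 2 ^ g ≤ 2 ^ h := Nat.pow_le_pow_right two_pos hgh'
  have h5 := hle.trans (Nat.mul_le_mul_left _ hDle)
  obtain ⟨x, hx'⟩ : ∃ x, 2 ^ g = x + 1 := ⟨2 ^ g - 1, by omega⟩
  rw [hx', Nat.add_sub_cancel] at h5
  rw [hx'] at hpow hy hx
  have h6 : 2 ^ a ≤ x ^ 2 * (2 ^ h + 1) + 1 := by omega
  generalize 2 ^ h = y at hpow hy h6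
  generalize 2 ^ a = w at hpow h6
  nlinarith [Nat.mul_le_mul_left x hy]

section Line

variable {G α : Type*} [Group G] [MulAction G α] {z : G} [Finite G] (h : Crit G α z) {a : α} {Y : Subgroup G}
  (hY : MemberCore α z a Y) {u : G} (hu : orderOf u = 2) (hnD : ¬ IsConj z u) (hua : u • a = a)
include h hY hu hnD hua

/-- a class fixed by `u` has a representative commuting with `u` -/
theorem MemberCore.fixed_mk {p : G} (hp : p ∈ membersGroup z a) (hfix : p⁻¹ * (u * p * u) ∈ Y) :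
    (QuotientGroup.mk p : G ⧸ Y) ∈
      (QuotientGroup.mk : G → G ⧸ Y) '' ((membersGroup z a ⊓ centralizer ({u} : Set G) : Subgroup G) : Set G) := by
  rcases hY.mem_or p hp with h1 | ⟨d, hd, hdp⟩
  · exact ⟨1, one_mem _, QuotientGroup.eq.2 (by rw [inv_one, one_mul]; exact h1)⟩
  have hui := inv_of_order_two hu
  have hdi := inv_of_order_two (orderOf_conj h hd.1)
  have hdd := sq_of_order_two (orderOf_conj h hd.1)
  have hdu : d * u * (d * u) ∈ Y := by
    have e1 : u * (d * p) * u⁻¹ ∈ Y := (mem_normalizer_iff.1 (hY.norm u hua) _).1 hdp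
    have e2 : u * (d * p) * u⁻¹ * (p⁻¹ * (u * p * u⁻¹))⁻¹ * (d * p)⁻¹ = u * d * u⁻¹ * d⁻¹ := by group
    rw [← hui] at hfix
    have e3 := mul_mem (mul_mem e1 (inv_mem (by simpa only [inv_inv, hui] using hfix :
      p⁻¹ * (u * p * u⁻¹) ∈ Y))) (inv_mem hdp)
    rw [e2, hui, hdi] at e3
    have e4 := inv_mem e3
    rwa [mul_inv_rev, mul_inv_rev, mul_inv_rev, hui, hdi, ← mul_assoc d u (d * u)] at e4
  obtain ⟨e, he, hde⟩ := (hY.class_fixed_iff h hu hnD hua hd).1 hdu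
  refine ⟨e, mem_inf.2 ⟨subset_closure (mem_members_one he.1 he.2.2), mem_centralizer_singleton_iff.2 he.2.1.symm⟩,
    (mk_eq_iff h he.1).2 ?_⟩
  have h2 : e * d ∈ Y := by
    have := inv_mem hde
    rwa [mul_inv_rev, hdi, inv_of_order_two (orderOf_conj h he.1)] at this
  rw [show e * p = (e * d) * (d * p) by rw [show (e * d) * (d * p) = e * (d * d) * p by group, hdd, mul_one]]
  exact mul_mem h2 hdp

/-- an involution fixes at least the square root of the classes -/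
theorem MemberCore.lineRank_one_le_sq : lineRank z (1 : G) a Y ≤ lineRank z u a Y * lineRank z u a Y := by
  classical
  have hui := inv_of_order_two hu
  have huu := sq_of_order_two hu
  set M₀ := membersGroup z a
  set I := (QuotientGroup.mk : G → G ⧸ Y) '' ((M₀ ⊓ centralizer ({(1 : G)} : Set G) : Subgroup G) : Set G)
  set F := (QuotientGroup.mk : G → G ⧸ Y) '' ((M₀ ⊓ centralizer ({u} : Set G) : Subgroup G) : Set G)
  have hI : ∀ c : I,
      ∃ r ∈ M₀, (QuotientGroup.mk r : G ⧸ Y) = c.1 := by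
    rintro ⟨_, r, hr, rfl⟩
    exact ⟨r, (mem_inf.1 hr).1, rfl⟩
  choose r hr hrc using hI
  have hconj : ∀ {g : G}, g ∈ M₀ → u * g * u ∈ M₀ := fun {g} hg => by
    have := (mem_normalizer_iff.1 (mem_normalizer_membersGroup hua) g).1 hg
    rwa [hui] at this
  have hnorm : ∀ {g : G}, g ∈ M₀ → g ∈ normalizer (Y : Set G) := fun {g} hg =>
    hY.norm g (mem_stabilizer_iff.1 (membersGroup_le_stabilizer z a hg))
  have hψ : ∀ c, (QuotientGroup.mk (r c * (u * r c * u)) : G ⧸ Y) ∈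
      (QuotientGroup.mk : G → G ⧸ Y) '' ((M₀ ⊓ centralizer ({u} : Set G) : Subgroup G) : Set G) := fun c => by
    refine hY.fixed_mk h hu hnD hua (mul_mem (hr c) (hconj (hr c))) ?_
    rw [mul_inv_rev, show u * (r c * (u * r c * u)) * u = u * r c * u * r c * (u * u) by group, huu, mul_one]
    have h1 := hY.commutator h (inv_mem (hconj (hr c))) (inv_mem (hr c))
    simpa only [inv_inv, mul_assoc] using h1
  let ψ : I → F := fun c => ⟨_, hψ c⟩
  have hs : ∀ v : F, ∃ s : G, s ∈ M₀ ∧ ∀ c, ψ c = v → (QuotientGroup.mk (s⁻¹ * r c) : G ⧸ Y) ∈ F := by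
    intro v
    by_cases hv : ∃ c₀, ψ c₀ = v
    · obtain ⟨c₀, hc₀⟩ := hv
      refine ⟨r c₀, hr c₀, fun c hc => hY.fixed_mk h hu hnD hua (mul_mem (inv_mem (hr c₀)) (hr c)) ?_⟩
      have h1 : (r c₀ * (u * r c₀ * u))⁻¹ * (r c * (u * r c * u)) ∈ Y :=
        QuotientGroup.eq.1 (congrArg Subtype.val (hc₀.trans hc.symm))
      have hA := hconj (hr c₀)
      have hB := hconj (hr c)
      have e1 : ((r c₀)⁻¹ * r c)⁻¹ * (u * ((r c₀)⁻¹ * r c) * u) =
          (((r c₀)⁻¹ * r c)⁻¹ * ((r c₀)⁻¹ * r c)⁻¹) *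
            (((r c₀)⁻¹ * r c) * (u * r c₀ * u)⁻¹ * ((r c₀)⁻¹ * r c)⁻¹ * (u * r c₀ * u)) *
            ((r c₀ * (u * r c₀ * u))⁻¹ * (r c * (u * r c * u))) := by
        rw [show u * ((r c₀)⁻¹ * r c) * u = (u * r c₀ * u)⁻¹ * (u * r c * u) by
          rw [mul_inv_rev, mul_inv_rev, hui, show u * ((r c₀)⁻¹ * u) * (u * r c * u) = u * (r c₀)⁻¹ * (u * u) * r c * u by
            group, huu, mul_one]
          group]
        group
      rw [e1]
      refine mul_mem (mul_mem (hY.sq h (inv_mem (mul_mem (inv_mem (hr c₀)) (hr c)))) ?_) h1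
      have h2 := hY.commutator h (mul_mem (inv_mem (hr c₀)) (hr c)) (inv_mem hA)
      rwa [inv_inv] at h2
    · exact ⟨1, one_mem _, fun c hc => (hv ⟨c, hc⟩).elim⟩
  choose s hsM hs using hs
  rw [lineRank, lineRank, ← Nat.card_prod]
  refine Nat.card_le_card_of_injective (fun c => (ψ c, (⟨_, hs (ψ c) c rfl⟩ : F))) fun c c' hcc => ?_
  obtain ⟨h1, h2⟩ := Prod.ext_iff.1 hcc
  dsimp only at h1 h2
  have h3 := congrArg Subtype.val h2
  simp only at h3
  rw [QuotientGroup.eq, mul_inv_rev, inv_inv, h1,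
    show (r c)⁻¹ * s (ψ c') * ((s (ψ c'))⁻¹ * r c') = (r c)⁻¹ * r c' by group] at h3
  exact Subtype.ext ((hrc c).symm.trans ((QuotientGroup.eq.2 h3).trans (hrc c')))

variable [Finite α] [FaithfulSMul G α] {b : α} (hub : u • b = b) (hab : a ≠ b) {e : G} (he : e ∈ membersAt z u a)
include hub hab he

/-- the lines of `u` and `u e` have as many points -/
theorem MemberCore.fixed_eq (hq : 4 ≤ lineRank z u a Y) :
    Nat.card (fixedBy α u) = Nat.card (fixedBy α (u * e)) := by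
  have huu := sq_of_order_two hu
  have hee := sq_of_order_two (orderOf_conj h he.1)
  have hv : orderOf (u * e) = 2 := order_two_of_mul_self
    (by rw [he.2.1.symm.mul_mul_mul_comm, huu, hee, one_mul]) fun e' => hnD (by
      rw [eq_inv_of_mul_eq_one_left e', inv_eq_of_mul_eq_one_right hee]; exact he.1)
  have hva : (u * e) • a = a := by rw [mul_smul, he.2.2, hua]
  obtain ⟨x, y, hxy, hx, hy⟩ := mul_two_fix h hu hua hub hab he.1 he.2.1
  obtain ⟨c, hac, hc⟩ : ∃ c, a ≠ c ∧ (u * e) • c = c := by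
    by_cases hax : a = x
    · exact ⟨y, hax ▸ hxy, hy⟩
    · exact ⟨x, hax, hx⟩
  have hev : e ∈ membersAt z (u * e) a := ⟨he.1, he.2.1.mul_left (Commute.refl e), he.2.2⟩
  have h1 := (hY.exact_count h hu hnD hua hub hab he).1
  have h2 := (hY.exact_count h hv (mul_not_conj h hu hua hub hab he.1 he.2.1) hva hc hac hev).1
  rw [hY.lineRank_mul h hu hnD hua hub hab he, show u * e * e = u by rw [mul_assoc, hee, mul_one]] at h2
  obtain ⟨i, hi⟩ := hY.exists_lineRank_pow h u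
  obtain ⟨j, hj⟩ := hY.exists_lineRank_pow h 1
  set q := lineRank z u a Y
  set Q := lineRank z (1 : G) a Y
  have hqQ : q ≤ Q := lineRank_le_one u
  set n := Nat.card α
  set f := Nat.card (fixedBy α u) with hf
  set g := Nat.card (fixedBy α (u * e)) with hg
  have hf1 : 1 ≤ f := Nat.card_pos_iff.2 ⟨⟨⟨a, hua⟩⟩, inferInstance⟩
  have hg1 : 1 ≤ g := Nat.card_pos_iff.2 ⟨⟨⟨a, hva⟩⟩, inferInstance⟩
  have hfn : f ≤ n := Nat.card_le_card_of_injective (fun x => (x : α)) Subtype.val_injective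
  have hgn : g ≤ n := Nat.card_le_card_of_injective (fun x => (x : α)) Subtype.val_injective
  by_contra hne
  have h1' : ((Q : ℤ) - 1) * (n - f) = ((q : ℤ) - 1) * (q - 1) * (f * (g - 1)) := by
    have := congrArg (fun m : ℕ => (m : ℤ)) h1
    push_cast [Nat.cast_sub (show 1 ≤ q by omega), Nat.cast_sub (show 1 ≤ Q by omega), Nat.cast_sub hg1,
      Nat.cast_sub hfn] at this
    exact this
  have h2' : ((Q : ℤ) - 1) * (n - g) = ((q : ℤ) - 1) * (q - 1) * (g * (f - 1)) := by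
    have := congrArg (fun m : ℕ => (m : ℤ)) h2
    push_cast [Nat.cast_sub (show 1 ≤ q by omega), Nat.cast_sub (show 1 ≤ Q by omega), Nat.cast_sub hf1,
      Nat.cast_sub hgn] at this
    exact this
  have hQ : (Q : ℤ) - 1 = ((q : ℤ) - 1) * (q - 1) :=
    mul_right_cancel₀ (show (g : ℤ) - f ≠ 0 from sub_ne_zero.2 (fun e' => hne (by exact_mod_cast e'.symm)))
      (by linear_combination h1' - h2')
  have hi2 : 2 ≤ i := by
    by_contra hi2
    have : q ≤ 2 ^ 1 := hi ▸ Nat.pow_le_pow_right two_pos (by omega)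
    omega
  have hj2 : 2 ≤ j := by
    by_contra hj2
    have : Q ≤ 2 ^ 1 := hj ▸ Nat.pow_le_pow_right two_pos (by omega)
    omega
  obtain ⟨i', rfl⟩ : ∃ i', i = i' + 2 := ⟨i - 2, by omega⟩
  obtain ⟨j', rfl⟩ : ∃ j', j = j' + 2 := ⟨j - 2, by omega⟩
  rw [hi, hj] at hQ
  push_cast [pow_add] at hQ
  generalize (2 : ℤ) ^ i' = x at hQ
  generalize (2 : ℤ) ^ j' = y at hQ
  ring_nf at hQ
  omega

/-- THE DICHOTOMY: with `f = q^j + 1` either `Q = q` or `Q = q²` and `j` is odd; the count in both cases -/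
theorem MemberCore.dichotomy {j : ℕ} (hj : j = 1 ∨ j = 2 ∨ j = 3) (hq : 4 ≤ lineRank z u a Y)
    (hf : Nat.card (fixedBy α u) = lineRank z u a Y ^ j + 1) :
    (lineRank z (1 : G) a Y = lineRank z u a Y ∧ Nat.card α - Nat.card (fixedBy α u) =
        (lineRank z u a Y - 1) * (Nat.card (fixedBy α u) * lineRank z u a Y ^ j)) ∨
      (lineRank z (1 : G) a Y = lineRank z u a Y ^ 2 ∧ j ≠ 2 ∧
        (lineRank z u a Y + 1) * (Nat.card α - Nat.card (fixedBy α u)) =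
          (lineRank z u a Y - 1) * (Nat.card (fixedBy α u) * lineRank z u a Y ^ j)) := by
  have h1 := (hY.exact_count h hu hnD hua hub hab he).1
  rw [← hY.fixed_eq h hu hnD hua hub hab he hq, hf, Nat.add_sub_cancel] at h1
  have hsq := hY.lineRank_one_le_sq h hu hnD hua
  obtain ⟨i, hi⟩ := hY.exists_lineRank_pow h u
  obtain ⟨k, hk⟩ := hY.exists_lineRank_pow h 1
  have hle : lineRank z u a Y ≤ lineRank z (1 : G) a Y := lineRank_le_one u
  rw [hf]
  rw [hi] at h1 hle hsq hq ⊢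
  rw [hk] at h1 hle hsq ⊢
  have hi2 : 2 ≤ i := (Nat.pow_le_pow_iff_right (by norm_num : 1 < 2)).1 (by simpa using hq)
  have hik : i ≤ k := (Nat.pow_le_pow_iff_right (by norm_num : 1 < 2)).1 hle
  have hki : k ≤ 2 * i := (Nat.pow_le_pow_iff_right (by norm_num : 1 < 2)).1 (by rwa [two_mul, pow_add])
  have hdvd : 2 ^ k - 1 ∣ (2 ^ i - 1) ^ 2 * (2 ^ (j * i) + 1) := by
    have hcop : (2 ^ k - 1).Coprime ((2 ^ i) ^ j) := by
      rw [← pow_mul]
      refine ((Nat.Prime.coprime_iff_not_dvd Nat.prime_two).2 fun h2 => ?_).symm.pow_right _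
      have : 2 ∣ 2 ^ k := dvd_pow_self 2 (by omega)
      have := Nat.le_self_pow (n := k) (by omega) 2
      omega
    refine hcop.dvd_of_dvd_mul_right ⟨Nat.card α - ((2 ^ i) ^ j + 1), ?_⟩
    rw [h1, mul_comm j i, pow_mul, pow_two]
    ring
  obtain ⟨q', hq'⟩ : ∃ q', 2 ^ i = q' + 1 := ⟨2 ^ i - 1, by omega⟩
  rcases two_pow_dichotomy hi2 hik hki hj hdvd with hkk | ⟨hkk, hj2⟩
  · subst hkk
    refine Or.inl ⟨rfl, ?_⟩
    rw [hq', Nat.add_sub_cancel] at h1 ⊢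
    exact Nat.eq_of_mul_eq_mul_left (by omega : 0 < q') (by rw [h1]; ring)
  · refine Or.inr ⟨by rw [hkk, mul_comm, pow_mul], hj2, ?_⟩
    rw [hkk, mul_comm 2 i, pow_mul, hq', Nat.add_sub_cancel,
      show (q' + 1) ^ 2 - 1 = q' * (q' + 2) by
        rw [show (q' + 1) ^ 2 = q' * (q' + 2) + 1 by ring, Nat.add_sub_cancel]] at h1
    rw [hq', Nat.add_sub_cancel]
    exact Nat.eq_of_mul_eq_mul_left (by omega : 0 < q') (by rw [← mul_assoc, h1]; ring)

end Line

end Cfsg.Lib.BenderSE.Crit2
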