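/-
Aschbacher's criterion: on a LINE an L2 involution centralises the members modulo `Y`
(notes/s1175_h1_dichotomy.md, `j = 1`): otherwise the centres of the LINE are all `n = Q + 1` points and the
LINE contains the whole class.
-/
import Cfsg.Agent.BenderSE.Criterion2.Dichotomy

set_option autoImplicit false
set_option linter.unusedSectionVars false
set_option linter.style.haveILetI false

namespace Cfsg.Lib.BenderSE.Crit2

open Subgroup MulAction Cfsg.Lib.InvolCalc Cfsg.Lib.StrongEmb Cfsg.Lib.BenderSE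

variable {G α : Type*} [Group G] [MulAction G α] {z : G} [Finite G] (h : Crit G α z) {a : α} {Y : Subgroup G}
  (hY : MemberCore α z a Y)
include h hY

/-- an element of the group of members fixing a second point lies in `Y` -/
theorem MemberCore.mem_of_fix {p : G} (hp : p ∈ membersGroup z a) {b : α} (hba : b ≠ a) (hpb : p • b = b) :
    p ∈ Y := by
  refine hY.mem_of_odd h hp ?_
  rw [← Nat.not_even_iff_odd]
  intro hev
  have hk : orderOf (p ^ (orderOf p / 2)) = 2 := by
    obtain ⟨i, hi⟩ := hev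
    have := orderOf_pos p
    rw [orderOf_pow, show orderOf p / 2 = i by omega, Nat.gcd_eq_right ⟨2, by omega⟩, hi]
    exact Nat.div_eq_of_eq_mul_left (by omega) (by omega)
  set i := p ^ (orderOf p / 2)
  have hi : i ∈ membersGroup z a := pow_mem hp _
  have hib : i • b = b := mem_stabilizer_iff.1 (pow_mem (mem_stabilizer_iff.2 hpb) _)
  rcases hY.mem_or i hi with h1 | ⟨d, hd, hdi⟩
  · have := hY.odd.of_dvd_nat (Subgroup.orderOf_dvd_natCard _ h1)
    rw [hk] at this
    exact absurd this (by decide)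
  · obtain ⟨g, -, hg⟩ := conj_of_odd (orderOf_conj h hd.1) hk
      (hY.odd.of_dvd_nat (Subgroup.orderOf_dvd_natCard _ hdi))
    exact hba (centre_unique h (hd.1.trans (isConj_iff.2 ⟨g, hg⟩)) hib
      (mem_stabilizer_iff.1 (membersGroup_le_stabilizer z a hi)))

/-- the classes move another point to as many different points -/
theorem MemberCore.lineRank_le_orbit [Finite α] {b : α} (hba : b ≠ a) :
    lineRank z (1 : G) a Y ≤ Nat.card ((fun g : G => g • b) '' (membersGroup z a : Set G)) := by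
  classical
  set mk : G → G ⧸ Y := QuotientGroup.mk
  have hI : ∀ c : ↥(mk '' ((membersGroup z a ⊓ centralizer ({(1 : G)} : Set G) : Subgroup G) : Set G)),
      ∃ r ∈ membersGroup z a, mk r = c.1 := by
    rintro ⟨_, r, hr, rfl⟩
    exact ⟨r, (mem_inf.1 hr).1, rfl⟩
  choose r hr hrc using hI
  refine Nat.card_le_card_of_injective (fun c => ⟨r c • b, r c, hr c, rfl⟩) fun c c' hcc => Subtype.ext ?_
  have h1 : r c • b = r c' • b := congrArg Subtype.val hcc
  rw [← hrc c, ← hrc c']
  refine QuotientGroup.eq.2 (hY.mem_of_fix h (mul_mem (inv_mem (hr c)) (hr c')) hba ?_)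
  rw [mul_smul, ← h1, inv_smul_smul]

/-- THE L2 END: on a LINE `Q = q` for an L2 involution -/
theorem MemberCore.lineRank_one_eq [IsSimpleGroup G] [IsPretransitive G α] [Finite α] [FaithfulSMul G α]
    (hL : HasLine α z) {u : G} (hu : orderOf u = 2) (hnD : ¬ IsConj z u) (hua : u • a = a) {b : α}
    (hub : u • b = b) (hab : a ≠ b) {e : G} (he : e ∈ membersAt z u a) (hq : 4 ≤ lineRank z u a Y)
    (hf : Nat.card (fixedBy α u) = lineRank z u a Y + 1) :
    lineRank z (1 : G) a Y = lineRank z u a Y := by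
  classical
  rcases hY.dichotomy h hu hnD hua hub hab he (j := 1) (Or.inl rfl) hq (by rw [pow_one]; exact hf) with
    ⟨h1, -⟩ | ⟨h1, -, h2⟩
  · exact h1
  exfalso
  set q := lineRank z u a Y with hqdef
  rw [hf, pow_one] at h2
  have hn : Nat.card α = q ^ 2 + 1 := by
    have h3 : Nat.card α - (q + 1) = (q - 1) * q :=
      Nat.eq_of_mul_eq_mul_left (show 0 < q + 1 by omega) (h2.trans (by ring))
    obtain ⟨m, hm⟩ : ∃ m, q = m + 2 := ⟨q - 2, by omega⟩
    rw [hm, show m + 2 - 1 = m + 1 by omega] at h3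
    rw [hm, show (m + 2) ^ 2 + 1 = (m + 1) * (m + 2) + (m + 2 + 1) by ring]
    have hpos : 0 < (m + 1) * (m + 2) := by positivity
    omega
  obtain ⟨J, c, hJ, hca, hmem⟩ := hasLine_at h hL a
  have hM₀J : membersGroup z a ≤ J := (closure_le _).2 fun q hq => hmem q hq.1 (Or.inl hq.2.2)
  have hle := hY.lineRank_le_orbit h hca
  rw [h1] at hle
  set O := (fun g : G => g • c) '' (membersGroup z a : Set G)
  have haO : a ∉ O := by
    rintro ⟨g, hg, hga⟩
    exact hca (smul_left_cancel g (hga.trans (mem_stabilizer_iff.1 (membersGroup_le_stabilizer z a hg)).symm))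
  have hall : insert a O = Set.univ := by
    refine Set.eq_of_subset_of_ncard_le (Set.subset_univ _) ?_ (Set.toFinite _)
    rw [Set.ncard_univ, Set.ncard_insert_of_notMem haO (Set.toFinite _), hn, ← Nat.card_coe_set_eq]
    omega
  obtain ⟨ea, hea, heaa, -⟩ := h.central a ⊥ IsPGroup.of_bot fun g hg => by rw [mem_bot.1 hg, one_smul]
  obtain ⟨ec, hec, hecc, -⟩ := h.central c ⊥ IsPGroup.of_bot fun g hg => by rw [mem_bot.1 hg, one_smul]
  have hpt : ∀ x : α, ∃ g ∈ J, g • a = x := by
    intro x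
    have hxO : x = a ∨ x ∈ O := (hall.symm ▸ Set.mem_univ x : x ∈ insert a O)
    rcases hxO with rfl | ⟨g, hg, rfl⟩
    · exact ⟨1, one_mem _, one_smul _ _⟩
    · obtain ⟨k, hk, hkk⟩ := conj_in_of_centres h hea hec (hmem ea hea (Or.inl heaa)) (hmem ec hec (Or.inr hecc))
        heaa hecc hca.symm
      exact ⟨g * k, mul_mem (hM₀J hg) hk, by rw [mul_smul, conj_centre h hec hkk heaa hecc]⟩
  have hD : ∀ d, IsConj z d → d ∈ J := by
    intro d hd
    obtain ⟨x, hx, -⟩ := h.uniq d hd
    obtain ⟨g, hg, rfl⟩ := hpt x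
    have h3 : g⁻¹ * d * g ∈ J := hmem _ (hd.trans (isConj_iff.2 ⟨g⁻¹, by rw [inv_inv]⟩))
      (Or.inl (by rw [mul_smul, mul_smul, hx, inv_smul_smul]))
    have h4 := mul_mem (mul_mem hg h3) (inv_mem hg)
    rwa [show g * (g⁻¹ * d * g) * g⁻¹ = d by group] at h4
  rcases IsSimpleGroup.eq_bot_or_eq_top_of_normal (Subgroup.normalClosure ({z} : Set G)) inferInstance with e0 | e0
  · have : z ∈ Subgroup.normalClosure ({z} : Set G) := subset_normalClosure (Set.mem_singleton z)
    rw [e0, mem_bot] at this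
    exact ne_one_of_order_two h.ord this
  · refine hJ (top_le_iff.1 (e0 ▸ (closure_le J).2 ?_))
    intro d hd
    obtain ⟨s, hs, hsd⟩ := Group.mem_conjugatesOfSet_iff.1 hd
    rw [Set.mem_singleton_iff] at hs
    exact hD d (hs ▸ hsd)

end Cfsg.Lib.BenderSE.Crit2
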