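/-
Glauberman's factorisation for solvable groups whose 2-elements are involutions (needed for LINE, notes/s1175_h5_line.md 3.2).
-/
import Cfsg.Agent.Components.ZJ.Reduce
import Cfsg.Agent.Components.ZJ.Families
import Cfsg.Agent.Components.PComponents
import Cfsg.Agent.Quadratic.StableQd
import Cfsg.Agent.Coprime.Fitting

set_option autoImplicit false
set_option linter.style.haveILetI false
set_option linter.unusedSectionVars false

namespace Cfsg.Lib.BenderSE.Crit2

open Subgroup Cfsg.Lib.ZJ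
open scoped commutatorElement

universe u

/-- no element of order four, passed to quotients -/
theorem noFour_quotient {G H : Type*} [Group G] [Finite G] [Group H] (f : G →* H)
    (hf : Function.Surjective f) (h4 : ∀ x : G, x ^ 4 = 1 → x ^ 2 = 1) :
    ∀ y : H, y ^ 4 = 1 → y ^ 2 = 1 := by
  intro y hy
  obtain ⟨x, rfl⟩ := hf y
  obtain ⟨a, m, hm, hn⟩ := Nat.exists_eq_pow_mul_and_not_dvd (orderOf_pos x).ne' 2 (by norm_num)
  have hxm : (x ^ m) ^ 2 ^ a = 1 := by rw [← pow_mul, mul_comm, ← hn, pow_orderOf_eq_one]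
  have hsq : (x ^ m) ^ 2 = 1 := by
    clear hn
    induction a with
    | zero => rw [pow_zero, pow_one] at hxm; rw [hxm, one_pow]
    | succ a ih =>
      rcases a with _ | a
      · simpa using hxm
      · refine ih ?_
        have h1 := h4 ((x ^ m) ^ 2 ^ a) (by
          rw [← pow_mul, show 2 ^ a * 4 = 2 ^ (a + 1 + 1) by ring]; exact hxm)
        rwa [← pow_mul, ← pow_succ] at h1
  have h1 : (f x ^ 2) ^ m = 1 := by rw [← pow_mul, mul_comm, pow_mul, ← map_pow, ← map_pow, hsq, map_one]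
  have h2 : orderOf (f x ^ 2) ∣ 2 := orderOf_dvd_of_pow_eq_one (by rw [← pow_mul]; exact hy)
  rw [← orderOf_eq_one_iff]
  exact Nat.eq_one_of_dvd_coprimes (Nat.Coprime.symm ((Nat.Prime.coprime_iff_not_dvd Nat.prime_two).2 hm))
    (orderOf_dvd_of_pow_eq_one h1) h2

theorem not_involves_qd {G : Type*} [Group G] [Finite G] {p : ℕ} [Fact p.Prime] (hp : p ≠ 2)
    (h4 : ∀ x : G, x ^ 4 = 1 → x ^ 2 = 1) : ¬ Cfsg.Involves ↥(Cfsg.qd p) G := by
  rintro ⟨K, R, hR, ⟨e⟩⟩
  haveI := hR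
  have hq : ∀ y : K ⧸ R.subgroupOf K, y ^ 4 = 1 → y ^ 2 = 1 :=
    noFour_quotient (QuotientGroup.mk' (R.subgroupOf K)) (QuotientGroup.mk'_surjective _) fun x hx =>
      Subtype.ext (h4 x (congrArg Subtype.val hx))
  let w : Matrix.SpecialLinearGroup (Fin 3) (ZMod p) :=
    ⟨!![0, 1, 0; -1, 0, 0; 0, 0, 1], by simp [Matrix.det_fin_three]⟩
  have hw : w ∈ Cfsg.qd p := subset_closure ⟨rfl, rfl, rfl⟩
  have hne : (2 : ZMod p) ≠ 0 := fun h => hp ((Nat.prime_dvd_prime_iff_eq (Fact.out) Nat.prime_two).1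
    ((ZMod.natCast_eq_zero_iff 2 p).1 (by exact_mod_cast h)))
  set ew := e.symm ⟨w, hw⟩
  have h1 : ew ^ 4 = 1 := by
    rw [← map_pow, MulEquiv.map_eq_one_iff]
    refine Subtype.ext (Subtype.ext ?_)
    show (!![0, 1, 0; -1, 0, 0; 0, 0, 1] : Matrix (Fin 3) (Fin 3) (ZMod p)) ^ 4 = 1
    ext i j
    fin_cases i <;> fin_cases j <;> simp [pow_succ, Matrix.mul_apply, Fin.sum_univ_three]
  have h2 := congrArg (fun y => ((e y : ↥(Cfsg.qd p)) : Matrix.SpecialLinearGroup (Fin 3) (ZMod p))) (hq ew h1)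
  simp only [map_pow, map_one, ew, MulEquiv.apply_symm_apply] at h2
  have h2' : w ^ 2 = 1 := h2
  have h3 : ((w ^ 2 : Matrix.SpecialLinearGroup (Fin 3) (ZMod p)) : Matrix (Fin 3) (Fin 3) (ZMod p)) 0 0 = 1 := by
    rw [h2', Matrix.SpecialLinearGroup.coe_one, Matrix.one_apply_eq]
  rw [pow_two, Matrix.SpecialLinearGroup.coe_mul, Matrix.mul_apply, Fin.sum_univ_three] at h3
  simp [w] at h3
  refine hne ?_
  linear_combination -h3

/-- `G = O_{r'}(G) N(ZJ(P))` -/
theorem sup_normalizer_zj {G : Type u} [Group G] [Finite G] [Group.IsSolvable G] {r : ℕ} [Fact r.Prime]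
    (hr : r ≠ 2) (h4 : ∀ x : G, x ^ 4 = 1 → x ^ 2 = 1) (P : Sylow r G) :
    Cfsg.pPrimeCore r G ⊔ normalizer (Cfsg.centerThompsonAOf (P : Subgroup G) : Set G) = ⊤ := by
  set N := Cfsg.pPrimeCore r G with hNdef
  have hN : (Nat.card N).Coprime r := Cfsg.Lib.Components.coprime_card_pPrimeCore r
  set π := QuotientGroup.mk' N
  have hinj := injOn_mk hN P.2
  have hc0 : Cfsg.pPrimeCore r (G ⧸ N) = ⊥ := Cfsg.Lib.Components.pPrimeCore_quotient_eq_bot
  have hst : Stable r (G ⧸ N) := stable_of_isPStableOn fun B _ hB =>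
    Cfsg.Lib.QuadPair.stable_of_qd_free hr (Nat.card B) (G ⧸ N)
      (not_involves_qd hr (noFour_quotient π (QuotientGroup.mk'_surjective N) h4)) B hB rfl
  haveI : Group.IsSolvable (G ⧸ N) := Group.isSolvable_of_surjective (QuotientGroup.mk'_surjective N)
  have hn := centerThompsonA_normal (S := P.mapSurjective (QuotientGroup.mk'_surjective N)) hr hst
    (Cfsg.Lib.Coprime.centralizer_pCore_le r hc0) (stronglyClosed_self _)
  change (Cfsg.centerThompsonAOf ((P : Subgroup G).map π)).Normal at hn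
  rw [← centerThompsonAOf_map_injOn hinj] at hn
  set Z := Cfsg.centerThompsonAOf (P : Subgroup G)
  haveI := hn
  set M := (Z.map π).comap π
  have hM : M = N ⊔ Z := by
    show (Z.map π).comap π = _
    rw [comap_map_eq, QuotientGroup.ker_mk', sup_comm]
  have hZP : Z ≤ (P : Subgroup G) :=
    (inf_le_left : Z ≤ Cfsg.thompsonSubgroupAOf (P : Subgroup G)).trans (map_subtype_le _)
  have hPM : (P : Subgroup G) ⊓ M = Z := by
    refine le_antisymm (fun x hx => ?_) (le_inf hZP (hM ▸ le_sup_right))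
    obtain ⟨z, hz, hzx⟩ := hx.2
    rw [← hinj (hZP hz) hx.1 hzx]
    exact hz
  have hfr := sup_normalizer_inf_eq_top M P
  rw [hPM, hM, sup_assoc, sup_eq_right.mpr le_normalizer] at hfr
  exact hfr

end Cfsg.Lib.BenderSE.Crit2
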