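/-
Aschbacher's criterion: a member inverting an element of the odd core of a proper subgroup with two commuting
members and two centres gives a LINE, a proper subgroup with all members at two points
(notes/s1175_h5_line.md, section 2).
-/
import Cfsg.Agent.BenderSE.Criterion2.LineGen
import Cfsg.Agent.BenderSE.Criterion2.ZJTwo
import Cfsg.Agent.BenderSE.FullLocal
import Mathlib.GroupTheory.Solvable

set_option autoImplicit false
set_option linter.unusedSectionVars false
set_option linter.style.haveILetI false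

namespace Cfsg.Lib.BenderSE.Crit2

open Subgroup MulAction Cfsg.Lib.InvolCalc Cfsg.Lib.StrongEmb Cfsg.Lib.BenderSE

universe u v

variable {G : Type u} [Group G] [Finite G]

/-- modulo a normalised subgroup the order of an element of the join divides that of the other factor -/
theorem pow_card_mem_of_sup {N H : Subgroup G} (hn : H ≤ normalizer (N : Set G)) {g : G} (hg : g ∈ N ⊔ H) :
    g ^ Nat.card H ∈ N := by
  haveI hN : (N.subgroupOf (N ⊔ H)).Normal := (normal_subgroupOf_iff_le_normalizer le_sup_left).2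
    (sup_le le_normalizer hn)
  have hd : (N.subgroupOf (N ⊔ H)).index ∣ Nat.card H := by
    have h1 : Nat.card (N.subgroupOf (N ⊔ H)) * (N.subgroupOf (N ⊔ H)).index = Nat.card ↥(N ⊔ H) :=
      card_mul_index _
    rw [Nat.card_congr (subgroupOfEquivOfLe le_sup_left).toEquiv] at h1
    have h2 := Cfsg.Lib.Coprime.card_sup_mul_card_inf hn
    rw [← h1, mul_assoc] at h2
    exact Dvd.intro _ (Nat.eq_of_mul_eq_mul_left Nat.card_pos h2)
  obtain ⟨m, hm⟩ := hd
  have h1 := Subgroup.pow_index_mem (N.subgroupOf (N ⊔ H)) (⟨g, hg⟩ : ↥(N ⊔ H))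
  rw [hm, pow_mul]
  exact pow_mem h1 m

/-- an element whose order is prime to an exponent lies where its power lies -/
theorem mem_of_pow_mem {N : Subgroup G} {g : G} {n : ℕ} (hn : n.Coprime (orderOf g)) (hg : g ^ n ∈ N) :
    g ∈ N := by
  obtain ⟨m, hm⟩ := exists_pow_eq_self_of_coprime hn
  exact hm ▸ pow_mem hg m

theorem odd_pgroup {r : ℕ} [Fact r.Prime] (hr : r ≠ 2) {P : Subgroup G} (hP : IsPGroup r P) :
    Odd (Nat.card P) := by
  obtain ⟨k, hk⟩ := IsPGroup.iff_card.1 hP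
  rw [hk]
  exact ((Fact.out : r.Prime).odd_of_ne_two hr).pow

/-- an inverted nontrivial element of an `r`-group has a power of order `r` -/
theorem exists_inverted_order {r : ℕ} [Fact r.Prime] {R : Subgroup G} (hR : IsPGroup r R) {y t : G}
    (hy : y ∈ R) (hy1 : y ≠ 1) (hinv : t * y * t⁻¹ = y⁻¹) :
    ∃ x ∈ zpowers y, orderOf x = r ∧ t * x * t⁻¹ = x⁻¹ := by
  obtain ⟨n, hn⟩ := hR ⟨y, hy⟩
  have hn' : y ^ r ^ n = 1 := congrArg Subtype.val hn
  obtain ⟨k, -, hk⟩ := (Nat.dvd_prime_pow (Fact.out : r.Prime)).1 (orderOf_dvd_of_pow_eq_one hn')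
  have hk0 : k ≠ 0 := fun e => hy1 (orderOf_eq_one_iff.1 (by rw [hk, e, pow_zero]))
  refine ⟨y ^ r ^ (k - 1), pow_mem (mem_zpowers y) _, ?_, by rw [← conj_pow, hinv, inv_pow]⟩
  rw [orderOf_pow, hk, Nat.gcd_eq_right (pow_dvd_pow r (k.sub_le 1)),
    Nat.pow_div (k.sub_le 1) (Fact.out : r.Prime).pos, show k - (k - 1) = 1 by omega, pow_one]

variable {α : Type v} [MulAction G α] [IsPretransitive G α] [FaithfulSMul G α] {z : G}

/-- the normaliser of a nontrivial subgroup fixing a point is proper -/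
theorem normalizer_ne_top_of_fix {X : Subgroup G} (hX : X ≠ ⊥) {x : α} (hx : X ≤ stabilizer G x) :
    normalizer (X : Set G) ≠ ⊤ := by
  intro htop
  haveI := normalizer_eq_top_iff.1 htop
  refine hX ((Subgroup.eq_bot_iff_forall _).2 fun g hg => eq_of_smul_eq_smul fun w : α => ?_)
  obtain ⟨k, rfl⟩ := exists_smul_eq G x w
  have h1 := hx ((inferInstance : X.Normal).conj_mem g hg k⁻¹)
  rw [mem_stabilizer_iff, inv_inv, mul_smul, mul_smul, inv_smul_eq_iff] at h1
  rw [one_smul]
  exact h1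

/-- `t` inverts an element of order `r` of the odd core of `N` -/
def BadIn (z : G) (r : ℕ) (N : Subgroup G) (t : G) : Prop :=
  t ∈ N ∧ IsConj z t ∧ ∃ x ∈ oddCoreOf N, orderOf x = r ∧ t * x * t⁻¹ = x⁻¹

variable (h : Crit G α z) (hF : LineFacts α z)
include h hF

section Local

variable {r : ℕ} [Fact r.Prime] (hr : r ≠ 2) {R : Subgroup G} (hK : Wide α z (normalizer (R : Set G)))
  (hRp : IsPGroup r R) (hRK : R ≤ oddCoreOf (normalizer (R : Set G)))
  (hnc : ∀ w ∈ normalizer (R : Set G), IsConj z w → ¬ ∀ q ∈ R, Commute w q)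
include hr hK hRp hRK hnc

/-- the `r'`-core of a pair with swapper `t` is in that of the centre of `t` and either point -/
theorem coreR_le {t : G} (ht : IsConj z t) (htK : t ∈ normalizer (R : Set G)) {c d : α} (htc : t • c = c)
    (hd : d ∈ memberCentres α z (normalizer (R : Set G))) (hcd : c ≠ d) :
    pairCoreR G r d (t • d) ≤ pairCoreR G r c d := by
  set K := normalizer (R : Set G) with hKdef
  have hc : c ∈ memberCentres α z K := ⟨t, htK, ht, htc⟩
  have htd : t • d ∈ memberCentres α z K := centres_smul h hd htK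
  have hfix : ∀ w ∈ memberCentres α z K, R ≤ stabilizer G w := fun w hw g hg =>
    hF.core_fix K hK w hw g (hRK hg)
  set X := pairCoreR G r d (t • d) with hX
  have hXpair : X ≤ stabilizer G d ⊓ stabilizer G (t • d) := (pairCoreR_le r d (t • d)).trans (pairOdd_le d _)
  have hXodd : Odd (Nat.card X) :=
    (odd_card_pairOdd d (t • d)).of_dvd_nat (card_dvd_of_le (pairCoreR_le r d (t • d)))
  have htt : t • t • d = d := smul_smul_self h ht d
  -- X fixes c
  obtain ⟨t', ht'K, ht', htt', hne⟩ := Wide.partner h hK ht htK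
  set E := invClosure R t with hE
  have hEn : normalizer (E : Set G) ≤ stabilizer G c := by
    obtain ⟨y, hy, hy1, hinv⟩ := exists_inverted (sq_of_order_two (orderOf_conj h ht)) htK (hnc t htK ht)
    refine normalizer_le_centre h ((odd_pgroup hr hRp).of_dvd_nat (card_dvd_of_le (invClosure_le R t)))
      (fun e => hy1 ?_) ht htc ht' htt' hne
      (closure_mono fun q hq => ⟨subset_closure hq, hq.2⟩)
      (mem_normalizer_invClosure htK (Commute.refl t)) (mem_normalizer_invClosure ht'K htt'.symm)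
    have : y ∈ invClosure R t := subset_closure ⟨hy, hinv⟩
    rwa [e, mem_bot] at this
  have hXc : X ≤ stabilizer G c := by
    refine gen_le_stabilizer h (r := r) ht htc (hRp.to_le (invClosure_le R t))
      ((odd_pgroup hr hRp).of_dvd_nat (card_dvd_of_le (invClosure_le R t)))
      ((invClosure_le R t).trans (hfix c hc)) (closure_mono fun q hq => ⟨subset_closure hq, hq.2⟩) hXodd
      (coprime_pairCoreR r d _) (pairGroup_le_normalizer_coreR r d _ (Or.inr ⟨rfl, htt⟩))
      (((invClosure_le R t).trans (le_inf (hfix d hd) (hfix _ htd))).trans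
        ((stabilizer_inf_le_pairGroup d _).trans (pairGroup_le_normalizer_coreR r d _)))
      fun x _ hx => hEn (centralizer_le_normalizer _ hx)
  -- X is in the odd core of c, d
  set Rc := pairOdd G c d with hRc
  have hXR : X ≤ Rc := by
    refine le_pairOdd_of_triple h ht htc hcd hXodd
      (le_inf (le_inf hXc (hXpair.trans inf_le_left)) (hXpair.trans inf_le_right)) ?_
    refine le_trans ?_ ((stabilizer_inf_le_pairGroup d _).trans (pairGroup_le_normalizer_coreR r d _))
    exact le_inf (inf_le_left.trans inf_le_right) inf_le_right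
  -- the invariant core
  set O := oddCoreOf K with hO
  obtain ⟨S, hS⟩ := (hRp.of_equiv (subgroupOfEquivOfLe hRK).symm).exists_le_sylow
  set Rk := (S : Subgroup O).map O.subtype with hRkdef
  have hRkO : Rk ≤ O := map_subtype_le _
  have hRRk : R ≤ Rk := fun g hg => ⟨⟨g, hRK hg⟩, hS (mem_subgroupOf.2 hg), rfl⟩
  have hRkp : IsPGroup r Rk := S.2.map _
  have hOfix : O ≤ stabilizer G c ⊓ stabilizer G d := fun g hg =>
    mem_inf.2 ⟨hF.core_fix K hK c hc g hg, hF.core_fix K hK d hd g hg⟩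
  have hORc : O ≤ normalizer (Rc : Set G) := hOfix.trans (stabilizer_inf_le_normalizer c d)
  set D := Rc ⊔ Rk with hD
  have hDodd : Odd (Nat.card D) := odd_card_sup (odd_card_pairOdd c d) (odd_pgroup hr hRkp) (hRkO.trans hORc)
  have hXD : X ≤ D := hXR.trans le_sup_left
  -- r-elements centralising Rk are in Rk
  have hfull : ∀ x ∈ D, x ∈ centralizer (Rk : Set G) → IsPGroup r (zpowers x) → x ∈ Rk := by
    intro x hxD hxC hxp
    set W := centralizer (R : Set G) with hW
    have hWK : W ≤ K := centralizer_le_normalizer _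
    have hWn : K ≤ normalizer (W : Set G) := by
      intro k hk
      refine Cfsg.Lib.ZStarApps.mem_normalizer_of_maps fun w hw => mem_centralizer_iff.2 fun q hq => ?_
      have h1 := mem_centralizer_iff.1 hw _ ((mem_normalizer_iff''.1 hk q).1 hq)
      calc q * (k * w * k⁻¹) = k * (k⁻¹ * q * k * w) * k⁻¹ := by group
        _ = k * (w * (k⁻¹ * q * k)) * k⁻¹ := by rw [h1]
        _ = k * w * k⁻¹ * q := by group
    have hWno : ∀ w ∈ W, ¬ IsConj z w := fun w hw hwD =>
      hnc w (hWK hw) hwD fun q hq => (mem_centralizer_iff.1 hw q hq).symm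
    have hWfix : ∀ w ∈ W, w • c = c ∧ w • d = d := fun w hw =>
      ⟨fix_centres_of_no_member h hF hK hWK hWn hWno hc hw, fix_centres_of_no_member h hF hK hWK hWn hWno hd hw⟩
    set L := (Rc ⊔ O) ⊓ W with hL
    have hLW : W ≤ normalizer (L : Set G) := fun w hw => conj_mem_inf
      (mem_normalizer_sup' (stabilizer_inf_le_normalizer c d (mem_inf.2 (hWfix w hw)))
        (le_normalizer_oddCoreOf K (hWK hw))) (le_normalizer hw)
    have hLodd : Odd (Nat.card L) := (odd_card_sup (odd_card_pairOdd c d) (odd_card_oddCoreOf K) hORc).of_dvd_nat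
      (card_dvd_of_le inf_le_left)
    have hLO : L ≤ O := (le_oddCoreOf inf_le_right hLW hLodd).trans (le_oddCoreOf ((oddCoreOf_le W).trans hWK)
      (hWn.trans (normalizer_le_normalizer_oddCoreOf W)) (odd_card_oddCoreOf W))
    have hxW : x ∈ W := mem_centralizer_iff.2 fun q hq => mem_centralizer_iff.1 hxC q (hRRk hq)
    have hxO : x ∈ O := hLO (mem_inf.2 ⟨sup_le_sup_left hRkO _ hxD, hxW⟩)
    have hsup : IsPGroup r ↥(Rk ⊔ zpowers x) := hRkp.to_sup_of_normal_left' hxp
      (zpowers_le.2 (centralizer_le_normalizer _ hxC))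
    have hsub : Rk ⊔ zpowers x ≤ O := sup_le hRkO (zpowers_le.2 hxO)
    have h1 := S.is_maximal' (hsup.of_equiv (subgroupOfEquivOfLe hsub).symm) (fun g hg =>
      mem_subgroupOf.2 (mem_sup_left ⟨g, hg, rfl⟩))
    exact ⟨⟨x, hxO⟩, h1.le (mem_subgroupOf.2 (mem_sup_right (mem_zpowers x))), rfl⟩
  haveI := Cfsg.Agent.PF.isSolvable_of_odd D hDodd
  have hRkD : Rk ≤ D := le_sup_right
  have hXcore : X.subgroupOf D ≤ Cfsg.pPrimeCore r D := by
    refine Cfsg.Lib.OddLocal.InvariantCore.le_pPrimeCore (p := r) (A := Rk.subgroupOf D)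
      Cfsg.Lib.OddLocal.InvariantCore.quotientConstrained_of_solvable (fun e => absurd e hr)
      (hRkp.of_equiv (subgroupOfEquivOfLe hRkD).symm) ?_ ?_ ?_
    · intro x hx hxp
      refine mem_subgroupOf.2 (hfull x x.2 (mem_centralizer_iff.2 fun q hq => ?_) ?_)
      · exact congrArg Subtype.val (mem_centralizer_iff.1 hx ⟨q, hRkD hq⟩ (mem_subgroupOf.2 hq))
      · rw [show (x : G) = D.subtype x from rfl, ← MonoidHom.map_zpowers]
        exact hxp.map _
    · rw [Nat.card_congr (subgroupOfEquivOfLe hXD).toEquiv]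
      exact coprime_pairCoreR r d _
    · have hn : Rk ≤ normalizer (X : Set G) := by
        refine le_trans ?_ ((stabilizer_inf_le_pairGroup d _).trans (pairGroup_le_normalizer_coreR r d _))
        exact fun g hg => mem_inf.2 ⟨hF.core_fix K hK d hd g (hRkO hg),
          hF.core_fix K hK _ htd g (hRkO hg)⟩
      intro g hg
      have h1 := mem_normalizer_iff.1 (hn (mem_subgroupOf.1 hg))
      refine mem_normalizer_iff.2 fun q => ?_
      rw [mem_subgroupOf, mem_subgroupOf]
      exact h1 q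
  set Y := (Cfsg.pPrimeCore r D).map D.subtype with hY
  have hYc : (Nat.card Y).Coprime r := by
    rw [hY, card_map_of_injective D.subtype_injective]
    exact Cfsg.Lib.Components.coprime_card_pPrimeCore r
  have hYR : Y ≤ Rc := by
    intro g hg
    refine mem_of_pow_mem ?_ (pow_card_mem_of_sup (hRkO.trans hORc) (map_subtype_le _ hg))
    obtain ⟨k, hk⟩ := IsPGroup.iff_card.1 hRkp
    rw [hk]
    exact ((hYc.coprime_dvd_left (Subgroup.orderOf_dvd_natCard _ hg)).symm).pow_left k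
  haveI : (Cfsg.pPrimeCore r D).Characteristic := Cfsg.Lib.Components.pPrimeCore_characteristic
  refine le_trans ?_ (le_pairCoreR hYR ((le_sup_left.trans le_normalizer).trans
    (Cfsg.Lib.HalfFixed.normalizer_le_map_of_characteristic D _)) hYc)
  intro g hg
  exact ⟨⟨g, hXD hg⟩, hXcore (mem_subgroupOf.2 hg), rfl⟩

/-- a pair of centres with nontrivial `r'`-core gives a LINE -/
theorem hasLine_of_coreR {x₀ y₀ : α} (hx₀ : x₀ ∈ memberCentres α z (normalizer (R : Set G)))
    (hy₀ : y₀ ∈ memberCentres α z (normalizer (R : Set G))) (hne₀ : x₀ ≠ y₀)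
    (hX₀ : pairCoreR G r x₀ y₀ ≠ ⊥) : HasLine α z := by
  classical
  set K := normalizer (R : Set G) with hKdef
  let S : ℕ → Prop := fun n => ∃ x y : α, x ∈ memberCentres α z K ∧ y ∈ memberCentres α z K ∧ x ≠ y ∧
    Nat.card (pairCoreR G r x y) = n
  have hS : S (Nat.card (pairCoreR G r x₀ y₀)) := ⟨x₀, y₀, hx₀, hy₀, hne₀, rfl⟩
  obtain ⟨x, y, hx, hy, hxy, hn⟩ := Nat.findGreatest_spec (n := Nat.card G) (Subgroup.card_le_card_group _) hS
  have hmax : ∀ x' y', x' ∈ memberCentres α z K → y' ∈ memberCentres α z K → x' ≠ y' →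
      Nat.card (pairCoreR G r x' y') ≤ Nat.card (pairCoreR G r x y) := fun x' y' h1 h2 h3 =>
    le_of_le_of_eq (Nat.le_findGreatest (Subgroup.card_le_card_group _) ⟨x', y', h1, h2, h3, rfl⟩) hn.symm
  obtain ⟨a, haK, ha, hax⟩ := id hx
  obtain ⟨b, hbK, hb, hby⟩ := id hy
  obtain ⟨t, htK, ht, htx, hty⟩ := exists_swap_in h ha hb haK hbK hax hby hxy
  obtain ⟨c, htc, -⟩ := h.uniq t ht
  have hcx : c ≠ x := fun e => hxy (by rw [← htx, ← e, htc])
  have hc : c ∈ memberCentres α z K := ⟨t, htK, ht, htc⟩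
  set X := pairCoreR G r x y with hX
  have hle : X ≤ pairCoreR G r c x := by
    have h1 := coreR_le h hF hr hK hRp hRK hnc ht htK htc hx hcx
    rwa [htx] at h1
  have heq : X = pairCoreR G r c x := Subgroup.eq_of_le_of_card_ge hle (hmax c x hc hx hcx)
  have hXne : X ≠ ⊥ := fun e => hX₀ (Subgroup.eq_bot_of_card_le _
    ((hmax x₀ y₀ hx₀ hy₀ hne₀).trans (by rw [e, Subgroup.card_bot])))
  obtain ⟨s, hsK, hs, hsc, hsx⟩ := exists_swap_in h ht ha htK haK htc hax hcx
  set J := normalizer (X : Set G) with hJ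
  have htJ : t ∈ J := pairGroup_le_normalizer_coreR r x y (Or.inr ⟨htx, hty⟩)
  have hsJ : s ∈ J := by rw [hJ, heq]; exact pairGroup_le_normalizer_coreR r c x (Or.inr ⟨hsc, hsx⟩)
  have hatc : ∀ d, IsConj z d → d • c = c → d ∈ J := by
    intro d hd hdc
    obtain ⟨ρ, hρ, rfl⟩ := exists_conj_member h hcx ht hd htc hdc
    have hρJ : ρ ∈ J := by
      rw [hJ, heq]
      exact pairGroup_le_normalizer_coreR r c x (stabilizer_inf_le_pairGroup c x (pairOdd_le c x hρ))
    exact mul_mem (mul_mem hρJ htJ) (inv_mem hρJ)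
  refine ⟨J, normalizer_ne_top_of_fix hXne ((pairCoreR_le r x y).trans ((pairOdd_le x y).trans inf_le_left)),
    c, x, hcx, fun d hd hdcx => hdcx.elim (hatc d hd) fun hdx => ?_⟩
  have hss := sq_of_order_two (orderOf_conj h hs)
  have h1 : s * d * s⁻¹ ∈ J := hatc _ (hd.trans (isConj_iff.2 ⟨s, rfl⟩))
    (by rw [inv_of_order_two (orderOf_conj h hs), mul_smul, mul_smul, hsc, hdx, hsx])
  have h2 := mul_mem (mul_mem (inv_mem hsJ) h1) hsJ
  rwa [show s⁻¹ * (s * d * s⁻¹) * s = d by group] at h2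

/-- the members at `d` with the odd core and the extremal `r`-group: the normaliser of `ZJ` gives the LINE -/
theorem hasLine_of_zj {t : G} (ht : IsConj z t) (htK : t ∈ normalizer (R : Set G)) {d : α}
    (hd : d ∈ memberCentres α z (normalizer (R : Set G))) (hdt : t • d ≠ d) (hR : R ≠ ⊥) {P : Subgroup G}
    (hPp : IsPGroup r P) (hRP : R ≤ P)
    (hPle : P ≤ normalizer (R : Set G) ⊓ stabilizer G d ⊓ stabilizer G (t • d))
    (htP : t ∈ normalizer (P : Set G))
    (hmax : ∀ (N' : Subgroup G), Wide α z N' → BadIn z r N' t → d ∈ memberCentres α z N' →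
      ∀ Q : Subgroup G, IsPGroup r Q → Q ≤ N' ⊓ stabilizer G d ⊓ stabilizer G (t • d) →
        Nat.card Q ≤ Nat.card P)
    (hX : pairCoreR G r d (t • d) = ⊥) : HasLine α z := by
  set K := normalizer (R : Set G) with hKdef
  set O := oddCoreOf K with hO
  set A := membersCore z K d with hA
  have hPK : P ≤ K := hPle.trans (inf_le_left.trans inf_le_left)
  have hPd : P ≤ stabilizer G d := hPle.trans (inf_le_left.trans inf_le_right)
  have hAK := membersCore_le h hF hK hd
  have hOA : O ≤ A := fun g hg => subset_closure (Or.inr hg)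
  have hPA : P ≤ normalizer (A : Set G) := by
    intro p hp
    refine Cfsg.Lib.ZStarApps.mem_normalizer_of_maps fun g hg => ?_
    induction hg using Subgroup.closure_induction with
    | mem q hq =>
      refine subset_closure ?_
      rcases hq with ⟨hqK, hqD, hqd⟩ | ho
      · refine Or.inl ⟨mul_mem (mul_mem (hPK hp) hqK) (inv_mem (hPK hp)),
          hqD.trans (isConj_iff.2 ⟨p, rfl⟩), ?_⟩
        have hpd : p • d = d := hPd hp
        rw [mul_smul, mul_smul, inv_smul_eq_iff.2 hpd.symm, hqd, hpd]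
      · exact Or.inr ((mem_normalizer_iff.1 (le_normalizer_oddCoreOf K (hPK hp)) q).1 ho)
    | one => simp
    | mul a b _ _ iha ihb =>
      rw [show p * (a * b) * p⁻¹ = (p * a * p⁻¹) * (p * b * p⁻¹) by group]; exact mul_mem iha ihb
    | inv a _ iha => rw [show p * a⁻¹ * p⁻¹ = (p * a * p⁻¹)⁻¹ by group]; exact inv_mem iha
  set Γ := A ⊔ P with hΓ
  have hΓK : Γ ≤ K ⊓ stabilizer G d := sup_le hAK (le_inf hPK hPd)
  have hPodd := odd_pgroup hr hPp
  -- the elements of 2-power order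
  have htwo : ∀ g ∈ Γ, ∀ k, g ^ 2 ^ k = 1 → g ∈ A := fun g hg k hk =>
    mem_of_pow_mem ((Nat.Coprime.pow_right k (Nat.coprime_two_right.2 hPodd)).coprime_dvd_right
      (orderOf_dvd_of_pow_eq_one hk)) (pow_card_mem_of_sup hPA hg)
  have hinvol : ∀ g ∈ Γ, orderOf g = 2 → IsConj z g ∧ g • d = d := fun g hg hg2 =>
    member_of_involution h hF hK hd hg2
      (htwo g hg 1 (by rw [pow_one, pow_two, sq_of_order_two hg2]))
  have hfour : ∀ g : Γ, g ^ 4 = 1 → g ^ 2 = 1 := by
    intro g hg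
    have hg' : (g : G) ^ 4 = 1 := congrArg Subtype.val hg
    have h1 := sq_mem_membersCore h hF hK (htwo g g.2 2 hg')
    refine Subtype.ext ?_
    show (g : G) ^ 2 = 1
    rw [pow_two, ← orderOf_eq_one_iff]
    exact Nat.eq_one_of_dvd_coprimes
      (Nat.coprime_two_right.2 ((odd_card_oddCoreOf K).of_dvd_nat (Subgroup.orderOf_dvd_natCard _ h1)))
      dvd_rfl (orderOf_dvd_of_pow_eq_one (by rw [← pow_two, ← pow_mul]; exact hg'))
  haveI : Group.IsSolvable Γ := by
    refine Cfsg.Lib.Signalizer.isSolvable_sup hPA ?_ (by haveI := hPp.isNilpotent; infer_instance)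
    have hOn : A ≤ normalizer (O : Set G) := (hAK.trans inf_le_left).trans (le_normalizer_oddCoreOf K)
    haveI : (O.subgroupOf A).Normal := (normal_subgroupOf_iff_le_normalizer hOA).2 hOn
    refine (Group.isSolvable_iff_subgroup_quotient (O.subgroupOf A)).2 ⟨?_, ?_⟩
    · exact Cfsg.Agent.PF.isSolvable_of_odd _
        (by rw [Nat.card_congr (subgroupOfEquivOfLe hOA).toEquiv]; exact odd_card_oddCoreOf K)
    · have hsq : ∀ q : A ⧸ O.subgroupOf A, q * q = 1 := fun q => by
        induction q using QuotientGroup.induction_on with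
        | _ g =>
          rw [← QuotientGroup.mk_mul, QuotientGroup.eq_one_iff, mem_subgroupOf]
          exact sq_mem_membersCore h hF hK g.2
      exact Group.isSolvable_of_comm fun a b => by
        have e := eq_inv_of_mul_eq_one_left (hsq (a * b))
        rw [mul_inv_rev, inv_eq_of_mul_eq_one_right (hsq a), inv_eq_of_mul_eq_one_right (hsq b)] at e
        exact e
  -- P is a Sylow subgroup of Γ
  have htd : t • d ∈ memberCentres α z K := centres_smul h hd htK
  have hOfix : O ≤ K ⊓ stabilizer G d ⊓ stabilizer G (t • d) := fun g hg =>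
    mem_inf.2 ⟨mem_inf.2 ⟨oddCoreOf_le K hg, hF.core_fix K hK d hd g hg⟩, hF.core_fix K hK _ htd g hg⟩
  obtain ⟨y₀, hy₀, hy₀1, hinv₀⟩ := exists_inverted (sq_of_order_two (orderOf_conj h ht)) htK (hnc t htK ht)
  obtain ⟨x₀, hx₀z, hx₀, hx₀inv⟩ := exists_inverted_order hRp hy₀ hy₀1 hinv₀
  have hbadK : BadIn z r K t := ⟨htK, ht, x₀, zpowers_le.2 (hRK hy₀) hx₀z, hx₀, hx₀inv⟩
  have hPΓ : P ≤ Γ := le_sup_right
  obtain ⟨S, hS⟩ := (hPp.of_equiv (subgroupOfEquivOfLe hPΓ).symm).exists_le_sylow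
  set Q := (S : Subgroup Γ).map Γ.subtype with hQ
  have hPQ : P ≤ Q := fun g hg => ⟨⟨g, hPΓ hg⟩, hS (mem_subgroupOf.2 hg), rfl⟩
  have hQp : IsPGroup r Q := S.2.map _
  have hQle : Q ≤ K ⊓ stabilizer G d ⊓ stabilizer G (t • d) := by
    intro q hq
    obtain ⟨a, ha, p, hp, rfl⟩ :=
      (Cfsg.Lib.Coprime.mem_sup_of_le_normalizer hPA).1 (map_subtype_le _ hq)
    refine mul_mem (hOfix ?_) (hPle hp)
    have haQ : a ∈ Q := by simpa using mul_mem hq (inv_mem (hPQ hp))
    refine mem_of_pow_mem (n := 2) ?_ (by rw [pow_two]; exact sq_mem_membersCore h hF hK ha)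
    exact Nat.coprime_two_left.2 ((odd_pgroup hr hQp).of_dvd_nat (Subgroup.orderOf_dvd_natCard _ haQ))
  have hQeq : Q = P := (Subgroup.eq_of_le_of_card_ge hPQ (hmax K hK hbadK hd Q hQp hQle)).symm
  -- the r'-core of Γ is odd
  set C := (Cfsg.pPrimeCore r Γ).map Γ.subtype with hC
  have hCc : (Nat.card C).Coprime r := by
    rw [hC, card_map_of_injective Γ.subtype_injective]
    exact Cfsg.Lib.Components.coprime_card_pPrimeCore r
  have hCodd : Odd (Nat.card C) := by
    rw [← Nat.not_even_iff_odd]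
    intro hev
    obtain ⟨u, hu, hu2⟩ := exists_involution_of_even hev
    have huΓ : u ∈ Γ := map_subtype_le _ hu
    obtain ⟨huD, -⟩ := hinvol u huΓ hu2
    have huK : u ∈ K := (mem_inf.1 (hΓK huΓ)).1
    refine hnc u huK huD fun q hq => ?_
    have hqΓ : q ∈ Γ := hPΓ (hRP hq)
    have h1 : u * q * u⁻¹ * q⁻¹ ∈ R := mul_mem ((mem_normalizer_iff.1 huK q).1 hq) (inv_mem hq)
    have h2 : u * q * u⁻¹ * q⁻¹ ∈ C := by
      haveI : (Cfsg.pPrimeCore r Γ).Characteristic := Cfsg.Lib.Components.pPrimeCore_characteristic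
      rw [show u * q * u⁻¹ * q⁻¹ = u * (q * u⁻¹ * q⁻¹) by group]
      exact mul_mem hu ((mem_normalizer_iff.1
        (Cfsg.Lib.HalfFixed.normalizer_le_map_of_characteristic Γ _ (le_normalizer hqΓ)) _).1 (inv_mem hu))
    obtain ⟨k, hk⟩ := IsPGroup.iff_card.1 hRp
    exact mul_inv_eq_iff_eq_mul.1 (mul_inv_eq_one.1
      (Cfsg.Lib.Coprime.eq_one_of_coprime (by rw [hk]; exact hCc.pow_right k) h2 h1))
  -- the members at d normalising ZJ
  set Z := Cfsg.centerThompsonAOf P with hZ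
  set N₁ := normalizer (Z : Set G) with hN₁
  have hPne : P ≠ ⊥ := fun e => hR (eq_bot_iff.2 (e ▸ hRP))
  have hN₁top : N₁ ≠ ⊤ := normalizer_ne_top_of_fix (Cfsg.Lib.ZJ.centerThompsonAOf_ne_bot hPp hPne)
    ((Cfsg.Lib.InvSylow.centerThompsonAOf_le P).trans hPd)
  set M := (normalizer (Cfsg.centerThompsonAOf (S : Subgroup Γ) : Set Γ)).map Γ.subtype with hM
  have hMN : M ≤ Γ ⊓ N₁ := by
    refine le_inf (map_subtype_le _) ((le_normalizer_map Γ.subtype).trans ?_)
    rw [Cfsg.Lib.ZJ.centerThompsonAOf_map_injOn Γ.subtype_injective.injOn, ← hQ, hQeq]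
  have h4Γ : 4 ∣ Nat.card Γ := by
    obtain ⟨a, haK, ha, had⟩ := id hd
    obtain ⟨a', ha'K, ha', hc, hne⟩ := Wide.partner h hK ha haK
    obtain ⟨w, hw, -⟩ := h.uniq a' ha'
    have hwd : d = w := centre_eq_of_commute h ha ha' hc had hw
    have hle : zpowers a ⊔ zpowers a' ≤ Γ := sup_le
      (zpowers_le.2 (mem_sup_left (subset_closure (Or.inl ⟨haK, ha, had⟩))))
      (zpowers_le.2 (mem_sup_left (subset_closure (Or.inl ⟨ha'K, ha', hwd ▸ hw⟩))))
    refine dvd_trans ?_ (card_dvd_of_le hle)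
    have hcard := Cfsg.Lib.Coprime.card_sup_mul_card_inf (N := zpowers a) (H := zpowers a')
      (zpowers_le.2 (centralizer_le_normalizer _ (mem_centralizer_iff.2 fun q hq => by
        obtain ⟨i, rfl⟩ := hq
        exact (hc.zpow_left i).eq)))
    rw [Nat.card_zpowers, Nat.card_zpowers, orderOf_conj h ha, orderOf_conj h ha'] at hcard
    have hd2 : Nat.card ↥(zpowers a ⊓ zpowers a') ∣ 2 := by
      have := card_dvd_of_le (inf_le_left : zpowers a ⊓ zpowers a' ≤ zpowers a)
      rwa [Nat.card_zpowers, orderOf_conj h ha] at this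
    rcases (Nat.dvd_prime Nat.prime_two).1 hd2 with e | e
    · rw [e, mul_one] at hcard; rw [hcard]
    · exfalso
      have he : zpowers a ⊓ zpowers a' = zpowers a := Subgroup.eq_of_le_of_card_ge inf_le_left
        (by rw [Nat.card_zpowers, orderOf_conj h ha, e])
      have : a ∈ zpowers a' := (inf_eq_left.1 he) (mem_zpowers a)
      obtain ⟨i, hi⟩ := this
      replace hi : a' ^ i = a := hi
      rcases Int.even_or_odd i with ⟨j, rfl⟩ | ⟨j, rfl⟩
      · refine ne_one_of_order_two (orderOf_conj h ha) (hi.symm.trans ?_)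
        rw [zpow_add, ← (Commute.refl a').mul_zpow, sq_of_order_two (orderOf_conj h ha'), one_zpow]
      · refine hne (hi.symm.trans ?_)
        rw [two_mul, zpow_add, zpow_add, ← (Commute.refl a').mul_zpow,
          sq_of_order_two (orderOf_conj h ha'), one_zpow, one_mul, zpow_one]
  have h4M : 2 ^ 2 ∣ Nat.card M := by
    have h1 := Cfsg.Lib.Components.card_sup_dvd_mul (Cfsg.pPrimeCore r Γ)
      (normalizer (Cfsg.centerThompsonAOf (S : Subgroup Γ) : Set Γ))
    have e1 : Nat.card C = Nat.card (Cfsg.pPrimeCore r Γ) := card_map_of_injective Γ.subtype_injective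
    have e2 : Nat.card M = Nat.card (normalizer (Cfsg.centerThompsonAOf (S : Subgroup Γ) : Set Γ)) :=
      card_map_of_injective Γ.subtype_injective
    rw [sup_normalizer_zj hr hfour S, Subgroup.card_top, ← e1, ← e2] at h1
    exact ((Nat.coprime_two_left.2 hCodd).pow_left 2).dvd_of_dvd_mul_left (h4Γ.trans h1)
  haveI : Fact (Nat.Prime 2) := ⟨Nat.prime_two⟩
  obtain ⟨V, hV⟩ := Sylow.exists_subgroup_card_pow_prime 2 h4M
  have hVG : ∀ g : V, ((g : M) : G) ∈ Γ ⊓ N₁ := fun g => hMN (g : M).2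
  have hVinv : ∀ g : V, g ≠ 1 → orderOf ((g : M) : G) = 2 := by
    intro g hg
    have h1 : g ^ 4 = 1 := by
      have h := pow_card_eq_one' (x := g)
      rwa [hV] at h
    have h2 := hfour ⟨_, (mem_inf.1 (hVG g)).1⟩
      (Subtype.ext (congrArg (fun q : V => ((q : M) : G)) h1))
    refine order_two_of_mul_self (by rw [← pow_two]; exact congrArg Subtype.val h2) fun e => hg ?_
    exact Subtype.ext (Subtype.ext e)
  obtain ⟨g₁, g₂, hg₁, hg₂, hg₁₂⟩ : ∃ g₁ g₂ : V, g₁ ≠ 1 ∧ g₂ ≠ 1 ∧ g₁ ≠ g₂ := by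
    classical
    haveI := Fintype.ofFinite V
    have hc : 2 < Finset.card (Finset.univ.erase (1 : V)) := by
      rw [Finset.card_erase_of_mem (Finset.mem_univ _), Finset.card_univ, ← Nat.card_eq_fintype_card, hV]
      norm_num
    obtain ⟨g₁, hg₁, g₂, hg₂, hne⟩ := Finset.one_lt_card.1 (by omega : 1 < (Finset.univ.erase (1 : V)).card)
    exact ⟨g₁, g₂, (Finset.mem_erase.1 hg₁).1, (Finset.mem_erase.1 hg₂).1, hne⟩
  set a : G := ((g₁ : M) : G) with hadef
  set a' : G := ((g₂ : M) : G) with ha'def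
  obtain ⟨haD, had⟩ := hinvol a (mem_inf.1 (hVG g₁)).1 (hVinv g₁ hg₁)
  obtain ⟨ha'D, ha'd⟩ := hinvol a' (mem_inf.1 (hVG g₂)).1 (hVinv g₂ hg₂)
  have haa' : Commute a a' := by
    have hinv : ∀ g : V, g⁻¹ = g := fun g => by
      by_cases hg : g = 1
      · rw [hg, inv_one]
      · exact inv_eq_of_mul_eq_one_right (Subtype.ext (Subtype.ext (sq_of_order_two (hVinv g hg))))
    have h1 : g₁ * g₂ = g₂ * g₁ := by
      conv_lhs => rw [← hinv (g₁ * g₂), mul_inv_rev, hinv g₁, hinv g₂]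
    exact congrArg (fun q : V => ((q : M) : G)) h1
  have hane : a ≠ a' := fun e => hg₁₂ (Subtype.ext (Subtype.ext e))
  have haN : a ∈ N₁ := (mem_inf.1 (hVG g₁)).2
  have ha'N : a' ∈ N₁ := (mem_inf.1 (hVG g₂)).2
  have htN : t ∈ N₁ := Cfsg.Lib.InvSylow.normalizer_le_normalizer_centerThompsonAOf P htP
  obtain ⟨c, htc, -⟩ := h.uniq t ht
  have hdc : d ≠ c := fun e => hdt (by rw [e, htc])
  have hW₁ : Wide α z N₁ := wide_mk h hN₁top haN ha'N htN haD ha'D ht haa' hane had htc hdc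
  have hPN₁ : P ≤ N₁ := le_normalizer.trans (Cfsg.Lib.InvSylow.normalizer_le_normalizer_centerThompsonAOf P)
  -- t is bad in N₁
  have hbad₁ : BadIn z r N₁ t := by
    have haK : a ∈ K := (mem_inf.1 (hΓK (mem_inf.1 (hVG g₁)).1)).1
    obtain ⟨y, hy, hy1, hinv⟩ := exists_inverted (sq_of_order_two (orderOf_conj h haD)) haK (hnc a haK haD)
    have hyo : Odd (orderOf y) := (odd_pgroup hr hRp).of_dvd_nat (Subgroup.orderOf_dvd_natCard _ hy)
    have hayd : (a * y) • d = d := by
      rw [mul_smul, show y • d = d from hPd (hRP hy), had]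
    have h1 := hF.sq_mem N₁ hW₁ a haN (a * y) (mul_mem haN (hPN₁ (hRP hy))) haD
      (isConj_mul_inverted h haD hyo hinv) d had hayd
    rw [show a * (a * y) = (a * a) * y by group, sq_of_order_two (orderOf_conj h haD), one_mul] at h1
    obtain ⟨x, hx, hxr, hxinv⟩ := exists_inverted_order hRp hy hy1 hinv
    have hxO : x ∈ oddCoreOf N₁ := zpowers_le.2 (mem_of_pow_mem
      (Nat.coprime_two_left.2 hyo) (by rw [pow_two]; exact h1)) hx
    obtain ⟨g, hg, hgt⟩ := Wide.conj_in h hW₁ haD ht haN htN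
    refine ⟨htN, ht, g * x * g⁻¹, (mem_normalizer_iff.1 (le_normalizer_oddCoreOf N₁ hg) x).1 hxO,
      by rw [orderOf_conj', hxr], ?_⟩
    calc t * (g * x * g⁻¹) * t⁻¹ = g * (a * x * a⁻¹) * g⁻¹ := by rw [← hgt]; group
      _ = (g * x * g⁻¹)⁻¹ := by rw [hxinv]; group
  -- P is a Sylow subgroup of the pair
  set T := stabilizer G d ⊓ stabilizer G (t • d) with hT
  have hPT : P ≤ T := le_inf hPd (hPle.trans inf_le_right)
  obtain ⟨S₂, hS₂⟩ := (hPp.of_equiv (subgroupOfEquivOfLe hPT).symm).exists_le_sylow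
  set Q₂ := (S₂ : Subgroup T).map T.subtype with hQ₂
  have hPQ₂ : P ≤ Q₂ := fun g hg => ⟨⟨g, hPT hg⟩, hS₂ (mem_subgroupOf.2 hg), rfl⟩
  have hQ₂p : IsPGroup r Q₂ := S₂.2.map _
  have hQ₂eq : Q₂ = P := by
    by_contra hne
    have hlt : P.subgroupOf Q₂ < ⊤ := lt_top_iff_ne_top.2 fun e =>
      hne (le_antisymm (subgroupOf_eq_top.1 e) hPQ₂)
    haveI := hQ₂p.isNilpotent
    obtain ⟨g, hgn, hgP⟩ := SetLike.exists_of_lt (Group.normalizerCondition_of_isNilpotent (G := Q₂) _ hlt)
    rw [← subgroupOf_normalizer_eq hPQ₂] at hgn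
    set W := Q₂ ⊓ normalizer (P : Set G) with hW
    have hWle : W ≤ N₁ ⊓ stabilizer G d ⊓ stabilizer G (t • d) := by
      rintro w ⟨hw1, hw2⟩
      obtain ⟨hwd, hwe⟩ := mem_inf.1 (map_subtype_le _ hw1 : w ∈ T)
      exact mem_inf.2 ⟨mem_inf.2 ⟨Cfsg.Lib.InvSylow.normalizer_le_normalizer_centerThompsonAOf P hw2, hwd⟩, hwe⟩
    have hPW : P ≤ W := le_inf hPQ₂ le_normalizer
    have heq := Subgroup.eq_of_le_of_card_ge hPW
      (hmax N₁ hW₁ hbad₁ ⟨a, haN, haD, had⟩ W (hQ₂p.to_le inf_le_left) hWle)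
    exact hgP (mem_subgroupOf.2 (heq ▸ mem_inf.2 ⟨g.2, mem_subgroupOf.1 hgn⟩))
  -- the odd core of the pair normalises ZJ
  set Rd := pairOdd G d (t • d) with hRd
  have hPRd : P ≤ normalizer (Rd : Set G) := hPT.trans (stabilizer_inf_le_normalizer d _)
  set D := Rd ⊔ P with hD
  have hDT : D ≤ T := sup_le (pairOdd_le d _) hPT
  have hPcard : Nat.card P = r ^ (Nat.card D).factorization r := by
    obtain ⟨k, hk⟩ := IsPGroup.iff_card.1 hPp
    have h1 : Nat.card P = r ^ (Nat.card T).factorization r := by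
      rw [← hQ₂eq, hQ₂, card_map_of_injective T.subtype_injective, S₂.card_eq_multiplicity]
    have h2 : r ^ k ∣ Nat.card D := hk ▸ card_dvd_of_le le_sup_right
    have h3 := ((Fact.out : r.Prime).pow_dvd_iff_le_factorization Nat.card_pos.ne').1 h2
    have h4 := (Nat.factorization_le_iff_dvd Nat.card_pos.ne' Nat.card_pos.ne').2 (card_dvd_of_le hDT) r
    rw [h1] at hk ⊢
    have := Nat.pow_right_injective (Fact.out : r.Prime).two_le hk
    congr 1
    omega
  have hcore : (Cfsg.pPrimeCore r D).map D.subtype = ⊥ := by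
    set Y := (Cfsg.pPrimeCore r D).map D.subtype with hY
    have hYc : (Nat.card Y).Coprime r := by
      rw [hY, card_map_of_injective D.subtype_injective]
      exact Cfsg.Lib.Components.coprime_card_pPrimeCore r
    have hYR : Y ≤ Rd := by
      intro g hg
      refine mem_of_pow_mem ?_ (pow_card_mem_of_sup hPRd (map_subtype_le _ hg))
      obtain ⟨k, hk⟩ := IsPGroup.iff_card.1 hPp
      rw [hk]
      exact ((hYc.coprime_dvd_left (Subgroup.orderOf_dvd_natCard _ hg)).symm).pow_left k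
    haveI : (Cfsg.pPrimeCore r D).Characteristic := Cfsg.Lib.Components.pPrimeCore_characteristic
    rw [eq_bot_iff, ← hX]
    exact le_pairCoreR hYR ((le_sup_left.trans le_normalizer).trans
      (Cfsg.Lib.HalfFixed.normalizer_le_map_of_characteristic D _)) hYc
  have hRdN : Rd ≤ N₁ := le_sup_left.trans (le_normalizer_zj_of_core hr
    (odd_card_sup (odd_card_pairOdd d _) hPodd hPRd) le_sup_right hPcard hcore)
  have hatd : ∀ w, IsConj z w → w • d = d → w ∈ N₁ := by
    intro w hw hwd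
    obtain ⟨ρ, hρ, rfl⟩ := exists_conj_member h hdt.symm haD hw had hwd
    exact mul_mem (mul_mem (hRdN hρ) haN) (inv_mem (hRdN hρ))
  refine ⟨N₁, hN₁top, d, t • d, hdt.symm, fun w hw hwx => hwx.elim (hatd w hw) fun hwe => ?_⟩
  have h1 : t * w * t⁻¹ ∈ N₁ := hatd _ (hw.trans (isConj_iff.2 ⟨t, rfl⟩))
    (by rw [inv_of_order_two (orderOf_conj h ht), mul_smul, mul_smul, hwe, smul_smul_self h ht])
  have h2 := mul_mem (mul_mem (inv_mem htN) h1) htN
  rwa [show t⁻¹ * (t * w * t⁻¹) * t = w by group] at h2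

end Local

/-- the local data of a bad member: a four-group invariant Sylow subgroup `R` of the odd core and an invariant
Sylow subgroup of the pair through it -/
theorem exists_local {r : ℕ} [Fact r.Prime] (hr : r ≠ 2) {N : Subgroup G} (hN : Wide α z N) {t : G}
    (hbad : BadIn z r N t) {d : α} (hd : d ∈ memberCentres α z N) (hdt : t • d ≠ d) :
    ∃ R P : Subgroup G, IsPGroup r R ∧ R ≠ ⊥ ∧ Wide α z (normalizer (R : Set G)) ∧
      R ≤ oddCoreOf (normalizer (R : Set G)) ∧
      (∀ w ∈ normalizer (R : Set G), IsConj z w → ¬ ∀ q ∈ R, Commute w q) ∧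
      t ∈ normalizer (R : Set G) ∧ d ∈ memberCentres α z (normalizer (R : Set G)) ∧
      IsPGroup r P ∧ R ≤ P ∧ P ≤ normalizer (R : Set G) ⊓ stabilizer G d ⊓ stabilizer G (t • d) ∧
      t ∈ normalizer (P : Set G) ∧
      Nat.card P = r ^ (Nat.card ↥(N ⊓ stabilizer G d ⊓ stabilizer G (t • d))).factorization r := by
  obtain ⟨htN, ht, x, hxO, hxr, hxinv⟩ := hbad
  set O := oddCoreOf N with hO
  have hOodd : Odd (Nat.card O) := odd_card_oddCoreOf N
  have hOn := le_normalizer_oddCoreOf N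
  obtain ⟨t', ht'N, ht', htt', hne⟩ := Wide.partner h hN ht htN
  have ht2 := orderOf_conj h ht
  have hnz : zpowers t' ≤ normalizer (zpowers t : Set G) :=
    zpowers_le.2 (centralizer_le_normalizer _ (mem_centralizer_iff.2 fun q hq => by
      obtain ⟨i, rfl⟩ := hq
      exact (htt'.zpow_left i).eq))
  set A := zpowers t ⊔ zpowers t' with hA
  have hAN : A ≤ normalizer (O : Set G) := sup_le (zpowers_le.2 (hOn htN)) (zpowers_le.2 (hOn ht'N))
  have hcopA : (Nat.card A).Coprime (Nat.card O) := by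
    refine Nat.Coprime.coprime_dvd_left (k := 4)
      ⟨Nat.card ↥(zpowers t ⊓ zpowers t'), by
        rw [Cfsg.Lib.Coprime.card_sup_mul_card_inf hnz, Nat.card_zpowers, Nat.card_zpowers, ht2,
          orderOf_conj h ht']⟩ ?_
    · exact (Nat.coprime_two_left.2 hOodd).pow_left 2
  have hsol : Group.IsSolvable O := Cfsg.Agent.PF.isSolvable_of_odd O hOodd
  obtain ⟨S₀, hS₀⟩ := Cfsg.Lib.Coprime.exists_invariant_sylow hAN hcopA (Or.inr hsol) r
  have hcopt : (Nat.card (zpowers t)).Coprime (Nat.card O) := by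
    rw [Nat.card_zpowers, ht2]; exact Nat.coprime_two_left.2 hOodd
  obtain ⟨S₁, hxS₁, hS₁⟩ := Cfsg.Lib.Coprime.exists_invariant_sylow_ge (zpowers_le.2 (hOn htN)) hcopt
    (Or.inl inferInstance) r (zpowers_le.2 hxO)
    (IsPGroup.of_card (n := 1) (by rw [Nat.card_zpowers, hxr, pow_one]))
    (zpowers_le.2 (Cfsg.Lib.ZStarApps.mem_normalizer_of_maps fun q hq => by
      obtain ⟨i, rfl⟩ := hq
      rw [← conj_zpow, hxinv, inv_zpow]
      exact inv_mem (zpow_mem (mem_zpowers x) i)))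
  obtain ⟨k, hk, hkS⟩ := Cfsg.Lib.Coprime.invariant_sylow_conj (zpowers_le.2 (hOn htN)) hcopt
    (Or.inl inferInstance) r S₁ S₀ hS₁ ((le_sup_left : zpowers t ≤ A).trans hS₀)
  set R := (S₀ : Subgroup O).map O.subtype with hR
  have hRO : R ≤ O := map_subtype_le _
  have hRp : IsPGroup r R := S₀.2.map _
  have htR : t ∈ normalizer (R : Set G) := hS₀ (mem_sup_left (mem_zpowers t))
  have ht'R : t' ∈ normalizer (R : Set G) := hS₀ (mem_sup_right (mem_zpowers t'))
  set y := (k : G) * x * (k : G)⁻¹ with hy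
  have hyR : y ∈ R := by
    rw [hR, ← hkS, Cfsg.Lib.Coprime.map_subtype_smul, Cfsg.Lib.Coprime.mem_conjMap, hy,
      show (k : G)⁻¹ * ((k : G) * x * (k : G)⁻¹) * (k : G) = x by group]
    exact hxS₁ (mem_zpowers x)
  have hyr : orderOf y = r := by rw [hy, orderOf_conj', hxr]
  have hy1 : y ≠ 1 := fun e => by
    rw [e, orderOf_one] at hyr
    exact (Fact.out : r.Prime).ne_one hyr.symm
  have hkt : Commute (k : G) t := (mem_centralizer_iff.1 hk t (mem_zpowers t)).symm
  have hyinv : t * y * t⁻¹ = y⁻¹ := by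
    calc t * y * t⁻¹ = (t * (k : G)) * x * (t * (k : G))⁻¹ := by rw [hy]; group
      _ = ((k : G) * t) * x * ((k : G) * t)⁻¹ := by rw [hkt.eq]
      _ = (k : G) * (t * x * t⁻¹) * (k : G)⁻¹ := by group
      _ = y⁻¹ := by rw [hxinv, hy]; group
  have hRne : R ≠ ⊥ := fun e => hy1 (by rwa [e, mem_bot] at hyR)
  set K := normalizer (R : Set G) with hKdef
  -- every centre of N is a centre of K
  have hcen : ∀ w ∈ memberCentres α z N, w ∈ memberCentres α z K := by
    intro w hw
    obtain ⟨d', hd'N, hd', hd'w⟩ := id hw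
    obtain ⟨g, hg, hgt⟩ := Wide.conj_in h hN ht hd' htN hd'N
    have hle : Cfsg.Lib.Coprime.conjMap g R ≤ O := by
      have := Cfsg.Lib.Coprime.conjMap_mono (g := g) hRO
      rwa [Cfsg.Lib.Coprime.conjMap_eq_self (hOn hg)] at this
    obtain ⟨o, ho⟩ := MulAction.exists_smul_eq O S₀ (Sylow.ofCard ((Cfsg.Lib.Coprime.conjMap g R).subgroupOf O) (by
      rw [Nat.card_congr (subgroupOfEquivOfLe hle).toEquiv, Cfsg.Lib.Coprime.card_conjMap, hR,
        Subgroup.card_map_of_injective O.subtype_injective, S₀.card_eq_multiplicity]))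
    have h2 : Cfsg.Lib.Coprime.conjMap (o : G) R = Cfsg.Lib.Coprime.conjMap g R := by
      rw [hR, ← Cfsg.Lib.Coprime.map_subtype_smul, ho, Sylow.coe_ofCard, map_subgroupOf_eq_of_le hle]
    have h3 : (o : G)⁻¹ * g ∈ K := by
      rw [hKdef, ← Cfsg.Lib.Coprime.conjMap_eq_self_iff, ← Cfsg.Lib.Coprime.conjMap_mul, ← h2,
        Cfsg.Lib.Coprime.conjMap_inv_conjMap]
    refine ⟨((o : G)⁻¹ * g) * t * ((o : G)⁻¹ * g)⁻¹, mul_mem (mul_mem h3 htR) (inv_mem h3),
      ht.trans (isConj_iff.2 ⟨_, rfl⟩), ?_⟩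
    have how : (o : G) • w = w := hF.core_fix N hN w hw _ o.2
    rw [show (o : G)⁻¹ * g * t * ((o : G)⁻¹ * g)⁻¹ = (o : G)⁻¹ * (g * t * g⁻¹) * o by group, hgt,
      mul_smul, mul_smul, how, hd'w, inv_smul_eq_iff, how]
  have hdK := hcen d hd
  obtain ⟨c, htc, -⟩ := h.uniq t ht
  obtain ⟨d₀, hd₀K, hd₀, hd₀d⟩ := id hdK
  have hK : Wide α z K := wide_mk h
    (normalizer_ne_top_of_fix hRne (x := c) fun q hq => hF.core_fix N hN c ⟨t, htN, ht, htc⟩ q (hRO hq))
    htR ht'R hd₀K ht ht' hd₀ htt' hne htc hd₀d fun e => hdt (by rw [← e, htc])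
  have hRodd := odd_pgroup hr hRp
  have hRK : R ≤ oddCoreOf K := le_oddCoreOf le_normalizer le_rfl hRodd
  have hnc : ∀ w ∈ K, IsConj z w → ¬ ∀ q ∈ R, Commute w q := by
    intro w hwK hw hall
    obtain ⟨g, hg, hgw⟩ := Wide.conj_in h hK hw ht hwK htR
    have h1 : t * y * t⁻¹ = y := by
      have h2 := hall _ ((mem_normalizer_iff''.1 hg y).1 hyR)
      calc t * y * t⁻¹ = g * (w * (g⁻¹ * y * g) * w⁻¹) * g⁻¹ := by rw [← hgw]; group
        _ = y := by rw [h2.eq]; group
    rw [hyinv] at h1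
    have h3 : y ^ 2 = 1 := by
      rw [pow_two]
      conv_lhs => arg 1; rw [← h1]
      exact inv_mul_cancel y
    have h4 := orderOf_dvd_of_pow_eq_one h3
    rw [hyr] at h4
    exact hr ((Nat.prime_dvd_prime_iff_eq Fact.out Nat.prime_two).1 h4)
  -- the Sylow subgroup of the pair
  set T := N ⊓ stabilizer G d ⊓ stabilizer G (t • d) with hT
  have htd := centres_smul h hd htN
  have hRT : R ≤ T := fun q hq => mem_inf.2 ⟨mem_inf.2 ⟨oddCoreOf_le N (hRO hq),
    hF.core_fix N hN d hd q (hRO hq)⟩, hF.core_fix N hN _ htd q (hRO hq)⟩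
  obtain ⟨S₂, hS₂⟩ := (hRp.of_equiv (subgroupOfEquivOfLe hRT).symm).exists_le_sylow
  set P₁ := (S₂ : Subgroup T).map T.subtype with hP₁
  have hRP₁ : R ≤ P₁ := fun g hg => ⟨⟨g, hRT hg⟩, hS₂ (mem_subgroupOf.2 hg), rfl⟩
  have hP₁p : IsPGroup r P₁ := S₂.2.map _
  set Y := pairOdd G d (t • d) ⊓ N with hY
  have hTY : T ≤ normalizer (Y : Set G) := fun g hg => by
    obtain ⟨hg1, hg3⟩ := mem_inf.1 hg
    obtain ⟨hg1, hg2⟩ := mem_inf.1 hg1
    exact conj_mem_inf (stabilizer_inf_le_normalizer d _ (mem_inf.2 ⟨hg2, hg3⟩)) (le_normalizer hg1)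
  have hP₁T : P₁ ≤ T := map_subtype_le _
  set L := Y ⊔ P₁ with hL
  have hYT : Y ≤ T := fun g hg =>
    mem_inf.2 ⟨mem_inf.2 ⟨(mem_inf.1 hg).2, (mem_inf.1 (pairOdd_le d _ (mem_inf.1 hg).1)).1⟩,
      (mem_inf.1 (pairOdd_le d _ (mem_inf.1 hg).1)).2⟩
  have hLT : L ≤ T := sup_le hYT hP₁T
  have hLodd : Odd (Nat.card L) := odd_card_sup ((odd_card_pairOdd d _).of_dvd_nat (card_dvd_of_le inf_le_left))
    (odd_pgroup hr hP₁p) (hP₁T.trans hTY)
  have htt : t • t • d = d := smul_smul_self h ht d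
  have htL : t ∈ normalizer (L : Set G) := by
    refine Cfsg.Lib.ZStarApps.mem_normalizer_of_maps fun a ha => ?_
    obtain ⟨ha1, ha3⟩ := mem_inf.1 (hLT ha)
    obtain ⟨ha1, ha2⟩ := mem_inf.1 ha1
    rw [mem_stabilizer_iff] at ha2 ha3
    have hsw : IsConj z (a * t * a⁻¹) := ht.trans (isConj_iff.2 ⟨a, rfl⟩)
    have h1 : t * (a * t * a⁻¹) ∈ pairOdd G d (t • d) := swappers_mul_mem h hdt.symm hsw ht
      (by rw [mul_smul, mul_smul, inv_smul_eq_iff.2 ha2.symm, ha3])
      (by rw [mul_smul, mul_smul, inv_smul_eq_iff.2 ha3.symm, htt, ha2]) rfl htt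
    have h2 : t * a * t⁻¹ * a⁻¹ ∈ Y := by
      refine mem_inf.2 ⟨?_, mul_mem (mul_mem (mul_mem htN ha1) (inv_mem htN)) (inv_mem ha1)⟩
      rw [inv_of_order_two ht2, show t * a * t * a⁻¹ = t * (a * t * a⁻¹) by group]
      exact h1
    rw [show t * a * t⁻¹ = (t * a * t⁻¹ * a⁻¹) * a by group]
    exact mul_mem (mem_sup_left h2) ha
  have hcopL : (Nat.card (zpowers t)).Coprime (Nat.card L) := by
    rw [Nat.card_zpowers, ht2]; exact Nat.coprime_two_left.2 hLodd
  obtain ⟨S₃, hRP, htP⟩ := Cfsg.Lib.Coprime.exists_invariant_sylow_ge (zpowers_le.2 htL) hcopL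
    (Or.inl inferInstance) r (hRP₁.trans le_sup_right) hRp (zpowers_le.2 htR)
  set P := (S₃ : Subgroup L).map L.subtype with hP
  have hPT : P ≤ T := (map_subtype_le _).trans hLT
  have hPp : IsPGroup r P := S₃.2.map _
  have hcard : Nat.card P = r ^ (Nat.card T).factorization r := by
    rw [hP, card_map_of_injective L.subtype_injective, S₃.card_eq_multiplicity]
    congr 1
    refine le_antisymm ((Nat.factorization_le_iff_dvd Nat.card_pos.ne' Nat.card_pos.ne').2 (card_dvd_of_le hLT) r)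
      (((Fact.out : r.Prime).pow_dvd_iff_le_factorization Nat.card_pos.ne').1 ?_)
    rw [← S₂.card_eq_multiplicity, ← card_map_of_injective T.subtype_injective]
    exact card_dvd_of_le le_sup_right
  have hPR : P ≤ K := by
    have hle : P ⊓ O ≤ O := inf_le_right
    have h1 := S₀.is_maximal' ((hPp.to_le (inf_le_left : P ⊓ O ≤ P)).of_equiv (subgroupOfEquivOfLe hle).symm)
      (fun q hq => mem_subgroupOf.2 (mem_inf.2 ⟨hRP ⟨q, hq, rfl⟩, q.2⟩))
    have heq : P ⊓ O = R := by rw [hR, ← h1, map_subgroupOf_eq_of_le hle]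
    intro p hp
    rw [hKdef, ← heq]
    exact conj_mem_inf (le_normalizer hp) (hOn (mem_inf.1 (mem_inf.1 (hPT hp)).1).1)
  refine ⟨R, P, hRp, hRne, hK, hRK, hnc, htR, hdK, hPp, hRP, fun p hp => ?_, htP (mem_zpowers t), hcard⟩
  obtain ⟨hp1, hp3⟩ := mem_inf.1 (hPT hp)
  exact mem_inf.2 ⟨mem_inf.2 ⟨hPR hp, (mem_inf.1 hp1).2⟩, hp3⟩

/-- T1 section 3: a member inverting a nontrivial element of the odd core of a proper subgroup with two commuting
members and two centres gives a LINE -/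
theorem hasLine_of_bad {N : Subgroup G} (hN : Wide α z N) {t : G} (htN : t ∈ N) (ht : IsConj z t) {x : G}
    (hx : x ∈ oddCoreOf N) (hx1 : x ≠ 1) (hinv : t * x * t⁻¹ = x⁻¹) : HasLine α z := by
  classical
  obtain ⟨r, hrp, hrd⟩ := Nat.exists_prime_and_dvd (n := orderOf x) (fun e => hx1 (orderOf_eq_one_iff.1 e))
  haveI := Fact.mk hrp
  have hxo : Odd (orderOf x) := (odd_card_oddCoreOf N).of_dvd_nat (Subgroup.orderOf_dvd_natCard _ hx)
  have hr : r ≠ 2 := fun e => by
    rw [← Nat.not_even_iff_odd, even_iff_two_dvd] at hxo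
    exact hxo (e ▸ hrd)
  have hbad : BadIn z r N t := ⟨htN, ht, x ^ (orderOf x / r), pow_mem hx _,
    orderOf_pow_orderOf_div (orderOf_pos x).ne' hrd, by rw [← conj_pow, hinv, inv_pow]⟩
  obtain ⟨c, htc, -⟩ := h.uniq t ht
  obtain ⟨e, heN, he, hec⟩ := hN.moves c
  obtain ⟨d, hd, -⟩ := h.uniq e he
  have hdt : t • d ≠ d := fun e' => hec (by rw [centre_unique h ht htc e', hd])
  let S : ℕ → Prop := fun n => ∃ (N : Subgroup G) (t : G) (d : α), Wide α z N ∧ BadIn z r N t ∧
    d ∈ memberCentres α z N ∧ t • d ≠ d ∧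
    (Nat.card ↥(N ⊓ stabilizer G d ⊓ stabilizer G (t • d))).factorization r = n
  have hb : ∀ U : Subgroup G, (Nat.card U).factorization r ≤ Nat.card G := fun U =>
    (Nat.factorization_lt _ Nat.card_pos.ne').le.trans (Subgroup.card_le_card_group U)
  have hS : S _ := ⟨N, t, d, hN, hbad, ⟨e, heN, he, hd⟩, hdt, rfl⟩
  obtain ⟨N, t, d, hN, hbad, hd, hdt, hn⟩ := Nat.findGreatest_spec (n := Nat.card G) (hb _) hS
  obtain ⟨R, P, hRp, hRne, hK, hRK, hnc, htR, hdK, hPp, hRP, hPle, htP, hcard⟩ :=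
    exists_local h hF hr hN hbad hd hdt
  by_cases hX : pairCoreR G r d (t • d) = ⊥
  · refine hasLine_of_zj h hF hr hK hRp hRK hnc hbad.2.1 htR hdK hdt hRne hPp hRP hPle htP ?_ hX
    intro N' hN' hbad' hd' Q hQp hQle
    obtain ⟨k, hk⟩ := IsPGroup.iff_card.1 hQp
    rw [hk, hcard, hn]
    exact Nat.pow_le_pow_right hrp.pos (le_trans
      (((Fact.out : r.Prime).pow_dvd_iff_le_factorization Nat.card_pos.ne').1 (hk ▸ card_dvd_of_le hQle))
      (Nat.le_findGreatest (hb _) ⟨N', t, d, hN', hbad', hd', hdt, rfl⟩))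
  · exact hasLine_of_coreR h hF hr hK hRp hRK hnc hdK (centres_smul h hdK htR) hdt.symm hX

/-- without a LINE the members of a proper subgroup with two commuting members and two centres centralise its
odd core -/
theorem commute_oddCore_of_no_line (hL : ¬ HasLine α z) {N : Subgroup G} (hN : Wide α z N) {t : G} (htN : t ∈ N)
    (ht : IsConj z t) {x : G} (hx : x ∈ oddCoreOf N) : Commute t x := by
  by_contra hc
  obtain ⟨y, hy, hy1, hinv⟩ := exists_inverted (sq_of_order_two (orderOf_conj h ht))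
    (le_normalizer_oddCoreOf N htN) (fun hall => hc (hall x hx))
  exact hL (hasLine_of_bad h hF hN htN ht hy hy1 hinv)

end Cfsg.Lib.BenderSE.Crit2
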