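/-
Aschbacher's criterion, "o = 1 or LINE" (notes/s1175_h5_line.md): a second odd partner of a member on a line of
rank two gives a LINE, so without a LINE the odd partners are single.
-/
import Cfsg.Agent.BenderSE.Criterion2.LineFacts
import Cfsg.Agent.BenderSE.Criterion2.LineFromBad
import Cfsg.Agent.BenderSE.Criterion2.Members

set_option autoImplicit false
set_option linter.unusedSectionVars false
set_option linter.style.haveILetI false

namespace Cfsg.Lib.BenderSE.Crit2

open Subgroup MulAction Cfsg.Lib.InvolCalc Cfsg.Lib.StrongEmb Cfsg.Lib.BenderSE Cfsg.Lib.BenderSE.CritDep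

universe u

variable {G α : Type u} [Group G] [Finite G] [MulAction G α] [Finite α] [FaithfulSMul G α]
  [IsPretransitive G α] [IsSimpleGroup G] {z : G} (h : Crit G α z)
include h

/-- two members with an odd product and one action on the centres give a LINE -/
theorem hasLine_of_same_action (hF : LineFacts α z) {N : Subgroup G} (hN : Wide α z N) {d e : G} (hdN : d ∈ N)
    (heN : e ∈ N) (hd : IsConj z d) (he : IsConj z e) (hodd : Odd (orderOf (d * e))) (hne : d ≠ e)
    (hfix : ∀ p ∈ memberCentres α z N, (d * e) • p = p) : HasLine α z := by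
  set W := N ⊓ (⨅ p : memberCentres α z N, stabilizer G (p : α)) with hW
  have hWn : N ≤ normalizer (W : Set G) := by
    intro g hg
    refine Cfsg.Lib.ZStarApps.mem_normalizer_of_maps fun w hw => ?_
    obtain ⟨hwN, hwp⟩ := mem_inf.1 hw
    refine mem_inf.2 ⟨mul_mem (mul_mem hg hwN) (inv_mem hg), mem_iInf.2 fun p => mem_stabilizer_iff.2 ?_⟩
    have h1 : w • g⁻¹ • (p : α) = g⁻¹ • (p : α) :=
      mem_stabilizer_iff.1 (mem_iInf.1 hwp ⟨_, centres_smul h p.2 (inv_mem hg)⟩)
    rw [mul_smul, mul_smul, h1, smul_inv_smul]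
  have hWno : ∀ w ∈ W, ¬ IsConj z w := by
    intro w hw hwD
    obtain ⟨y, hy, -⟩ := h.uniq w hwD
    obtain ⟨k, hkN, hk, hky⟩ := hN.moves y
    obtain ⟨p, hp, -⟩ := h.uniq k hk
    have h1 : w • p = p := mem_stabilizer_iff.1 (mem_iInf.1 (mem_inf.1 hw).2 ⟨p, k, hkN, hk, hp⟩)
    exact hky (by rw [centre_unique h hwD hy h1, hp])
  have hxW : d * e ∈ W :=
    mem_inf.2 ⟨mul_mem hdN heN, mem_iInf.2 fun p => mem_stabilizer_iff.2 (hfix p p.2)⟩
  have he2 := sq_of_order_two (orderOf_conj h he)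
  have hd2 := sq_of_order_two (orderOf_conj h hd)
  have hinv : e * (d * e) * e⁻¹ = (d * e)⁻¹ := by
    rw [mul_inv_rev, inv_of_order_two (orderOf_conj h he), inv_of_order_two (orderOf_conj h hd),
      show e * (d * e) * e = e * d * (e * e) by group, he2, mul_one]
  have h1 := commutator_mem_core h inf_le_left hWn hWno he heN hxW
  rw [hinv, ← mul_inv_rev, inv_mem_iff] at h1
  refine hasLine_of_bad h hF hN heN he (x := d * e) ?_ (fun e' => hne ?_) hinv
  · obtain ⟨k, hk⟩ := hodd
    rw [show d * e = ((d * e) * (d * e)) ^ (k + 1) by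
      rw [← pow_two, ← pow_mul, show 2 * (k + 1) = orderOf (d * e) + 1 by omega, pow_succ, pow_orderOf_eq_one,
        one_mul]]
    exact pow_mem h1 _
  · rw [eq_inv_of_mul_eq_one_left e', inv_of_order_two (orderOf_conj h he)]

/-- o > 1 GIVES A LINE: an odd product of two distinct members at `a` centralising an involution `v` of rank two -/
theorem hasLine_of_oddPartner (hna : ¬ IsMulCommutative G) (crit : CriterionBelow.{u} (Nat.card G)) {v : G}
    (hv : orderOf v = 2) {a b : α} (hva : v • a = a) (hvb : v • b = b) (hab : a ≠ b) {d e e' : G}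
    (hd : d ∈ membersAt z v a) (he : e ∈ membersAt z v a) (he' : e' ∈ membersAt z v a) (hc : Commute e e')
    (hne' : e ≠ e') (hodd : Odd (orderOf (d * e))) (hne : d ≠ e) : HasLine α z := by
  have hlt : ∀ K : Subgroup G, K ≠ ⊤ → Nat.card K < Nat.card G := fun K hK =>
    (Subgroup.card_le_card_group K).lt_of_ne fun e => hK (Subgroup.eq_top_of_card_eq K e)
  have hF : LineFacts α z := lineFacts_of_below h crit hlt
  set N := localGen z v with hN
  have hmem : ∀ {g : G}, g ∈ membersAt z v a → g ∈ N := fun hg => mem_localGen_of hg.1 hg.2.1.symm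
  have hNv : N ≠ ⊤ := fun htop => hna ⟨⟨fun x y => by
    have hc : v ∈ center G := mem_center_iff.2 fun g => (commute_of_mem (htop ▸ mem_top g : g ∈ N)).eq
    rcases IsSimpleGroup.eq_bot_or_eq_top_of_normal (center G) inferInstance with e | e
    · rw [e, mem_bot] at hc
      exact absurd hc (ne_one_of_order_two hv)
    · exact (mem_center_iff.1 (e ▸ mem_top y : y ∈ center G) x)⟩⟩
  obtain ⟨g, hg, hgb, hgv⟩ := h.central b (zpowers v) (isPGroup_zpowers_of_two hv)
    fun y hy => mem_fixSet_zpowers hvb y hy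
  have hW : Wide α z N := wide_mk h hNv (hmem he) (hmem he') (mem_localGen_of hg (hgv v (mem_zpowers v))) he.1
    he'.1 hg hc hne' he.2.2 hgb hab
  have hgen : N ≤ closure {w | w ∈ N ∧ IsConj z w} :=
    (closure_le _).2 fun w hw => subset_closure ⟨subset_closure hw, hw.1⟩
  have hcom := commute_on_centres h hW crit (hlt N hNv) hgen (hmem hd) (hmem he) hd.1 he.1 hd.2.2 he.2.2
  refine hasLine_of_same_action h hF hW (hmem hd) (hmem he) hd.1 he.1 hodd hne fun p hp => ?_
  set φ := centreHom α z N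
  have hdd : (⟨d, hmem hd⟩ : N) * ⟨d, hmem hd⟩ = 1 := Subtype.ext (sq_of_order_two (orderOf_conj h hd.1))
  have hee : (⟨e, hmem he⟩ : N) * ⟨e, hmem he⟩ = 1 := Subtype.ext (sq_of_order_two (orderOf_conj h he.1))
  have h1 : orderOf (φ (⟨d, hmem hd⟩ * ⟨e, hmem he⟩)) ∣ 2 := orderOf_dvd_of_pow_eq_one (by
    rw [map_mul, pow_two, hcom.symm.mul_mul_mul_comm, ← map_mul, ← map_mul, hdd, hee, map_one, mul_one])
  have h2 : orderOf (φ (⟨d, hmem hd⟩ * ⟨e, hmem he⟩)) ∣ orderOf (d * e) := by
    rw [show orderOf (d * e) = orderOf ((⟨d, hmem hd⟩ : N) * ⟨e, hmem he⟩) from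
      Subgroup.orderOf_coe ((⟨d, hmem hd⟩ : N) * ⟨e, hmem he⟩)]
    exact orderOf_map_dvd _ _
  have h3 : φ (⟨d, hmem hd⟩ * ⟨e, hmem he⟩) = 1 :=
    orderOf_eq_one_iff.1 (Nat.eq_one_of_dvd_coprimes (Nat.coprime_two_left.2 hodd) h1 h2)
  exact congrArg Subtype.val (Equiv.Perm.ext_iff.1 h3 ⟨p, hp⟩)

/-- o = 1 without a LINE -/
theorem oddPartners_eq_singleton (hna : ¬ IsMulCommutative G) (crit : CriterionBelow.{u} (Nat.card G))
    (hL : ¬ HasLine α z) {u : G} (hu : orderOf u = 2) (hnD : ¬ IsConj z u) {a b : α} (hua : u • a = a)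
    (hub : u • b = b) (hab : a ≠ b) {e e' : G} (he : e ∈ membersAt z u a) (he' : e' ∈ membersAt z u a)
    (hc : Commute e e') (hne : e ≠ e') : oddPartners z u e a = {e} := by
  have hev : e ∈ membersAt z (u * e) a := ⟨he.1, he.2.1.mul_left (Commute.refl e), he.2.2⟩
  refine Set.eq_singleton_iff_unique_mem.2 ⟨⟨hev, ?_⟩, fun d hd => ?_⟩
  · rw [sq_of_order_two (orderOf_conj h he.1), orderOf_one]; exact odd_one
  by_contra hde
  have hee := sq_of_order_two (orderOf_conj h he.1)
  have huu := sq_of_order_two hu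
  have hv : orderOf (u * e) = 2 := order_two_of_mul_self
    (by rw [he.2.1.symm.mul_mul_mul_comm, huu, hee, one_mul]) fun e' => hnD (by
      rw [eq_inv_of_mul_eq_one_left e', inv_eq_of_mul_eq_one_right hee]; exact he.1)
  have hva : (u * e) • a = a := by rw [mul_smul, he.2.2, hua]
  obtain ⟨x, y, hxy, hx, hy⟩ := mul_two_fix h hu hua hub hab he.1 he.2.1
  obtain ⟨c, hac, hc'⟩ : ∃ c, a ≠ c ∧ (u * e) • c = c := by
    by_cases hax : a = x
    · exact ⟨y, hax ▸ hxy, hy⟩
    · exact ⟨x, hax, hx⟩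
  exact hL (hasLine_of_oddPartner h hna crit hv hva hc' hac hd.1 hev
    ⟨he'.1, he'.2.1.mul_left hc, he'.2.2⟩ hc hne hd.2 hde)

end Cfsg.Lib.BenderSE.Crit2
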