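/-
Aschbacher's criterion, the dichotomy number `N` (notes/s1175_h7_plan.md, D0): the members centralising `u`
which exchange `x` and `u x`.  Their number does not depend on `x`, is odd, `k = N κ_v` and
`N (n - f) = f κ_u (f_v - 1)`.
-/
import Cfsg.Agent.BenderSE.Criterion2.Bound

set_option autoImplicit false
set_option linter.unusedSectionVars false
set_option linter.style.haveILetI false

namespace Cfsg.Lib.BenderSE.Crit2

open Subgroup MulAction Cfsg.Lib.InvolCalc Cfsg.Lib.StrongEmb

variable {G α : Type*} [Group G] [MulAction G α] {z : G}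

/-- the members centralising `u` which move `x` as `u` does -/
def swapsAt (z u : G) (x : α) : Set G := {v | IsConj z v ∧ Commute u v ∧ v • x = u • x}

variable (h : Crit G α z) [Finite G]
include h

/-- the members at a point are one class of odd size in its stabiliser -/
theorem odd_card_membersAt (a : α) : Odd (Nat.card (membersAt z (1 : G) a)) := by
  classical
  haveI : Fact (Nat.Prime 2) := ⟨Nat.prime_two⟩
  set M := stabilizer G a
  obtain ⟨P⟩ := (inferInstance : Nonempty (Sylow 2 M))
  obtain ⟨d, hd, hda, hdP⟩ := h.central a ((P : Subgroup M).map M.subtype) (P.isPGroup'.map _)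
    fun g hg => mem_stabilizer_iff.1 (map_subtype_le _ hg)
  set C := (centralizer ({d} : Set G)).subgroupOf M with hC
  have hPC : (P : Subgroup M) ≤ C := fun p hp => mem_subgroupOf.2
    (mem_centralizer_singleton_iff.2 (hdP _ (mem_map_of_mem _ hp)).eq.symm)
  have hidx : Odd C.index := by
    rw [← Nat.not_even_iff_odd, even_iff_two_dvd]
    intro h2
    exact P.not_dvd_index (h2.trans (index_dvd_of_le hPC))
  suffices hcard : Nat.card (membersAt z (1 : G) a) = C.index by rw [hcard]; exact hidx
  rw [index, Nat.card_eq_of_bijective]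
  refine (?_ : membersAt z (1 : G) a → M ⧸ C)
  · exact fun e => ((⟨Classical.choose (isConj_iff.1 (hd.symm.trans e.2.1)), mem_stabilizer_iff.2
      (conj_centre h e.2.1 (Classical.choose_spec (isConj_iff.1 (hd.symm.trans e.2.1))) hda e.2.2.2)⟩ : M) :
      M ⧸ C)
  refine ⟨fun e e' heq => Subtype.ext ?_, fun q => ?_⟩
  · have h1 := QuotientGroup.eq.1 heq
    rw [hC, mem_subgroupOf, mem_centralizer_singleton_iff] at h1
    simp only [Subgroup.coe_mul, Subgroup.coe_inv] at h1
    set g := Classical.choose (isConj_iff.1 (hd.symm.trans e.2.1))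
    set g' := Classical.choose (isConj_iff.1 (hd.symm.trans e'.2.1))
    rw [← Classical.choose_spec (isConj_iff.1 (hd.symm.trans e.2.1)),
      ← Classical.choose_spec (isConj_iff.1 (hd.symm.trans e'.2.1))]
    calc g * d * g⁻¹ = g * (d * (g⁻¹ * g')) * g'⁻¹ := by group
      _ = g * ((g⁻¹ * g') * d) * g'⁻¹ := by rw [h1]
      _ = g' * d * g'⁻¹ := by group
  · obtain ⟨⟨g, hg⟩, rfl⟩ := QuotientGroup.mk_surjective q
    have he : g * d * g⁻¹ ∈ membersAt z (1 : G) a := ⟨hd.trans (isConj_iff.2 ⟨g, rfl⟩), Commute.one_left _, by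
      rw [mul_smul, mul_smul, inv_smul_eq_iff.2 (mem_stabilizer_iff.1 hg).symm, hda, mem_stabilizer_iff.1 hg]⟩
    refine ⟨⟨_, he⟩, QuotientGroup.eq.2 ?_⟩
    have h1 := Classical.choose_spec (isConj_iff.1 (hd.symm.trans he.1))
    rw [hC, mem_subgroupOf, mem_centralizer_singleton_iff]
    simp only [Subgroup.coe_mul, Subgroup.coe_inv]
    set g₁ := Classical.choose (isConj_iff.1 (hd.symm.trans he.1))
    calc g₁⁻¹ * g * d = g₁⁻¹ * (g * d * g⁻¹) * g := by group
      _ = g₁⁻¹ * (g₁ * d * g₁⁻¹) * g := by rw [h1]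
      _ = d * (g₁⁻¹ * g) := by group

variable {u : G} (hu : orderOf u = 2) {a b : α} (hua : u • a = a) (hub : u • b = b) (hab : a ≠ b) {e : G}
  (he : e ∈ membersAt z u a)
include hu hua hub hab he

/-- D0: `k = N κ_v` at every point moved by `u` -/
theorem card_swaps_mul {x : α} (hx : u • x ≠ x) :
    Nat.card (membersAt z (1 : G) a) = Nat.card (swapsAt z u x) * Nat.card (membersAt z (u * e) a) := by
  classical
  haveI := Fintype.ofFinite G
  have huu := sq_of_order_two hu
  have hui : u⁻¹ = u := inv_eq_of_mul_eq_one_right huu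
  rw [card_membersAt_one h a x]
  let Rt := Σ v : swapsAt z u x, membersAt z (u * (v : G)) x
  have hconj : ∀ (v : G) (d : G), IsConj z v → Commute (u * v) d → v * d * v = u * d * u := fun v d hv hd => by
    have hvv := sq_of_order_two (orderOf_conj h hv)
    calc v * d * v = u * ((u * v) * d) * v := by
          rw [show u * ((u * v) * d) = (u * u) * (v * d) by group, huu, one_mul]
      _ = u * d * u * (v * v) := by rw [hd.eq]; group
      _ = u * d * u := by rw [hvv, mul_one]
  have hb : Function.Bijective (fun p : Rt =>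
      (⟨p.2.1, p.2.2.1, Commute.one_left _, p.2.2.2.2⟩ : membersAt z (1 : G) x)) := by
    refine ⟨?_, ?_⟩
    · rintro ⟨v, d⟩ ⟨v', d'⟩ heq
      have hdd : (d : G) = d' := congrArg Subtype.val heq
      have hv : (v : G) = v' := by
        refine swapper_unique h d.2.1 (d.2.1.trans (isConj_iff.2 ⟨u, by rw [hui]⟩) : IsConj z (u * d * u))
          d.2.2.2 (y := u • x) ?_ (Ne.symm hx) v.2.1 v'.2.1 v.2.2.2 v'.2.2.2 (hconj _ _ v.2.1 d.2.2.1)
          (hconj _ _ v'.2.1 (hdd ▸ d'.2.2.1))
        rw [mul_smul, mul_smul, smul_smul u u, huu, one_smul, d.2.2.2]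
      obtain rfl : v = v' := Subtype.ext hv
      obtain rfl : d = d' := Subtype.ext hdd
      rfl
    · rintro ⟨d, hd, -, hdx⟩
      obtain ⟨v, hv, huv, hvx, hve⟩ := exists_swap_commute h hu hd hdx hx
      have hc : Commute (u * v) d := by
        have hvv := sq_of_order_two (orderOf_conj h hv)
        calc u * v * d = u * (v * d * v) * v := by
              rw [mul_assoc u (v * d * v), mul_assoc (v * d) v, hvv]; group
          _ = (u * u) * d * (u * v) := by rw [hve]; group
          _ = d * (u * v) := by rw [huu, one_mul]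
      exact ⟨⟨⟨v, hv, huv, hvx⟩, ⟨d, hd, hc, hdx⟩⟩, rfl⟩
  rw [← Nat.card_eq_of_bijective _ hb, Nat.card_sigma, Finset.sum_congr rfl (fun (v : swapsAt z u x) _ => ?_),
    Finset.sum_const, Finset.card_univ, smul_eq_mul, Nat.card_eq_fintype_card (α := swapsAt z u x)]
  obtain ⟨c, hc, -⟩ := h.uniq (v : G) v.2.1
  have huc : u • c = c := smul_centre h v.2.1 v.2.2.1 hc
  obtain ⟨g, -, hge, hgv⟩ := partner_conj h hu hua hub hab he.1 v.2.1 he.2.1 v.2.2.1
  have hga : g • a = c := conj_centre h v.2.1 hge he.2.2 hc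
  have hw2 : orderOf (u * (v : G)) = 2 := order_two_of_mul_self
    (by rw [v.2.2.1.symm.mul_mul_mul_comm, huu, sq_of_order_two (orderOf_conj h v.2.1), one_mul])
    fun e' => not_conj_of_fix h hua hub hab (by
      rw [eq_inv_of_mul_eq_one_left e', inv_of_order_two (orderOf_conj h v.2.1)]; exact v.2.1)
  rw [card_membersAt_eq h (isPGroup_zpowers_of_two hw2) (mul_fix_of_swap h hu v.2.2.1 v.2.2.2).1
    (show (u * (v : G)) • c = c by rw [mul_smul, hc, huc]), ← hga, ← hgv, card_membersAt_conj]

theorem membersAt_mul_pos : 0 < Nat.card (membersAt z (u * e) a) :=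
  Nat.card_pos_iff.2 ⟨⟨⟨e, he.1, he.2.1.mul_left (Commute.refl e), he.2.2⟩⟩, inferInstance⟩

/-- `N` does not depend on the moved point -/
theorem card_swaps_eq {x y : α} (hx : u • x ≠ x) (hy : u • y ≠ y) :
    Nat.card (swapsAt z u x) = Nat.card (swapsAt z u y) :=
  Nat.eq_of_mul_eq_mul_right (membersAt_mul_pos h hu hua hub hab he)
    ((card_swaps_mul h hu hua hub hab he hx).symm.trans (card_swaps_mul h hu hua hub hab he hy))

/-- `N` is odd -/
theorem odd_card_swaps {x : α} (hx : u • x ≠ x) : Odd (Nat.card (swapsAt z u x)) := by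
  have h1 := odd_card_membersAt h a
  rw [card_swaps_mul h hu hua hub hab he hx] at h1
  exact (Nat.odd_mul.1 h1).1

/-- D0, the count: `N (n - f) = f κ_u (f_v - 1)` -/
theorem swaps_count [Finite α] [FaithfulSMul G α] {x : α} (hx : u • x ≠ x) :
    Nat.card (swapsAt z u x) * (Nat.card α - Nat.card (fixedBy α u)) =
      Nat.card (fixedBy α u) * Nat.card (membersAt z u a) * (Nat.card (fixedBy α (u * e)) - 1) := by
  have h1 := incidence_count h hu hua hub hab he.1 he.2.1 he.2.2
  rw [card_swaps_mul h hu hua hub hab he hx] at h1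
  refine Nat.eq_of_mul_eq_mul_right (membersAt_mul_pos h hu hua hub hab he) ?_
  rw [mul_right_comm, h1]
  ring

/-- D0: `N ∣ f κ_u` when `f_v - 1` is a power of two -/
theorem swaps_dvd [Finite α] [FaithfulSMul G α] {x : α} (hx : u • x ≠ x) {j : ℕ}
    (hj : Nat.card (fixedBy α (u * e)) = 2 ^ j + 1) :
    Nat.card (swapsAt z u x) ∣ Nat.card (fixedBy α u) * Nat.card (membersAt z u a) := by
  have h1 := swaps_count h hu hua hub hab he hx
  rw [hj, Nat.add_sub_cancel] at h1
  refine (Nat.Coprime.pow_right j ?_).dvd_of_dvd_mul_right ⟨_, h1.symm⟩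
  exact (odd_card_swaps h hu hua hub hab he hx).coprime_two_right

end Cfsg.Lib.BenderSE.Crit2
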