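/-
Aschbacher's criterion: an L2 line with one kernel involution has no field involution `φ` (FieldSplitProp), by
counting.  With `q = s²`, on a LINE `n - 1 = q³` and `φ` has clique `s`; without, `N (s - 1)² = κ_φ κ_{uφ}`
gives one of `φ`, `u φ` clique `s` and `N ∈ {1, s + 1}`; its count has no solution, and for `q = 4` it leaves
only thirteen fixed points, which FieldSplitSmall kills.
-/
import Cfsg.Agent.BenderSE.Criterion2.FieldAssemble
import Cfsg.Agent.BenderSE.Criterion2.FieldSplitArith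
import Cfsg.Agent.BenderSE.Criterion2.FieldSplitSmall
import Cfsg.Agent.BenderSE.Criterion2.FourOrbit
import Cfsg.Agent.BenderSE.Criterion2.LineActions
import Cfsg.Agent.BenderSE.Criterion2.LineFibres
import Cfsg.Agent.BenderSE.Criterion2.LineFull
import Cfsg.Agent.BenderSE.Criterion2.OddPartner
import Cfsg.Agent.BenderSE.Criterion2.SwapCount

set_option autoImplicit false
set_option linter.unusedSectionVars false
set_option linter.style.haveILetI false

namespace Cfsg.Lib.BenderSE.Crit2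

open Subgroup MulAction Cfsg.Lib.InvolCalc Cfsg.Lib.BenderSE Cfsg.Lib.BenderSE.CritDep

universe u v

variable {G : Type u} [Group G] [Finite G] {α : Type v} [MulAction G α] {z : G}

theorem card_fixedBy_line {u : G} {a : α} {A Q X : Subgroup G} {q j : ℕ} (L : LineData z u a A Q X q j) :
    Nat.card (fixedBy α u) = q ^ j + 1 := by
  rw [← L.fixed]
  exact Nat.card_congr (Equiv.setCongr (Set.ext fun x => mem_line.symm))

/-- an element exchanged into `u` carries as many members -/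
theorem card_membersAt_conjugate (h : Crit G α z) {u v g : G} (hu : orderOf u = 2) (hg : g * u * g⁻¹ = v) {a : α}
    (hua : u • a = a) (hva : v • a = a) : Nat.card (membersAt z v a) = Nat.card (membersAt z u a) := by
  have hp : u • g⁻¹ • a = g⁻¹ • a := by
    conv_lhs => rw [show u = g⁻¹ * v * g by rw [← hg]; group, mul_smul, mul_smul, smul_inv_smul, hva]
  have h1 := card_membersAt_conj (z := z) g u (g⁻¹ • a)
  rw [smul_inv_smul, hg] at h1
  rw [h1]
  exact card_membersAt_eq h (isPGroup_zpowers_of_two hu) hp hua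

/-- the data of a field involution on a line -/
structure SplitData (α : Type v) [MulAction G α] (z u : G) (a : α) (A : Subgroup G) (φ : G) (s : ℕ) : Prop where
  two : orderOf φ = 2
  fixa : φ • a = a
  comm : Commute φ u
  fixed : ∃ b : α, b ≠ a ∧ u • b = b ∧ φ • b = b
  card : Nat.card ↥(A ⊓ centralizer ({φ} : Set G)) = s
  square : Nat.card A = s * s
  split : ∀ d ∈ A, Commute φ d → d ≠ 1 → ∃ c ∈ A, c * φ * c⁻¹ = φ * d
  norm : φ ∈ normalizer (A : Set G)
  moves : ∃ d ∈ A, ¬ Commute φ d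

/-- a field involution gives the data -/
theorem exists_splitData [IsSimpleGroup G] [FaithfulSMul G α] (hna : ¬ IsMulCommutative G) (h : Crit G α z) {u : G}
    {a : α} {A Q X : Subgroup G} {q j : ℕ} (hu : orderOf u = 2) (hua : u • a = a) (L : LineData z u a A Q X q j)
    (hj : j = 1) (hone : ∀ t : G, orderOf t = 2 → Commute t u → (∀ p : α, u • p = p → t • p = p) →
      (∀ d ∈ A, Commute t d) → t = u)
    {φ : G} (hφ : orderOf φ = 2) (hφa : φ • a = a) (hφu : Commute φ u) (hφA : φ ∈ normalizer (A : Set G))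
    (hne : ∃ d ∈ A, ¬ Commute φ d) : ∃ s, SplitData α z u a A φ s := by
  classical
  obtain ⟨S, -, hO, hT, -⟩ := exists_start hna h hu hua L hj hone
  obtain ⟨S', hQS, -, hSa, -⟩ := exists_line_sylow h hua hu L
  have hAQ := eq_Q_of_one L hQS hSa hj
  have hφφ := sq_of_order_two hφ
  have hφi : φ⁻¹ = φ := inv_eq_of_mul_eq_one_right hφφ
  have hmem : ∀ c ∈ A, φ * c * φ⁻¹ ∈ A := fun c hc => (mem_normalizer_iff.1 hφA c).1 hc
  have hAA : ∀ d ∈ A, ∀ e ∈ A, Commute d e := fun d hd e he => L.centQ d hd e (L.leQ he)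
  have himage : ∀ d ∈ A, Commute φ d → ∃ c ∈ A, d = c * (φ * c * φ⁻¹) := fun d hd hc =>
    Climb.fixed_eq_image hT hO (mem_stabilizer_iff.2 hφa) hφu hφA
      (fun x _ => by rw [hφφ]; exact Commute.one_left x) hne hd hc
  have hfixim : ∀ c ∈ A, Commute φ (c * (φ * c * φ⁻¹)) := fun c hc => by
    refine mul_inv_eq_iff_eq_mul.1 ?_
    rw [show φ * (c * (φ * c * φ⁻¹)) * φ⁻¹ = φ * c * φ⁻¹ * ((φ * φ) * c * (φ * φ)⁻¹) by group, hφφ, one_mul,
      inv_one, mul_one]
    exact (hAA _ hc _ (hmem c hc)).symm.eq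
  set A0 := A ⊓ centralizer ({φ} : Set G) with hA0
  let f : A →* A0 :=
    { toFun := fun c => ⟨(c : G) * (φ * c * φ⁻¹),
        mem_inf.2 ⟨mul_mem c.2 (hmem c c.2), mem_centralizer_singleton_iff.2 (hfixim c c.2).symm.eq⟩⟩
      map_one' := Subtype.ext (by simp)
      map_mul' := fun c c' => Subtype.ext (by
        show (c : G) * c' * (φ * ((c : G) * c') * φ⁻¹) = (c : G) * (φ * c * φ⁻¹) * ((c' : G) * (φ * c' * φ⁻¹))
        rw [show φ * ((c : G) * c') * φ⁻¹ = φ * c * φ⁻¹ * (φ * c' * φ⁻¹) by group]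
        exact (hAA _ c'.2 _ (hmem c c.2)).mul_mul_mul_comm _ _) }
  have hfsurj : Function.Surjective f := fun d => by
    obtain ⟨c, hc, hcd⟩ := himage d (mem_inf.1 d.2).1
      (show Commute (d : G) φ from mem_centralizer_singleton_iff.1 (mem_inf.1 d.2).2).symm
    exact ⟨⟨c, hc⟩, Subtype.ext hcd.symm⟩
  have hker : f.ker = A0.subgroupOf A := by
    ext c
    rw [MonoidHom.mem_ker, mem_subgroupOf, Subtype.ext_iff]
    show (c : G) * (φ * c * φ⁻¹) = 1 ↔ (c : G) ∈ A ⊓ centralizer ({φ} : Set G)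
    rw [mem_inf, mem_centralizer_singleton_iff]
    show (c : G) * (φ * c * φ⁻¹) = 1 ↔ _
    rw [mul_eq_one_iff_inv_eq, inv_eq_of_mul_eq_one_right (L.elem c c.2), eq_mul_inv_iff_mul_eq]
    exact ⟨fun e => ⟨c.2, e⟩, fun e => e.2⟩
  have hcard : Nat.card A = Nat.card A0 * Nat.card A0 := by
    rw [← f.ker.card_mul_index, index_ker, MonoidHom.range_eq_top.2 hfsurj, card_top, hker,
      Nat.card_congr (subgroupOfEquivOfLe inf_le_left).toEquiv]
  refine ⟨Nat.card A0, hφ, hφa, hφu, ?_, rfl, hcard, fun d hd hc _ => ?_, hφA, hne⟩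
  · obtain ⟨b₀, hub, hba⟩ := exists_other_point L
    have hφb : u • φ • b₀ = φ • b₀ := by rw [smul_smul, ← hφu.eq, mul_smul, hub]
    have hφba : φ • b₀ ≠ a := fun e => hba (smul_left_cancel φ (e.trans hφa.symm))
    obtain ⟨y, ⟨hy, hyb⟩, -⟩ := L.regQ b₀ (mem_line.2 hub) (φ • b₀) (mem_line.2 hφb) hba hφba
    rw [← hAQ] at hy
    have h1 : φ * y * φ⁻¹ * y = 1 := by
      refine (L.regQ b₀ (mem_line.2 hub) b₀ (mem_line.2 hub) hba hba).unique
        ⟨L.leQ (mul_mem (hmem y hy) hy), ?_⟩ ⟨one_mem Q, one_smul G b₀⟩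
      rw [hφi, mul_smul, hyb, mul_smul, mul_smul, smul_smul φ φ, hφφ, one_smul, hyb, smul_smul, hφφ, one_smul]
    have hcy : Commute φ y := mul_inv_eq_iff_eq_mul.1 (by
      rw [eq_inv_of_mul_eq_one_left h1, inv_eq_of_mul_eq_one_right (L.elem y hy)])
    obtain ⟨c, hc, hcd⟩ := himage y hy hcy
    refine ⟨c • b₀, fun e => hba (smul_left_cancel c (e.trans ?_)), ?_, ?_⟩
    · rcases eq_or_ne c 1 with rfl | hc1
      · rw [one_smul]
      · exact (L.memA c hc hc1).2.2.symm
    · rw [smul_smul, (commute_of_mem (L.Qle (L.leQ hc))).symm.eq, mul_smul, hub]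
    · have h2 : φ • c • b₀ = (φ * c * φ⁻¹ * y) • b₀ := by
        rw [mul_smul, hyb, smul_smul, smul_smul, show φ * c * φ⁻¹ * φ = φ * c by group]
      have h3 : φ * c * φ⁻¹ * y = c := by
        rw [hcd, ← mul_assoc, (hAA _ (hmem c hc) c hc).eq, mul_assoc,
          show φ * c * φ⁻¹ * (φ * c * φ⁻¹) = φ * (c * c) * φ⁻¹ by group, L.elem c hc]
        group
      rw [h2, h3]
  · obtain ⟨c, hc', hcd⟩ := himage d hd hc
    refine ⟨c, hc', ?_⟩
    rw [inv_eq_of_mul_eq_one_right (L.elem c hc'), hc.eq, hcd,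
      show c * (φ * c * φ⁻¹) * φ = c * φ * c * (φ⁻¹ * φ) by group, inv_mul_cancel, mul_one]

section Setting

variable {G : Type u} [Group G] [Finite G] {α : Type u} [MulAction G α] [Finite α] [FaithfulSMul G α] {z : G}
  {u : G} {a : α} {A Q X : Subgroup G} {q j : ℕ}

/-- what is known of the chosen line in both branches -/
theorem fused_data [IsSimpleGroup G] (hna : ¬ IsMulCommutative G) (h : Crit G α z) (hu : orderOf u = 2)
    (hua : u • a = a) (L : LineData z u a A Q X q j) (hj : j = 1)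
    (hone : ∀ t : G, orderOf t = 2 → Commute t u → (∀ p : α, u • p = p → t • p = p) →
      (∀ d ∈ A, Commute t d) → t = u)
    {e : G} (he : e ∈ A) (he1 : e ≠ 1) :
    IsConj u (u * e) ∧ Nat.card (fixedBy α (u * e)) = q + 1 ∧
      Nat.card (membersAt z (u * e) a) = Nat.card (membersAt z u a) := by
  obtain ⟨b, hub, hba⟩ := exists_other_point L
  obtain ⟨⟨e₁, he₁, he₁u, hfus⟩, -⟩ := fused_of_line hna h hu hua L hj hone
  obtain ⟨hD, hc, hea⟩ := L.memA e he he1
  obtain ⟨g, -, -, hg⟩ := partner_conj h hu hua hub hba.symm he₁ hD he₁u hc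
  obtain ⟨k, hk⟩ := isConj_iff.1 (hfus.trans (isConj_iff.2 ⟨g, hg⟩))
  refine ⟨isConj_iff.2 ⟨k, hk⟩, ?_, card_membersAt_conjugate h hu hk hua (by rw [mul_smul, hea, hua])⟩
  rw [← hk, card_fixedBy_conj, card_fixedBy_line L, hj, pow_one]

variable {φ : G} {s : ℕ}

/-- the data is symmetric in `φ` and `u φ` -/
theorem SplitData.swap (hu : orderOf u = 2) (hua : u • a = a) (L : LineData z u a A Q X q j)
    (S : SplitData α z u a A φ s) : SplitData α z u a A (u * φ) s := by
  have hcA : ∀ d ∈ A, Commute d u := fun d hd => commute_of_mem (L.Qle (L.leQ hd))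
  have hiff : ∀ d ∈ A, Commute (u * φ) d ↔ Commute φ d := fun d hd => by
    refine ⟨fun hh => ?_, fun hh => (hcA d hd).symm.mul_left hh⟩
    have := (hcA d hd).symm.mul_left hh
    rwa [← mul_assoc, sq_of_order_two hu, one_mul] at this
  obtain ⟨b, hba, hub, hφb⟩ := S.fixed
  have huN : u ∈ normalizer (A : Set G) :=
    centralizer_le_normalizer _ (mem_centralizer_iff.2 fun d hd => (hcA d hd).eq)
  refine ⟨?_, by rw [mul_smul, S.fixa, hua], (Commute.refl u).mul_left S.comm, ⟨b, hba, hub, by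
    rw [mul_smul, hφb, hub]⟩, ?_, S.square, fun d hd hc hd1 => ?_, mul_mem huN S.norm, ?_⟩
  · refine order_two_of_mul_self ?_ fun e => ?_
    · rw [S.comm.mul_mul_mul_comm, sq_of_order_two hu, sq_of_order_two S.two, one_mul]
    · obtain ⟨d, hd, hne⟩ := S.moves
      refine hne ?_
      rw [eq_inv_of_mul_eq_one_right e, inv_of_order_two hu]
      exact (hcA d hd).symm
  · rw [← S.card]
    congr 2
    ext d
    simp only [mem_inf, mem_centralizer_singleton_iff]
    refine and_congr_right fun hd => ?_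
    exact ⟨fun hh => ((hiff d hd).1 (show Commute d (u * φ) from hh).symm).symm.eq,
      fun hh => ((hiff d hd).2 (show Commute d φ from hh).symm).symm.eq⟩
  · obtain ⟨c, hc', hcd⟩ := S.split d hd ((hiff d hd).1 hc) hd1
    refine ⟨c, hc', ?_⟩
    rw [show c * (u * φ) * c⁻¹ = c * u * (φ * c⁻¹) by group, (hcA c hc').eq,
      show u * c * (φ * c⁻¹) = u * (c * φ * c⁻¹) by group, hcd, mul_assoc]
  · obtain ⟨d, hd, hne⟩ := S.moves
    exact ⟨d, hd, fun hh => hne ((hiff d hd).1 hh)⟩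

theorem SplitData.not_member (h : Crit G α z) (S : SplitData α z u a A φ s) : ¬ IsConj z φ := by
  obtain ⟨b, hba, -, hφb⟩ := S.fixed
  exact not_conj_of_fix h S.fixa hφb hba.symm

theorem SplitData.four_le (L : LineData z u a A Q X q j) (S : SplitData α z u a A φ s) : 2 ≤ s ∧ q = s * s := by
  have h1 : q = s * s := L.card.symm.trans S.square
  refine ⟨?_, h1⟩
  by_contra hlt
  have h4 := L.four
  have := Nat.mul_le_mul (show s ≤ 1 by omega) (show s ≤ 1 by omega)
  omega

theorem SplitData.exists_pow (L : LineData z u a A Q X q j) (S : SplitData α z u a A φ s) : ∃ t, s = 2 ^ t := by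
  obtain ⟨k, hk⟩ := L.pow
  obtain ⟨t, -, ht⟩ := (Nat.dvd_prime_pow Nat.prime_two).1 (hk ▸ Dvd.intro _ (S.four_le L).2.symm)
  exact ⟨t, ht⟩

theorem SplitData.exists_member (L : LineData z u a A Q X q j) (S : SplitData α z u a A φ s) :
    ∃ d ∈ A, Commute φ d ∧ d ≠ 1 := by
  haveI : Nontrivial ↥(A ⊓ centralizer ({φ} : Set G)) := Finite.one_lt_card_iff_nontrivial.1 (by
    rw [S.card]; have := (S.four_le L).1; omega)
  obtain ⟨⟨d, hd⟩, hne⟩ := exists_ne (1 : ↥(A ⊓ centralizer ({φ} : Set G)))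
  exact ⟨d, (mem_inf.1 hd).1, (show Commute d φ from mem_centralizer_singleton_iff.1 (mem_inf.1 hd).2).symm,
    fun e => hne (Subtype.ext e)⟩

/-- `φ` and `φ d` are conjugate at `a` -/
theorem SplitData.partner (L : LineData z u a A Q X q j) (S : SplitData α z u a A φ s) {d : G} (hd : d ∈ A)
    (hc : Commute φ d) (hd1 : d ≠ 1) :
    ∃ c, c * φ * c⁻¹ = φ * d ∧ c • a = a ∧ Nat.card (membersAt z (φ * d) a) = Nat.card (membersAt z φ a) ∧
      Nat.card (fixedBy α (φ * d)) = Nat.card (fixedBy α φ) := by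
  obtain ⟨c, hcA, hcd⟩ := S.split d hd hc hd1
  have hca : c • a = a := mem_stabilizer_iff.1 (L.Qfix (L.leQ hcA))
  refine ⟨c, hcd, hca, ?_, ?_⟩
  · have h1 := card_membersAt_conj (z := z) c φ a
    rwa [hcd, hca] at h1
  · rw [← hcd, card_fixedBy_conj]

/-- the line of `φ` when `s ≥ 4` -/
theorem SplitData.line [IsSimpleGroup G] (C : LineCase α z u a A Q X q j) (S : SplitData α z u a A φ s)
    (hs : 4 ≤ s) :
    ∃ (B R Y : Subgroup G) (r i : ℕ), LineData z φ a B R Y r i ∧ s ≤ r ∧ r ≤ q := by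
  have h := C.crit
  have hA0 : IsClique z φ (A ⊓ centralizer ({φ} : Set G)) := fun d hd =>
    ⟨(show Commute d φ from mem_centralizer_singleton_iff.1 (mem_inf.1 hd).2).symm,
      fun h1 => (C.data.memA d (mem_inf.1 hd).1 h1).1⟩
  obtain ⟨d, hd, d', hd', hne, hd1, hd1'⟩ : ∃ d ∈ A ⊓ centralizer ({φ} : Set G),
      ∃ d' ∈ A ⊓ centralizer ({φ} : Set G), d ≠ d' ∧ d ≠ 1 ∧ d' ≠ 1 := by
    set A0 := A ⊓ centralizer ({φ} : Set G)
    have h3 : 1 < ((A0 : Set G) \ {1}).ncard := by
      rw [Set.ncard_sdiff_singleton_of_mem (s := (A0 : Set G)) (one_mem A0), ← Nat.card_coe_set_eq,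
        SetLike.coe_sort_coe, S.card]
      omega
    obtain ⟨d, hd, d', hd', hne⟩ := (Set.one_lt_ncard (Set.toFinite _)).1 h3
    exact ⟨d, hd.1, d', hd'.1, hne, fun e => hd.2 e, fun e => hd'.2 e⟩
  obtain ⟨b, hba, -, hφb⟩ := S.fixed
  have hdd : Commute d d' := C.data.centQ d (mem_inf.1 hd).1 d' (C.data.leQ (mem_inf.1 hd').1)
  have hr : RankTwo z φ := ⟨S.two, S.not_member h, d, d', (hA0 d hd).2 hd1, (hA0 d' hd').2 hd1', hne, hdd,
    (hA0 d hd).1, (hA0 d' hd').1⟩
  obtain ⟨B, R, Y, r, i, Lφ⟩ := (C.lines φ a b S.two S.fixa hφb hba.symm).2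
    ⟨d, d', (hA0 d hd).2 hd1, (hA0 d' hd').2 hd1', hne, hdd, (hA0 d hd).1, (hA0 d' hd').1⟩
  have hrc := cliqueNum_eq h S.two S.fixa Lφ
  refine ⟨B, R, Y, r, i, Lφ, ?_, ?_⟩
  · rw [← hrc, ← S.card]
    exact le_cliqueNum hA0
  · rw [← hrc, ← cliqueNum_eq h C.chosen.rank.1 C.fixa C.data]
    exact C.chosen.clique φ hr

theorem lineFacts [IsSimpleGroup G] (h : Crit G α z) (crit : CriterionBelow.{u} (Nat.card G)) : LineFacts α z :=
  lineFacts_of_below h crit fun K hK =>
    (Subgroup.card_le_card_group K).lt_of_ne fun e => hK (Subgroup.eq_top_of_card_eq K e)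

variable [IsPretransitive G α]

/-- without LINE the members at `a` centralising a rank two involution are `q - 1` -/
theorem card_members_no_line [IsSimpleGroup G] (hna : ¬ IsMulCommutative G) (h : Crit G α z)
    (crit : CriterionBelow.{u} (Nat.card G)) (hL : ¬ HasLine α z) {w : G} (hw : orderOf w = 2) (hwa : w • a = a)
    (hwD : ¬ IsConj z w) {B R Y : Subgroup G} {r i : ℕ} (L : LineData z w a B R Y r i) :
    Nat.card (membersAt z w a) = r - 1 := by
  obtain ⟨b, hwb, hba⟩ := exists_other_point L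
  have hW := L.wide hna h hw hwb hba
  obtain ⟨d, hd, d', hd', hne, hd1, hd1'⟩ : ∃ d ∈ B, ∃ d' ∈ B, d ≠ d' ∧ d ≠ 1 ∧ d' ≠ 1 := by
    have h3 : 1 < ((B : Set G) \ {1}).ncard := by
      rw [Set.ncard_sdiff_singleton_of_mem (s := (B : Set G)) (one_mem B), ← Nat.card_coe_set_eq,
        SetLike.coe_sort_coe, L.card]
      have := L.four
      omega
    obtain ⟨d, hd, d', hd', hne⟩ := (Set.one_lt_ncard (Set.toFinite _)).1 h3
    exact ⟨d, hd.1, d', hd'.1, hne, fun e => hd.2 e, fun e => hd'.2 e⟩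
  obtain ⟨hdD, hdw, hda⟩ := L.memA d hd hd1
  obtain ⟨hdD', hdw', hda'⟩ := L.memA d' hd' hd1'
  have hdd : Commute d d' := L.centQ d hd d' (L.leQ hd')
  obtain ⟨x, y, hxy, hx, hy⟩ := mul_two_fix h hw hwa hwb hba.symm hdD hdw
  have hwda : (w * d) • a = a := by rw [mul_smul, hda, hwa]
  obtain ⟨c, hac, hc⟩ : ∃ c, a ≠ c ∧ (w * d) • c = c := by
    by_cases hax : a = x
    · exact ⟨y, hax ▸ hxy, hy⟩
    · exact ⟨x, hax, hx⟩
  have hwd2 : orderOf (w * d) = 2 := order_two_of_mul_self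
    (by rw [hdw.symm.mul_mul_mul_comm, sq_of_order_two hw, sq_of_order_two (orderOf_conj h hdD), one_mul])
    fun e' => hwD (by rw [eq_inv_of_mul_eq_one_left e', inv_of_order_two (orderOf_conj h hdD)]; exact hdD)
  rw [card_membersAt_line_gen h (lineFacts h crit) hW hw hwa hwD L (L.memA d hd hd1),
    oddPartners_eq_singleton h hna crit hL hwd2 (mul_not_conj h hw hwa hwb hba.symm hdD hdw) hwda hc hac
      ⟨hdD, hdw.mul_left (Commute.refl d), hda⟩ ⟨hdD', hdw'.mul_left hdd, hda'⟩ hdd hne,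
    Nat.card_eq_fintype_card, Set.card_singleton, mul_one]

/-- on a LINE the classes of an involution with line data are its clique -/
theorem lineRank_eq_clique [IsSimpleGroup G] (hna : ¬ IsMulCommutative G) (h : Crit G α z)
    (crit : CriterionBelow.{u} (Nat.card G)) {Y : Subgroup G} (hY : MemberCore α z a Y) {w : G}
    (hw : orderOf w = 2) (hwa : w • a = a) (hwD : ¬ IsConj z w) {B R Z : Subgroup G} {r i : ℕ}
    (L : LineData z w a B R Z r i) :
    lineRank z w a Y = r ∧ (QuotientGroup.mk : G → G ⧸ Y) '' membersAt z w a =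
      QuotientGroup.mk '' ((B : Set G) \ {1}) := by
  classical
  obtain ⟨b, hwb, hba⟩ := exists_other_point L
  have hF := lineFacts h crit
  have hW := L.wide hna h hw hwb hba
  have himg : (QuotientGroup.mk : G → G ⧸ Y) '' membersAt z w a = QuotientGroup.mk '' ((B : Set G) \ {1}) := by
    refine subset_antisymm ?_ (Set.image_mono fun e he => L.memA e he.1 he.2)
    rintro _ ⟨d, hd, rfl⟩
    obtain ⟨e, he, he1, hact⟩ := member_acts_like_clique h hF hW hw hwa L hd
    obtain ⟨heD, hew, hea⟩ := L.memA e he he1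
    refine ⟨e, ⟨he, he1⟩, ((mk_eq_iff h hd.1).2 (hY.mem_of_odd h ?_ ?_)).symm⟩
    · exact mul_mem (subset_closure (mem_members_one hd.1 hd.2.2)) (subset_closure (mem_members_one heD hea))
    · exact odd_of_same_action h hba.symm hwa hwb hd.1 heD hact
  refine ⟨?_, himg⟩
  rw [hY.lineRank_eq h hw hwD hwa, himg, Nat.card_coe_set_eq, Set.InjOn.ncard_image,
    Set.ncard_sdiff_singleton_of_mem (s := (B : Set G)) (one_mem B), ← Nat.card_coe_set_eq, SetLike.coe_sort_coe,
    L.card]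
  · have := L.four; omega
  · intro e he e' he' hee
    by_contra hne
    refine hY.notMem h (conj_mul_of_commute h (L.memA e he.1 he.2).1 (L.memA e' he'.1 he'.2).1
      (L.centQ e he.1 e' (L.leQ he'.1)) hne) ((mk_eq_iff h (L.memA e he.1 he.2).1).1 hee)

/-- the branch of a LINE -/
theorem false_of_split_line [IsSimpleGroup G] (C : LineCase α z u a A Q X q j) (hj : j = 1)
    (hone : ∀ t : G, orderOf t = 2 → Commute t u → (∀ p : α, u • p = p → t • p = p) →
      (∀ d ∈ A, Commute t d) → t = u)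
    (S : SplitData α z u a A φ s) (hL : HasLine α z) : False := by
  classical
  have h := C.crit
  have hna := C.nonab
  have hu := C.chosen.rank.1
  have hua := C.fixa
  have huD := C.chosen.rank.2.1
  obtain ⟨hs2, hqs⟩ := S.four_le C.data
  obtain ⟨b, hba, hub, hφb⟩ := S.fixed
  obtain ⟨d, hd, hφd, hd1⟩ := S.exists_member C.data
  obtain ⟨hdD, hdu, hda⟩ := C.data.memA d hd hd1
  obtain ⟨e', he', he'd, he'1⟩ : ∃ e ∈ A, e ≠ d ∧ e ≠ 1 := by
    obtain ⟨x, hx, hxne⟩ := S.moves
    exact ⟨x, hx, fun e => hxne (e ▸ hφd), fun e => hxne (e ▸ Commute.one_right φ)⟩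
  obtain ⟨Y, hY⟩ := exists_memberCore h (lineFacts h C.below) hdD (C.data.memA e' he' he'1).1
    (C.data.centQ d hd e' (C.data.leQ he')) he'd.symm hL a
  obtain ⟨hru, himgu⟩ := lineRank_eq_clique hna h C.below hY hu hua huD C.data
  have hf : Nat.card (fixedBy α u) = q + 1 := by rw [card_fixedBy_line C.data, hj, pow_one]
  have hQq : lineRank z (1 : G) a Y = q := (hY.lineRank_one_eq h hL hu huD hua hub hba.symm (e := d)
    ⟨hdD, hdu, hda⟩ (by rw [hru]; exact C.data.four) (by rw [hru]; exact hf)).trans hru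
  have hcount := (hY.exact_count h hu huD hua hub hba.symm (e := d) ⟨hdD, hdu, hda⟩).1
  rw [hQq, hru, hf, (fused_data hna h hu hua C.data hj hone hd hd1).2.1, Nat.add_sub_cancel, mul_assoc] at hcount
  have hq4 := C.data.four
  have hn : Nat.card α - (q + 1) = (q - 1) * ((q + 1) * q) := Nat.eq_of_mul_eq_mul_left (by omega) hcount
  -- the classes of `φ`
  have hφD := S.not_member h
  have hall : (QuotientGroup.mk : G → G ⧸ Y) '' membersAt z (1 : G) a = QuotientGroup.mk '' ((A : Set G) \ {1}) := by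
    rw [← himgu]
    refine (Set.eq_of_subset_of_ncard_le (Set.image_mono fun x hx => mem_members_one hx.1 hx.2.2) ?_).symm
    have h1 := hY.lineRank_one h
    have h2 := hY.lineRank_eq h hu huD hua
    rw [hQq] at h1
    rw [hru] at h2
    rw [← Nat.card_coe_set_eq, ← Nat.card_coe_set_eq]
    omega
  have hclass : (QuotientGroup.mk : G → G ⧸ Y) '' membersAt z φ a =
      QuotientGroup.mk '' (((A ⊓ centralizer ({φ} : Set G) : Subgroup G) : Set G) \ {1}) := by
    refine subset_antisymm ?_ (Set.image_mono fun e he => ⟨(C.data.memA e (mem_inf.1 he.1).1 he.2).1,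
      (show Commute e φ from mem_centralizer_singleton_iff.1 (mem_inf.1 he.1).2).symm,
      (C.data.memA e (mem_inf.1 he.1).1 he.2).2.2⟩)
    rintro _ ⟨x, hx, rfl⟩
    obtain ⟨e, he, hee⟩ : QuotientGroup.mk x ∈ (QuotientGroup.mk : G → G ⧸ Y) '' ((A : Set G) \ {1}) :=
      hall ▸ ⟨x, mem_members_one hx.1 hx.2.2, rfl⟩
    refine ⟨e, ⟨mem_inf.2 ⟨he.1, ?_⟩, he.2⟩, hee⟩
    obtain ⟨heD, -, hea⟩ := C.data.memA e he.1 he.2
    have h1 : φ * (e * x) * φ⁻¹ ∈ Y := (mem_normalizer_iff.1 (hY.norm φ S.fixa) _).1 ((mk_eq_iff h heD).1 hee)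
    rw [show φ * (e * x) * φ⁻¹ = φ * e * φ⁻¹ * (φ * x * φ⁻¹) by group, hx.2.1.eq, mul_inv_cancel_right] at h1
    have h2 : φ * e * φ⁻¹ * e ∈ Y := by
      have h3 := mul_mem h1 (inv_mem ((mk_eq_iff h heD).1 hee))
      rwa [mul_inv_rev, inv_of_order_two (orderOf_conj h heD), inv_of_order_two (orderOf_conj h hx.1),
        show φ * e * φ⁻¹ * x * (x * e) = φ * e * φ⁻¹ * (x * x) * e by group,
        sq_of_order_two (orderOf_conj h hx.1), mul_one] at h3
    have hmem : φ * e * φ⁻¹ ∈ A := (mem_normalizer_iff.1 S.norm e).1 he.1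
    rw [mem_centralizer_singleton_iff]
    by_contra hne
    have h4 : φ * e * φ⁻¹ ≠ e := fun q => hne (mul_inv_eq_iff_eq_mul.1 q).symm
    exact hY.notMem h (conj_mul_of_commute h (heD.trans (isConj_iff.2 ⟨φ, rfl⟩)) heD
      (C.data.centQ _ hmem e (C.data.leQ he.1)) h4) h2
  have hrφ : lineRank z φ a Y = s := by
    rw [hY.lineRank_eq h S.two hφD S.fixa, hclass, Nat.card_coe_set_eq, Set.InjOn.ncard_image,
      Set.ncard_sdiff_singleton_of_mem (s := ((A ⊓ centralizer ({φ} : Set G) : Subgroup G) : Set G)) (one_mem _),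
      ← Nat.card_coe_set_eq, SetLike.coe_sort_coe, S.card]
    · omega
    · intro e he e₂ he₂ hee
      by_contra hne
      exact hY.notMem h (conj_mul_of_commute h (C.data.memA e (mem_inf.1 he.1).1 he.2).1
        (C.data.memA e₂ (mem_inf.1 he₂.1).1 he₂.2).1
        (C.data.centQ e (mem_inf.1 he.1).1 e₂ (C.data.leQ (mem_inf.1 he₂.1).1)) hne)
        ((mk_eq_iff h (C.data.memA e (mem_inf.1 he.1).1 he.2).1).1 hee)
  obtain ⟨c, hcd, hca, hκ, hfd⟩ := S.partner C.data hd hφd hd1
  have hφcount := (hY.exact_count h S.two hφD S.fixa hφb hba.symm (e := d) ⟨hdD, hφd, hda⟩).1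
  rw [hQq, hrφ, hfd] at hφcount
  have hfle : Nat.card (fixedBy α φ) ≤ Nat.card α := Nat.card_le_card_of_injective _ Subtype.val_injective
  have hfle' : Nat.card (fixedBy α u) ≤ Nat.card α := Nat.card_le_card_of_injective _ Subtype.val_injective
  rw [hf] at hfle'
  rcases Nat.lt_or_ge s 4 with hs | hs
  · -- `q = 4`
    obtain ⟨t, ht⟩ := S.exists_pow C.data
    obtain rfl : s = 2 := by
      rcases t with _ | _ | t
      · omega
      · rw [ht]; rfl
      · have : 2 ^ 2 ≤ 2 ^ (t + 2) := Nat.pow_le_pow_right two_pos (by omega)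
        omega
    obtain rfl : q = 4 := hqs
    obtain ⟨-, h65, h13⟩ := SplitArith.small (N := 1) (Or.inl rfl) hfle' (by rw [one_mul, hn]) hfle (by
      rw [one_mul, hφcount]; ring)
    refine false_of_thirteen h S.two hu S.comm hba.symm S.fixa hua hφb hub h13 (by rw [hf]; norm_num) ?_
    intro x y hx hy hφx hφy hxy
    by_contra hne
    obtain ⟨p, hxp, -⟩ := h.uniq x hx
    obtain ⟨p', hyp, -⟩ := h.uniq y hy
    obtain rfl := centre_eq_of_commute h hx hy hxy hxp hyp
    -- move the common centre to `a`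
    obtain ⟨g, hgφ, hgp⟩ : ∃ g : G, Commute g φ ∧ g • p = a := by
      by_cases hpa : p = a
      · exact ⟨1, Commute.one_left φ, by rw [one_smul, hpa]⟩
      · obtain ⟨v, -, hv, hvp, -⟩ := exists_swap_fix h (isPGroup_zpowers_of_two S.two)
          (mem_fixSet_zpowers (smul_centre h hx hφx hxp)) (mem_fixSet_zpowers S.fixa) hpa
        exact ⟨v, hv φ (mem_zpowers φ), hvp⟩
    have hmv : ∀ w, IsConj z w → Commute φ w → w • p = p → g * w * g⁻¹ ∈ membersAt z φ a := fun w hw hφw hwp =>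
      ⟨hw.trans (isConj_iff.2 ⟨g, rfl⟩), (hgφ.symm.mul_right hφw).mul_right hgφ.symm.inv_right,
        by rw [← hgp, mul_smul, mul_smul, inv_smul_smul, hwp]⟩
    have hxm := hmv x hx hφx hxp
    have hym := hmv y hy hφy hyp
    have hone' : Nat.card ((QuotientGroup.mk : G → G ⧸ Y) '' membersAt z φ a) = 1 := by
      have h1 := hY.lineRank_eq h S.two hφD S.fixa
      omega
    have heq : (QuotientGroup.mk (g * x * g⁻¹) : G ⧸ Y) = QuotientGroup.mk (g * y * g⁻¹) := by
      haveI := (Nat.card_eq_one_iff_unique.1 hone').1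
      exact congrArg Subtype.val (Subsingleton.elim
        (⟨_, _, hxm, rfl⟩ : (QuotientGroup.mk : G → G ⧸ Y) '' membersAt z φ a) ⟨_, _, hym, rfl⟩)
    have hcomm : Commute (g * x * g⁻¹) (g * y * g⁻¹) := hxy.map (MulAut.conj g).toMonoidHom
    exact hY.notMem h (conj_mul_of_commute h hxm.1 hym.1 hcomm fun q => hne (mul_left_cancel (mul_right_cancel q)))
      ((mk_eq_iff h hxm.1).1 heq)
  · obtain ⟨B, R, Z, r, i, Lφ, -, -⟩ := S.line C hs
    have hr : r = s := (lineRank_eq_clique hna h C.below hY S.two S.fixa hφD Lφ).1.symm.trans hrφ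
    have hfφ : Nat.card (fixedBy α φ) = s ^ i + 1 := by rw [card_fixedBy_line Lφ, hr]
    rw [hfφ] at hφcount hfle
    rw [Nat.add_sub_cancel] at hφcount
    refine SplitArith.no_count hs (Or.inl rfl) (by rw [pow_two, ← hqs]; exact hfle') rfl Lφ.jcase hfle
      (by rw [one_mul, pow_two, ← hqs, hn]; ring) ?_
    rw [one_mul, pow_two, ← hqs, hφcount]
    ring

/-- the branch without LINE -/
theorem false_of_split_no_line [IsSimpleGroup G] (C : LineCase α z u a A Q X q j) (hj : j = 1)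
    (hone : ∀ t : G, orderOf t = 2 → Commute t u → (∀ p : α, u • p = p → t • p = p) →
      (∀ d ∈ A, Commute t d) → t = u)
    (S : SplitData α z u a A φ s) (hL : ¬ HasLine α z) : False := by
  classical
  have h := C.crit
  have hna := C.nonab
  have hu := C.chosen.rank.1
  have hua := C.fixa
  have huD := C.chosen.rank.2.1
  have hq4 := C.data.four
  obtain ⟨hs2, hqs⟩ := S.four_le C.data
  obtain ⟨t, hst⟩ := S.exists_pow C.data
  obtain ⟨b, hba, hub, hφb⟩ := S.fixed
  obtain ⟨d, hd, hφd, hd1⟩ := S.exists_member C.data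
  obtain ⟨hdD, hdu, hda⟩ := C.data.memA d hd hd1
  have hf : Nat.card (fixedBy α u) = q + 1 := by rw [card_fixedBy_line C.data, hj, pow_one]
  have hκu := card_members_no_line hna h C.below hL hu hua huD C.data
  obtain ⟨hfus, hfv, hκv⟩ := fused_data hna h hu hua C.data hj hone hd hd1
  obtain ⟨x, hx⟩ := exists_moved h (α := α) (ne_one_of_order_two hu)
  set N := Nat.card (swapsAt z u x)
  have hk := card_swaps_mul h hu hua hub hba.symm (e := d) ⟨hdD, hdu, hda⟩ hx
  rw [hκv, hκu] at hk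
  have hN := swaps_count h hu hua hub hba.symm (e := d) ⟨hdD, hdu, hda⟩ hx
  rw [hκu, hfv, hf, Nat.add_sub_cancel] at hN
  have hNodd : Odd N := odd_card_swaps h hu hua hub hba.symm (e := d) ⟨hdD, hdu, hda⟩ hx
  -- Brauer-Wielandt
  have hset : membersAt z u a = (A : Set G) \ {1} := by
    refine (Set.eq_of_subset_of_ncard_le (fun e he => C.data.memA e he.1 he.2) ?_).symm
    rw [Set.ncard_sdiff_singleton_of_mem (s := (A : Set G)) (one_mem A), ← Nat.card_coe_set_eq, hκu,
      ← Nat.card_coe_set_eq, SetLike.coe_sort_coe, C.data.card]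
  have hV : Nat.card {e : G // e ∈ membersAt z u a ∧ Commute φ e} = s - 1 := by
    show Nat.card ({e : G | e ∈ membersAt z u a ∧ Commute φ e} : Set G) = s - 1
    have e1 : {e : G | e ∈ membersAt z u a ∧ Commute φ e} =
        ((A ⊓ centralizer ({φ} : Set G) : Subgroup G) : Set G) \ {1} := by
      ext e
      simp only [hset, Set.mem_setOf_eq, Set.mem_diff, SetLike.mem_coe, mem_inf, mem_centralizer_singleton_iff]
      exact ⟨fun hh => ⟨⟨hh.1.1, hh.2.symm.eq⟩, hh.1.2⟩,
        fun hh => ⟨⟨hh.1.1, hh.2⟩, (show Commute e φ from hh.1.2).symm⟩⟩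
    rw [e1, Nat.card_coe_set_eq, Set.ncard_sdiff_singleton_of_mem
      (s := ((A ⊓ centralizer ({φ} : Set G) : Subgroup G) : Set G)) (one_mem _), ← Nat.card_coe_set_eq,
      SetLike.coe_sort_coe, S.card]
  have huφ : u ≠ φ := fun e => by
    obtain ⟨p, hp, hne⟩ := S.moves
    exact hne (e ▸ (commute_of_mem (C.data.Qle (C.data.leQ hp))).symm)
  have hfour := card_members_four h hba.symm hu S.two huφ S.comm.symm hua hub S.fixa hφb
  rw [hV, hk, hκu] at hfour
  have hprod : N * (s - 1) ^ 2 = Nat.card (membersAt z φ a) * Nat.card (membersAt z (u * φ) a) :=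
    Nat.eq_of_mul_eq_mul_left (show 0 < q - 1 by omega) (by rw [← mul_assoc, mul_comm (q - 1), hfour]; ring)
  have hfle' : q + 1 ≤ Nat.card α := hf ▸ Nat.card_le_card_of_injective _ Subtype.val_injective
  -- the count of a field involution
  have hφ : ∀ ψ, SplitData α z u a A ψ s →
      (N * (q - 1)) * (Nat.card α - Nat.card (fixedBy α ψ)) = Nat.card (fixedBy α ψ) *
        Nat.card (membersAt z ψ a) * ((Nat.card (fixedBy α ψ) - 1) * Nat.card (membersAt z ψ a)) := by
    intro ψ Sψ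
    obtain ⟨b', hb', -, hψb⟩ := Sψ.fixed
    obtain ⟨d', hd', hψd, hd1'⟩ := Sψ.exists_member C.data
    obtain ⟨hd'D, -, hd'a⟩ := C.data.memA d' hd' hd1'
    obtain ⟨c, hcd, hca, hκ, hfd⟩ := Sψ.partner C.data hd' hψd hd1'
    have h1 := incidence_count h Sψ.two Sψ.fixa hψb hb'.symm hd'D hψd hd'a
    rw [hk, hκ, hfd] at h1
    exact h1
  rcases Nat.lt_or_ge s 4 with hs | hs
  · obtain rfl : s = 2 := by
      rcases t with _ | _ | t
      · omega
      · rw [hst]; rfl
      · have : 2 ^ 2 ≤ 2 ^ (t + 2) := Nat.pow_le_pow_right two_pos (by omega)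
        omega
    obtain rfl : q = 4 := hqs
    have hu' : N * (Nat.card α - 5) = 60 := by rw [hN]
    have hbound := lower_bound_fused h hu hua hub hba.symm (A := A) (fun e he he1 => C.data.memA e he he1) hd hd1
      hfus
    rw [hf, C.data.card] at hbound
    have hN5 : N = 1 ∨ N = 3 ∨ N = 5 := by
      have h12 : N * 12 ≤ 60 := hu' ▸ Nat.mul_le_mul_left N (show 12 ≤ Nat.card α - 5 by omega)
      obtain ⟨m, hm⟩ := hNodd
      omega
    have hprod' : N = Nat.card (membersAt z φ a) * Nat.card (membersAt z (u * φ) a) := by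
      rw [← hprod]; norm_num
    have hone' : ∃ ψ, SplitData α z u a A ψ 2 ∧ Nat.card (membersAt z ψ a) = 1 := by
      rcases hN5 with e | e | e
      · exact ⟨φ, S, Nat.eq_one_of_mul_eq_one_right (hprod'.symm.trans e)⟩
      all_goals
        rcases (Nat.dvd_prime (by norm_num)).1 (Dvd.intro _ (hprod'.symm.trans e)) with e1 | e1
        · exact ⟨φ, S, e1⟩
        · refine ⟨u * φ, S.swap hu hua C.data, ?_⟩
          rw [e1, e] at hprod'
          omega
    obtain ⟨ψ, Sψ, hψ1⟩ := hone'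
    have hc := hφ ψ Sψ
    rw [hψ1, mul_one, mul_one] at hc
    obtain ⟨-, -, h13⟩ := SplitArith.small hN5 hfle' hu'
      (Nat.card_le_card_of_injective _ Subtype.val_injective) hc
    obtain ⟨b', hb', hub', hψb⟩ := Sψ.fixed
    refine false_of_thirteen h Sψ.two hu Sψ.comm hb'.symm Sψ.fixa hua hψb hub' h13 (by rw [hf]; norm_num) ?_
    intro p r hp hr hψp hψr hpr
    obtain ⟨c, hcp, -⟩ := h.uniq p hp
    obtain ⟨c', hcr, -⟩ := h.uniq r hr
    obtain rfl := centre_eq_of_commute h hp hr hpr hcp hcr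
    have hc1 : Nat.card (membersAt z ψ c) = 1 :=
      (card_membersAt_eq h (isPGroup_zpowers_of_two Sψ.two) (smul_centre h hp hψp hcp) Sψ.fixa).trans hψ1
    haveI := (Nat.card_eq_one_iff_unique.1 hc1).1
    exact congrArg Subtype.val
      (Subsingleton.elim (⟨p, hp, hψp, hcp⟩ : membersAt z ψ c) ⟨r, hr, hψr, hcr⟩)
  · have ht : 2 ≤ t := by
      by_contra hlt
      have : 2 ^ t ≤ 2 ^ 1 := Nat.pow_le_pow_right two_pos (by omega)
      omega
    have hline : ∀ ψ, SplitData α z u a A ψ s → ∃ e i, t ≤ e ∧ e ≤ 2 * t ∧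
        Nat.card (membersAt z ψ a) = 2 ^ e - 1 ∧ (i = 1 ∨ i = 2 ∨ i = 3) ∧
        Nat.card (fixedBy α ψ) = (2 ^ e) ^ i + 1 := by
      intro ψ Sψ
      obtain ⟨B, R, Y, r, i, Lψ, hr1, hr2⟩ := Sψ.line C hs
      obtain ⟨e, rfl⟩ := Lψ.pow
      refine ⟨e, i, ?_, ?_, card_members_no_line hna h C.below hL Sψ.two Sψ.fixa (Sψ.not_member h) Lψ,
        Lψ.jcase, card_fixedBy_line Lψ⟩
      · exact (Nat.pow_le_pow_iff_right (le_refl 2)).1 (hst ▸ hr1)
      · refine (Nat.pow_le_pow_iff_right (le_refl 2)).1 (hr2.trans (le_of_eq ?_))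
        rw [hqs, hst, ← pow_add, two_mul]
    have hu' : N * (Nat.card α - (s ^ 2 + 1)) = (s ^ 2 + 1) * (s ^ 2 - 1) * s ^ 2 := by
      rw [pow_two, ← hqs, hN]
    obtain ⟨e₁, i₁, he1, he1', hκ1, hi1, hf1⟩ := hline φ S
    obtain ⟨e₂, i₂, he2, he2', hκ2, hi2, hf2⟩ := hline (u * φ) (S.swap hu hua C.data)
    rw [hκ1, hκ2, hst] at hprod
    have fin : ∀ (ψ : G) (e o i : ℕ), SplitData α z u a A ψ s → e = t → t ≤ o → o ≤ 2 * t →
        N * (2 ^ t - 1) ^ 2 = (2 ^ e - 1) * (2 ^ o - 1) → Nat.card (membersAt z ψ a) = 2 ^ e - 1 →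
        (i = 1 ∨ i = 2 ∨ i = 3) → Nat.card (fixedBy α ψ) = (2 ^ e) ^ i + 1 → False := by
      intro ψ e o i Sψ he ho ho' hp hκ hi hfψ
      have hNv : N = 1 ∨ N = s + 1 := by rw [hst]; exact SplitArith.swaps_value ht ho ho' he hp
      have hc := hφ ψ Sψ
      subst he
      rw [hκ, hfψ, ← hst, Nat.add_sub_cancel] at hc
      refine SplitArith.no_count hs hNv (by rw [pow_two, ← hqs]; exact hfle') rfl hi
        (by rw [hst, ← hfψ]; exact Nat.card_le_card_of_injective _ Subtype.val_injective) hu' ?_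
      rw [pow_two, ← hqs]
      exact hc
    rcases SplitArith.exponents ht he1 he1' he2 he2' ⟨N, by rw [← hprod]; ring⟩ with e | e | ⟨e, e'⟩
    · exact fin φ e₁ e₂ i₁ S e he2 he2' hprod hκ1 hi1 hf1
    · exact fin (u * φ) e₂ e₁ i₂ (S.swap hu hua C.data) e he1 he1' (by rw [hprod, mul_comm]) hκ2 hi2 hf2
    · refine SplitArith.not_both ht (N := N) (by rw [hprod, e, e']) ?_
      rw [← hst]
      refine (Nat.Coprime.pow_right 2 ?_).dvd_of_dvd_mul_right ⟨_, hu'.symm⟩
      rw [hst]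
      exact (hNodd.coprime_two_right).pow_right t

end Setting

/-- OPEN 2, split: discharged -/
theorem fieldSplitProp : FieldSplitProp.{u} := by
  intro G α _ _ _ _ _ _ z u a A Q X q j C hj hone φ hφ hφa hφu hφA hne
  haveI := C.simple
  obtain ⟨s, S⟩ := exists_splitData C.nonab C.crit C.chosen.rank.1 C.fixa C.data hj hone hφ hφa hφu hφA hne
  by_cases hL : HasLine α z
  · exact false_of_split_line C hj hone S hL
  · exact false_of_split_no_line C hj hone S hL

/-- OPEN 2 of the wiring -/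
theorem fieldProp : FieldProp.{u} := fieldProp_of_split fieldSplitProp

end Cfsg.Lib.BenderSE.Crit2
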