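/-
Aschbacher's criterion, lines with a four group fixing their points (notes/s1175_h3_kernel.md): the lines of the
products with the members at a point are such lines again, the group of the members centralising one involution
of the four group is faithful on the line, and all members at a point of the line form its clique.
-/
import Cfsg.Agent.BenderSE.Criterion2.FourFix
import Cfsg.Agent.BenderSE.Criterion2.Bound
import Cfsg.Agent.BenderSE.Criterion2.Choice
import Cfsg.Agent.BenderSE.Criterion2.LineSylow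

set_option autoImplicit false
set_option linter.unusedSectionVars false
set_option linter.style.haveILetI false

namespace Cfsg.Lib.BenderSE.Crit2.Ker

open Subgroup MulAction Cfsg.Lib.InvolCalc Cfsg.Lib.StrongEmb Cfsg.Lib.BenderSE.CritDep

universe u

variable {G α : Type u} [Group G] [MulAction G α]

/-- what the induction and the choice give for involutions centralising a clique of `q` elements -/
structure KSet (α : Type u) [MulAction G α] (z : G) (q g : ℕ) : Prop where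
  crit : Crit G α z
  four : 4 ≤ q
  gtwo : ∃ k, g = 2 ^ k
  bound : ∀ (w : G) (A : Subgroup G) (x y : α), orderOf w = 2 → IsClique z w A → Nat.card A = q →
    x ≠ y → w • x = x → w • y = y → (fixedBy α w).ncard ≤ g + 1
  acts : ∀ (w : G) (A : Subgroup G) (c d : α), orderOf w = 2 → IsClique z w A → Nat.card A = q →
    (∀ e ∈ A, e • c = c) → w • c = c → w • d = d → c ≠ d →
      ∀ v ∈ membersAt z w c, ∃ e ∈ A, e ≠ 1 ∧ ∀ p : α, w • p = p → v • p = e • p
  invol : ∀ (w : G) (A : Subgroup G) (c d : α), orderOf w = 2 → IsClique z w A → Nat.card A = q →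
    w • c = c → w • d = d → c ≠ d →
      ∀ t ∈ localGen z w, orderOf t = 2 → t • c = c → IsConj z t

/-- a line: a four group `V` fixing exactly `F`, with the clique `A` and the regular group `Q` at `c` -/
structure Frame (α : Type u) [MulAction G α] (z : G) (q g : ℕ) (V : Subgroup G) (F : Set α) (c : α)
    (A Q : Subgroup G) : Prop where
  two : ∀ v ∈ V, v * v = 1
  comm : ∀ v ∈ V, ∀ w ∈ V, Commute v w
  card : Nat.card V = 4
  fix : ∀ v ∈ V, v ≠ 1 → ∀ p : α, v • p = p ↔ p ∈ F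
  mem : c ∈ F
  cardF : F.ncard = g + 1
  memA : ∀ d ∈ A, d ≠ 1 → IsConj z d
  cardA : Nat.card A = q
  leQ : A ≤ Q
  twoQ : IsPGroup 2 Q
  fixQ : ∀ x ∈ Q, x • c = c
  centQ : ∀ d ∈ A, ∀ x ∈ Q, Commute d x
  invA : ∀ x ∈ Q, orderOf x = 2 → x ∈ A
  commV : ∀ v ∈ V, ∀ x ∈ Q, Commute v x
  reg : ∀ b ∈ F, ∀ b' ∈ F, b ≠ c → b' ≠ c → ∃! x : G, x ∈ Q ∧ x • b = b'

/-- the elements of `V A` fixing the line of `L` -/
def perpGroup (V A : Subgroup G) (L : Set α) : Subgroup G :=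
  (V ⊔ A) ⊓ fixingSubgroup G L

theorem mem_perpGroup {V A : Subgroup G} {L : Set α} {g : G} :
    g ∈ perpGroup V A L ↔ g ∈ V ⊔ A ∧ ∀ p ∈ L, g • p = p := by
  rw [perpGroup, mem_inf, mem_fixingSubgroup_iff]

/-- an element of prime power order fixes a point of an invariant set of size prime to it -/
theorem exists_fixed_point {p : ℕ} (hp : p.Prime) {k : G} (hk : IsPGroup p (zpowers k)) {P : Set α}
    (hfin : P.Finite) (hP : ¬ p ∣ P.ncard) (hmap : ∀ x ∈ P, k • x ∈ P) : ∃ x ∈ P, k • x = x := by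
  classical
  haveI := Fact.mk hp
  haveI := hfin.fintype
  obtain ⟨n, hn⟩ := hk ⟨k, mem_zpowers k⟩
  have hkn : k ^ p ^ n = 1 := congrArg Subtype.val hn
  let f : P → P := fun x => ⟨k • (x : α), hmap x x.2⟩
  have hf : Function.Bijective f := Finite.injective_iff_bijective.1
    fun x y e => Subtype.ext (smul_left_cancel k (congrArg Subtype.val e))
  set σ : Equiv.Perm P := Equiv.ofBijective f hf
  have hpow : ∀ (m : ℕ) (x : P), ((σ ^ m) x : α) = (k ^ m) • (x : α) := fun m => by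
    induction m with
    | zero => intro x; rw [pow_zero, pow_zero, one_smul]; rfl
    | succ m ih =>
      intro x
      rw [pow_succ', pow_succ', mul_smul, Equiv.Perm.mul_apply, ← ih x]
      rfl
  have hσ : σ ^ p ^ n = 1 := Equiv.ext fun x => Subtype.ext (by
    rw [hpow, hkn, one_smul]
    rfl)
  obtain ⟨x, hx⟩ := Equiv.Perm.exists_fixed_point_of_prime (p := p) (n := n)
    (by rwa [← Nat.card_eq_fintype_card, Nat.card_coe_set_eq]) hσ
  exact ⟨x, x.2, congrArg Subtype.val hx⟩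

/-- an elementary group with two distinct involutions is not cyclic -/
theorem not_cyclic_of_two [Finite G] {H : Subgroup G} (h2 : ∀ x ∈ H, x * x = 1) {x y : G} (hx : x ∈ H)
    (hy : y ∈ H) (hx1 : x ≠ 1) (hy1 : y ≠ 1) (hxy : x ≠ y) : ¬ IsCyclic H := by
  intro hc
  obtain ⟨r, hr⟩ := hc.exists_generator
  have key : ∀ w ∈ H, w = 1 ∨ w = (r : G) := by
    intro w hw
    obtain ⟨i, hi⟩ := mem_zpowers_iff.1 (hr ⟨w, hw⟩)
    have hi' : w = (r : G) ^ i := by
      rw [← SubgroupClass.coe_zpow, hi]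
    rcases Int.even_or_odd' i with ⟨m, rfl | rfl⟩
    · left; rw [hi', zpow_mul, zpow_two, h2 _ r.2, one_zpow]
    · right; rw [hi', zpow_add, zpow_mul, zpow_two, h2 _ r.2, one_zpow, one_mul, zpow_one]
  rcases key x hx with e | e
  · exact hx1 e
  rcases key y hy with e' | e'
  · exact hy1 e'
  exact hxy (e.trans e'.symm)

variable {z : G} {q g : ℕ} {V : Subgroup G} {F : Set α} {c : α} {A Q : Subgroup G}

section Basic

variable (hf : Frame α z q g V F c A Q)
include hf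

theorem Frame.comm_A {v d : G} (hv : v ∈ V) (hd : d ∈ A) : Commute v d :=
  hf.commV v hv d (hf.leQ hd)

theorem Frame.clique {v : G} (hv : v ∈ V) : IsClique z v A := fun d hd =>
  ⟨hf.comm_A hv hd, fun hd1 => hf.memA d hd hd1⟩

theorem Frame.fixA {d : G} (hd : d ∈ A) : d • c = c := hf.fixQ d (hf.leQ hd)

theorem Frame.fixV {v : G} (hv : v ∈ V) {p : α} (hp : p ∈ F) : v • p = p := by
  rcases eq_or_ne v 1 with rfl | hv1
  · exact one_smul G p
  · exact (hf.fix v hv hv1 p).2 hp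

theorem Frame.orderV {v : G} (hv : v ∈ V) (hv1 : v ≠ 1) : orderOf v = 2 :=
  order_two_of_mul_self (hf.two v hv) hv1

theorem Frame.twoV : IsPGroup 2 V := IsPGroup.of_card (n := 2) (by rw [hf.card]; norm_num)

theorem Frame.exists_ne : ∃ v ∈ V, v ≠ 1 := by
  refine V.bot_or_exists_ne_one.resolve_left fun e => ?_
  have h4 := hf.card
  rw [e, Subgroup.card_bot] at h4
  omega

theorem Frame.exists_second [Finite G] (v : G) : ∃ w ∈ V, w ≠ 1 ∧ w ≠ v := by
  by_contra hno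
  push Not at hno
  have hsub : (V : Set G) ⊆ {1, v} := fun w hw => by
    rcases eq_or_ne w 1 with rfl | hw1
    · exact Set.mem_insert _ _
    · exact Set.mem_insert_of_mem _ (hno w hw hw1)
  have h1 := (Set.ncard_le_ncard hsub (Set.toFinite _)).trans (Set.ncard_insert_le _ _)
  rw [Set.ncard_singleton, ← Nat.card_coe_set_eq, SetLike.coe_sort_coe, hf.card] at h1
  omega

theorem Frame.not_cyclic [Finite G] : ¬ IsCyclic V := by
  obtain ⟨v, hv, hv1⟩ := hf.exists_ne
  obtain ⟨w, hw, hw1, hwv⟩ := hf.exists_second v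
  exact not_cyclic_of_two hf.two hv hw hv1 hw1 hwv.symm

theorem Frame.mem_sup {k : G} (hk : k ∈ V ⊔ A) : ∃ v ∈ V, ∃ x ∈ A, k = v * x := by
  rw [← SetLike.mem_coe, coe_mul_of_left_le_normalizer_right V A fun v hv =>
    centralizer_le_normalizer _ (mem_centralizer_iff.2 fun x hx => (hf.comm_A hv hx).eq.symm)] at hk
  obtain ⟨v, hv, x, hx, rfl⟩ := Set.mem_mul.1 hk
  exact ⟨v, hv, x, hx, rfl⟩

/-- elements commuting with one involution of `V` preserve `F` -/
theorem Frame.maps {v k : G} (hv : v ∈ V) (hv1 : v ≠ 1) (hk : Commute k v) {p : α} (hp : p ∈ F) :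
    k • p ∈ F := by
  refine (hf.fix v hv hv1 _).1 ?_
  rw [smul_smul, ← hk.eq, mul_smul, hf.fixV hv hp]

theorem Frame.maps_iff {v k : G} (hv : v ∈ V) (hv1 : v ≠ 1) (hk : Commute k v) {p : α} :
    k • p ∈ F ↔ p ∈ F := by
  refine ⟨fun hp => ?_, hf.maps hv hv1 hk⟩
  have := hf.maps hv hv1 hk.inv_left hp
  rwa [inv_smul_smul] at this

theorem Frame.mapsQ {x : G} (hx : x ∈ Q) {p : α} (hp : p ∈ F) : x • p ∈ F := by
  obtain ⟨v, hv, hv1⟩ := hf.exists_ne
  exact hf.maps hv hv1 (hf.commV v hv x hx).symm hp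

theorem Frame.two_points (hK : KSet α z q g) : ∃ b ∈ F, b ≠ c := by
  by_contra hno
  push Not at hno
  have hsub : F ⊆ {c} := fun p hp => hno p hp
  have h1 : F.ncard ≤ 1 := (Set.ncard_le_ncard hsub (Set.finite_singleton c)).trans (Set.ncard_singleton c).le
  rw [hf.cardF] at h1
  obtain ⟨k, rfl⟩ := hK.gtwo
  have : 0 < 2 ^ k := pow_pos two_pos k
  omega

variable (h : Crit G α z)
include h

theorem Frame.sqA {d : G} (hd : d ∈ A) : d * d = 1 := by
  rcases eq_or_ne d 1 with rfl | hd1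
  · exact one_mul 1
  · exact sq_of_order_two (orderOf_conj h (hf.memA d hd hd1))

theorem Frame.commA {d e : G} (hd : d ∈ A) (he : e ∈ A) : Commute d e := hf.centQ d hd e (hf.leQ he)

variable [Finite G]

/-- `Q` is semiregular off `c` -/
theorem Frame.semireg {x : G} (hx : x ∈ Q) {p : α} (hp : p ≠ c) (hxp : x • p = p) : x = 1 := by
  by_contra hx1
  obtain ⟨n, hn⟩ := hf.twoQ ⟨x, hx⟩
  have hxn : x ^ 2 ^ n = 1 := congrArg Subtype.val hn
  obtain ⟨m, -, hm⟩ := (Nat.dvd_prime_pow Nat.prime_two).1 (orderOf_dvd_of_pow_eq_one hxn)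
  obtain ⟨i, rfl⟩ : ∃ i, m = i + 1 :=
    Nat.exists_eq_succ_of_ne_zero fun e => hx1 (orderOf_eq_one_iff.1 (by rw [hm, e, pow_zero]))
  have ho : orderOf (x ^ 2 ^ i) = 2 := by
    rw [orderOf_pow' x (by positivity), hm, Nat.gcd_eq_right ⟨2, by ring⟩,
      Nat.div_eq_of_eq_mul_left (by positivity) (by ring : 2 ^ (i + 1) = 2 * 2 ^ i)]
  have hA := hf.invA _ (pow_mem hx _) ho
  refine hp (centre_unique h (hf.memA _ hA (ne_one_of_order_two ho)) ?_ (hf.fixA hA))
  exact mem_stabilizer_iff.1 (pow_mem (mem_stabilizer_iff.2 hxp) _)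

theorem Frame.inj {x y : G} (hx : x ∈ Q) (hy : y ∈ Q) {p : α} (hp : p ≠ c) (hxy : x • p = y • p) : x = y :=
  inv_mul_eq_one.1 (hf.semireg h (mul_mem (inv_mem hx) hy) hp (by rw [mul_smul, ← hxy, inv_smul_smul]))

/-- elements of `A` equal on two points -/
theorem Frame.inf_trivial (hK : KSet α z q g) {v : G} (hv : v ∈ V) (hA : v ∈ A) : v = 1 := by
  by_contra hv1
  obtain ⟨b, hb, hbc⟩ := hf.two_points hK
  exact hbc (centre_unique h (hf.memA v hA hv1) (hf.fixV hv hb) (hf.fixA hA))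

theorem Frame.card_Q (hK : KSet α z q g) : Nat.card Q = g := by
  haveI := h.finite
  obtain ⟨b, hb, hbc⟩ := hf.two_points hK
  have hne : ∀ x : Q, (x : G) • b ∈ F \ {c} := fun x => ⟨hf.mapsQ x.2 hb, fun e => hbc
    (smul_left_cancel (x : G) ((Set.mem_singleton_iff.1 e).trans (hf.fixQ x x.2).symm))⟩
  have hbij : Function.Bijective (fun x : Q => (⟨(x : G) • b, hne x⟩ : (F \ {c} : Set α))) := by
    refine ⟨fun x y e => Subtype.ext (hf.inj h x.2 y.2 hbc (congrArg Subtype.val e)), fun p => ?_⟩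
    obtain ⟨x, ⟨hx, hxb⟩, -⟩ := hf.reg b hb p p.2.1 hbc p.2.2
    exact ⟨⟨x, hx⟩, Subtype.ext hxb⟩
  rw [Nat.card_eq_of_bijective _ hbij, Nat.card_coe_set_eq, Set.ncard_sdiff_singleton_of_mem hf.mem,
    hf.cardF, Nat.add_sub_cancel]

end Basic

/-- a frame moved by an element centralising `V` -/
theorem Frame.map (hf : Frame α z q g V F c A Q) {k : G} (hk : ∀ v ∈ V, Commute k v) :
    Frame α z q g V F (k • c) (A.map (MulAut.conj k).toMonoidHom) (Q.map (MulAut.conj k).toMonoidHom) := by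
  obtain ⟨v₀, hv₀, hv₀1⟩ := hf.exists_ne
  have hF : ∀ {p : α}, k • p ∈ F ↔ p ∈ F := hf.maps_iff hv₀ hv₀1 (hk v₀ hv₀)
  refine ⟨hf.two, hf.comm, hf.card, hf.fix, hF.2 hf.mem, hf.cardF, ?_, ?_, map_mono hf.leQ,
    hf.twoQ.map _, ?_, ?_, ?_, ?_, ?_⟩
  · rintro _ ⟨d, hd, rfl⟩ hd1
    refine (hf.memA d hd fun e => hd1 (by rw [e, map_one])).trans (isConj_iff.2 ⟨k, rfl⟩)
  · rw [Subgroup.card_map_of_injective (MulAut.conj k).injective, hf.cardA]
  · rintro _ ⟨x, hx, rfl⟩
    show (k * x * k⁻¹) • k • c = k • c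
    rw [mul_smul, mul_smul, inv_smul_smul, hf.fixQ x hx]
  · rintro _ ⟨d, hd, rfl⟩ _ ⟨x, hx, rfl⟩
    exact (hf.centQ d hd x hx).map _
  · rintro _ ⟨x, hx, rfl⟩ ho
    exact mem_map_of_mem _ (hf.invA x hx (by
      rwa [← MulEquiv.orderOf_eq (MulAut.conj k) x]))
  · rintro v hv _ ⟨x, hx, rfl⟩
    exact (((hk v hv).symm).mul_right (hf.commV v hv x hx)).mul_right (hk v hv).symm.inv_right
  · intro b hb b' hb' hbc hbc'
    obtain ⟨x, ⟨hx, hxb⟩, hu⟩ := hf.reg (k⁻¹ • b) (hF.1 (by rwa [smul_inv_smul])) (k⁻¹ • b')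
      (hF.1 (by rwa [smul_inv_smul])) (fun e => hbc (by rw [← e, smul_inv_smul]))
      (fun e => hbc' (by rw [← e, smul_inv_smul]))
    refine ⟨k * x * k⁻¹, ⟨⟨x, hx, rfl⟩, by rw [mul_smul, mul_smul, hxb, smul_inv_smul]⟩, ?_⟩
    rintro _ ⟨⟨y, hy, rfl⟩, hyb⟩
    rw [← hu y ⟨hy, smul_left_cancel k (by
      rw [smul_inv_smul]
      rwa [show (MulAut.conj k).toMonoidHom y = k * y * k⁻¹ from rfl, mul_smul, mul_smul] at hyb)⟩]
    rfl

variable [Finite G]

/-- a frame at every point of the line -/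
theorem Frame.exists_at (hf : Frame α z q g V F c A Q) (h : Crit G α z) {b : α} (hb : b ∈ F) :
    ∃ B R : Subgroup G, Frame α z q g V F b B R := by
  by_cases hbc : c = b
  · exact ⟨A, Q, hbc ▸ hf⟩
  have hfix : ∀ p ∈ F, p ∈ fixSet α V := fun p hp v hv => hf.fixV hv hp
  obtain ⟨v, -, hvV, hvc, -⟩ := exists_swap_fix h hf.twoV (hfix c hf.mem) (hfix b hb) hbc
  exact ⟨_, _, hvc ▸ hf.map hvV⟩

section Perp

variable [Finite α] [FaithfulSMul G α] (hK : KSet α z q g) (hf : Frame α z q g V F c A Q)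
  {u e : G} (hu : u ∈ V) (hu1 : u ≠ 1) (he : e ∈ A) (he1 : e ≠ 1)
include hK hf hu hu1 he he1

theorem Frame.perp_order : orderOf (u * e) = 2 := by
  refine order_two_of_mul_self ?_ fun e' => ?_
  · rw [(hf.comm_A hu he).symm.mul_mul_mul_comm, hf.two u hu, hf.sqA hK.crit he, one_mul]
  · have h1 := eq_inv_of_mul_eq_one_left e'
    rw [inv_of_order_two (orderOf_conj hK.crit (hf.memA e he he1))] at h1
    exact hu1 (hf.inf_trivial hK.crit hK hu (h1 ▸ he))

theorem Frame.perp_mem : (u * e) • c = c := by rw [mul_smul, hf.fixA he, hf.fixV hu hf.mem]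

omit hu1 he1 in
theorem Frame.perp_commQ {x : G} (hx : x ∈ Q) : Commute (u * e) x :=
  (hf.commV u hu x hx).mul_left (hf.centQ e he x hx)

theorem Frame.perp_inter {p : α} (hp : (u * e) • p = p) (hpF : p ∈ F) : p = c := by
  by_contra hpc
  rw [mul_smul] at hp
  have h1 : e • p = p := smul_left_cancel u (hp.trans (hf.fixV hu hpF).symm)
  exact he1 (hf.semireg hK.crit (hf.leQ he) hpc h1)

/-- the line of `u e` consists of `c` and one orbit of `Q` -/
theorem Frame.perp_line : (fixedBy α (u * e)).ncard = g + 1 ∧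
    ∀ p ∈ fixedBy α (u * e), ∀ p' ∈ fixedBy α (u * e), p ≠ c → p' ≠ c →
      ∃! x : G, x ∈ Q ∧ x • p = p' := by
  have h := hK.crit
  set L := fixedBy α (u * e)
  obtain ⟨b, hb, hbc⟩ := hf.two_points hK
  obtain ⟨p₁, p₂, hne, hp₁, hp₂⟩ := mul_two_fix h (hf.orderV hu hu1) (hf.fixV hu hf.mem) (hf.fixV hu hb)
    hbc.symm (hf.memA e he he1) (hf.comm_A hu he)
  have hclq : IsClique z (u * e) A := fun d hd =>
    ⟨(hf.comm_A hu hd).mul_left (hf.commA h he hd), fun hd1 => hf.memA d hd hd1⟩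
  have hle : L.ncard ≤ g + 1 := hK.bound _ A p₁ p₂ (hf.perp_order hK hu hu1 he he1) hclq hf.cardA hne hp₁ hp₂
  have key : ∀ p ∈ L, p ≠ c → L = insert c ((fun x : G => x • p) '' (Q : Set G)) ∧ L.ncard = g + 1 := by
    intro p hp hpc
    have hsub : insert c ((fun x : G => x • p) '' (Q : Set G)) ⊆ L := by
      rintro r (rfl | ⟨x, hx, rfl⟩)
      · exact hf.perp_mem hK hu hu1 he he1
      · show (u * e) • x • p = x • p
        rw [smul_smul, (hf.perp_commQ hK hu he hx).eq, mul_smul]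
        exact congrArg (x • ·) hp
    have hcard : (insert c ((fun x : G => x • p) '' (Q : Set G))).ncard = g + 1 := by
      rw [Set.ncard_insert_of_notMem ?_ (Set.toFinite _),
        Set.InjOn.ncard_image fun x hx y hy e' => hf.inj h hx hy hpc e', ← Nat.card_coe_set_eq,
        SetLike.coe_sort_coe, hf.card_Q h hK]
      rintro ⟨x, hx, hxp⟩
      exact hpc (smul_left_cancel x (hxp.trans (hf.fixQ x hx).symm))
    have := Set.eq_of_subset_of_ncard_le hsub (hcard ▸ hle) (Set.toFinite _)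
    exact ⟨this.symm, this ▸ hcard⟩
  obtain ⟨p, hp, hpc⟩ : ∃ p ∈ L, p ≠ c := by
    by_cases e' : p₁ = c
    · exact ⟨p₂, hp₂, fun e'' => hne (e'.trans e''.symm)⟩
    · exact ⟨p₁, hp₁, e'⟩
  refine ⟨(key p hp hpc).2, fun a ha a' ha' hac hac' => ?_⟩
  rw [(key a ha hac).1] at ha'
  obtain ⟨x, hx, hxa⟩ := ha'.resolve_left hac'
  exact ⟨x, ⟨hx, hxa⟩, fun y hy => hf.inj h hy.1 hx hac (hy.2.trans hxa.symm)⟩

theorem Frame.perp_two_points : ∃ p ∈ fixedBy α (u * e), p ≠ c := by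
  obtain ⟨hcard, -⟩ := hf.perp_line hK hu hu1 he he1
  by_contra hno
  push Not at hno
  have h1 := (Set.ncard_le_ncard (fun p hp => hno p hp : fixedBy α (u * e) ⊆ {c})).trans
    (Set.ncard_singleton c).le
  obtain ⟨k, rfl⟩ := hK.gtwo
  have : 0 < 2 ^ k := pow_pos two_pos k
  omega

/-- every element of `V` acts on the line of `u e` like an element of `A` -/
theorem Frame.perp_elem {v : G} (hv : v ∈ V) :
    ∃ x ∈ A, (v ≠ 1 → x ≠ 1) ∧ ∀ p ∈ fixedBy α (u * e), (v * x) • p = p := by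
  have h := hK.crit
  obtain ⟨-, hreg⟩ := hf.perp_line hK hu hu1 he he1
  obtain ⟨p, hp, hpc⟩ := hf.perp_two_points hK hu hu1 he he1
  have hvw : Commute v (u * e) := (hf.comm v hv u hu).mul_right (hf.comm_A hv he)
  have hvp : v • p ∈ fixedBy α (u * e) := by
    show (u * e) • v • p = v • p
    rw [smul_smul, ← hvw.eq, mul_smul]
    exact congrArg (v • ·) hp
  have hvpc : v • p ≠ c := fun e' => hpc (smul_left_cancel v (e'.trans (hf.fixV hv hf.mem).symm))
  obtain ⟨x, ⟨hx, hxp⟩, -⟩ := hreg p hp (v • p) hvp hpc hvpc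
  have hxx : x * x = 1 := hf.semireg h (mul_mem hx hx) hpc (by
    rw [mul_smul, hxp, smul_smul, ← (hf.commV v hv x hx).eq, mul_smul, hxp, smul_smul, hf.two v hv, one_smul])
  have hxA : x ∈ A := by
    rcases eq_or_ne x 1 with rfl | hx1
    · exact one_mem A
    · exact hf.invA x hx (order_two_of_mul_self hxx hx1)
  have hfix : ∀ r ∈ fixedBy α (u * e), (v * x) • r = r := by
    intro r hr
    rcases eq_or_ne r c with rfl | hrc
    · rw [mul_smul, hf.fixQ x hx, hf.fixV hv hf.mem]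
    obtain ⟨y, ⟨hy, hyp⟩, -⟩ := hreg p hp r hr hpc hrc
    subst hyp
    have hc : Commute (v * x) y := (hf.commV v hv y hy).mul_left (hf.centQ x hxA y hy)
    rw [smul_smul, hc.eq, mul_smul, mul_smul, hxp, smul_smul v v, hf.two v hv, one_smul]
  refine ⟨x, hxA, fun hv1 hx1 => ?_, hfix⟩
  subst hx1
  refine hpc (hf.perp_inter hK hu hu1 he he1 hp ((hf.fix v hv hv1 p).1 ?_))
  have := hfix p hp
  rwa [mul_one] at this

theorem Frame.perp_mem_group : u * e ∈ perpGroup V A (fixedBy α (u * e)) :=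
  mem_perpGroup.2 ⟨mul_mem_sup hu he, fun _ hp => hp⟩

/-- THE PERPENDICULAR LINE of `u e` is a frame again -/
theorem Frame.perp :
    Frame α z q g (perpGroup V A (fixedBy α (u * e))) (fixedBy α (u * e)) c A Q := by
  have h := hK.crit
  set L := fixedBy α (u * e) with hL
  obtain ⟨hcard, hreg⟩ := hf.perp_line hK hu hu1 he he1
  obtain ⟨p, hp, hpc⟩ := hf.perp_two_points hK hu hu1 he he1
  choose θ hθA hθ1 hθfix using fun v : V => hf.perp_elem hK hu hu1 he he1 v.2
  have hmem : ∀ k ∈ perpGroup V A L, ∃ v : V, k = (v : G) * θ v := by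
    intro k hk
    obtain ⟨hk, hkfix⟩ := mem_perpGroup.1 hk
    obtain ⟨v, hv, x, hx, rfl⟩ := hf.mem_sup hk
    refine ⟨⟨v, hv⟩, congrArg (v * ·) (hf.inj h (hf.leQ hx) (hf.leQ (hθA ⟨v, hv⟩)) hpc ?_)⟩
    refine smul_left_cancel v ?_
    rw [smul_smul, smul_smul, hkfix p hp, hθfix ⟨v, hv⟩ p hp]
  have hin : ∀ v : V, (v : G) * θ v ∈ perpGroup V A L := fun v =>
    mem_perpGroup.2 ⟨mul_mem_sup v.2 (hθA v), hθfix v⟩
  have hinj : ∀ v w : V, (v : G) * θ v = w * θ w → v = w := fun v w e' => by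
    have h1 : (w : G)⁻¹ * v = θ w * (θ v)⁻¹ := by
      rw [eq_mul_inv_iff_mul_eq, mul_assoc, e', inv_mul_cancel_left]
    exact Subtype.ext (inv_mul_eq_one.1 (hf.inf_trivial h hK (mul_mem (inv_mem w.2) v.2)
      (h1 ▸ mul_mem (hθA w) (inv_mem (hθA v))))).symm
  refine ⟨?_, ?_, ?_, ?_, hf.perp_mem hK hu hu1 he he1, hcard, hf.memA, hf.cardA, hf.leQ, hf.twoQ, hf.fixQ,
    hf.centQ, hf.invA, ?_, hreg⟩
  · intro k hk
    obtain ⟨v, rfl⟩ := hmem k hk
    rw [(hf.comm_A v.2 (hθA v)).symm.mul_mul_mul_comm, hf.two _ v.2, hf.sqA h (hθA v), one_mul]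
  · intro k hk k' hk'
    obtain ⟨v, rfl⟩ := hmem k hk
    obtain ⟨w, rfl⟩ := hmem k' hk'
    exact ((hf.comm _ v.2 _ w.2).mul_right (hf.comm_A v.2 (hθA w))).mul_left
      ((hf.comm_A w.2 (hθA v)).symm.mul_right (hf.commA h (hθA v) (hθA w)))
  · rw [← hf.card]
    refine (Nat.card_eq_of_bijective (fun v : V => (⟨_, hin v⟩ : perpGroup V A L))
      ⟨fun v w e' => hinj v w (congrArg Subtype.val e'), fun k => ?_⟩).symm
    obtain ⟨v, hv⟩ := hmem k k.2
    exact ⟨v, Subtype.ext hv.symm⟩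
  · intro k hk hk1 r
    refine ⟨fun hr => ?_, fun hr => (mem_perpGroup.1 hk).2 r hr⟩
    obtain ⟨v, rfl⟩ := hmem k hk
    have hv1 : (v : G) ≠ 1 := fun e' => by
      refine hk1 ?_
      rw [e', one_mul]
      refine hf.semireg h (hf.leQ (hθA v)) hpc ?_
      have := hθfix v p hp
      rwa [e', one_mul] at this
    have hsub : L ⊆ fixedBy α ((v : G) * θ v) := fun r hr => hθfix v r hr
    have hle := hK.bound _ A c p (order_two_of_mul_self (by
        rw [(hf.comm_A v.2 (hθA v)).symm.mul_mul_mul_comm, hf.two _ v.2, hf.sqA h (hθA v), one_mul]) hk1)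
      (fun d hd => ⟨(hf.comm_A v.2 hd).mul_left (hf.commA h (hθA v) hd), fun hd1 => hf.memA d hd hd1⟩)
      hf.cardA hpc.symm (hsub (hf.perp_mem hK hu hu1 he he1)) (hsub hp)
    have heq := Set.eq_of_subset_of_ncard_le hsub (hcard ▸ hle) (Set.toFinite _)
    exact heq.symm ▸ hr
  · intro k hk x hx
    obtain ⟨v, rfl⟩ := hmem k hk
    exact (hf.commV _ v.2 x hx).mul_left (hf.centQ _ (hθA v) x hx)

end Perp

section Members

variable [Finite α] [FaithfulSMul G α] (hK : KSet α z q g)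
include hK

/-- elements of `A` equal on `F` -/
theorem Frame.eq_of_action (hf : Frame α z q g V F c A Q) {d d' : G} (hd : d ∈ A) (hd' : d' ∈ A)
    (hact : ∀ p ∈ F, d • p = d' • p) : d = d' := by
  obtain ⟨b, hb, hbc⟩ := hf.two_points hK
  exact hf.inj hK.crit (hf.leQ hd) (hf.leQ hd') hbc (hact b hb)

/-- a member at `c` centralising `u` has a product with `u` fixing the same points as some `u e` -/
theorem Frame.member_perp (hf : Frame α z q g V F c A Q) {u : G} (hu : u ∈ V) (hu1 : u ≠ 1) {v : G}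
    (hv : v ∈ membersAt z u c) :
    ∃ e ∈ A, e ≠ 1 ∧ (∀ p ∈ F, v • p = e • p) ∧ fixedBy α (u * v) = fixedBy α (u * e) := by
  have h := hK.crit
  obtain ⟨b, hb, hbc⟩ := hf.two_points hK
  have hu2 := hf.orderV hu hu1
  have huc := hf.fixV hu hf.mem
  have hub := hf.fixV hu hb
  obtain ⟨e, he, he1, hact⟩ :=
    hK.acts u A c b hu2 (hf.clique hu) hf.cardA (fun d hd => hf.fixA hd) huc hub hbc.symm v hv
  refine ⟨e, he, he1, fun p hp => hact p (hf.fixV hu hp), ?_⟩
  set L := fixedBy α (u * e) with hL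
  have hP := hf.perp hK hu hu1 he he1
  have hwV := hf.perp_mem_group hK hu hu1 he he1
  have hw1 : u * e ≠ 1 := ne_one_of_order_two (hf.perp_order hK hu hu1 he he1)
  obtain ⟨w, hw, hw1', hwne⟩ := hP.exists_second (u * e)
  obtain ⟨r, hr, hrc⟩ := hP.two_points hK
  have hprod : u * e * w ≠ 1 := fun e' => hwne (by
    rw [← inv_eq_of_mul_eq_one_right e', inv_eq_of_mul_eq_one_right (hP.two _ hwV)])
  have hpres := preserves_of_four h (hP.orderV hwV hw1) (hP.orderV hw hw1') hwne.symm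
    (hP.comm _ hwV _ hw) hrc.symm (hP.fixV hwV hP.mem) (hP.fixV hwV hr)
    (fun p => (hP.fix w hw hw1' p).trans (hP.fix _ hwV hw1 p).symm)
    (fun p => (hP.fix _ (mul_mem hwV hw) hprod p).trans (hP.fix _ hwV hw1 p).symm) hv.1
  have hvw : ∀ p ∈ L, v • p ∈ L := fun p hp => (hpres hv.2.2 p).2 hp
  have hve : e • c = c := hf.fixA he
  have hodd : Odd (orderOf (v * e)) :=
    odd_of_same_action h hbc.symm huc hub hv.1 (hf.memA e he he1) hact
  have hue : ∀ p ∈ L, e • p = u • p := fun p hp => by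
    have h1 : (u * e) • p = p := hp
    rw [mul_smul] at h1
    conv_rhs => rw [← h1]
    rw [smul_smul u u, hf.two u hu, one_smul]
  have heL : ∀ p ∈ L, e • p ∈ L := fun p hp => by
    show (u * e) • e • p = e • p
    rw [smul_smul, mul_assoc, hf.sqA h he, mul_one, ← hue p hp]
  have hswap : ∀ p ∈ L, v • e • p = e • v • p := fun p hp => by
    rw [hue p hp, hue _ (hvw p hp), smul_smul, ← hv.2.1.eq, mul_smul]
  have hfixL : ∀ p ∈ L, (u * v) • p = p := by
    intro p hp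
    have h2 : ((v * e) ^ 2) • p = p := by
      rw [pow_two, mul_smul, mul_smul, mul_smul, hswap p hp, smul_smul e e, hf.sqA h he, one_smul,
        smul_smul_self h hv.1]
    obtain ⟨i, hi⟩ := hodd
    have h4 : ((v * e) ^ orderOf (v * e)) • p = p := by rw [pow_orderOf_eq_one, one_smul]
    rw [hi, pow_succ', pow_mul, mul_smul,
      mem_stabilizer_iff.1 (pow_mem (mem_stabilizer_iff.2 h2) i), mul_smul] at h4
    have h5 : v • p = e • p := by
      conv_lhs => rw [← h4]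
      exact smul_smul_self h hv.1 _
    rw [mul_smul, h5, hue p hp, smul_smul u u, hf.two u hu, one_smul]
  have hsub : L ⊆ fixedBy α (u * v) := fun p hp => hfixL p hp
  refine (Set.eq_of_subset_of_ncard_le hsub ?_ (Set.toFinite _)).symm
  obtain ⟨k, -, -, hk⟩ := partner_conj h hu2 huc hub hbc.symm hv.1 (hf.memA e he he1) hv.2.1 (hf.comm_A hu he)
  rw [← Nat.card_coe_set_eq, ← Nat.card_coe_set_eq, hL, ← hk, card_fixedBy_conj]

omit hK in
/-- a point off `F` lies on the line of the product with a member centralising `u` -/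
theorem exists_foot (h : Crit G α z) {u : G} (hu : orderOf u = 2) {x : α} (hx : u • x ≠ x) :
    ∃ (v : G) (p : α), IsConj z v ∧ Commute u v ∧ v • p = p ∧ u • p = p ∧ (u * v) • x = x := by
  obtain ⟨d, hd, hdx, -⟩ := h.central x ⊥ IsPGroup.of_bot fun k hk => by rw [mem_bot.1 hk, one_smul]
  obtain ⟨v, hv, huv, hvx, -⟩ := exists_swap_commute h hu hd hdx hx
  obtain ⟨p, hp, -⟩ := h.uniq v hv
  exact ⟨v, p, hv, huv, hp, smul_centre h hv huv hp, (mul_fix_of_swap h hu huv hvx).1⟩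

/-- THE ACTION on the line is faithful -/
theorem Frame.faithful (hf : Frame α z q g V F c A Q) {u : G} (hu : u ∈ V) (hu1 : u ≠ 1) {k : G}
    (hk : k ∈ localGen z u) (hkF : ∀ p ∈ F, k • p = p) : k = 1 := by
  classical
  have h := hK.crit
  obtain ⟨b, hb, hbc⟩ := hf.two_points hK
  have hu2 := hf.orderV hu hu1
  set K := localGen z u ⊓ fixingSubgroup G F with hKdef
  have hKmem : ∀ {k : G}, k ∈ K ↔ k ∈ localGen z u ∧ ∀ p ∈ F, k • p = p := by
    intro k; rw [hKdef, mem_inf, mem_fixingSubgroup_iff]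
  have hodd : Odd (Nat.card K) := by
    rw [← Nat.not_even_iff_odd, even_iff_two_dvd]
    intro h2
    haveI : Fact (Nat.Prime 2) := ⟨Nat.prime_two⟩
    obtain ⟨⟨t, ht⟩, ht2⟩ := exists_prime_orderOf_dvd_card' 2 h2
    rw [Subgroup.orderOf_mk] at ht2
    obtain ⟨htl, htF⟩ := hKmem.1 ht
    exact hbc (centre_unique h (hK.invol u A c b hu2 (hf.clique hu) hf.cardA (hf.fixV hu hf.mem)
      (hf.fixV hu hb) hbc.symm t htl ht2 (htF c hf.mem)) (htF b hb) (htF c hf.mem))
  suffices hall : ∀ x : α, k • x = x from eq_of_smul_eq_smul fun x : α => by rw [hall, one_smul]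
  intro x
  by_cases hxF : x ∈ F
  · exact hkF x hxF
  obtain ⟨v, c', hv, huv, hvc, huc', hvx⟩ := exists_foot h hu2 fun e => hxF ((hf.fix u hu hu1 x).1 e)
  obtain ⟨B, R, hf'⟩ := hf.exists_at h ((hf.fix u hu hu1 c').1 huc')
  obtain ⟨e, he, he1, -, hfe⟩ := hf'.member_perp hK hu hu1 (v := v) ⟨hv, huv, hvc⟩
  set L := fixedBy α (u * e)
  have hxL : x ∈ L := hfe ▸ (hvx : x ∈ fixedBy α (u * v))
  have hP := hf'.perp hK hu hu1 he he1
  rcases eq_or_ne x c' with rfl | hxc
  · exact absurd hf'.mem hxF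
  -- the kernel preserves the line of `u e`
  have hKc : ∀ k ∈ K, k • c' = c' := fun k hk => (hKmem.1 hk).2 c' hf'.mem
  have hKL : ∀ k ∈ K, ∀ p ∈ L, k • p ∈ L := by
    intro k hk p hp
    obtain ⟨hkl, hkF'⟩ := hKmem.1 hk
    have hku : Commute k u := commute_of_mem hkl
    have hd : k * e * k⁻¹ ∈ membersAt z u c' := ⟨(hf'.memA e he he1).trans (isConj_iff.2 ⟨k, rfl⟩),
      (hku.symm.mul_right (hf'.comm_A hu he)).mul_right hku.symm.inv_right, by
        rw [mul_smul, mul_smul, inv_smul_eq_iff.2 (hKc k hk).symm, hf'.fixA he, hKc k hk]⟩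
    obtain ⟨e', he', -, hact, hfe'⟩ := hf'.member_perp hK hu hu1 hd
    have hee : e = e' := hf'.eq_of_action hK he he' fun r hr => by
      rw [← hact r hr, mul_smul, mul_smul]
      have hk' : k⁻¹ • r = r := inv_smul_eq_iff.2 (hkF' r hr).symm
      have her : e • r ∈ F := hf'.mapsQ (hf'.leQ he) hr
      rw [hk', hkF' _ her]
    subst hee
    show (u * e) • k • p = k • p
    have h1 : (u * (k * e * k⁻¹)) • k • p = k • p := by
      rw [show u * (k * e * k⁻¹) = k * (u * e) * k⁻¹ by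
        rw [← mul_assoc, ← mul_assoc, ← hku.eq]; group, mul_smul, mul_smul, inv_smul_smul]
      exact congrArg (k • ·) hp
    exact (Set.ext_iff.1 hfe' (k • p)).1 h1
  -- its orbit on the line is the image of a subgroup of `Q`
  obtain ⟨-, hreg⟩ := hf'.perp_line hK hu hu1 he he1
  have hRK : ∀ y ∈ R, ∀ k ∈ K, y * k * y⁻¹ ∈ K := by
    intro y hy k hk
    have hyu : Commute y u := (hf'.commV u hu y hy).symm
    refine hKmem.2 ⟨conj_mem_localGen hyu (hKmem.1 hk).1, fun p hp => ?_⟩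
    rw [mul_smul, mul_smul, (hKmem.1 hk).2 _ (hf'.maps hu hu1 hyu.inv_left hp), smul_inv_smul]
  let S : Subgroup G :=
    { carrier := {y | y ∈ R ∧ ∃ k ∈ K, y • x = k • x}
      one_mem' := ⟨one_mem R, 1, one_mem K, rfl⟩
      mul_mem' := by
        rintro y y' ⟨hy, k, hk, hyk⟩ ⟨hy', k', hk', hyk'⟩
        refine ⟨mul_mem hy hy', y * k' * y⁻¹ * k, mul_mem (hRK y hy k' hk') hk, ?_⟩
        rw [mul_smul, hyk', mul_smul, ← hyk, mul_smul, mul_smul, inv_smul_smul]
      inv_mem' := by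
        rintro y ⟨hy, k, hk, hyk⟩
        refine ⟨inv_mem hy, y⁻¹ * k⁻¹ * y⁻¹⁻¹, hRK _ (inv_mem hy) _ (inv_mem hk), ?_⟩
        rw [inv_inv, mul_smul, mul_smul, hyk, inv_smul_smul] }
  have hbij : Function.Bijective (fun y : S => (⟨(y : G) • x, by
      obtain ⟨-, k, hk, hyk⟩ := y.2
      exact ⟨⟨k, hk⟩, hyk.symm⟩⟩ : orbit K x)) := by
    refine ⟨fun y y' e' => Subtype.ext (hf'.inj h y.2.1 y'.2.1 hxc (congrArg Subtype.val e')), ?_⟩
    rintro ⟨_, ⟨k, rfl⟩⟩
    obtain ⟨y, ⟨hy, hyx⟩, -⟩ := hreg x hxL ((k : G) • x) (hKL k k.2 x hxL) hxc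
      fun e' => hxc (smul_left_cancel (k : G) (e'.trans (hKc k k.2).symm))
    exact ⟨⟨y, hy, k, k.2, hyx⟩, Subtype.ext hyx⟩
  have hSp : IsPGroup 2 S := hf'.twoQ.to_le fun y hy => hy.1
  haveI : Fact (Nat.Prime 2) := ⟨Nat.prime_two⟩
  obtain ⟨m, hm⟩ := hSp.exists_card_eq
  have hdvd : Nat.card (orbit K x) ∣ Nat.card K := by
    rw [Nat.card_coe_set_eq, ← index_stabilizer]
    exact index_dvd_card _
  rw [← Nat.card_eq_of_bijective _ hbij, hm] at hdvd
  have hm0 : m = 0 := by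
    by_contra hm0
    exact Nat.not_even_iff_odd.2 (hodd.of_dvd_nat hdvd) (Nat.even_pow.2 ⟨even_two, hm0⟩)
  have hS1 : S = ⊥ := Subgroup.eq_bot_of_card_eq S (by rw [hm, hm0, pow_zero])
  obtain ⟨⟨y, hy⟩, hyk⟩ := hbij.2 ⟨k • x, ⟨⟨k, hKmem.2 ⟨hk, hkF⟩⟩, rfl⟩⟩
  obtain rfl : y = 1 := mem_bot.1 (hS1 ▸ hy)
  have h1 : (1 : G) • x = k • x := congrArg Subtype.val hyk
  rw [one_smul] at h1
  exact h1.symm

/-- the members at `c` centralising `u` are the elements of the clique -/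
theorem Frame.membersAt_mem (hf : Frame α z q g V F c A Q) {u : G} (hu : u ∈ V) (hu1 : u ≠ 1) {v : G}
    (hv : v ∈ membersAt z u c) : v ∈ A := by
  obtain ⟨e, he, he1, hact, -⟩ := hf.member_perp hK hu hu1 hv
  have hvl : v ∈ localGen z u := mem_localGen_of hv.1 hv.2.1.symm
  have hel : e ∈ localGen z u := mem_localGen_of (hf.memA e he he1) (hf.comm_A hu he).symm
  have h1 := hf.faithful hK hu hu1 (mul_mem hvl hel) fun p hp => by
    rw [mul_smul, hact _ (hf.mapsQ (hf.leQ he) hp), smul_smul, hf.sqA hK.crit he, one_smul]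
  rw [eq_inv_of_mul_eq_one_left h1, inv_eq_of_mul_eq_one_right (hf.sqA hK.crit he)]
  exact he

/-- ALL members at `c` are in the clique -/
theorem Frame.members (hf : Frame α z q g V F c A Q) {d : G} (hd : IsConj z d) (hdc : d • c = c) :
    d ∈ A := by
  have h := hK.crit
  obtain ⟨b, hb, hbc⟩ := hf.two_points hK
  obtain ⟨d₀, hd₀, hd₀1⟩ : ∃ d₀ ∈ A, d₀ ≠ 1 := A.bot_or_exists_ne_one.resolve_left fun e => by
    have h4 := hf.cardA
    rw [e, Subgroup.card_bot] at h4
    have := hK.four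
    omega
  obtain ⟨r, hr, hrd⟩ := exists_conj_member h hbc.symm (hf.memA d₀ hd₀ hd₀1) hd (hf.fixA hd₀) hdc
  set R := pairOdd G c b
  have hVcb : V ≤ stabilizer G c ⊓ stabilizer G b := fun v hv =>
    mem_inf.2 ⟨hf.fixV hv hf.mem, hf.fixV hv hb⟩
  haveI : IsMulCommutative V := ⟨⟨fun v w => Subtype.ext (hf.comm v v.2 w w.2)⟩⟩
  have hcop : (Nat.card V).Coprime (Nat.card R) := by
    rw [hf.card, show 4 = 2 ^ 2 by norm_num]
    exact (Nat.coprime_two_left.2 (odd_card_pairOdd c b)).pow_left 2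
  have hRN : R ≤ normalizer (A : Set G) := by
    refine (Cfsg.Lib.Coprime.centralizerJoin_eq (K := R) hf.not_cyclic
      (hVcb.trans (stabilizer_inf_le_normalizer c b)) hcop).ge.trans ?_
    refine iSup₂_le fun v hv k hk => ?_
    obtain ⟨hvV, hv1⟩ := hv
    obtain ⟨hkR, hkv⟩ := mem_inf.1 hk
    have hkv' : Commute k v := mem_centralizer_singleton_iff.1 hkv
    refine Cfsg.Lib.ZStarApps.mem_normalizer_of_maps ?_
    intro a ha
    rcases eq_or_ne a 1 with rfl | ha1
    · rw [mul_one, mul_inv_cancel]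
      exact one_mem A
    have hkc : k • c = c := (mem_inf.1 (pairOdd_le c b hkR)).1
    refine hf.membersAt_mem hK hvV hv1 ⟨(hf.memA a ha ha1).trans (isConj_iff.2 ⟨k, rfl⟩),
      (hkv'.symm.mul_right (hf.comm_A hvV ha)).mul_right hkv'.symm.inv_right, ?_⟩
    rw [mul_smul, mul_smul, inv_smul_eq_iff.2 hkc.symm, hf.fixA ha, hkc]
  rw [← hrd]
  exact (mem_normalizer_iff.1 (hRN hr) d₀).1 hd₀

end Members

end Cfsg.Lib.BenderSE.Crit2.Ker
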