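/-
Aschbacher's criterion, lines with a four group: an odd set of points invariant under the four groups of two
perpendiculars at different points meets the line, so feet are unique and a perpendicular of a perpendicular
avoids the line (notes/s1175_h3_kernel.md, 3).
-/
import Cfsg.Agent.BenderSE.Criterion2.KernelFrame

set_option autoImplicit false
set_option linter.unusedSectionVars false
set_option linter.style.haveILetI false

namespace Cfsg.Lib.BenderSE.Crit2.Ker

open Subgroup MulAction Cfsg.Lib.InvolCalc Cfsg.Lib.StrongEmb Cfsg.Lib.BenderSE.CritDep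

universe u

variable {G α : Type u} [Group G] [MulAction G α]

/-- `W` is the four group of a perpendicular -/
structure Perp (V A W : Subgroup G) : Prop where
  le : W ≤ V ⊔ A
  surj : ∀ v ∈ V, ∃ x ∈ A, v * x ∈ W
  disjA : ∀ w ∈ W, w ∈ A → w = 1
  disjV : ∀ w ∈ W, w ∈ V → w = 1

variable [Finite G] [Finite α] [FaithfulSMul G α] {z : G} {q g : ℕ} {V : Subgroup G} {F : Set α} {c : α}
  {A Q : Subgroup G}

theorem Frame.exists_memA (hK : KSet α z q g) (hf : Frame α z q g V F c A Q) :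
    ∃ d ∈ A, d ≠ 1 ∧ IsConj z d ∧ d • c = c := by
  obtain ⟨d, hd, hd1⟩ : ∃ d ∈ A, d ≠ 1 := A.bot_or_exists_ne_one.resolve_left fun e => by
    have h4 := hf.cardA
    rw [e, Subgroup.card_bot] at h4
    have := hK.four
    omega
  exact ⟨d, hd, hd1, hf.memA d hd hd1, hf.fixA hd⟩

/-- the four group of the line of `u e`, and `V` as the four group of a perpendicular of that line -/
theorem Frame.perp_isPerp (hK : KSet α z q g) (hf : Frame α z q g V F c A Q) {u e : G} (hu : u ∈ V)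
    (hu1 : u ≠ 1) (he : e ∈ A) (he1 : e ≠ 1) :
    Perp V A (perpGroup V A (fixedBy α (u * e))) ∧ Perp (perpGroup V A (fixedBy α (u * e))) A V := by
  have h := hK.crit
  have hP := hf.perp hK hu hu1 he he1
  set L := fixedBy α (u * e)
  set W := perpGroup V A L
  have hsurj : ∀ v ∈ V, ∃ x ∈ A, (v ≠ 1 → x ≠ 1) ∧ v * x ∈ W := fun v hv => by
    obtain ⟨x, hx, hx1, hfix⟩ := hf.perp_elem hK hu hu1 he he1 hv
    exact ⟨x, hx, hx1, mem_perpGroup.2 ⟨mul_mem_sup hv hx, hfix⟩⟩
  have hdA : ∀ w ∈ W, w ∈ A → w = 1 := fun w hw hwA => hP.inf_trivial h hK hw hwA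
  have hdV : ∀ w ∈ W, w ∈ V → w = 1 := fun w hw hwV => by
    by_contra hw1
    obtain ⟨p, hp, hpc⟩ := hf.perp_two_points hK hu hu1 he he1
    exact hpc (hf.perp_inter hK hu hu1 he he1 hp ((hf.fix w hwV hw1 p).1 ((mem_perpGroup.1 hw).2 p hp)))
  refine ⟨⟨inf_le_left, fun v hv => ?_, hdA, hdV⟩, ⟨fun v hv => ?_, fun w hw => ?_, fun v hv hvA =>
    hf.inf_trivial h hK hv hvA, fun v hv hvW => hdV v hvW hv⟩⟩
  · obtain ⟨x, hx, -, hxW⟩ := hsurj v hv
    exact ⟨x, hx, hxW⟩
  · obtain ⟨x, hx, -, hxW⟩ := hsurj v hv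
    have := mul_mem_sup hxW (inv_mem hx) (S := W) (T := A)
    rwa [mul_inv_cancel_right] at this
  · obtain ⟨v, hv, x, hx, rfl⟩ := hf.mem_sup (mem_perpGroup.1 hw).1
    exact ⟨x⁻¹, inv_mem hx, by rwa [mul_inv_cancel_right]⟩

/-- LEMMA Q: an odd set invariant under two perpendicular four groups at different points meets the line -/
theorem meet_of_invariant (hK : KSet α z q g) (hf : Frame α z q g V F c A Q) {c' : α} {A' Q' : Subgroup G}
    (hf' : Frame α z q g V F c' A' Q') (hne : c ≠ c') {W W' : Subgroup G} (hW : Perp V A W)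
    (hW' : Perp V A' W') {P : Set α} (hP : Odd P.ncard) (hPW : ∀ k ∈ W, ∀ p ∈ P, k • p ∈ P)
    (hPW' : ∀ k ∈ W', ∀ p ∈ P, k • p ∈ P) : ∃ p ∈ P, p ∈ F := by
  classical
  have h := hK.crit
  haveI : Fact (Nat.Prime 2) := ⟨Nat.prime_two⟩
  obtain ⟨u, hu, hu1⟩ := hf.exists_ne
  obtain ⟨b, hb, hbc⟩ := hf.two_points hK
  have hu2 := hf.orderV hu hu1
  -- the group of the two four groups
  set Z := W ⊔ W' with hZdef
  have hZP : ∀ k ∈ Z, ∀ p ∈ P, k • p ∈ P := by
    intro k hk
    rw [hZdef, sup_eq_closure] at hk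
    induction hk using Subgroup.closure_induction with
    | mem k hk =>
      rcases hk with hk | hk
      · exact hPW k hk
      · exact hPW' k hk
    | one => intro p hp; rwa [one_smul]
    | mul k k' _ _ ih ih' => intro p hp; rw [mul_smul]; exact ih _ (ih' p hp)
    | inv k _ ih =>
      intro p hp
      have hsurj : Function.Surjective (fun x : P => (⟨k • (x : α), ih x x.2⟩ : P)) :=
        Finite.injective_iff_surjective.1 fun x y e => Subtype.ext (smul_left_cancel k (congrArg Subtype.val e))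
      obtain ⟨x, hx⟩ := hsurj ⟨p, hp⟩
      rw [← show k • (x : α) = p from congrArg Subtype.val hx, inv_smul_smul]
      exact x.2
  have hVZ : V ≤ normalizer (Z : Set G) := fun v hv => by
    refine centralizer_le_normalizer _ (mem_centralizer_iff.2 fun k hk => ?_)
    have hle : Z ≤ centralizer ({v} : Set G) := by
      refine sup_le (hW.le.trans ?_) (hW'.le.trans ?_)
      · exact sup_le (fun w hw => mem_centralizer_singleton_iff.2 (hf.comm w hw v hv).eq)
          fun x hx => mem_centralizer_singleton_iff.2 (hf.comm_A hv hx).symm.eq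
      · exact sup_le (fun w hw => mem_centralizer_singleton_iff.2 (hf.comm w hw v hv).eq)
          fun x hx => mem_centralizer_singleton_iff.2 (hf'.comm_A hv hx).symm.eq
    exact mem_centralizer_singleton_iff.1 (hle hk)
  -- the part of the clique moving with `W`
  set D := A ⊓ (V ⊔ W) with hDdef
  have hDZ : D ≤ normalizer (Z : Set G) :=
    inf_le_right.trans (sup_le hVZ (le_sup_left.trans le_normalizer))
  set Y := localGen z u
  have hAY : ∀ {p : α} {B R : Subgroup G}, Frame α z q g V F p B R → B ≤ Y := fun {p B R} hB x hx => by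
    rcases eq_or_ne x 1 with rfl | hx1
    · exact one_mem _
    · exact mem_localGen_of (hB.memA x hx hx1) (hB.comm_A hu hx).symm
  set N := Z ⊓ Y with hN
  have hDN : D ≤ normalizer (N : Set G) := by
    intro x hx
    have hxY : x ∈ normalizer (Y : Set G) := le_normalizer (hAY hf (mem_inf.1 hx).1)
    refine mem_normalizer_iff.2 fun k => ?_
    rw [hN, mem_inf, mem_inf, mem_normalizer_iff.1 (hDZ hx) k, mem_normalizer_iff.1 hxY k]
  have hFY : ∀ k ∈ Y, ∀ p ∈ F, k • p ∈ F := fun k hk p hp => hf.maps hu hu1 (commute_of_mem hk) hp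
  by_cases heven : Even (Nat.card N)
  · -- a member centred in `P ∩ F`
    obtain ⟨⟨t, ht⟩, ht2⟩ := exists_prime_orderOf_dvd_card' 2 (even_iff_two_dvd.1 heven)
    rw [Subgroup.orderOf_mk] at ht2
    obtain ⟨htZ, htY⟩ := mem_inf.1 ht
    have htp := isPGroup_zpowers_of_two ht2
    have hg2 : ¬ 2 ∣ F.ncard := by
      rw [hf.cardF]
      intro hdvd
      obtain ⟨k, hk⟩ := hK.gtwo
      rcases k with _ | k
      · have h1 := hf.card_Q h hK
        have h2 := hf.cardA
        have h3 := Subgroup.card_le_of_le hf.leQ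
        have := hK.four
        rw [hk, pow_zero] at h1
        omega
      · rw [hk, pow_succ] at hdvd
        omega
    obtain ⟨p, hp, htp'⟩ := exists_fixed_point Nat.prime_two htp (Set.toFinite F) hg2 fun x hx => hFY t htY x hx
    obtain ⟨x, hx, htx⟩ := exists_fixed_point Nat.prime_two htp (Set.toFinite P)
      (fun hdvd => Nat.not_even_iff_odd.2 hP (even_iff_two_dvd.2 hdvd)) fun x hx => hZP t htZ x hx
    obtain ⟨B, R, hB⟩ := hf.exists_at h hp
    obtain ⟨b', hb', hbp⟩ := hB.two_points hK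
    have htD := hK.invol u B p b' hu2 (hB.clique hu) hB.cardA (hf.fixV hu hp) (hf.fixV hu hb') hbp.symm t htY
      ht2 htp'
    exact ⟨x, hx, centre_unique h htD htp' htx ▸ hp⟩
  exfalso
  rw [Nat.not_even_iff_odd] at heven
  -- the clique fixes the odd part, so `c' = c`
  choose θ hθA hθW using fun v : V => hW.surj v v.2
  choose φ hφA hφW using fun v : V => hW'.surj v v.2
  have hθ1 : ∀ v : V, (v : G) ≠ 1 → θ v ≠ 1 := fun v hv1 e =>
    hv1 (hW.disjV _ (by simpa [e] using hθW v) v.2)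
  have hθD : ∀ v : V, θ v ∈ D := fun v => mem_inf.2 ⟨hθA v, by
    have := mul_mem_sup (S := V) (T := W) (inv_mem v.2) (hθW v)
    rwa [inv_mul_cancel_left] at this⟩
  obtain ⟨w, hw, hw1, hwu⟩ := hf.exists_second u
  have hθne : θ ⟨u, hu⟩ ≠ θ ⟨w, hw⟩ := fun e => by
    have h1 := mul_mem (inv_mem (hθW ⟨u, hu⟩)) (hθW ⟨w, hw⟩)
    have h2 : (u * θ ⟨u, hu⟩)⁻¹ * (w * θ ⟨w, hw⟩) = u⁻¹ * w := by
      rw [e, mul_inv_rev]
      calc (θ ⟨w, hw⟩)⁻¹ * u⁻¹ * (w * θ ⟨w, hw⟩) = (θ ⟨w, hw⟩)⁻¹ * (u⁻¹ * w * θ ⟨w, hw⟩) := by group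
        _ = (θ ⟨w, hw⟩)⁻¹ * (θ ⟨w, hw⟩ * (u⁻¹ * w)) := by
          rw [((hf.comm_A (mul_mem (inv_mem hu) hw) (hθA ⟨w, hw⟩))).eq]
        _ = u⁻¹ * w := by group
    change (u * θ ⟨u, hu⟩)⁻¹ * (w * θ ⟨w, hw⟩) ∈ W at h1
    rw [h2] at h1
    exact hwu (inv_mul_eq_one.1 (hW.disjV _ h1 (mul_mem (inv_mem hu) hw))).symm
  have hD2 : ∀ x ∈ D, x * x = 1 := fun x hx => hf.sqA h (mem_inf.1 hx).1
  have hDcyc : ¬ IsCyclic D := not_cyclic_of_two hD2 (hθD _) (hθD _) (hθ1 ⟨u, hu⟩ hu1) (hθ1 ⟨w, hw⟩ hw1) hθne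
  haveI : IsMulCommutative D :=
    ⟨⟨fun x y => Subtype.ext (hf.commA h (mem_inf.1 x.2).1 (mem_inf.1 y.2).1)⟩⟩
  have hcop : (Nat.card D).Coprime (Nat.card N) := by
    obtain ⟨m, hm⟩ := (hf.twoQ.to_le (inf_le_left.trans hf.leQ : D ≤ Q)).exists_card_eq
    rw [hm]
    exact (Nat.coprime_two_left.2 heven).pow_left m
  have hNc : ∀ k ∈ N, k • c = c := by
    suffices hle : N ≤ stabilizer G c from fun k hk => mem_stabilizer_iff.1 (hle hk)
    refine (Cfsg.Lib.Coprime.centralizerJoin_eq (K := N) hDcyc hDN hcop).ge.trans ?_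
    refine iSup₂_le fun x hx k hk => ?_
    obtain ⟨hxD, hx1⟩ := hx
    exact mem_stabilizer_iff.2 (smul_centre h (hf.memA x (mem_inf.1 hxD).1 hx1)
      (mem_centralizer_singleton_iff.1 (mem_inf.1 hk).2) (hf.fixA (mem_inf.1 hxD).1))
  set v : V := ⟨u, hu⟩
  have hkey : θ v * φ v ∈ N := by
    refine mem_inf.2 ⟨?_, mul_mem (hAY hf (hθA v)) (hAY hf' (hφA v))⟩
    have := mul_mem_sup (S := W) (T := W') (hθW v) (hφW v)
    rwa [show (v : G) * θ v * (v * φ v) = θ v * φ v by
      rw [mul_assoc, ← mul_assoc (θ v) (v : G), ← (hf.comm_A v.2 (hθA v)).eq, mul_assoc, ← mul_assoc,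
        hf.two _ v.2, one_mul]] at this
  have h1 := hNc _ hkey
  rw [mul_smul] at h1
  have h2 : φ v • c = c := smul_left_cancel (θ v) (h1.trans (hf.fixA (hθA v)).symm)
  have hφ1 : φ v ≠ 1 := fun e => hu1 (hW'.disjV _ (by simpa [e] using hφW v) hu)
  exact hne (centre_unique h (hf'.memA _ (hφA v) hφ1) h2 (hf'.fixA (hφA v)))

/-- FEET ARE UNIQUE -/
theorem foot_unique (hK : KSet α z q g) (hf : Frame α z q g V F c A Q) {u : G} (hu : u ∈ V) (hu1 : u ≠ 1)
    {x : α} (hx : x ∉ F) {e e' : G} {p p' : α} (he : IsConj z e) (he' : IsConj z e') (hp : p ∈ F)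
    (hp' : p' ∈ F) (hep : e • p = p) (hep' : e' • p' = p') (hxe : (u * e) • x = x)
    (hxe' : (u * e') • x = x) : e = e' := by
  have h := hK.crit
  obtain ⟨B, R, hB⟩ := hf.exists_at h hp
  obtain ⟨B', R', hB'⟩ := hf.exists_at h hp'
  have heB := hB.members hK he hep
  have heB' := hB'.members hK he' hep'
  have he1 : e ≠ 1 := ne_one_of_order_two (orderOf_conj h he)
  have he'1 : e' ≠ 1 := ne_one_of_order_two (orderOf_conj h he')
  by_cases hpp : p = p'
  · subst hpp
    by_contra hne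
    have hd1 : e⁻¹ * e' ≠ 1 := fun e'' => hne (inv_mul_eq_one.1 e'')
    have heB'' := hB.members hK he' hep'
    have hd := mul_mem (inv_mem heB) heB''
    exact hx (eq_of_fix_two h (hB.memA _ hd hd1) (hB.fixA hd) hxe hxe' ▸ hp)
  · exfalso
    obtain ⟨y, hy, hyF⟩ := meet_of_invariant hK hB hB' hpp (hB.perp_isPerp hK hu hu1 heB he1).1
      (hB'.perp_isPerp hK hu hu1 heB' he'1).1 (P := {x}) (by rw [Set.ncard_singleton]; exact odd_one)
      (fun k hk y hy => by
        rw [Set.mem_singleton_iff] at hy ⊢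
        rw [hy]; exact (mem_perpGroup.1 hk).2 x hxe)
      (fun k hk y hy => by
        rw [Set.mem_singleton_iff] at hy ⊢
        rw [hy]; exact (mem_perpGroup.1 hk).2 x hxe')
    exact hx ((Set.mem_singleton_iff.1 hy) ▸ hyF)

/-- a perpendicular of a perpendicular, at another point, avoids the line -/
theorem perp_perp_disjoint (hK : KSet α z q g) (hf : Frame α z q g V F c A Q) {u e : G} (hu : u ∈ V)
    (hu1 : u ≠ 1) (he : e ∈ A) (he1 : e ≠ 1) {y : α} (hy : (u * e) • y = y) (hyc : y ≠ c) {ε : G}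
    (hε : IsConj z ε) (hεy : ε • y = y) {p : α} (hp : (u * e * ε) • p = p) : p ∉ F := by
  intro hpF
  have h := hK.crit
  have hP := hf.perp hK hu hu1 he he1
  have hwV := hf.perp_mem_group hK hu hu1 he he1
  have hw1 : u * e ≠ 1 := ne_one_of_order_two (hf.perp_order hK hu hu1 he he1)
  obtain ⟨B, R, hB⟩ := hP.exists_at h hy
  have hεB := hB.members hK hε hεy
  have hε1 : ε ≠ 1 := ne_one_of_order_two (orderOf_conj h hε)
  obtain ⟨x, hx, hxL⟩ := meet_of_invariant hK hP hB hyc.symm (hf.perp_isPerp hK hu hu1 he he1).2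
    (hB.perp_isPerp hK hwV hw1 hεB hε1).1 (P := {p}) (by rw [Set.ncard_singleton]; exact odd_one)
    (fun k hk x hx => by
      rw [Set.mem_singleton_iff] at hx ⊢
      rw [hx]; exact hf.fixV hk hpF)
    (fun k hk x hx => by
      rw [Set.mem_singleton_iff] at hx ⊢
      rw [hx]; exact (mem_perpGroup.1 hk).2 p hp)
  rw [Set.mem_singleton_iff] at hx
  subst hx
  have hpc : x = c := hf.perp_inter hK hu hu1 he he1 hxL hpF
  have hpy : x = y := hB.perp_inter hK hwV hw1 hεB hε1 hp hxL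
  exact hyc (hpy.symm.trans hpc)

end Cfsg.Lib.BenderSE.Crit2.Ker
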