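/-
Aschbacher's criterion, lines with a four group and an element `ζ` of odd prime power order centralising the
four group and the cliques at its fixed points: the perpendiculars at those points are such lines again, and every
fixed point off a line has its foot fixed (notes/s1175_h3_kernel.md, 4).
-/
import Cfsg.Agent.BenderSE.Criterion2.KernelPerp

set_option autoImplicit false
set_option linter.unusedSectionVars false
set_option linter.style.haveILetI false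

namespace Cfsg.Lib.BenderSE.Crit2.Ker

open Subgroup MulAction Cfsg.Lib.InvolCalc Cfsg.Lib.StrongEmb Cfsg.Lib.BenderSE.CritDep

universe u

variable {G α : Type u} [Group G] [MulAction G α]

/-- a frame at a point fixed by `ζ`, centralised in the four group and the clique -/
structure ZFrame (α : Type u) [MulAction G α] (z : G) (q g s : ℕ) (ζ : G) (V : Subgroup G) (F : Set α) (c : α)
    (A Q : Subgroup G) : Prop extends Frame α z q g V F c A Q where
  zV : ∀ v ∈ V, Commute ζ v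
  zc : ζ • c = c
  zA : ∀ d ∈ A, Commute ζ d
  zQ : ∀ x ∈ Q, ζ * x * ζ⁻¹ ∈ Q
  zcard : Nat.card (Q ⊓ centralizer {ζ} : Subgroup G) = s
  zfix : ∃ b ∈ F, b ≠ c ∧ ζ • b = b

/-- every fixed point of `ζ` on the line carries such a frame -/
def Full (α : Type u) [MulAction G α] (z : G) (q g s : ℕ) (ζ : G) (V : Subgroup G) (F : Set α) : Prop :=
  (∃ c ∈ F, ζ • c = c) ∧ ∀ c ∈ F, ζ • c = c → ∃ A Q : Subgroup G, ZFrame α z q g s ζ V F c A Q

variable [Finite G] {z : G} {q g s : ℕ} {ζ : G} {V : Subgroup G} {F : Set α} {c : α} {A Q : Subgroup G}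

/-- moved by an element centralising `ζ` and `V` -/
theorem ZFrame.map (hf : ZFrame α z q g s ζ V F c A Q) {k : G} (hkz : Commute k ζ)
    (hk : ∀ v ∈ V, Commute k v) :
    ZFrame α z q g s ζ V F (k • c) (A.map (MulAut.conj k).toMonoidHom) (Q.map (MulAut.conj k).toMonoidHom) := by
  obtain ⟨v, hv, hv1⟩ := hf.toFrame.exists_ne
  refine ⟨hf.toFrame.map hk, hf.zV, by rw [smul_smul, ← hkz.eq, mul_smul, hf.zc], ?_, ?_, ?_, ?_⟩
  · rintro _ ⟨d, hd, rfl⟩
    exact (hkz.symm.mul_right (hf.zA d hd)).mul_right hkz.symm.inv_right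
  · rintro _ ⟨x, hx, rfl⟩
    refine ⟨ζ * x * ζ⁻¹, hf.zQ x hx, ?_⟩
    show k * (ζ * x * ζ⁻¹) * k⁻¹ = ζ * (k * x * k⁻¹) * ζ⁻¹
    calc k * (ζ * x * ζ⁻¹) * k⁻¹ = (k * ζ) * x * (k * ζ)⁻¹ := by group
      _ = (ζ * k) * x * (ζ * k)⁻¹ := by rw [hkz.eq]
      _ = _ := by group
  · rw [← hf.zcard, ← Subgroup.card_map_of_injective (K := Q ⊓ centralizer {ζ})
      (f := (MulAut.conj k).toMonoidHom) (MulAut.conj k).injective]
    congr 2
    ext w
    rw [mem_inf, mem_centralizer_singleton_iff, Subgroup.mem_map, Subgroup.mem_map]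
    constructor
    · rintro ⟨⟨x, hx, rfl⟩, hw⟩
      refine ⟨x, mem_inf.2 ⟨hx, mem_centralizer_singleton_iff.2 ?_⟩, rfl⟩
      have h1 : Commute (k * x * k⁻¹) ζ := hw
      have h2 := (hkz.inv_left.mul_left h1).mul_left hkz
      rwa [show k⁻¹ * (k * x * k⁻¹) * k = x by group] at h2
    · rintro ⟨x, hx, rfl⟩
      refine ⟨⟨x, (mem_inf.1 hx).1, rfl⟩, ?_⟩
      exact ((hkz.mul_left (mem_centralizer_singleton_iff.1 (mem_inf.1 hx).2)).mul_left hkz.inv_left).eq
  · obtain ⟨b, hb, hbc, hζb⟩ := hf.zfix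
    exact ⟨k • b, hf.toFrame.maps hv hv1 (hk v hv) hb, fun e => hbc (smul_left_cancel k e),
      by rw [smul_smul, ← hkz.eq, mul_smul, hζb]⟩

variable [Finite α]

/-- the fixed points of `ζ` on the line besides `c` -/
theorem ZFrame.fixed_orbit (hf : ZFrame α z q g s ζ V F c A Q) (h : Crit G α z) {b p : α} (hb : b ∈ F)
    (hbc : b ≠ c) (hζb : ζ • b = b) (hp : p ∈ F) (hpc : p ≠ c) (hζp : ζ • p = p) :
    ∃ x ∈ Q, Commute x ζ ∧ x • b = p := by
  obtain ⟨x, ⟨hx, hxb⟩, -⟩ := hf.reg b hb p hp hbc hpc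
  refine ⟨x, hx, ?_, hxb⟩
  have h1 : (ζ * x * ζ⁻¹) • b = p := by
    rw [mul_smul, mul_smul, inv_smul_eq_iff.2 hζb.symm, hxb, hζp]
  exact (mul_inv_eq_iff_eq_mul.1 (hf.toFrame.inj h (hf.zQ x hx) hx hbc (h1.trans hxb.symm))).symm

/-- there are `s` of them -/
theorem ZFrame.card_fixed (hf : ZFrame α z q g s ζ V F c A Q) (h : Crit G α z) :
    {p | p ∈ F ∧ p ≠ c ∧ ζ • p = p}.ncard = s := by
  obtain ⟨b, hb, hbc, hζb⟩ := hf.zfix
  have hset : {p | p ∈ F ∧ p ≠ c ∧ ζ • p = p} =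
      (fun x : G => x • b) '' ((Q ⊓ centralizer {ζ} : Subgroup G) : Set G) := by
    ext p
    constructor
    · rintro ⟨hp, hpc, hζp⟩
      obtain ⟨x, hx, hxζ, rfl⟩ := hf.fixed_orbit h hb hbc hζb hp hpc hζp
      exact ⟨x, mem_inf.2 ⟨hx, mem_centralizer_singleton_iff.2 hxζ.eq⟩, rfl⟩
    · rintro ⟨x, hx, rfl⟩
      obtain ⟨hxQ, hxζ⟩ := mem_inf.1 hx
      have hc : Commute x ζ := mem_centralizer_singleton_iff.1 hxζ
      refine ⟨hf.toFrame.mapsQ hxQ hb, fun e => hbc (smul_left_cancel x (e.trans (hf.fixQ x hxQ).symm)), ?_⟩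
      rw [smul_smul, ← hc.eq, mul_smul, hζb]
  rw [hset, Set.InjOn.ncard_image fun x hx y hy e =>
    hf.toFrame.inj h (mem_inf.1 hx).1 (mem_inf.1 hy).1 hbc e, ← Nat.card_coe_set_eq, SetLike.coe_sort_coe,
    hf.zcard]

/-- a second point with one fixed member makes the line full -/
theorem ZFrame.full (hf : ZFrame α z q g s ζ V F c A Q) [FaithfulSMul G α] (hK : KSet α z q g) {b : α}
    (hb : b ∈ F) (hbc : b ≠ c) (hζb : ζ • b = b) {d : G} (hd : IsConj z d) (hdb : d • b = b)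
    (hdζ : Commute ζ d) : Full α z q g s ζ V F := by
  have h := hK.crit
  obtain ⟨e, he, he1, heD, hec⟩ := hf.toFrame.exists_memA hK
  obtain ⟨B, R, hB⟩ := hf.toFrame.exists_at h hb
  have hdB := hB.members hK hd hdb
  obtain ⟨v, -, hvc, -, -, hvcomm⟩ := exists_midpoint h heD hd hec hdb hbc.symm
  have hb' : ZFrame α z q g s ζ V F b (A.map (MulAut.conj v).toMonoidHom) (Q.map (MulAut.conj v).toMonoidHom) :=
    hvc ▸ hf.map (hvcomm ζ (hf.zA e he) hdζ).symm
      fun w hw => (hvcomm w (hf.toFrame.comm_A hw he) (hB.comm_A hw hdB)).symm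
  refine ⟨⟨c, hf.mem, hf.zc⟩, fun p hp hζp => ?_⟩
  by_cases hpc : p = c
  · exact ⟨A, Q, hpc ▸ hf⟩
  obtain ⟨x, hx, hxζ, hxb⟩ := hf.fixed_orbit h hb hbc hζb hp hpc hζp
  exact ⟨_, _, hxb ▸ hb'.map hxζ fun w hw => (hf.commV w hw x hx).symm⟩

variable [FaithfulSMul G α] (hK : KSet α z q g) (hζ : ∃ p, p.Prime ∧ p ≠ 2 ∧ IsPGroup p (zpowers ζ))
include hK hζ

/-- the perpendicular at a fixed point -/
theorem ZFrame.perp (hf : ZFrame α z q g s ζ V F c A Q) {u e : G} (hu : u ∈ V) (hu1 : u ≠ 1) (he : e ∈ A)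
    (he1 : e ≠ 1) :
    ZFrame α z q g s ζ (perpGroup V A (fixedBy α (u * e))) (fixedBy α (u * e)) c A Q := by
  classical
  have hP := hf.toFrame.perp hK hu hu1 he he1
  refine ⟨hP, fun k hk => ?_, hf.zc, hf.zA, hf.zQ, hf.zcard, ?_⟩
  · obtain ⟨v, hv, x, hx, rfl⟩ := hf.toFrame.mem_sup (mem_perpGroup.1 hk).1
    exact (hf.zV v hv).mul_right (hf.zA x hx)
  · obtain ⟨p, hp, hp2, hpk⟩ := hζ
    have hcζ : Commute ζ (u * e) := (hf.zV u hu).mul_right (hf.zA e he)
    have hndvd : ¬ p ∣ (fixedBy α (u * e) \ {c}).ncard := by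
      rw [Set.ncard_sdiff_singleton_of_mem hP.mem, hP.cardF, Nat.add_sub_cancel]
      obtain ⟨k, hk⟩ := hK.gtwo
      intro hdvd
      exact hp2 ((Nat.prime_dvd_prime_iff_eq hp Nat.prime_two).1 (hp.dvd_of_dvd_pow (hk ▸ hdvd)))
    obtain ⟨r, ⟨hr, hrc⟩, hζr⟩ := exists_fixed_point hp hpk (Set.toFinite _) hndvd fun r hr => by
      refine ⟨?_, fun e' => hr.2 ?_⟩
      · show (u * e) • ζ • r = ζ • r
        rw [smul_smul, ← hcζ.eq, mul_smul]
        exact congrArg (ζ • ·) hr.1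
      · exact smul_left_cancel ζ ((Set.mem_singleton_iff.1 e').trans hf.zc.symm)
    exact ⟨r, hr, hrc, hζr⟩

omit hζ in
/-- the foot of a fixed point is fixed -/
theorem foot_fixed (hf : Frame α z q g V F c A Q) {u : G} (hu : u ∈ V) (hu1 : u ≠ 1) (hζu : Commute ζ u)
    {x : α} (hx : x ∉ F) (hζx : ζ • x = x) :
    ∃ (e : G) (p : α), IsConj z e ∧ Commute u e ∧ e • p = p ∧ p ∈ F ∧ (u * e) • x = x ∧ Commute ζ e ∧
      ζ • p = p := by
  have h := hK.crit
  obtain ⟨e, p, he, hue, hep, hup, hex⟩ :=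
    exists_foot h (hf.orderV hu hu1) fun e' => hx ((hf.fix u hu hu1 x).1 e')
  have hp := (hf.fix u hu hu1 p).1 hup
  have hed : e = ζ * e * ζ⁻¹ := by
    refine foot_unique hK hf hu hu1 hx he (he.trans (isConj_iff.2 ⟨ζ, rfl⟩)) hp (hf.maps hu hu1 hζu hp) hep
      (by rw [mul_smul, mul_smul, inv_smul_smul, hep]) hex ?_
    rw [show u * (ζ * e * ζ⁻¹) = ζ * (u * e) * ζ⁻¹ by rw [← mul_assoc, ← mul_assoc, ← hζu.eq]; group,
      mul_smul, mul_smul, inv_smul_eq_iff.2 hζx.symm, hex, hζx]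
  have hζe : Commute ζ e := (mul_inv_eq_iff_eq_mul.1 hed.symm)
  exact ⟨e, p, he, hue, hep, hp, hex, hζe, smul_centre h he hζe hep⟩

/-- THE PERPENDICULARS at fixed points are full again -/
theorem Full.perp (hF : Full α z q g s ζ V F) {u e : G} (hu : u ∈ V) (hu1 : u ≠ 1) (he : IsConj z e)
    {c : α} (hc : c ∈ F) (hζc : ζ • c = c) (hec : e • c = c) :
    ∃ A : Subgroup G, Full α z q g s ζ (perpGroup V A (fixedBy α (u * e))) (fixedBy α (u * e)) ∧
      u * e ∈ perpGroup V A (fixedBy α (u * e)) := by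
  have h := hK.crit
  obtain ⟨A, Q, hf⟩ := hF.2 c hc hζc
  have heA := hf.toFrame.members hK he hec
  have he1 : e ≠ 1 := ne_one_of_order_two (orderOf_conj h he)
  have hwV := hf.toFrame.perp_mem_group hK hu hu1 heA he1
  have hP := hf.perp hK hζ hu hu1 heA he1
  refine ⟨A, ?_, hwV⟩
  -- a fixed point off the line with its foot at another point
  obtain ⟨c', hc', hne, hζc'⟩ := hf.zfix
  obtain ⟨B, R, hf'⟩ := hF.2 c' hc' hζc'
  obtain ⟨e', heB, he'1, he', he'c⟩ := hf'.toFrame.exists_memA hK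
  obtain ⟨x, hx, hxc, hζx⟩ := (hf'.perp hK hζ hu hu1 heB he'1).zfix
  have hxF : x ∉ F := fun hxF => hxc (hf'.toFrame.perp_inter hK hu hu1 heB he'1 hx hxF)
  have hee : ∀ {d : G} {p : α}, IsConj z d → p ∈ F → d • p = p → (u * d) • x = x → d = e' :=
    fun hd hp hdp hxd => foot_unique hK hf.toFrame hu hu1 hxF hd he' hp hc' hdp he'c hxd hx
  have hw1 : u * e ≠ 1 := ne_one_of_order_two (hf.toFrame.perp_order hK hu hu1 heA he1)
  have hxL : x ∉ fixedBy α (u * e) := fun hxL => by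
    obtain rfl := hee he hc hec hxL
    exact hne (centre_unique h he he'c hec)
  have hζw : Commute ζ (u * e) := (hf.zV u hu).mul_right (hf.zA e heA)
  obtain ⟨ε, y, hε, hwε, hεy, hy, hεx, hζε, hζy⟩ := foot_fixed hK hP.toFrame hwV hw1 hζw hxL hζx
  refine hP.full hK hy ?_ hζy hε hεy hζε
  rintro rfl
  have hεA := hf.toFrame.members hK hε hεy
  by_cases heε : e * ε = 1
  · rw [mul_assoc, heε, mul_one] at hεx
    exact hxF ((hf.fix u hu hu1 x).1 hεx)
  have hd := mul_mem heA hεA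
  obtain h1 := hee (hf.memA _ hd heε) hf.mem (hf.toFrame.fixA hd) (by rw [← mul_assoc]; exact hεx)
  exact hne (centre_unique h he' he'c (h1 ▸ hf.toFrame.fixA hd))

end Cfsg.Lib.BenderSE.Crit2.Ker
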