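/-
Aschbacher's criterion, the model of a line of rank two: the regular Sylow subgroup and the torus of a simple
group with a strongly embedded point stabiliser, and the uniqueness of a regular torus on an elementary group.
-/
import Cfsg.Agent.BenderSE.Final
import Cfsg.Agent.BenderSE.Dependents.Rows
import Cfsg.Agent.RankOne.InvertedCyclic
import Cfsg.Agent.LinearPerm.OddTransitive

set_option autoImplicit false
set_option linter.unusedSectionVars false
set_option linter.style.haveILetI false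

namespace Cfsg.Lib.BenderSE.Crit2

open Subgroup MulAction Cfsg.Lib.InvolCalc Cfsg.Lib.StrongEmb

universe u v

/-- what the model gives at a point -/
structure ModelData {L : Type u} [Group L] {β : Type v} [MulAction L β] (a : β) (Q C : Subgroup L) (k e : ℕ) :
    Prop where
  two : 2 ≤ k
  ecase : e = 1 ∨ e = 2 ∨ e = 3
  cardQ : Nat.card Q = (2 ^ k) ^ e
  cardI : Nat.card {i : L // orderOf i = 2 ∧ i ∈ stabilizer L a} + 1 = 2 ^ k
  q2 : IsPGroup 2 Q
  qle : Q ≤ stabilizer L a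
  qn : stabilizer L a ≤ normalizer (Q : Set L)
  qmax : ∀ P : Subgroup L, IsPGroup 2 P → P ≤ stabilizer L a → P ≤ Q
  qinvol : ∀ i : L, orderOf i = 2 → i ∈ stabilizer L a → i ∈ Q ∧ ∀ x ∈ Q, i * x = x * i
  regular : ∀ p r : β, p ≠ a → r ≠ a → ∃! g : L, g ∈ Q ∧ g • p = r
  cle : C ≤ stabilizer L a
  cyclic : IsCyclic C
  codd : Odd (Nat.card C)
  ctrans : ∀ s s' : L, orderOf s = 2 → s ∈ stabilizer L a → orderOf s' = 2 → s' ∈ stabilizer L a →
    ∃ c ∈ C, c * s * c⁻¹ = s'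
  cnorm : ∀ g ∈ stabilizer L a, ∀ c ∈ C, ∃ c' ∈ C, ∀ s : L, orderOf s = 2 → s ∈ stabilizer L a →
    g * c * g⁻¹ * s * (g * c * g⁻¹)⁻¹ = c' * s * c'⁻¹

/-- the model at a point of a simple group with strongly embedded point stabiliser and two commuting
involutions -/
theorem exists_modelData {L : Type u} [Group L] [Finite L] [IsSimpleGroup L] {β : Type v} [MulAction L β]
    [IsPretransitive L β] {a : β} (hS : Cfsg.Lib.BenderSE.Setting (stabilizer L a)) :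
    ∃ (Q C : Subgroup L) (k e : ℕ), ModelData a Q C k e := by
  haveI : Fact (Nat.Prime 2) := ⟨Nat.prime_two⟩
  set H := stabilizer L a with hH
  obtain ⟨L', Q, F⟩ := exists_frame regProp hS
  obtain ⟨t, ht, ht2⟩ := Cfsg.Lib.BenderSuzuki.exists_invol_out H hS.se
  have hQn : (Q.subgroupOf H).Normal := (normal_subgroupOf_iff_le_normalizer F.qle).2 F.qn
  have hR := Cfsg.Lib.BenderSuzuki.embedded_setup H hS.se Q F.qle hQn F.trans F.reg ht ht2
  obtain ⟨p, q, hp, hq, hpq, hc⟩ := hS.rank2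
  have h2 : ∃ x y : L, x ≠ 1 ∧ y ≠ 1 ∧ x ≠ y ∧ x * x = 1 ∧ y * y = 1 ∧ x * y = y * x :=
    ⟨p, q, ne_one_of_order_two hp, ne_one_of_order_two hq, hpq, sq_of_order_two hp, sq_of_order_two hq, hc⟩
  obtain ⟨C, hC, hcyc, hCn⟩ := Cfsg.Lib.RankOne.inverted_subgroup hR h2
  have hbase : stabilizer L ((1 : L) : L ⧸ H) = H := MulAction.stabilizer_quotient H
  have hCD : C ≤ Cfsg.Lib.RankOne.twoStab (L ⧸ H) ((1 : L) : L ⧸ H) t := fun c hc => by
    have h1 : c ∈ (C : Set L) := hc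
    rw [hC] at h1
    exact h1.1
  have hCH : C ≤ H := fun c hc => hbase ▸ (mem_inf.1 (hCD hc)).1
  obtain ⟨k, e, hk, he, hQc, hI⟩ := F.qcard
  obtain ⟨SQ, hSQ⟩ := F.sylow
  have hmemI : ∀ {s : L}, orderOf s = 2 → s ∈ H →
      s ∈ Cfsg.involutionsIn (stabilizer L ((1 : L) : L ⧸ H) : Set L) := fun {s} hs hsH =>
    ⟨by rw [SetLike.mem_coe, hbase]; exact hsH, ne_one_of_order_two hs, sq_of_order_two hs⟩
  refine ⟨Q, C, k, e, hk, he, hQc, hI, F.q2, F.qle, F.qn, fun P hP hPH => ?_, F.qinvol, fun p r hp hr => ?_,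
    hCH, hcyc, ?_, fun s s' hs hsH hs' hsH' => ?_, fun g hg c hc => ?_⟩
  · have h1 := SQ.3 (hSQ.symm ▸ F.q2.to_sup_of_normal_left' hP (hPH.trans F.qn)) (hSQ.symm ▸ le_sup_left)
    rw [hSQ] at h1
    exact le_sup_right.trans h1.le
  · obtain ⟨g₁, rfl⟩ := exists_smul_eq L a p
    obtain ⟨g₂, rfl⟩ := exists_smul_eq L a r
    obtain ⟨u, hu, hu'⟩ := F.trans g₁ g₂ (fun h => hp (mem_stabilizer_iff.1 h))
      (fun h => hr (mem_stabilizer_iff.1 h))
    rw [mem_stabilizer_iff, mul_smul, mul_smul, inv_smul_eq_iff] at hu'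
    refine ⟨u, ⟨hu, hu'⟩, fun v hv => ?_⟩
    refine (inv_mul_eq_one.1 (F.reg g₁ (fun h => hp (mem_stabilizer_iff.1 h)) (u⁻¹ * v)
      (mul_mem (inv_mem hu) hv.1) (mem_stabilizer_iff.2 ?_))).symm
    rw [mul_smul, mul_smul, mul_smul, hv.2, inv_smul_eq_iff, inv_smul_eq_iff, hu']
  · exact hR.odd_card.of_dvd_nat (card_dvd_of_le hCD)
  · obtain ⟨c, hc, hcs⟩ := Cfsg.Lib.RankOne.conj_surj hR (hmemI hs hsH) (hmemI hs' hsH')
    refine ⟨c⁻¹, inv_mem (show c ∈ (C : Set L) from hC ▸ hc), ?_⟩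
    rwa [inv_inv]
  · have hg' : g ∈ Q ⊔ Cfsg.Lib.RankOne.twoStab (L ⧸ H) ((1 : L) : L ⧸ H) t := by
      show g ∈ Q ⊔ (_ ⊓ _)
      rw [hR.sup_eq, hbase]
      exact hg
    have hD : Cfsg.Lib.RankOne.twoStab (L ⧸ H) ((1 : L) : L ⧸ H) t ≤ normalizer (Q : Set L) := fun d hd =>
      F.qn (hbase ▸ (mem_inf.1 hd).1)
    rw [← SetLike.mem_coe, coe_mul_of_right_le_normalizer_left Q _ hD] at hg'
    obtain ⟨w, hw, d, hd, rfl⟩ := Set.mem_mul.1 hg'
    refine ⟨d * c * d⁻¹, hCn d hd c hc, fun s hs hsH => ?_⟩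
    have hcH := hCH (hCn d hd c hc)
    have h1 : Commute w s := ((F.qinvol s hs hsH).2 w hw).symm
    have hs2 : orderOf (d * c * d⁻¹ * s * (d * c * d⁻¹)⁻¹) = 2 := by
      rw [show d * c * d⁻¹ * s * (d * c * d⁻¹)⁻¹ = MulAut.conj (d * c * d⁻¹) s from rfl, MulEquiv.orderOf_eq, hs]
    have h2' : Commute w (d * c * d⁻¹ * s * (d * c * d⁻¹)⁻¹) :=
      ((F.qinvol _ hs2 (mul_mem (mul_mem hcH hsH) (inv_mem hcH))).2 w hw).symm
    calc w * d * c * (w * d)⁻¹ * s * (w * d * c * (w * d)⁻¹)⁻¹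
        = w * (d * c * d⁻¹ * (w⁻¹ * s * w) * (d * c * d⁻¹)⁻¹) * w⁻¹ := by group
      _ = w * (d * c * d⁻¹ * s * (d * c * d⁻¹)⁻¹) * w⁻¹ := by
          rw [mul_assoc w⁻¹ s w, ← h1.eq, inv_mul_cancel_left]
      _ = _ := by rw [h2'.eq, mul_inv_cancel_right]

/-- a cyclic regular normal subgroup of an odd transitive group on an elementary group is unique -/
theorem torus_unique {E : Type u} [CommGroup E] [Finite E] [Nontrivial E] (h2 : ∀ x : E, x * x = 1)
    (Δ : Subgroup (MulAut E)) (hΔ : Odd (Nat.card Δ)) {C C' : Subgroup (MulAut E)}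
    (hC : C ≤ Δ) (hC' : C' ≤ Δ) (hn : ∀ δ ∈ Δ, ∀ c ∈ C, δ * c * δ⁻¹ ∈ C)
    (hn' : ∀ δ ∈ Δ, ∀ c ∈ C', δ * c * δ⁻¹ ∈ C') (hcyc : IsCyclic C) (hcyc' : IsCyclic C')
    (ht : ∀ x y : E, x ≠ 1 → y ≠ 1 → ∃ c ∈ C, c x = y) (ht' : ∀ x y : E, x ≠ 1 → y ≠ 1 → ∃ c ∈ C', c x = y) :
    C = C' := by
  haveI : Finite (MulAut E) := Finite.of_injective (fun f : MulAut E => (f : E → E)) DFunLike.coe_injective
  let _ : DistribMulAction Δ (Additive E) :=
    { smul := fun δ v => Additive.ofMul ((δ : MulAut E) (Additive.toMul v))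
      one_smul := fun _ => rfl
      mul_smul := fun _ _ _ => rfl
      smul_zero := fun δ => congrArg Additive.ofMul (map_one (δ : MulAut E))
      smul_add := fun δ x y => congrArg Additive.ofMul (map_mul (δ : MulAut E) _ _) }
  haveI : FaithfulSMul Δ (Additive E) := ⟨fun {δ ε} h => Subtype.ext (MulEquiv.ext fun x => h (Additive.ofMul x))⟩
  have hv : ∀ v : Additive E, v ≠ 0 → Additive.toMul v ≠ 1 := fun v hv h => hv (congrArg Additive.ofMul h)
  obtain ⟨hF, hsemi, -⟩ := Cfsg.Lib.LinearPerm.OddTrans.main (D := Δ) (E := Additive E)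
    (fun v => by rw [two_nsmul]; exact congrArg Additive.ofMul (h2 (Additive.toMul v))) hΔ fun v w hv' hw' => by
      obtain ⟨c, hc, hcv⟩ := ht _ _ (hv v hv') (hv w hw')
      exact ⟨⟨c, hC hc⟩, congrArg Additive.ofMul hcv⟩
  have key : ∀ {D : Subgroup (MulAut E)}, D ≤ Δ → (∀ δ ∈ Δ, ∀ c ∈ D, δ * c * δ⁻¹ ∈ D) → IsCyclic D →
      (∀ x y : E, x ≠ 1 → y ≠ 1 → ∃ c ∈ D, c x = y) → D.subgroupOf Δ = Cfsg.fittingSubgroup Δ := by
    intro D hD hDn hDc hDt
    haveI : (D.subgroupOf Δ).Normal :=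
      ⟨fun c hc δ => mem_subgroupOf.2 (hDn δ δ.2 c (mem_subgroupOf.1 hc))⟩
    haveI := hDc
    letI : CommGroup D := hDc.commGroup
    haveI : Group.IsNilpotent (D.subgroupOf Δ) :=
      (Group.isNilpotent_congr (subgroupOfEquivOfLe hD)).2 CommGroup.isNilpotent
    have hle : D.subgroupOf Δ ≤ Cfsg.fittingSubgroup Δ := Cfsg.Lib.Components.le_fitting inferInstance
    refine le_antisymm hle fun f hf => ?_
    obtain ⟨x, hx⟩ := exists_ne (1 : E)
    obtain ⟨c, hc, hcx⟩ := hDt x ((f : MulAut E) x) hx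
      (fun h => hx ((f : MulAut E).injective (h.trans (map_one _).symm)))
    have h1 := hsemi (f⁻¹ * ⟨c, hD hc⟩) (mul_mem (inv_mem hf) (hle (mem_subgroupOf.2 hc))) (Additive.ofMul x)
      (fun h => hx (congrArg Additive.toMul h)) (congrArg Additive.ofMul (by
        show (f⁻¹ : MulAut E) (c x) = x
        rw [hcx]
        exact (f : MulAut E).symm_apply_apply x))
    rw [inv_mul_eq_one] at h1
    exact h1 ▸ mem_subgroupOf.2 hc
  have h := (key hC hn hcyc ht).trans (key hC' hn' hcyc' ht').symm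
  have h' := congrArg (Subgroup.map Δ.subtype) h
  simpa [subgroupOf_map_subtype, inf_eq_left.2 hC, inf_eq_left.2 hC'] using h'

end Cfsg.Lib.BenderSE.Crit2
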