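/-
Aschbacher's criterion, the lift from the model: a group generated by a class of involutions over a simple
group with strongly embedded point stabiliser has odd kernel, and the Sylow subgroup and the torus lift.
-/
import Cfsg.Agent.BenderSE.Criterion2.LineModel
import Cfsg.Agent.BenderSE.Dependents.CoverKill
import Cfsg.Agent.BenderSE.Dependents.CriterionGeneral
import Cfsg.Agent.InvolCalc.ZStarApps
import Cfsg.Agent.Components.PComponents

set_option autoImplicit false
set_option linter.unusedSectionVars false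
set_option linter.style.haveILetI false

namespace Cfsg.Lib.BenderSE.Crit2

open Subgroup MulAction Cfsg.Lib.InvolCalc Cfsg.Lib.StrongEmb Cfsg.Lib.BenderSE.CritDep

universe u v

section Generic

variable {Y Z : Type u} [Group Y] [Finite Y] [Group Z] (f : Y →* Z)

/-- a maximal 2-subgroup of the preimage of a 2-group maps onto it -/
theorem map_eq_of_max (hf : Function.Surjective f) {P : Subgroup Z} (hP : IsPGroup 2 P) {S : Subgroup Y}
    (hS2 : IsPGroup 2 S) (hS : S ≤ P.comap f)
    (hmax : ∀ P' : Subgroup Y, IsPGroup 2 P' → P' ≤ P.comap f → S ≤ P' → P' = S) : S.map f = P := by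
  haveI : Fact (Nat.Prime 2) := ⟨Nat.prime_two⟩
  let T : Sylow 2 (P.comap f) :=
    { toSubgroup := S.subgroupOf (P.comap f)
      isPGroup' := hS2.comap_subtype
      is_maximal' := fun {R} hR hle => by
        refine le_antisymm (fun r hr => mem_subgroupOf.2 ?_) hle
        rw [← hmax (R.map (P.comap f).subtype) (hR.map _) (map_subtype_le R) fun s hs =>
          ⟨⟨s, hS hs⟩, hle (mem_subgroupOf.2 hs), rfl⟩]
        exact ⟨r, hr, rfl⟩ }
  set ρ : P.comap f →* P := f.subgroupComap P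
  have hρ : Function.Surjective ρ := f.subgroupComap_surjective_of_surjective P hf
  have htop : (T.mapSurjective hρ : Subgroup P) = ⊤ :=
    ((T.mapSurjective hρ).3 (hP.to_subgroup ⊤) le_top).symm
  refine le_antisymm (map_le_iff_le_comap.2 hS) fun p hp => ?_
  obtain ⟨t, ht, htp⟩ : (⟨p, hp⟩ : P) ∈ (T.mapSurjective hρ : Subgroup P) := htop ▸ Subgroup.mem_top _
  exact ⟨t, mem_subgroupOf.1 ht, congrArg Subtype.val htp⟩

omit [Finite Y] in
/-- an odd kernel meets a 2-group trivially -/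
theorem eq_one_of_two_odd {S K : Subgroup Y} (hS : IsPGroup 2 S) (hK : Odd (Nat.card K)) {x : Y} (hxS : x ∈ S)
    (hxK : x ∈ K) : x = 1 := by
  obtain ⟨n, hn⟩ := hS.exists_orderOf_eq_pow ⟨x, hxS⟩
  rw [Subgroup.orderOf_mk] at hn
  have h1 : Odd (orderOf x) := hK.of_dvd_nat (Subgroup.orderOf_dvd_natCard K hxK)
  rw [hn] at h1
  rcases n with _ | n
  · exact orderOf_eq_one_iff.1 (by rw [hn, pow_zero])
  · rw [pow_succ, Nat.odd_mul] at h1
    exact absurd h1.2 (by decide)

end Generic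

variable {Y L : Type u} [Group Y] [Finite Y] [Group L] [Finite L] {β : Type v} [MulAction L β]

/-- a group generated by one class of involutions over a simple group with strongly embedded point stabiliser,
the class having odd products inside a fibre -/
structure LineCover (π : Y →* L) (d₀ : Y) (a : β) : Prop where
  simple : IsSimpleGroup L
  trans : IsPretransitive L β
  setting : Cfsg.Lib.BenderSE.Setting (stabilizer L a)
  surj : Function.Surjective π
  ord : orderOf d₀ = 2
  gen : Subgroup.normalClosure ({d₀} : Set Y) = ⊤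
  ne : π d₀ ≠ 1
  same : ∀ d e, IsConj d₀ d → IsConj d₀ e → π d = π e → Odd (orderOf (d * e))
  prod : ∀ d e, IsConj d₀ d → IsConj d₀ e → Commute d e → d ≠ e → IsConj d₀ (d * e)
  pair : ∃ d e, IsConj d₀ d ∧ IsConj d₀ e ∧ d ≠ e ∧ Commute d e

variable {π : Y →* L} {d₀ : Y} {a : β} (C : LineCover π d₀ a)
include C

namespace LineCover

theorem ord_conj {d : Y} (hd : IsConj d₀ d) : orderOf d = 2 := by
  obtain ⟨g, rfl⟩ := isConj_iff.1 hd
  rw [show g * d₀ * g⁻¹ = MulAut.conj g d₀ from rfl, MulEquiv.orderOf_eq, C.ord]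

theorem map_ne {d : Y} (hd : IsConj d₀ d) : π d ≠ 1 := by
  obtain ⟨g, rfl⟩ := isConj_iff.1 hd
  intro h
  rw [map_mul, map_mul, map_inv, mul_inv_eq_one, mul_eq_left] at h
  exact C.ne h

theorem map_ord {d : Y} (hd : IsConj d₀ d) : orderOf (π d) = 2 :=
  order_two_of_mul_self (by rw [← map_mul, sq_of_order_two (C.ord_conj hd), map_one]) (C.map_ne hd)

/-- every involution below comes from the class -/
theorem exists_lift {i : L} (hi : orderOf i = 2) : ∃ d, IsConj d₀ d ∧ π d = i := by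
  obtain ⟨g, rfl⟩ := isConj_iff.1 (Cfsg.Lib.StrongEmb.all_conj C.setting.se (C.map_ord (IsConj.refl d₀)) hi)
  obtain ⟨g, rfl⟩ := C.surj g
  exact ⟨g * d₀ * g⁻¹, isConj_iff.2 ⟨g, rfl⟩, by rw [map_mul, map_mul, map_inv]⟩

theorem core_le : Cfsg.pPrimeCore 2 Y ≤ π.ker := by
  haveI := C.simple
  have hodd : Odd (Nat.card (Cfsg.pPrimeCore 2 Y)) := Cfsg.Lib.ZStarApps.odd_card_pPrimeCore
  haveI : ((Cfsg.pPrimeCore 2 Y).map π).Normal :=
    Subgroup.Normal.map inferInstance π C.surj
  rcases IsSimpleGroup.eq_bot_or_eq_top_of_normal ((Cfsg.pPrimeCore 2 Y).map π) inferInstance with h | h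
  · exact (Subgroup.map_eq_bot_iff _).1 h
  · exfalso
    have h1 : Odd (Nat.card ((Cfsg.pPrimeCore 2 Y).map π)) := hodd.of_dvd_nat (card_map_dvd _ _)
    rw [h, Subgroup.card_top] at h1
    exact Nat.not_even_iff_odd.2 h1 (even_iff_two_dvd.2
      (C.map_ord (IsConj.refl d₀) ▸ orderOf_dvd_natCard _))

theorem perfect : commutator Y = ⊤ := by
  obtain ⟨d, e, hd, he, hne, hc⟩ := C.pair
  have hf : ∀ {x}, IsConj d₀ x → Abelianization.of x = Abelianization.of d₀ := fun {x} hx => by
    obtain ⟨g, rfl⟩ := isConj_iff.1 hx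
    rw [map_mul, map_mul, map_inv, mul_comm (Abelianization.of g), mul_inv_cancel_right]
  have h := hf (C.prod d e hd he hc hne)
  rw [map_mul, hf hd, hf he, mul_eq_left] at h
  rw [eq_top_iff, ← C.gen]
  refine normalClosure_le_normal (Set.singleton_subset_iff.2 ?_)
  rw [SetLike.mem_coe, ← Abelianization.ker_of, MonoidHom.mem_ker, h]

/-- the class centralises the kernel modulo the odd core -/
theorem commutator_mem {d k : Y} (hd : IsConj d₀ d) (hk : k ∈ π.ker) :
    d * k * d⁻¹ * k⁻¹ ∈ Cfsg.pPrimeCore 2 Y := by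
  set K := π.ker with hK
  set T : Subgroup Y := K ⊔ zpowers d with hT
  have hdT : d ∈ T := mem_sup_right (mem_zpowers d)
  have hiso : Cfsg.IsIsolatedInvolution (⟨d, hdT⟩ : T) := by
    refine ⟨by rw [Subgroup.orderOf_mk, C.ord_conj hd], fun g hg => ?_⟩
    by_contra hne
    have hne' : (g : Y) * d * (g : Y)⁻¹ ≠ d := fun e' => hne (Subtype.ext e')
    have hc : Commute d ((g : Y) * d * (g : Y)⁻¹) := congrArg Subtype.val hg
    obtain ⟨n, hn, w, hw, hgw⟩ : ∃ n ∈ (K : Set Y), ∃ w ∈ (zpowers d : Set Y), n * w = (g : Y) :=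
      Set.mem_mul.1 (by rw [← normal_mul]; exact g.2)
    obtain ⟨j, rfl⟩ := mem_zpowers_iff.1 hw
    have hconj : IsConj d₀ ((g : Y) * d * (g : Y)⁻¹) := hd.trans (isConj_iff.2 ⟨(g : Y), rfl⟩)
    have heq : π d = π ((g : Y) * d * (g : Y)⁻¹) := by
      rw [← hgw, show n * d ^ j * d * (n * d ^ j)⁻¹ = n * d * n⁻¹ by group, map_mul, map_mul, map_inv,
        MonoidHom.mem_ker.1 hn, one_mul, inv_one, mul_one]
    have hodd := C.same _ _ hd hconj heq
    have h2 : orderOf (d * ((g : Y) * d * (g : Y)⁻¹)) = 2 := order_two_of_mul_self (by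
      rw [hc.symm.mul_mul_mul_comm, sq_of_order_two (C.ord_conj hd), sq_of_order_two (C.ord_conj hconj), one_mul])
      fun h1 => hne' (by rw [mul_eq_one_iff_inv_eq] at h1; rw [← h1, inv_of_order_two (C.ord_conj hd)])
    rw [h2] at hodd
    exact absurd hodd (by decide)
  have h1 := Cfsg.Lib.ZStarApps.zstarProp hiso (⟨k, mem_sup_left hk⟩ : T)
  set O₁ := Cfsg.pPrimeCore 2 T
  set O₂ := O₁.map T.subtype
  have hO₂ : Odd (Nat.card O₂) := by
    rw [Subgroup.card_map_of_injective T.subtype_injective]; exact Cfsg.Lib.ZStarApps.odd_card_pPrimeCore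
  set O₃ := Cfsg.pPrimeCore 2 K
  have h3 : O₂.subgroupOf K ≤ O₃ := by
    refine le_sSup ⟨⟨fun o ho n => mem_subgroupOf.2 ?_⟩, ?_⟩
    · obtain ⟨o', ho', he⟩ := mem_subgroupOf.1 ho
      exact ⟨⟨n, mem_sup_left n.2⟩ * o' * ⟨n, mem_sup_left n.2⟩⁻¹,
        (inferInstance : O₁.Normal).conj_mem o' ho' _, by simp [← he]⟩
    · refine Nat.coprime_two_right.2 (hO₂.of_dvd_nat ?_)
      rw [← Subgroup.card_map_of_injective K.subtype_injective]
      exact card_dvd_of_le (map_le_iff_le_comap.2 fun o ho => mem_subgroupOf.1 ho)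
  haveI : (O₃.map K.subtype).Normal := inferInstance
  have h4 : O₃.map K.subtype ≤ Cfsg.pPrimeCore 2 Y := le_sSup ⟨inferInstance, Nat.coprime_two_right.2 (by
    rw [Subgroup.card_map_of_injective K.subtype_injective]; exact Cfsg.Lib.ZStarApps.odd_card_pPrimeCore)⟩
  have h2 : d * k * d⁻¹ * k⁻¹ ∈ K :=
    mul_mem ((inferInstance : K.Normal).conj_mem k hk d) (inv_mem hk)
  exact h4 ⟨⟨_, h2⟩, h3 (mem_subgroupOf.2 ⟨_, h1, rfl⟩), rfl⟩

/-- THE KERNEL IS ODD -/
theorem ker_eq_core : π.ker = Cfsg.pPrimeCore 2 Y := by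
  haveI : Fact (Nat.Prime 2) := ⟨Nat.prime_two⟩
  haveI := C.simple
  haveI := C.trans
  set O := Cfsg.pPrimeCore 2 Y with hO
  set mk := QuotientGroup.mk' O with hmk
  set πh : Y ⧸ O →* L := QuotientGroup.lift O π C.core_le with hπh
  have hcomp : ∀ y, πh (mk y) = π y := fun y => rfl
  have hπhs : Function.Surjective πh := fun l => by
    obtain ⟨y, rfl⟩ := C.surj l; exact ⟨mk y, rfl⟩
  obtain ⟨Qb, Cb, k, e, M⟩ := exists_modelData C.setting
  -- the kernel is central
  have hcent : ∀ k ∈ π.ker, mk k ∈ center (Y ⧸ O) := by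
    intro k hk
    have hle : Subgroup.normalClosure ({d₀} : Set Y) ≤ (centralizer ({mk k} : Set (Y ⧸ O))).comap mk := by
      refine (closure_le _).2 fun x hx => ?_
      obtain ⟨w, hw, hwx⟩ := Group.mem_conjugatesOfSet_iff.1 hx
      rw [Set.mem_singleton_iff] at hw
      subst hw
      refine mem_centralizer_singleton_iff.2 ?_
      show mk x * mk k = mk k * mk x
      have h1 : mk (x * k * x⁻¹ * k⁻¹) = 1 := (QuotientGroup.eq_one_iff _).2 (C.commutator_mem hwx hk)
      rw [map_mul, map_mul, map_mul, map_inv, map_inv] at h1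
      exact commutatorElement_eq_one_iff_mul_comm.1 h1
    refine mem_center_iff.2 fun y => ?_
    obtain ⟨y, rfl⟩ := QuotientGroup.mk'_surjective O y
    exact mem_centralizer_singleton_iff.1 (hle (C.gen ▸ mem_top y))
  have hna : ¬ IsMulCommutative L := fun hc => by
    obtain ⟨p, q, hp, hq, hpq, -⟩ := C.setting.rank2
    obtain ⟨g, hg⟩ := isConj_iff.1 (Cfsg.Lib.StrongEmb.all_conj C.setting.se hp hq)
    exact hpq (by rw [← hg, hc.is_comm.comm g p, mul_inv_cancel_right])
  have hker : πh.ker = center (Y ⧸ O) := by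
    refine le_antisymm (fun c hc => ?_) fun c hc => MonoidHom.mem_ker.2 ?_
    · obtain ⟨y, rfl⟩ := QuotientGroup.mk'_surjective O c
      exact hcent y (MonoidHom.mem_ker.2 hc)
    · rcases IsSimpleGroup.eq_bot_or_eq_top_of_normal (center L) inferInstance with h | h
      · have h1 : πh c ∈ center L := mem_center_iff.2 fun l => by
          obtain ⟨y, rfl⟩ := hπhs l
          rw [← map_mul, ← map_mul, mem_center_iff.1 hc]
        rwa [h, mem_bot] at h1
      · exact absurd ⟨⟨fun x y => (mem_center_iff.1 (h ▸ Subgroup.mem_top x) y).symm⟩⟩ hna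
  have hbot : Cfsg.pPrimeCore 2 (Y ⧸ O) = ⊥ := Cfsg.Lib.Components.pPrimeCore_quotient_eq_bot
  have htwo : IsPGroup 2 (center (Y ⧸ O)) := by
    intro c
    obtain ⟨m, r, hr, hmr⟩ := Nat.exists_eq_two_pow_mul_odd (orderOf_pos (c : Y ⧸ O)).ne'
    refine ⟨m, Subtype.ext ?_⟩
    rw [SubmonoidClass.coe_pow]
    set c' := (c : Y ⧸ O) ^ 2 ^ m
    have hle : zpowers c' ≤ Cfsg.pPrimeCore 2 (Y ⧸ O) := by
      refine le_sSup ⟨⟨fun x hx g => ?_⟩, Nat.coprime_two_right.2 ?_⟩
      · have hxc : x ∈ center (Y ⧸ O) := zpowers_le.2 (pow_mem c.2 _) hx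
        rwa [mem_center_iff.1 hxc g, mul_inv_cancel_right]
      · rw [Nat.card_zpowers, orderOf_pow_of_dvd (by positivity) (hmr ▸ dvd_mul_right _ _), hmr,
          Nat.mul_div_cancel_left r (by positivity)]
        exact hr
    rw [hbot, le_bot_iff, zpowers_eq_bot] at hle
    exact hle
  -- the quotient by the centre
  let φ : (Y ⧸ O) ⧸ center (Y ⧸ O) ≃* L :=
    (QuotientGroup.quotientMulEquivOfEq hker.symm).trans (QuotientGroup.quotientKerEquivOfSurjective πh hπhs)
  have hφ : ∀ y, φ (QuotientGroup.mk' (center (Y ⧸ O)) y) = πh y := fun y => rfl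
  haveI : IsSimpleGroup ((Y ⧸ O) ⧸ center (Y ⧸ O)) := φ.isSimpleGroup
  have hqs : Cfsg.IsQuasisimple (Y ⧸ O) := by
    refine ⟨Group.isPerfect_def.2 (eq_top_iff.2 fun q _ => ?_), inferInstance⟩
    obtain ⟨y, rfl⟩ := QuotientGroup.mk'_surjective O q
    have hy : mk y ∈ (commutator Y).map mk := mem_map_of_mem mk (C.perfect ▸ mem_top y)
    rw [commutator_def, map_commutator] at hy
    exact commutator_mono le_top le_top hy
  set H := stabilizer L a with hH
  set HX := H.comap πh with hHX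
  -- a maximal 2-subgroup above
  obtain ⟨S⟩ : Nonempty (Sylow 2 (H.comap π)) := inferInstance
  set S' := (S : Subgroup (H.comap π)).map (H.comap π).subtype with hS'
  have hS'2 : IsPGroup 2 S' := S.2.map _
  have hS'le : S' ≤ H.comap π := map_subtype_le _
  have hS'max : ∀ P : Subgroup Y, IsPGroup 2 P → P ≤ H.comap π → S' ≤ P → P = S' := by
    intro P hP hPH hle
    have h1 := S.3 (Q := P.subgroupOf (H.comap π)) hP.comap_subtype fun s hs =>
      mem_subgroupOf.2 (hle ⟨s, hs, rfl⟩)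
    rw [hS', ← h1, subgroupOf_map_subtype, inf_eq_left.2 hPH]
  have hSQ : ∀ s ∈ S', π s ∈ Qb := fun s hs =>
    M.qmax _ (hS'2.map π) (map_le_iff_le_comap.2 hS'le) (mem_map_of_mem π hs)
  -- the class in the maximal subgroup is central there
  have hcentS : ∀ d ∈ S', IsConj d₀ d → ∀ s ∈ S', Commute d s := by
    intro d hd hdc s hs
    have hdH : π d ∈ H := hS'le hd
    have hc : Commute (π d) (π s) := (M.qinvol _ (C.map_ord hdc) hdH).2 _ (hSQ s hs)
    have hconj : IsConj d₀ (s * d * s⁻¹) := hdc.trans (isConj_iff.2 ⟨s, rfl⟩)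
    have hodd := C.same _ _ hdc hconj (by rw [map_mul, map_mul, map_inv, ← hc.eq, mul_inv_cancel_right])
    obtain ⟨n, hn⟩ := hS'2.exists_orderOf_eq_pow ⟨_, mul_mem hd (mul_mem (mul_mem hs hd) (inv_mem hs))⟩
    rw [Subgroup.orderOf_mk] at hn
    rw [hn] at hodd
    have h1 : d * (s * d * s⁻¹) = 1 := orderOf_eq_one_iff.1 (by
      rcases n with _ | n
      · rw [hn, pow_zero]
      · rw [pow_succ, Nat.odd_mul] at hodd; exact absurd hodd.2 (by decide))
    rw [mul_eq_one_iff_eq_inv, mul_inv_rev, mul_inv_rev, inv_inv, inv_of_order_two (C.ord_conj hdc)] at h1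
    exact eq_mul_inv_iff_mul_eq.1 (h1.trans (mul_assoc _ _ _).symm)
  let R : Subgroup Y :=
    { carrier := {x | x = 1 ∨ (x ∈ S' ∧ IsConj d₀ x)}
      one_mem' := Or.inl rfl
      inv_mem' := fun {x} hx => by
        rcases hx with rfl | ⟨hx, hxc⟩
        · exact Or.inl inv_one
        · exact Or.inr (by rw [inv_of_order_two (C.ord_conj hxc)]; exact ⟨hx, hxc⟩)
      mul_mem' := fun {x y} hx hy => by
        rcases hx with rfl | ⟨hx, hxc⟩
        · rwa [one_mul]
        rcases hy with rfl | ⟨hy, hyc⟩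
        · rw [mul_one]; exact Or.inr ⟨hx, hxc⟩
        by_cases hxy : x = y
        · exact Or.inl (by rw [hxy, sq_of_order_two (C.ord_conj hyc)])
        · exact Or.inr ⟨mul_mem hx hy, C.prod x y hxc hyc (hcentS x hx hxc y hy) hxy⟩ }
  -- the preimage of the Sylow subgroup
  have hPpre : S'.map mk = Qb.comap πh := by
    refine map_eq_of_max mk (QuotientGroup.mk'_surjective O)
      (M.q2.comap_of_ker_isPGroup πh (by rw [hker]; exact htwo)) hS'2 (fun s hs => hSQ s hs) ?_
    exact fun P' hP' hle hS => hS'max P' hP' (fun p hp => M.qle (hle hp)) hS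
  have lift_member : ∀ x, IsConj d₀ x → π x ∈ H → ∃ r ∈ R, mk r = mk x := by
    intro x hx hxH
    have h1 : mk x ∈ Qb.comap πh := (M.qinvol _ (C.map_ord hx) hxH).1
    rw [← hPpre] at h1
    obtain ⟨s, hs, hsx⟩ := h1
    refine ⟨s, Or.inr ⟨hs, ?_⟩, hsx⟩
    have hoddO : Odd (Nat.card O) := Cfsg.Lib.ZStarApps.odd_card_pPrimeCore
    have hsx' : s⁻¹ * x ∈ O := QuotientGroup.eq.1 hsx
    have hs2 : s * s = 1 := by
      refine eq_one_of_two_odd hS'2 hoddO (mul_mem hs hs) ((QuotientGroup.eq_one_iff _).1 ?_)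
      show mk (s * s) = 1
      rw [map_mul, hsx, ← map_mul, sq_of_order_two (C.ord_conj hx), map_one]
    have hs1 : s ≠ 1 := fun h => by
      subst h
      rw [map_one] at hsx
      exact C.map_ne hx (by rw [← hcomp, ← hsx, map_one])
    have hsi : s⁻¹ = s := inv_eq_of_mul_eq_one_right hs2
    obtain ⟨g, -, hg⟩ := Cfsg.Lib.InvolCalc.conj_of_odd (order_two_of_mul_self hs2 hs1) (C.ord_conj hx)
      ((hoddO).of_dvd_nat (Subgroup.orderOf_dvd_natCard O (hsi ▸ hsx')))
    exact hx.trans ((isConj_iff.2 ⟨g, hg⟩).symm)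
  have hdata : CoverData HX (R.map mk) := by
    refine ⟨hqs, htwo, ?_, ?_, ?_, ?_, ?_, ?_⟩
    · have e : HX.map (QuotientGroup.mk' (center (Y ⧸ O))) = H.comap φ.toMonoidHom := by
        ext x
        constructor
        · rintro ⟨y, hy, rfl⟩
          exact hy
        · intro hx
          obtain ⟨y, rfl⟩ := QuotientGroup.mk'_surjective _ x
          exact ⟨y, hx, rfl⟩
      rw [e]
      obtain ⟨i, hi, hiH⟩ : ∃ i : L, orderOf i = 2 ∧ i ∈ H := by
        obtain ⟨i, hi⟩ := exists_prime_orderOf_dvd_card' 2 (even_iff_two_dvd.1 C.setting.se.2.1)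
        exact ⟨i, by rw [← hi, Subgroup.orderOf_coe], i.2⟩
      refine embedded_comap φ.toMonoidHom φ.injective C.setting.se (fun htop => ?_)
        (t := φ.symm i) (by rw [MulEquiv.orderOf_eq, hi]) ?_
      · refine C.setting.se.1 (eq_top_iff.2 fun l _ => ?_)
        have : φ.symm l ∈ H.comap φ.toMonoidHom := htop ▸ mem_top _
        have h2 : φ (φ.symm l) ∈ H := this
        rwa [φ.apply_symm_apply] at h2
      · show φ (φ.symm i) ∈ H
        rwa [φ.apply_symm_apply]
    · rw [← hker]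
      exact MonoidHom.ker_le_comap _ _
    · rintro _ ⟨r, hr, rfl⟩
      rcases hr with rfl | ⟨hr, -⟩
      · rw [map_one]; exact one_mem _
      · exact hS'le hr
    · suffices hn : ∀ g ∈ HX, ∀ x ∈ R.map mk, g * x * g⁻¹ ∈ R.map mk from fun g hg =>
        mem_normalizer_iff.2 fun x => ⟨hn g hg x, fun hx => by
          simpa [mul_assoc] using hn g⁻¹ (inv_mem hg) _ hx⟩
      rintro g hg _ ⟨r, hr, rfl⟩
      obtain ⟨g, rfl⟩ := QuotientGroup.mk'_surjective O g
      rcases hr with rfl | ⟨hr, hrc⟩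
      · rw [map_one, mul_one, mul_inv_cancel]; exact one_mem _
      · obtain ⟨r', hr', he'⟩ := lift_member (g * r * g⁻¹) (hrc.trans (isConj_iff.2 ⟨g, rfl⟩)) (by
          rw [map_mul, map_mul, map_inv]
          exact mul_mem (mul_mem hg (hS'le hr)) (inv_mem hg))
        exact ⟨r', hr', by rw [he', map_mul, map_mul, map_inv]⟩
    · rintro c hc ⟨r, hr, rfl⟩ -
      rcases hr with rfl | ⟨-, hrc⟩
      · exact map_one _
      · exfalso
        rw [← hker, MonoidHom.mem_ker] at hc
        exact C.map_ne hrc hc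
    · intro x hx hx2
      have h2 : orderOf (πh x) = 2 := by rw [← hφ, MulEquiv.orderOf_eq]; exact hx2
      obtain ⟨d, hd, hdx⟩ := C.exists_lift h2
      obtain ⟨r, hr, hrd⟩ := lift_member d hd (hdx ▸ hx)
      exact ⟨mk r, mem_map_of_mem mk hr, φ.injective (by rw [hφ, hφ, hrd, hcomp, hdx])⟩
  have hbotc := hdata.center_eq_bot Cfsg.Lib.BenderSE.regProp
  refine le_antisymm (fun k hk => ?_) C.core_le
  have h1 := hcent k hk
  rw [hbotc, mem_bot] at h1
  exact (QuotientGroup.eq_one_iff k).1 h1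

theorem ker_odd : Odd (Nat.card π.ker) := by
  rw [C.ker_eq_core]; exact Cfsg.Lib.ZStarApps.odd_card_pPrimeCore

end LineCover

end Cfsg.Lib.BenderSE.Crit2
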