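/-
Aschbacher's criterion, the Sylow subgroup, the group of the members and the torus of a line, lifted from the
model through the odd kernel.
-/
import Cfsg.Agent.BenderSE.Criterion2.LineLift

set_option autoImplicit false
set_option linter.unusedSectionVars false
set_option linter.style.haveILetI false

namespace Cfsg.Lib.BenderSE.Crit2

open Subgroup MulAction Cfsg.Lib.InvolCalc Cfsg.Lib.StrongEmb Cfsg.Lib.BenderSE.CritDep

universe u v

variable {Y L : Type u} [Group Y] [Finite Y] [Group L] [Finite L] {β : Type v} [MulAction L β]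

/-- in a finite group mapping a subgroup into itself is normalising it -/
theorem mem_normalizer_of_maps {G : Type*} [Group G] [Finite G] {N : Subgroup G} {g : G}
    (h : ∀ x ∈ N, g * x * g⁻¹ ∈ N) : g ∈ normalizer (N : Set G) := by
  refine mem_normalizer_iff.2 fun x => ⟨h x, fun hx => ?_⟩
  have hn : ∀ (n : ℕ) (y : G), y ∈ N → g ^ n * y * (g ^ n)⁻¹ ∈ N := by
    intro n
    induction n with
    | zero => intro y hy; simpa using hy
    | succ n ih =>
      intro y hy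
      rw [pow_succ', show g * g ^ n * y * (g * g ^ n)⁻¹ = g * (g ^ n * y * (g ^ n)⁻¹) * g⁻¹ by group]
      exact h _ (ih y hy)
  have h1 := hn (orderOf g - 1) _ hx
  have h2 : g ^ (orderOf g - 1) * g = 1 := by
    rw [← pow_succ, Nat.sub_add_cancel (orderOf_pos g), pow_orderOf_eq_one]
  rwa [show g ^ (orderOf g - 1) * (g * x * g⁻¹) * (g ^ (orderOf g - 1))⁻¹ =
    g ^ (orderOf g - 1) * g * x * (g ^ (orderOf g - 1) * g)⁻¹ by group, h2, one_mul, inv_one, mul_one] at h1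

/-- the data of the line inside the cover -/
structure LiftData (π : Y →* L) (d₀ : Y) (a : β) (A Q X : Subgroup Y) (q j : ℕ) : Prop where
  card : Nat.card A = q
  four : 4 ≤ q
  pow : ∃ k, q = 2 ^ k
  jcase : j = 1 ∨ j = 2 ∨ j = 3
  cardQ : Nat.card Q = q ^ j
  twoQ : IsPGroup 2 Q
  Qle : Q ≤ (stabilizer L a).comap π
  Qmax : ∀ P : Subgroup Y, IsPGroup 2 P → P ≤ (stabilizer L a).comap π → Q ≤ P → P = Q
  regQ : ∀ p r : β, p ≠ a → r ≠ a → ∃! g : Y, g ∈ Q ∧ π g • p = r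
  leQ : A ≤ Q
  memA : ∀ d ∈ A, d ≠ 1 → IsConj d₀ d
  invA : ∀ d ∈ Q, orderOf d = 2 → d ∈ A
  elem : ∀ d ∈ A, d * d = 1
  centQ : ∀ d ∈ A, ∀ g ∈ Q, Commute d g
  Xle : X ≤ (stabilizer L a).comap π
  cyclicX : IsCyclic X
  oddX : Odd (Nat.card X)
  normA : X ≤ normalizer (A : Set Y)
  normQ : X ≤ normalizer (Q : Set Y)
  transA : ∀ d ∈ A, ∀ e ∈ A, d ≠ 1 → e ≠ 1 → ∃ x ∈ X, x * d * x⁻¹ = e
  semilinear : ∀ γ : MulAut Y, (∀ y, π y ∈ stabilizer L a → π (γ y) ∈ stabilizer L a) → (∀ d ∈ A, γ d ∈ A) →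
    ∀ x ∈ X, ∃ y ∈ X, ∀ d ∈ A, γ x * d * (γ x)⁻¹ = y * d * y⁻¹

variable {π : Y →* L} {d₀ : Y} {a : β}

theorem LineCover.exists_liftData (C : LineCover π d₀ a) :
    ∃ (A Q X : Subgroup Y) (q j : ℕ), LiftData π d₀ a A Q X q j := by
  haveI : Fact (Nat.Prime 2) := ⟨Nat.prime_two⟩
  haveI := C.simple
  haveI := C.trans
  obtain ⟨Qb, Cb, k, e, M⟩ := exists_modelData C.setting
  have hK := C.ker_odd
  set H := stabilizer L a with hH
  obtain ⟨T⟩ : Nonempty (Sylow 2 (H.comap π)) := inferInstance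
  set S := (T : Subgroup (H.comap π)).map (H.comap π).subtype with hS
  have hS2 : IsPGroup 2 S := T.2.map _
  have hSle : S ≤ H.comap π := map_subtype_le _
  have hSmax : ∀ P : Subgroup Y, IsPGroup 2 P → P ≤ H.comap π → S ≤ P → P = S := by
    intro P hP hPH hle
    have h1 := T.3 (Q := P.subgroupOf (H.comap π)) hP.comap_subtype fun s hs =>
      mem_subgroupOf.2 (hle ⟨s, hs, rfl⟩)
    rw [hS, ← h1, subgroupOf_map_subtype, inf_eq_left.2 hPH]
  have hSQ : S.map π = Qb := by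
    refine map_eq_of_max π C.surj M.q2 hS2 (fun s hs => ?_) fun P hP hle hSP =>
      hSmax P hP (fun p hp => M.qle (hle hp)) hSP
    exact M.qmax _ (hS2.map π) (map_le_iff_le_comap.2 hSle) (mem_map_of_mem π hs)
  have hinj : ∀ s ∈ S, ∀ s' ∈ S, π s = π s' → s = s' := fun s hs s' hs' h =>
    inv_mul_eq_one.1 (eq_one_of_two_odd hS2 hK (mul_mem (inv_mem hs) hs') (by
      rw [MonoidHom.mem_ker, map_mul, map_inv, h, inv_mul_cancel]))
  have hQS : ∀ s ∈ S, π s ∈ Qb := fun s hs => hSQ ▸ mem_map_of_mem π hs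
  -- the members in the Sylow subgroup are its involutions
  have hord : ∀ s ∈ S, orderOf s = 2 → orderOf (π s) = 2 := fun s hs hs2 =>
    order_two_of_mul_self (by rw [← map_mul, sq_of_order_two hs2, map_one]) fun h =>
      ne_one_of_order_two hs2 (hinj s hs 1 (one_mem _) (by rw [h, map_one]))
  have hcentS : ∀ s ∈ S, orderOf s = 2 → ∀ g ∈ S, Commute s g := fun s hs hs2 g hg =>
    hinj _ (mul_mem hs hg) _ (mul_mem hg hs) (by
      rw [map_mul, map_mul]; exact (M.qinvol _ (hord s hs hs2) (hSle hs)).2 _ (hQS g hg))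
  have hmemc : ∀ s ∈ S, orderOf s = 2 → IsConj d₀ s := by
    intro s hs hs2
    obtain ⟨d, hd, hds⟩ := C.exists_lift (hord s hs hs2)
    obtain ⟨g, -, hg⟩ := Cfsg.Lib.InvolCalc.conj_of_odd hs2 (C.ord_conj hd)
      (hK.of_dvd_nat (Subgroup.orderOf_dvd_natCard _ (by
        rw [MonoidHom.mem_ker, map_mul, hds, ← map_mul, sq_of_order_two hs2, map_one])))
    exact hd.trans (isConj_iff.2 ⟨g, hg⟩).symm
  let A : Subgroup Y :=
    { carrier := {x | x ∈ S ∧ x * x = 1}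
      one_mem' := ⟨one_mem _, one_mul 1⟩
      inv_mem' := fun {x} hx => ⟨inv_mem hx.1, by rw [← mul_inv_rev, hx.2, inv_one]⟩
      mul_mem' := fun {x y} hx hy => ⟨mul_mem hx.1 hy.1, by
        by_cases hx1 : x = 1
        · rw [hx1, one_mul]; exact hy.2
        have hc : Commute x y := hcentS x hx.1 (order_two_of_mul_self hx.2 hx1) y hy.1
        rw [hc.symm.mul_mul_mul_comm, hx.2, hy.2, one_mul]⟩ }
  have hAS : A ≤ S := fun x hx => hx.1
  have hA2 : ∀ d ∈ A, d ≠ 1 → orderOf d = 2 := fun d hd h1 => order_two_of_mul_self hd.2 h1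
  have hcentA : ∀ d ∈ A, ∀ g ∈ S, Commute d g := fun d hd g hg => by
    by_cases h1 : d = 1
    · subst h1; exact Commute.one_left g
    · exact hcentS d hd.1 (hA2 d hd h1) g hg
  have hliftI : ∀ i, orderOf i = 2 → i ∈ H → ∃ d ∈ A, π d = i := by
    intro i hi hiH
    obtain ⟨s, hs, rfl⟩ : i ∈ S.map π := hSQ.symm ▸ (M.qinvol i hi hiH).1
    exact ⟨s, ⟨hs, hinj _ (mul_mem hs hs) 1 (one_mem _) (by rw [map_mul, sq_of_order_two hi, map_one])⟩, rfl⟩
  have hcardA : Nat.card A = 2 ^ k := by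
    classical
    haveI : Fintype L := Fintype.ofFinite L
    let f : A → Option {i : L // orderOf i = 2 ∧ i ∈ H} := fun d =>
      if h : (d : Y) = 1 then none else some ⟨π d, hord _ d.2.1 (hA2 _ d.2 h), hSle d.2.1⟩
    have hf : Function.Bijective f := by
      refine ⟨fun d d' h => ?_, fun o => ?_⟩
      · simp only [f] at h
        split_ifs at h with h1 h2 h3
        · exact Subtype.ext (h1.trans h2.symm)
        · exact Subtype.ext (hinj _ d.2.1 _ d'.2.1 (congrArg Subtype.val (Option.some.inj h)))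
      · cases o with
        | none => exact ⟨1, dif_pos rfl⟩
        | some i =>
          obtain ⟨d, hd, hdi⟩ := hliftI i i.2.1 i.2.2
          have hd1 : d ≠ 1 := fun h => ne_one_of_order_two i.2.1 (by rw [← hdi, h, map_one])
          exact ⟨⟨d, hd⟩, by simp only [f, dif_neg hd1]; exact congrArg some (Subtype.ext hdi)⟩
    rw [Nat.card_eq_of_bijective f hf, Finite.card_option, M.cardI]
  -- lifting into the normaliser of the Sylow subgroup
  have hlift : ∀ l ∈ H, ∃ g : Y, π g = l ∧ g ∈ normalizer (S : Set Y) := by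
    intro l hl
    obtain ⟨g₀, rfl⟩ := C.surj l
    set P := Qb.comap π with hP
    have hSP : S ≤ P := fun s hs => hQS s hs
    obtain ⟨R, hR⟩ : ∃ R : Sylow 2 P, (R : Subgroup P) = S.subgroupOf P := ⟨
      { toSubgroup := S.subgroupOf P
        isPGroup' := hS2.comap_subtype
        is_maximal' := fun {R'} hR' hle => le_antisymm (fun r hr => mem_subgroupOf.2 (by
          rw [← hSmax (R'.map P.subtype) (hR'.map _) (fun p hp => M.qle (map_subtype_le R' hp))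
            fun s hs => ⟨⟨s, hSP hs⟩, hle (mem_subgroupOf.2 hs), rfl⟩]
          exact ⟨r, hr, rfl⟩)) hle }, rfl⟩
    set S₁ := S.map (MulAut.conj g₀).toMonoidHom with hS₁
    have hS₁P : S₁ ≤ P := by
      rintro _ ⟨s, hs, rfl⟩
      show π (g₀ * s * g₀⁻¹) ∈ Qb
      rw [map_mul, map_mul, map_inv]
      exact (mem_normalizer_iff.1 (M.qn hl) _).1 (hQS s hs)
    obtain ⟨R₁, hR₁⟩ := (show IsPGroup 2 (S₁.subgroupOf P) from (hS2.map _).comap_subtype).exists_le_sylow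
    obtain ⟨p, hp⟩ := MulAction.exists_smul_eq P R₁ R
    have hin : ∀ s ∈ S, (p : Y) * (g₀ * s * g₀⁻¹) * (p : Y)⁻¹ ∈ S := by
      intro s hs
      have h1 : (⟨g₀ * s * g₀⁻¹, hS₁P ⟨s, hs, rfl⟩⟩ : P) ∈ (R₁ : Subgroup P) :=
        hR₁ (mem_subgroupOf.2 ⟨s, hs, rfl⟩)
      have h2 : p * ⟨g₀ * s * g₀⁻¹, hS₁P ⟨s, hs, rfl⟩⟩ * p⁻¹ ∈ (R : Subgroup P) := by
        rw [← hp, Sylow.coe_subgroup_smul]
        exact Subgroup.smul_mem_pointwise_smul _ _ _ h1
      rw [hR, mem_subgroupOf] at h2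
      exact h2
    obtain ⟨q, hq, hqp⟩ : π (p : Y) ∈ S.map π := hSQ.symm ▸ (p.2 : π (p : Y) ∈ Qb)
    refine ⟨q⁻¹ * ((p : Y) * g₀), by rw [map_mul, map_inv, hqp, map_mul, inv_mul_cancel_left], ?_⟩
    refine mem_normalizer_of_maps fun s hs => ?_
    rw [show q⁻¹ * ((p : Y) * g₀) * s * (q⁻¹ * ((p : Y) * g₀))⁻¹ =
      q⁻¹ * ((p : Y) * (g₀ * s * g₀⁻¹) * (p : Y)⁻¹) * q by group]
    exact mul_mem (mul_mem (inv_mem hq) (hin s hs)) hq
  -- the torus
  haveI := M.cyclic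
  obtain ⟨c, hc⟩ := IsCyclic.exists_generator (α := Cb)
  obtain ⟨g, hgc, hgn⟩ := hlift c (M.cle c.2)
  obtain ⟨m, r, hr, hmr⟩ := Nat.exists_eq_two_pow_mul_odd (orderOf_pos g).ne'
  set x₀ := g ^ 2 ^ m with hx₀
  set X := zpowers x₀ with hX
  have hxo : orderOf x₀ = r := by
    rw [hx₀, orderOf_pow_of_dvd (by positivity) (hmr ▸ dvd_mul_right _ _), hmr,
      Nat.mul_div_cancel_left r (by positivity)]
  have hXn : X ≤ normalizer (S : Set Y) := zpowers_le.2 (pow_mem hgn _)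
  have hXH : X ≤ H.comap π := zpowers_le.2 (pow_mem (show g ∈ H.comap π from (show π g ∈ H from hgc ▸ M.cle c.2)) _)
  have hXA : X ≤ normalizer (A : Set Y) := fun x hx => mem_normalizer_of_maps fun d hd =>
    ⟨(mem_normalizer_iff.1 (hXn hx) d).1 hd.1, by
      rw [show x * d * x⁻¹ * (x * d * x⁻¹) = x * (d * d) * x⁻¹ by group, hd.2, mul_one, mul_inv_cancel]⟩
  have hcgen : ∀ l ∈ Cb, ∃ x ∈ X, π x = l := by
    intro l hl
    have hcop : (2 ^ m).Coprime (orderOf c) := (Nat.coprime_two_left.2 (M.codd.of_dvd_nat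
      (_root_.orderOf_dvd_natCard c))).pow_left m
    obtain ⟨i, hi⟩ := exists_pow_eq_self_of_coprime hcop
    obtain ⟨j, hj⟩ := mem_zpowers_iff.1 (hc ⟨l, hl⟩)
    refine ⟨(x₀ ^ i) ^ j, zpow_mem (pow_mem (mem_zpowers x₀) _) _, ?_⟩
    have h1 : π (x₀ ^ i) = (c : L) := by
      rw [hx₀, map_pow, map_pow, hgc, ← SubmonoidClass.coe_pow, ← SubmonoidClass.coe_pow, hi]
    rw [map_zpow, h1, ← SubgroupClass.coe_zpow, hj]
  have hXC : ∀ x ∈ X, π x ∈ Cb := by
    intro x hx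
    have : X ≤ Cb.comap π := zpowers_le.2 (mem_comap.2 (by rw [hx₀, map_pow, hgc]; exact pow_mem c.2 _))
    exact this hx
  -- equal images give equal actions
  have hact : ∀ {y y' : Y}, (∀ d ∈ A, y * d * y⁻¹ ∈ A) → (∀ d ∈ A, y' * d * y'⁻¹ ∈ A) →
      (∀ s, orderOf s = 2 → s ∈ H → π y * s * (π y)⁻¹ = π y' * s * (π y')⁻¹) →
      ∀ d ∈ A, y * d * y⁻¹ = y' * d * y'⁻¹ := by
    intro y y' hy hy' h d hd
    by_cases h1 : d = 1
    · rw [h1, mul_one, mul_one, mul_inv_cancel, mul_inv_cancel]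
    refine hinj _ (hy d hd).1 _ (hy' d hd).1 ?_
    rw [map_mul, map_mul, map_inv, map_mul, map_mul, map_inv]
    exact h _ (hord d hd.1 (hA2 d hd h1)) (hSle hd.1)
  have hXAc : ∀ x ∈ X, ∀ d ∈ A, x * d * x⁻¹ ∈ A := fun x hx d hd => (mem_normalizer_iff.1 (hXA hx) d).1 hd
  refine ⟨A, S, X, 2 ^ k, e, hcardA, ?_, ⟨k, rfl⟩, M.ecase, ?_, hS2, hSle, hSmax, fun p r hp hr => ?_, hAS,
    fun d hd h1 => hmemc d hd.1 (hA2 d hd h1), fun d hd hd2 => ⟨hd, sq_of_order_two hd2⟩, fun d hd => hd.2,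
    hcentA, hXH, inferInstance, ?_, hXA, hXn, fun d hd d' hd' h1 h1' => ?_, ?_⟩
  · calc 4 = 2 ^ 2 := by norm_num
      _ ≤ _ := Nat.pow_le_pow_right two_pos M.two
  · rw [← M.cardQ, ← hSQ]
    exact (Nat.card_congr (Equiv.ofBijective (fun s : S => (⟨π s, mem_map_of_mem π s.2⟩ : S.map π))
      ⟨fun s t h => Subtype.ext (hinj _ s.2 _ t.2 (congrArg Subtype.val h)), fun y => by
        obtain ⟨s, hs, hsy⟩ := y.2
        exact ⟨⟨s, hs⟩, Subtype.ext hsy⟩⟩))
  · obtain ⟨u, ⟨hu, hup⟩, huu⟩ := M.regular p r hp hr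
    rw [← hSQ] at hu
    obtain ⟨s, hs, rfl⟩ := hu
    exact ⟨s, ⟨hs, hup⟩, fun s' hs' => hinj _ hs'.1 _ hs (huu _ ⟨hQS _ hs'.1, hs'.2⟩)⟩
  · rw [hX, Nat.card_zpowers, hxo]; exact hr
  · obtain ⟨l, hl, hll⟩ := M.ctrans _ _ (hord d hd.1 (hA2 d hd h1)) (hSle hd.1)
      (hord d' hd'.1 (hA2 d' hd' h1')) (hSle hd'.1)
    obtain ⟨x, hx, rfl⟩ := hcgen l hl
    exact ⟨x, hx, hinj _ (hXAc x hx d hd).1 _ hd'.1 (by rw [map_mul, map_mul, map_inv, hll])⟩
  -- the semilinear action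
  intro γ hγH hγA x hx
  letI : CommGroup A :=
    { (inferInstance : Group A) with
      mul_comm := fun d d' => Subtype.ext (hcentA d d.2 d' (hAS d'.2)).eq }
  set D : Subgroup Y := H.comap π ⊓ normalizer (A : Set Y) with hD
  let φ : D →* MulAut A := (Subgroup.normalizerMonoidHom A).comp (Subgroup.inclusion inf_le_right)
  have hφ : ∀ (y : D) (d : A), ((φ y d : A) : Y) = y * d * (y : Y)⁻¹ := fun y d => rfl
  set Δ := φ.range with hΔ
  have hXD : X ≤ D := le_inf hXH hXA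
  set CA : Subgroup (MulAut A) := (X.subgroupOf D).map φ with hCA
  have hΔodd : Odd (Nat.card Δ) := by
    rw [← Nat.not_even_iff_odd, even_iff_two_dvd]
    intro h2
    obtain ⟨⟨δ, hδm⟩, hδ'⟩ := exists_prime_orderOf_dvd_card' 2 h2
    obtain ⟨y, rfl⟩ := MonoidHom.mem_range.1 hδm
    have hδ : orderOf (φ y) = 2 := (Subgroup.orderOf_coe _).trans hδ'
    obtain ⟨m', r', hr', hmr'⟩ := Nat.exists_eq_two_pow_mul_odd (orderOf_pos y).ne'
    have hyr : orderOf (y ^ r') = 2 ^ m' := by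
      rw [orderOf_pow_of_dvd hr'.pos.ne' (hmr' ▸ dvd_mul_left _ _), hmr', Nat.mul_div_cancel _ hr'.pos]
    have hφy : φ (y ^ r') = φ y := by
      obtain ⟨i, rfl⟩ := hr'
      rw [map_pow, pow_add, pow_mul, pow_two, sq_of_order_two hδ, one_pow, one_mul, pow_one]
    have hy2 : IsPGroup 2 (zpowers (π (y ^ r' : D))) := by
      have h1 : IsPGroup 2 (zpowers (y ^ r')) := IsPGroup.of_card (n := m') (by rw [Nat.card_zpowers, hyr])
      have h2 := h1.map (π.comp D.subtype)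
      rwa [MonoidHom.map_zpowers] at h2
    have hyQ : π ((y ^ r' : D) : Y) ∈ Qb :=
      M.qmax _ hy2 (zpowers_le.2 (mem_inf.1 (y ^ r').2).1) (mem_zpowers _)
    apply ne_one_of_order_two hδ
    rw [← hφy]
    refine MulEquiv.ext fun d => Subtype.ext ?_
    rw [hφ]
    show _ = (d : Y)
    by_cases h1 : (d : Y) = 1
    · rw [h1, mul_one, mul_inv_cancel]
    refine hinj _ ((mem_normalizer_iff.1 (mem_inf.1 (y ^ r').2).2 _).1 d.2).1 _ d.2.1 ?_
    rw [map_mul, map_mul, map_inv,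
      ← (M.qinvol _ (hord _ d.2.1 (hA2 _ d.2 h1)) (hSle d.2.1)).2 _ hyQ, mul_inv_cancel_right]
  have hCΔ : CA ≤ Δ := by
    rw [hCA, hΔ, MonoidHom.range_eq_map]; exact map_mono le_top
  have hCn : ∀ δ ∈ Δ, ∀ c ∈ CA, δ * c * δ⁻¹ ∈ CA := by
    rintro _ ⟨y, rfl⟩ _ ⟨⟨x', hx'D⟩, hx', rfl⟩
    rw [SetLike.mem_coe, mem_subgroupOf] at hx'
    obtain ⟨c', hc', hcact⟩ := M.cnorm (π y) (mem_inf.1 y.2).1 (π x') (hXC x' hx')
    obtain ⟨x'', hx'', hx''c⟩ := hcgen c' hc'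
    refine ⟨⟨x'', hXD hx''⟩, mem_subgroupOf.2 hx'', MulEquiv.ext fun d => Subtype.ext ?_⟩
    rw [← map_inv, ← map_mul, ← map_mul, hφ, hφ]
    refine (hact (hXAc x'' hx'') ?_ (fun s hs hsH => ?_) d d.2)
    · intro d' hd'
      exact (mem_normalizer_iff.1 (mem_inf.1 (y * ⟨x', hx'D⟩ * y⁻¹).2).2 d').1 hd'
    · simp only [Subgroup.coe_mul, Subgroup.coe_inv, map_mul, map_inv, hx''c]
      exact (hcact s hs hsH).symm
  have hCcyc : IsCyclic CA := by
    haveI : IsCyclic (X.subgroupOf D) :=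
      isCyclic_of_surjective _ (subgroupOfEquivOfLe hXD).symm.surjective
    exact isCyclic_of_surjective _ (φ.subgroupMap_surjective _)
  haveI : Nontrivial A := by
    rw [← Finite.one_lt_card_iff_nontrivial, hcardA]
    calc 1 < 2 ^ 1 := by norm_num
      _ ≤ _ := Nat.pow_le_pow_right two_pos (by have := M.two; omega)
  have hCt : ∀ d d' : A, d ≠ 1 → d' ≠ 1 → ∃ c ∈ CA, c d = d' := by
    intro d d' h1 h1'
    obtain ⟨l, hl, hll⟩ := M.ctrans _ _ (hord _ d.2.1 (hA2 _ d.2 fun h => h1 (Subtype.ext h))) (hSle d.2.1)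
      (hord _ d'.2.1 (hA2 _ d'.2 fun h => h1' (Subtype.ext h))) (hSle d'.2.1)
    obtain ⟨y, hy, rfl⟩ := hcgen l hl
    refine ⟨φ ⟨y, hXD hy⟩, mem_map_of_mem φ (mem_subgroupOf.2 hy), Subtype.ext ?_⟩
    rw [hφ]
    exact hinj _ (hXAc y hy d d.2).1 _ d'.2.1 (by rw [map_mul, map_mul, map_inv, hll])
  -- the automorphism on the members
  have hγbij : ∀ {P : Y → Prop}, (∀ y, P y → P (γ y)) → ∀ y, P (γ y) → P y := by
    intro P hP y hy
    have hn : ∀ (n : ℕ) (z : Y), P z → P ((γ ^ n : MulAut Y) z) := by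
      intro n
      induction n with
      | zero => exact fun z hz => hz
      | succ n ih => intro z hz; rw [pow_succ', MulAut.mul_apply]; exact hP _ (ih z hz)
    haveI : Finite (MulAut Y) := Finite.of_injective (fun f : MulAut Y => (f : Y → Y)) DFunLike.coe_injective
    have h1 := hn (orderOf γ - 1) _ hy
    rw [← MulAut.mul_apply, ← pow_succ, Nat.sub_add_cancel (orderOf_pos γ), pow_orderOf_eq_one] at h1
    exact h1
  let γA : MulAut A :=
    { toFun := fun d => ⟨γ d, hγA d d.2⟩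
      invFun := fun d => ⟨γ.symm d, hγbij (P := fun y => y ∈ A) hγA _ (by rw [γ.apply_symm_apply]; exact d.2)⟩
      left_inv := fun d => Subtype.ext (γ.symm_apply_apply _)
      right_inv := fun d => Subtype.ext (γ.apply_symm_apply _)
      map_mul' := fun d d' => Subtype.ext (map_mul γ _ _) }
  have hγD : ∀ {y : Y}, y ∈ D → γ y ∈ D := by
    intro y hy
    refine mem_inf.2 ⟨hγH y (mem_inf.1 hy).1, mem_normalizer_of_maps fun d hd => ?_⟩
    have hd' : γ.symm d ∈ A := hγbij (P := fun y => y ∈ A) hγA _ (by rw [γ.apply_symm_apply]; exact hd)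
    have h2 := hγA _ ((mem_normalizer_iff.1 (mem_inf.1 hy).2 _).1 hd')
    rwa [map_mul, map_mul, map_inv, γ.apply_symm_apply] at h2
  have hconj : ∀ y : D, γA * φ y * γA⁻¹ = φ ⟨γ y, hγD y.2⟩ := fun y => MulEquiv.ext fun d => Subtype.ext (by
    show γ ((y : Y) * γ.symm d * (y : Y)⁻¹) = γ y * d * (γ y)⁻¹
    rw [map_mul, map_mul, map_inv, γ.apply_symm_apply])
  have hΔinv : ∀ δ ∈ Δ, γA⁻¹ * δ * γA ∈ Δ := by
    haveI : Finite (MulAut A) := Finite.of_injective (fun f : MulAut A => (f : A → A)) DFunLike.coe_injective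
    have h1 : γA ∈ normalizer (Δ : Set (MulAut A)) := mem_normalizer_of_maps (by
      rintro _ ⟨y, rfl⟩; exact ⟨_, (hconj y).symm⟩)
    intro δ hδ
    simpa using (mem_normalizer_iff.1 (inv_mem h1) δ).1 hδ
  have heq : CA = CA.map (MulAut.conj γA).toMonoidHom := by
    refine torus_unique (fun d => Subtype.ext d.2.2) Δ hΔodd hCΔ ?_ hCn ?_ hCcyc
      (isCyclic_of_surjective _ ((MulAut.conj γA).toMonoidHom.subgroupMap_surjective _)) hCt ?_
    · rintro _ ⟨c', hc', rfl⟩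
      obtain ⟨y, rfl⟩ := hCΔ hc'
      exact ⟨_, (hconj y).symm⟩
    · rintro δ hδ _ ⟨c', hc', rfl⟩
      refine ⟨_, hCn _ (hΔinv δ hδ) c' hc', ?_⟩
      show γA * (γA⁻¹ * δ * γA * c' * (γA⁻¹ * δ * γA)⁻¹) * γA⁻¹ = δ * (γA * c' * γA⁻¹) * δ⁻¹
      group
    · intro d d' h1 h1'
      obtain ⟨c', hc', hcd⟩ := hCt (γA⁻¹ d) (γA⁻¹ d') (fun h => h1 ((γA⁻¹).injective (h.trans (map_one _).symm)))
        (fun h => h1' ((γA⁻¹).injective (h.trans (map_one _).symm)))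
      refine ⟨_, mem_map_of_mem _ hc', ?_⟩
      show γA (c' (γA⁻¹ d)) = d'
      rw [hcd]
      exact γA.apply_symm_apply d'
  have hmem : γA * φ ⟨x, hXD hx⟩ * γA⁻¹ ∈ CA :=
    heq.symm ▸ (⟨_, mem_map_of_mem φ (mem_subgroupOf.2 hx), rfl⟩ :
      γA * φ ⟨x, hXD hx⟩ * γA⁻¹ ∈ CA.map (MulAut.conj γA).toMonoidHom)
  rw [hconj] at hmem
  obtain ⟨⟨y, hyD⟩, hy, hyx⟩ := hmem
  refine ⟨y, mem_subgroupOf.1 hy, fun d hd => ?_⟩
  exact (congrArg Subtype.val (DFunLike.congr_fun hyx ⟨d, hd⟩)).symm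

end Cfsg.Lib.BenderSE.Crit2
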