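/-
Aschbacher's criterion, THE LINES: the members centralising an involution with two fixed points have a strongly
embedded point stabiliser on those points, and of rank at least two the line data (`LineStatement`).
-/
import Cfsg.Agent.BenderSE.Criterion2.LineInd
import Cfsg.Agent.BenderSE.Criterion2.LineTorus

set_option autoImplicit false
set_option linter.unusedSectionVars false
set_option linter.style.haveILetI false

namespace Cfsg.Lib.BenderSE.Crit2

open Subgroup MulAction Cfsg.Lib.InvolCalc Cfsg.Lib.StrongEmb Cfsg.Lib.BenderSE.CritDep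

universe u

variable {G α : Type u} [Group G] [MulAction G α] {z : G}

theorem localGen_eq_lineGen (z u : G) : localGen z u = lineGen z (zpowers u) := by
  refine congrArg Subgroup.closure (Set.ext fun d => ⟨fun hd => ⟨hd.1, fun w hw => ?_⟩, fun hd => ⟨hd.1, (hd.2 u (mem_zpowers u)).eq⟩⟩)
  obtain ⟨k, rfl⟩ := mem_zpowers_iff.1 hw
  exact (show Commute d u from hd.2).zpow_right k

variable [Finite G] [Finite α] [FaithfulSMul G α] (h : Crit G α z) {W : Subgroup G} (hW : IsPGroup 2 W)
  (hfix : (fixSet α W).Nontrivial) {n : ℕ} (crit : CriterionBelow.{u} n) (hn : Nat.card (lineImage α z W) < n)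
include h hW hfix

/-- the members centralising `W` form one class generating their group -/
theorem lineGen_conj {d e : lineGen z W} (hd : IsConj z (d : G)) (hdW : ∀ w ∈ W, Commute (d : G) w)
    (he : IsConj z (e : G)) (heW : ∀ w ∈ W, Commute (e : G) w) : IsConj d e := by
  obtain ⟨x, hx, -⟩ := h.uniq _ hd
  obtain ⟨y, hy, -⟩ := h.uniq _ he
  obtain ⟨k, hk, hkd⟩ := conj_in_line h hW hfix hd he hdW heW hx hy
  exact isConj_iff.2 ⟨⟨k, hk⟩, Subtype.ext hkd⟩

theorem lineGen_gen {d : G} (hd : IsConj z d) (hdW : ∀ w ∈ W, Commute d w) :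
    Subgroup.normalClosure ({⟨d, mem_lineGen hd hdW⟩} : Set (lineGen z W)) = ⊤ := by
  refine eq_top_iff.2 fun g _ => range_le_of_gen (MonoidHom.id (lineGen z W)) _ (fun e he => ?_) g
  obtain ⟨k, hk⟩ := isConj_iff.1 (lineGen_conj h hW hfix (d := ⟨d, mem_lineGen hd hdW⟩)
    (e := ⟨e, subset_closure he⟩) hd hdW he.1 he.2)
  have h2 := Subgroup.Normal.conj_mem
    (inferInstance : (Subgroup.normalClosure ({⟨d, mem_lineGen hd hdW⟩} : Set (lineGen z W))).Normal) _
    (subset_normalClosure (Set.mem_singleton _)) k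
  rw [hk] at h2
  exact h2

omit hW hfix in
/-- commuting elements commute with the group they centralise -/
theorem commute_lineGen (g : lineGen z W) : ∀ w ∈ W, Commute (g : G) w := fun w hw =>
  (mem_centralizer_iff.1 (lineGen_le z W g.2) w hw).symm

omit hW in
/-- products of members with the same action have odd order -/
theorem line_same {d e : lineGen z W} (hd : IsConj z (d : G)) (he : IsConj z (e : G))
    (heq : lineHom α z W d = lineHom α z W e) : Odd (orderOf (d * e)) := by
  rw [← Nat.not_even_iff_odd]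
  intro hev
  rw [← Subgroup.orderOf_coe, Subgroup.coe_mul] at hev
  obtain ⟨hc, hcd, -⟩ := central_spec (orderOf_conj h hd) (orderOf_conj h he) hev
  set k := orderOf ((d : G) * e) / 2
  have hker : ∀ p ∈ fixSet α W, (((d : G) * e) ^ k) • p = p := by
    intro p hp
    refine mem_stabilizer_iff.1 (pow_mem (mem_stabilizer_iff.2 ?_) k)
    have h1 : (d : G) • p = (e : G) • p := congrArg Subtype.val (Equiv.Perm.ext_iff.1 heq ⟨p, hp⟩)
    rw [mul_smul, ← h1, smul_smul_self h hd]
  have hcD : IsConj z (((d : G) * e) ^ k * d) := by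
    have h1 := isConj_rot h hd he (k : ℤ)
    rwa [zpow_natCast] at h1
  obtain ⟨x, hx, y, hy, hxy⟩ := hfix
  refine hxy (h.comm _ _ hcD hd (hcd.mul_left (Commute.refl (d : G)))
    (fun e'' => ne_one_of_order_two hc (mul_eq_right.1 e'')) x y ?_ ?_)
  all_goals rw [mul_assoc, sq_of_order_two (orderOf_conj h hd), mul_one]
  · exact hker x hx
  · exact hker y hy

include crit hn

/-- two commuting members give a cover of a model -/
theorem line_cover {d e : G} (hd : IsConj z d) (he : IsConj z e) (hde : Commute d e) (hne : d ≠ e)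
    (hdW : ∀ w ∈ W, Commute d w) (heW : ∀ w ∈ W, Commute e w) {a : fixSet α W} (hda : d • (a : α) = a) :
    LineCover (lineHom α z W).rangeRestrict ⟨d, mem_lineGen hd hdW⟩ a := by
  have C := crit_image h hW hfix hd hdW
  haveI : Nontrivial (fixSet α W) := hfix.coe_sort
  haveI := lineImage_transitive h hW hfix
  have hconj : ∀ x : lineGen z W, IsConj (⟨d, mem_lineGen hd hdW⟩ : lineGen z W) x → IsConj z (x : G) :=
    fun x hx => hd.trans ((lineGen z W).subtype.map_isConj hx)
  refine ⟨?_, inferInstance, line_setting h hW hfix crit hn hd he hde hne hdW heW hda,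
    (lineHom α z W).rangeRestrict_surjective, ?_, lineGen_gen h hW hfix hd hdW,
    ne_one_of_order_two C.ord, fun x y hx hy hxy => line_same h hfix (hconj x hx) (hconj y hy)
      (congrArg Subtype.val hxy), fun x y hx hy hc hxy => ?_, ?_⟩
  · have he' : IsConj ((lineHom α z W).rangeRestrict ⟨d, mem_lineGen hd hdW⟩)
        ((lineHom α z W).rangeRestrict ⟨e, mem_lineGen he heW⟩) :=
      (lineHom α z W).rangeRestrict.map_isConj (lineGen_conj h hW hfix hd hdW he heW)
    refine (simple_of_gen C (lineImage_gen h hW hfix hd hdW) he' ?_ fun heq =>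
      line_ne h hfix hd he hde hne hdW heW (congrArg Subtype.val heq).symm).1
    exact (show Commute (⟨d, mem_lineGen hd hdW⟩ : lineGen z W) ⟨e, mem_lineGen he heW⟩ from
      Subtype.ext hde.eq).map _
  · rw [Subgroup.orderOf_mk]; exact orderOf_conj h hd
  · exact lineGen_conj h hW hfix hd hdW (conj_mul_of_commute h (hconj x hx) (hconj y hy)
      (hc.map (lineGen z W).subtype) fun e' => hxy (Subtype.ext e')) (commute_lineGen h (x * y))
  · exact ⟨⟨d, mem_lineGen hd hdW⟩, ⟨e, mem_lineGen he heW⟩, IsConj.refl _,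
      lineGen_conj h hW hfix hd hdW he heW, fun e' => hne (congrArg Subtype.val e'), Subtype.ext hde.eq⟩

/-- THE KERNEL of the action on the line is odd -/
theorem line_ker_odd : Odd (Nat.card (lineHom α z W).ker) := by
  obtain ⟨a, ha, -⟩ := id hfix
  obtain ⟨d, hd, hda, hdW⟩ := h.central a W hW ha
  rw [← MonoidHom.ker_rangeRestrict]
  by_cases hp : ∃ d e : lineGen z W, IsConj z (d : G) ∧ IsConj z (e : G) ∧ d ≠ e ∧ Commute d e
  · obtain ⟨d', e', hd', he', hne, hc⟩ := hp
    obtain ⟨x, hx, -⟩ := h.uniq _ hd'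
    exact (line_cover h hW hfix crit hn hd' he' (hc.map (lineGen z W).subtype) (fun e'' => hne (Subtype.ext e''))
      (commute_lineGen h d') (commute_lineGen h e')
      (a := ⟨x, centre_mem h hd' (commute_lineGen h d') hx⟩) hx).ker_odd
  push Not at hp
  set dY : lineGen z W := ⟨d, mem_lineGen hd hdW⟩
  have hord : orderOf dY = 2 := (Subgroup.orderOf_mk _ _).trans (orderOf_conj h hd)
  have hiso : Cfsg.IsIsolatedInvolution dY := ⟨hord, fun g hg => by
    by_contra hne
    exact hp dY (g * dY * g⁻¹) hd (hd.trans (isConj_iff.2 ⟨(g : G), rfl⟩)) (fun e => hne e.symm) hg⟩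
  set O := Cfsg.pPrimeCore 2 (lineGen z W)
  have hodd : Odd (Nat.card O) := Cfsg.Lib.ZStarApps.odd_card_pPrimeCore
  refine hodd.of_dvd_nat (card_dvd_of_le fun k hk => ?_)
  have hmem : k ∈ O ⊔ zpowers dY := range_le_of_gen (MonoidHom.id (lineGen z W)) _ (fun e he => by
    obtain ⟨g, hg⟩ := isConj_iff.1 (lineGen_conj h hW hfix (d := dY) (e := ⟨e, subset_closure he⟩)
      hd hdW he.1 he.2)
    show (⟨e, subset_closure he⟩ : lineGen z W) ∈ O ⊔ zpowers dY
    rw [← hg, show g * dY * g⁻¹ = (dY * g * dY⁻¹ * g⁻¹)⁻¹ * dY by group]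
    exact mul_mem_sup (inv_mem (Cfsg.Lib.ZStarApps.zstarProp hiso g)) (mem_zpowers dY)) k
  rw [← SetLike.mem_coe, normal_mul] at hmem
  obtain ⟨o, ho, w, hw, rfl⟩ := Set.mem_mul.1 hmem
  obtain ⟨i, rfl⟩ := mem_zpowers_iff.1 hw
  rcases Int.even_or_odd' i with ⟨m, rfl | rfl⟩
  · rw [zpow_mul, zpow_two, sq_of_order_two hord, one_zpow, mul_one]
    exact ho
  · exfalso
    rw [zpow_add, zpow_mul, zpow_two, sq_of_order_two hord, one_zpow, one_mul, zpow_one, MonoidHom.mem_ker,
      map_mul, mul_eq_one_iff_inv_eq] at hk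
    have h1 : orderOf ((lineHom α z W).rangeRestrict dY) = 2 := (crit_image h hW hfix hd hdW).ord
    have h2 : orderOf ((lineHom α z W).rangeRestrict o) ∣ Nat.card O :=
      (orderOf_map_dvd _ o).trans (Subgroup.orderOf_dvd_natCard O ho)
    rw [← hk, orderOf_inv] at h1
    rw [h1] at h2
    exact Nat.not_even_iff_odd.2 hodd (even_iff_two_dvd.2 h2)

/-- THE LINE: its point stabiliser is strongly embedded -/
theorem line_embedded_gen {a : α} (ha : a ∈ fixSet α W) :
    Cfsg.IsStronglyEmbedded ((stabilizer G a).subgroupOf (lineGen z W)) := by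
  haveI : Nontrivial (fixSet α W) := hfix.coe_sort
  haveI := line_transitive h hW hfix
  haveI := lineImage_transitive h hW hfix
  haveI : Fact (Nat.Prime 2) := ⟨Nat.prime_two⟩
  obtain ⟨d, hd, hda, hdW⟩ := h.central a W hW ha
  refine ⟨fun htop => ?_, even_iff_two_dvd.2 ?_, fun g hg => ?_⟩
  · obtain ⟨b, hb⟩ := exists_ne (⟨a, ha⟩ : fixSet α W)
    obtain ⟨g, hg⟩ := exists_smul_eq (lineGen z W) (⟨a, ha⟩ : fixSet α W) b
    exact hb (hg.symm.trans (Subtype.ext (mem_stabilizer_iff.1 (mem_subgroupOf.1 (htop ▸ Subgroup.mem_top g)))))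
  · have h1 := Subgroup.orderOf_dvd_natCard ((stabilizer G a).subgroupOf (lineGen z W))
      (x := ⟨d, mem_lineGen hd hdW⟩) (mem_subgroupOf.2 (mem_stabilizer_iff.2 hda))
    rwa [Subgroup.orderOf_mk, orderOf_conj h hd] at h1
  · rw [← Nat.not_even_iff_odd, even_iff_two_dvd]
    intro h2
    obtain ⟨⟨i, hiH, hig⟩, hi⟩ := exists_prime_orderOf_dvd_card' 2 h2
    replace hi : orderOf i = 2 := (Subgroup.orderOf_coe _).trans hi
    obtain ⟨j, hj, hji⟩ := hig
    have hk := line_ker_odd h hW hfix crit hn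
    have hi2 : orderOf ((lineHom α z W).rangeRestrict i) = 2 := by
      refine order_two_of_mul_self (by rw [← map_mul, sq_of_order_two hi, map_one]) fun h1 => ?_
      have h3 := Subgroup.orderOf_dvd_natCard ((lineHom α z W).ker) (x := i)
        (by rw [← MonoidHom.ker_rangeRestrict]; exact h1)
      rw [hi] at h3
      exact Nat.not_even_iff_odd.2 hk (even_iff_two_dvd.2 h3)
    have hfix1 : (lineHom α z W).rangeRestrict i • (⟨a, ha⟩ : fixSet α W) = ⟨a, ha⟩ :=
      Subtype.ext (mem_stabilizer_iff.1 (mem_subgroupOf.1 hiH))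
    have hfix2 : (lineHom α z W).rangeRestrict i • (g • (⟨a, ha⟩ : fixSet α W)) = g • ⟨a, ha⟩ := by
      refine Subtype.ext ?_
      show (i : G) • (g : G) • a = (g : G) • a
      rw [← hji]
      show ((g : G) * j * (g : G)⁻¹) • (g : G) • a = (g : G) • a
      rw [mul_smul, mul_smul, inv_smul_smul, mem_stabilizer_iff.1 (mem_subgroupOf.1 hj)]
    have C := crit_image h hW hfix hd hdW
    have hconj := all_conj_of_gen crit hn C (lineImage_gen h hW hfix hd hdW) hi2
    exact hg (mem_subgroupOf.2 (mem_stabilizer_iff.2 (congrArg Subtype.val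
      (centre_unique C hconj hfix2 hfix1))))

/-- the data of a line of rank two -/
theorem line_data {d e : G} (hd : IsConj z d) (he : IsConj z e) (hde : Commute d e) (hne : d ≠ e)
    (hdW : ∀ w ∈ W, Commute d w) (heW : ∀ w ∈ W, Commute e w) {a : fixSet α W} (hda : d • (a : α) = a) :
    ∃ (A Q X : Subgroup (lineGen z W)) (q j : ℕ),
      LiftData (lineHom α z W).rangeRestrict ⟨d, mem_lineGen hd hdW⟩ a A Q X q j :=
  (line_cover h hW hfix crit hn hd he hde hne hdW heW hda).exists_liftData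

end Cfsg.Lib.BenderSE.Crit2

namespace Cfsg.Lib.BenderSE.Crit2

open Subgroup MulAction Cfsg.Lib.InvolCalc Cfsg.Lib.StrongEmb Cfsg.Lib.BenderSE.CritDep

universe u

/-- THE INDUCTION PIECE: both statements for every involution with two fixed points -/
theorem lineStatement {G α : Type u} [Group G] [Finite G] [MulAction G α] [FaithfulSMul G α] :
    LineStatement G α := by
  intro z h crit u a b hu hua hub hab
  haveI := h.finite
  set W := zpowers u with hWdef
  have hW : IsPGroup 2 W := isPGroup_zpowers_of_two hu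
  have ha : a ∈ fixSet α W := mem_line.2 hua
  have hfix : (fixSet α W).Nontrivial := ⟨a, ha, b, mem_line.2 hub, hab⟩
  have hn : Nat.card (lineImage α z W) < Nat.card G := by
    refine lt_of_le_of_lt (Nat.card_le_card_of_surjective _ (lineHom α z W).rangeRestrict_surjective) ?_
    refine lt_of_le_of_ne (card_le_card_group _) fun heq => ?_
    have htop := eq_top_iff.1 ((Subgroup.card_eq_iff_eq_top _).1 heq)
    refine ne_one_of_order_two hu (eq_of_smul_eq_smul fun p : α => ?_)
    obtain ⟨g, rfl⟩ := h.transitive a p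
    rw [one_smul, smul_smul, mem_centralizer_iff.1 (lineGen_le z W (htop (Subgroup.mem_top g))) u (mem_zpowers u),
      mul_smul, hua]
  refine ⟨by rw [localGen_eq_lineGen]; exact line_embedded_gen h hW hfix crit hn ha, ?_⟩
  rintro ⟨d₁, e₁, hd₁, he₁, hne₁, hc₁, hud₁, hue₁⟩
  have hdW₁ : ∀ w ∈ W, Commute d₁ w := fun w hw => by
    obtain ⟨k, rfl⟩ := mem_zpowers_iff.1 hw; exact hud₁.symm.zpow_right k
  have heW₁ : ∀ w ∈ W, Commute e₁ w := fun w hw => by
    obtain ⟨k, rfl⟩ := mem_zpowers_iff.1 hw; exact hue₁.symm.zpow_right k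
  -- move the pair to `a`
  obtain ⟨f, hf, hfa, hfW⟩ := h.central a W hW ha
  obtain ⟨x, hx, -⟩ := h.uniq d₁ hd₁
  obtain ⟨g, hg, hgd⟩ := conj_in_line h hW hfix hd₁ hf hdW₁ hfW hx hfa
  have hgW := commute_lineGen h (⟨g, hg⟩ : lineGen z W)
  have hd : IsConj z (g * d₁ * g⁻¹) := hd₁.trans (isConj_iff.2 ⟨g, rfl⟩)
  have he : IsConj z (g * e₁ * g⁻¹) := he₁.trans (isConj_iff.2 ⟨g, rfl⟩)
  have hdW : ∀ w ∈ W, Commute (g * d₁ * g⁻¹) w := fun w hw =>
    ((hgW w hw).mul_left (hdW₁ w hw)).mul_left (hgW w hw).inv_left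
  have heW : ∀ w ∈ W, Commute (g * e₁ * g⁻¹) w := fun w hw =>
    ((hgW w hw).mul_left (heW₁ w hw)).mul_left (hgW w hw).inv_left
  obtain ⟨A, Q, X, q, j, D⟩ := line_data h hW hfix crit hn hd he
    (hc₁.map (MulAut.conj g).toMonoidHom) (fun e' => hne₁ (mul_left_cancel (mul_right_cancel e'))) hdW heW
    (a := ⟨a, ha⟩) (show (g * d₁ * g⁻¹) • a = a by rw [hgd]; exact hfa)
  have hstab : ∀ y : (lineGen z W), (lineHom α z W).rangeRestrict y ∈ stabilizer (lineImage α z W) (⟨a, ha⟩ : fixSet α W) ↔ (y : G) • a = a := fun y =>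
    ⟨fun h1 => congrArg Subtype.val (mem_stabilizer_iff.1 h1), fun h1 => mem_stabilizer_iff.2 (Subtype.ext h1)⟩
  have hsm : ∀ (y : (lineGen z W)) (p : fixSet α W), (((lineHom α z W).rangeRestrict y • p : fixSet α W) : α) = (y : G) • (p : α) := fun y p => rfl
  have hle : ∀ (K : Subgroup (lineGen z W)), K.map (lineGen z W).subtype ≤ localGen z u := fun K => by
    rw [localGen_eq_lineGen]; exact map_subtype_le K
  have hfixa : ∀ {K : Subgroup (lineGen z W)}, K ≤ (stabilizer (lineImage α z W) (⟨a, ha⟩ : fixSet α W)).comap (lineHom α z W).rangeRestrict →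
      K.map (lineGen z W).subtype ≤ stabilizer G a := by
    rintro K hK _ ⟨y, hy, rfl⟩
    exact mem_stabilizer_iff.2 ((hstab y).1 (hK hy))
  have hnorm : ∀ {K K' : Subgroup (lineGen z W)}, K ≤ normalizer (K' : Set (lineGen z W)) →
      K.map (lineGen z W).subtype ≤ normalizer (K'.map (lineGen z W).subtype : Set G) := by
    rintro K K' hK _ ⟨y, hy, rfl⟩
    refine mem_normalizer_of_maps ?_
    rintro _ ⟨k, hk, rfl⟩
    exact ⟨y * k * y⁻¹, (mem_normalizer_iff.1 (hK hy) k).1 hk, by simp⟩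
  have hcardmap : ∀ K : Subgroup (lineGen z W), Nat.card (K.map (lineGen z W).subtype) = Nat.card K := fun K =>
    card_map_of_injective (lineGen z W).subtype_injective
  refine ⟨A.map (lineGen z W).subtype, Q.map (lineGen z W).subtype, X.map (lineGen z W).subtype, q, j, ?_⟩
  constructor
  case embedded => rw [localGen_eq_lineGen]; exact line_embedded_gen h hW hfix crit hn ha
  case card => rw [hcardmap]; exact D.card
  case four => exact D.four
  case pow => exact D.pow
  case jcase => exact D.jcase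
  case cardQ => rw [hcardmap]; exact D.cardQ
  case fixed =>
    classical
    rw [← D.cardQ, ← Finite.card_option]
    refine (Nat.card_eq_of_bijective (fun o : Option Q => o.elim (⟨a, ha⟩ : fixSet α W)
      fun s => (lineHom α z W).rangeRestrict (s : (lineGen z W)) • (⟨b, mem_line.2 hub⟩ : fixSet α W)) ⟨?_, ?_⟩).symm
    · have hne : ∀ s : Q, (lineHom α z W).rangeRestrict (s : (lineGen z W)) • (⟨b, mem_line.2 hub⟩ : fixSet α W) ≠ ⟨a, ha⟩ := fun s e' =>
        hab (smul_left_cancel _ (((hstab _).1 (D.Qle s.2)).trans (congrArg Subtype.val e').symm))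
      rintro (_ | s) (_ | t) e'
      · rfl
      · exact absurd e'.symm (hne t)
      · exact absurd e' (hne s)
      · obtain ⟨v, -, hv⟩ := D.regQ ⟨b, mem_line.2 hub⟩ ((lineHom α z W).rangeRestrict (s : (lineGen z W)) • ⟨b, mem_line.2 hub⟩)
          (fun e => hab (congrArg Subtype.val e).symm) (hne s)
        exact congrArg some (Subtype.ext ((hv _ ⟨s.2, rfl⟩).trans (hv _ ⟨t.2, e'.symm⟩).symm))
    · intro p
      by_cases hp : p = ⟨a, ha⟩
      · exact ⟨none, hp.symm⟩
      · obtain ⟨v, ⟨hv, hvp⟩, -⟩ := D.regQ ⟨b, mem_line.2 hub⟩ p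
          (fun e => hab (congrArg Subtype.val e).symm) hp
        exact ⟨some ⟨v, hv⟩, hvp⟩
  case twoQ => exact D.twoQ.map _
  case Qle => exact hle Q
  case Qfix => exact hfixa D.Qle
  case Qmax =>
    intro P hP hPY hPa hQP
    rw [localGen_eq_lineGen] at hPY
    have h1 := D.Qmax (P.subgroupOf (lineGen z W)) hP.comap_subtype
      (fun p hp => (hstab p).2 (mem_stabilizer_iff.1 (hPa (mem_subgroupOf.1 hp))))
      (fun s hs => mem_subgroupOf.2 (hQP ⟨s, hs, rfl⟩))
    rw [← h1, subgroupOf_map_subtype, inf_eq_left.2 hPY]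
  case regQ =>
    intro x hx y hy hxa hya
    obtain ⟨v, ⟨hv, hvp⟩, hu'⟩ := D.regQ ⟨x, hx⟩ ⟨y, hy⟩ (fun e' => hxa (congrArg Subtype.val e'))
      (fun e' => hya (congrArg Subtype.val e'))
    refine ⟨v, ⟨mem_map_of_mem _ hv, (hsm v ⟨x, hx⟩).symm.trans (congrArg Subtype.val hvp)⟩, ?_⟩
    rintro _ ⟨⟨w, hw, rfl⟩, hwy⟩
    exact congrArg Subtype.val (hu' w ⟨hw, Subtype.ext hwy⟩)
  case leQ => exact map_mono D.leQ
  case memA =>
    rintro _ ⟨w, hw, rfl⟩ hw1
    have hw1' : w ≠ 1 := fun e' => hw1 (by rw [e', map_one])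
    exact ⟨hd.trans ((lineGen z W).subtype.map_isConj (D.memA w hw hw1')), (commute_lineGen h w u (mem_zpowers u)).symm,
      (hstab w).1 (D.Qle (D.leQ hw))⟩
  case invA =>
    rintro _ ⟨w, hw, rfl⟩ hw2
    exact mem_map_of_mem _ (D.invA w hw (by rw [← Subgroup.orderOf_coe]; exact hw2))
  case elem =>
    rintro _ ⟨w, hw, rfl⟩
    rw [← map_mul, D.elem w hw, map_one]
  case centQ =>
    rintro _ ⟨w, hw, rfl⟩ _ ⟨v, hv, rfl⟩
    exact (D.centQ w hw v hv).map (lineGen z W).subtype
  case Xle => exact hle X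
  case Xfix => exact hfixa D.Xle
  case cyclicX =>
    haveI := D.cyclicX
    exact isCyclic_of_surjective _ ((lineGen z W).subtype.subgroupMap_surjective X)
  case oddX => rw [hcardmap]; exact D.oddX
  case centX =>
    rintro _ ⟨w, -, rfl⟩
    exact commute_lineGen h w u (mem_zpowers u)
  case normA => exact hnorm D.normA
  case normQ => exact hnorm D.normQ
  case transA =>
    rintro _ ⟨w, hw, rfl⟩ _ ⟨v, hv, rfl⟩ hw1 hv1
    obtain ⟨y, hy, hyw⟩ := D.transA w hw v hv (fun e' => hw1 (by rw [e', map_one]))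
      (fun e' => hv1 (by rw [e', map_one]))
    exact ⟨y, mem_map_of_mem _ hy, congrArg Subtype.val hyw⟩
  case semilinear =>
    rintro g₁ hga hgu hgA _ ⟨w, hw, rfl⟩
    have hmap : ∀ k : G, Commute k u → ∀ y ∈ (lineGen z W), k * y * k⁻¹ ∈ (lineGen z W) := by
      intro k hku y hy
      have hle' : (lineGen z W).map (MulAut.conj k).toMonoidHom ≤ (lineGen z W) := by
        rw [MonoidHom.map_closure, closure_le]
        rintro _ ⟨y', hy', rfl⟩
        refine mem_lineGen (hy'.1.trans (isConj_iff.2 ⟨k, rfl⟩)) fun v hv => ?_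
        obtain ⟨i, rfl⟩ := mem_zpowers_iff.1 hv
        exact ((hku.zpow_right i).mul_left (hy'.2 _ hv)).mul_left (hku.zpow_right i).inv_left
      exact hle' (mem_map_of_mem _ hy)
    let γ : MulAut (lineGen z W) :=
      { toFun := fun y => ⟨g₁ * y * g₁⁻¹, hmap g₁ hgu y y.2⟩
        invFun := fun y => ⟨g₁⁻¹ * y * g₁⁻¹⁻¹, hmap g₁⁻¹ hgu.inv_left y y.2⟩
        left_inv := fun y => Subtype.ext (by simp [mul_assoc])
        right_inv := fun y => Subtype.ext (by simp [mul_assoc])
        map_mul' := fun y y' => Subtype.ext (by simp [mul_assoc]) }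
    obtain ⟨y, hy, hyA⟩ := D.semilinear γ
      (fun v hv => (hstab _).2 (by
        show (g₁ * (v : G) * g₁⁻¹) • a = a
        rw [mul_smul, mul_smul, inv_smul_eq_iff.2 hga.symm, (hstab v).1 hv, hga]))
      (fun v hv => by
        obtain ⟨v', hv', hvv⟩ := (mem_normalizer_iff.1 hgA _).1 (mem_map_of_mem (lineGen z W).subtype hv)
        rwa [show γ v = v' from Subtype.ext hvv.symm])
      w hw
    refine ⟨y, mem_map_of_mem _ hy, ?_⟩
    rintro _ ⟨v, hv, rfl⟩
    exact congrArg Subtype.val (hyA v hv)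

end Cfsg.Lib.BenderSE.Crit2
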