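/-
Aschbacher's criterion, the model of a line of type U3: the rank one set-up on the points of the line, the
coordinates of `Q / Z` over the field with `q ^ 2` elements (`BenderSuzuki.U3.Frame`), the torus, its
irreducibility, and the automorphisms fixing two points and the involutions at one of them: scalars or scalars
times the involutory field automorphism.
-/
import Cfsg.Agent.BenderSE.Criterion2.LineModel
import Cfsg.Agent.BenderSuzuki.Unitary
import Cfsg.Agent.BenderSuzuki.Assembly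

set_option autoImplicit false
set_option linter.unusedSectionVars false
set_option linter.style.haveILetI false

namespace Cfsg.Lib.BenderSE.Crit2.RootModel

open Subgroup MulAction Cfsg.Lib.InvolCalc Cfsg.Lib.RankOne Cfsg.Lib.BenderSuzuki

universe uL uB

variable {L : Type uL} [Group L] [Finite L] {β : Type uB} [MulAction L β] {a : β}

/-- the rank one set-up of a model -/
theorem exists_simple [IsSimpleGroup L] [FaithfulSMul L β] [IsPretransitive L β]
    (hS : Cfsg.Lib.BenderSE.Setting (stabilizer L a)) {Q C : Subgroup L} {k e : ℕ}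
    (M : ModelData a Q C k e) : ∃ t : L, BenderSuzuki.Simple L β a t Q ∧ qNum L a = 2 ^ k := by
  classical
  haveI : Fact (Nat.Prime 2) := ⟨Nat.prime_two⟩
  obtain ⟨t, ht, ht2⟩ := Cfsg.Lib.BenderSuzuki.exists_invol_out (stabilizer L a) hS.se
  have hta : t • a ≠ a := fun h => ht (mem_stabilizer_iff.2 h)
  have htt : t * t = 1 := sq_of_order_two ht2
  -- the stabiliser of `t a`
  have hconj : ∀ g : L, g ∈ stabilizer L (t • a) ↔ t⁻¹ * g * t ∈ stabilizer L a := fun g => by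
    rw [mem_stabilizer_iff, mem_stabilizer_iff, mul_smul, mul_smul, inv_smul_eq_iff]
  have hsup : Q ⊔ (stabilizer L a ⊓ stabilizer L (t • a)) = stabilizer L a := by
    refine le_antisymm (sup_le M.qle inf_le_left) fun g hg => ?_
    have hga : g • a = a := hg
    have hgt : g • t • a ≠ a := fun h => hta (smul_left_cancel g (h.trans hga.symm))
    obtain ⟨x, ⟨hxQ, hxt⟩, -⟩ := M.regular (t • a) (g • t • a) hta hgt
    rw [← mul_inv_cancel_left x g]
    refine mul_mem_sup hxQ (mem_inf.2 ⟨mul_mem (inv_mem (M.qle hxQ)) hg, ?_⟩)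
    rw [mem_stabilizer_iff, mul_smul, inv_smul_eq_iff, hxt]
  have two : IsMultiplyPretransitive L β 2 := by
    have key : ∀ p q : β, p ≠ q → ∃ g : L, g • p = a ∧ g • q = t • a := fun p q hpq => by
      obtain ⟨g, hg⟩ := exists_smul_eq L p a
      have hgq : g • q ≠ a := fun h => hpq (smul_left_cancel g (hg.trans h.symm))
      obtain ⟨x, ⟨hxQ, hxq⟩, -⟩ := M.regular (g • q) (t • a) hgq hta
      exact ⟨x * g, by rw [mul_smul, hg, mem_stabilizer_iff.1 (M.qle hxQ)], by rw [mul_smul, hxq]⟩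
    refine is_two_pretransitive_iff.2 fun {p q r s} hpq hrs => ?_
    obtain ⟨g, g1, g2⟩ := key p q hpq
    obtain ⟨h, h1, h2⟩ := key r s hrs
    exact ⟨h⁻¹ * g, by rw [mul_smul, g1, inv_smul_eq_iff, h1], by rw [mul_smul, g2, inv_smul_eq_iff, h2]⟩
  have hR : Cfsg.IsRankOneSetup L β a t Q :=
    { two_transitive := two
      mul_self := htt
      ne_one := ne_one_of_order_two ht2
      not_mem := ht
      le := M.qle
      conj_mem := fun g hg x hx => (mem_normalizer_iff.1 (M.qn hg) x).1 hx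
      inf_eq_bot := by
        rw [Subgroup.eq_bot_iff_forall]
        intro x hx
        exact (M.regular (t • a) (t • a) hta hta).unique ⟨(mem_inf.1 hx).1, (mem_inf.1 hx).2⟩
          ⟨one_mem Q, one_smul _ _⟩
      sup_eq := hsup
      even_card := by
        rw [M.cardQ, ← pow_mul]
        refine Nat.even_pow.2 ⟨even_two, ?_⟩
        have := M.two
        rcases M.ecase with h | h | h <;> subst h <;> omega
      odd_card := by
        have h := hS.se.2.2 t ht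
        have e : stabilizer L (t • a) = (stabilizer L a).map (MulAut.conj t).toMonoidHom := by
          ext g
          rw [hconj, Subgroup.mem_map_equiv, MulAut.conj_symm_apply]
        rw [e]
        exact h }
  obtain ⟨p, q, hp, hq, hne, hc⟩ := hS.rank2
  refine ⟨t, ⟨hR, inferInstance, ⟨p, q, ne_one_of_order_two hp, ne_one_of_order_two hq, hne,
    sq_of_order_two hp, sq_of_order_two hq, hc⟩, inferInstance⟩, ?_⟩
  rw [← M.cardI, qNum]
  refine congrArg (· + 1) (Nat.card_congr (Equiv.subtypeEquivRight fun i => ?_))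
  show i ∈ (stabilizer L a : Set L) ∧ i ≠ 1 ∧ i * i = 1 ↔ _
  exact ⟨fun h => ⟨order_two_of_mul_self h.2.2 h.2.1, h.1⟩,
    fun h => ⟨h.2, ne_one_of_order_two h.1, sq_of_order_two h.1⟩⟩

/-- the coordinates when `|Q| = q ^ 3` -/
theorem exists_frame {t : L} {Q : Subgroup L} (hs : BenderSuzuki.Simple L β a t Q)
    (hQ : Nat.card Q = qNum L a ^ 3) :
    ∃ (F E : Type) (_ : Field F) (_ : Fintype F) (_ : CharP F 2) (_ : Field E) (_ : Fintype E) (_ : CharP E 2),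
      Nonempty (U3.Frame β a t Q F E) := by
  have hIH : IH.{uL, uB} (Nat.card L + 1) := ih_of_unitary unitaryStep _
  have hgood := hIH L β a t Q (Nat.lt_succ_self _) hs
  obtain ⟨k, hk, hqk⟩ := qNum_pow hs
  have hq : 4 ≤ qNum L a := by
    rw [hqk]
    exact le_trans (by norm_num) (Nat.pow_le_pow_right two_pos hk)
  rcases hgood.dich with ⟨-, h⟩ | ⟨-, h, -⟩ | ⟨hl, -, hna, hV⟩
  · rw [hQ] at h
    exact absurd h (ne_of_gt (lt_self_pow₀ (by omega) (by omega)))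
  · rw [hQ] at h
    exact absurd ((Nat.pow_right_injective (by omega : 2 ≤ qNum L a)) h) (by omega)
  · exact (U3.Input.of_step hs (ih_of_unitary unitaryStep _) hl hQ hna hV).exists_frame

variable {t : L} {Q : Subgroup L} {F E : Type} [Field F] [Fintype F] [CharP F 2] [Field E] [Fintype E]
  [CharP E 2] (Fr : U3.Frame β a t Q F E)

/-- the torus: the inverted elements and the element centralising the involutions -/
def torus : Subgroup L := Fr.kl.range ⊔ zpowers Fr.v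

theorem kl_mem_torus (l : Fˣ) : Fr.kl l ∈ torus Fr := mem_sup_left ⟨l, rfl⟩

theorem v_mem_torus : Fr.v ∈ torus Fr := mem_sup_right (mem_zpowers _)

theorem mem_torus {x : L} (hx : x ∈ torus Fr) : ∃ l, ∃ i : ℤ, x = Fr.kl l * Fr.v ^ i := by
  have hle : zpowers Fr.v ≤ normalizer (Fr.kl.range : Set L) := by
    refine le_trans ?_ (centralizer_le_normalizer _)
    rw [zpowers_le]
    refine mem_centralizer_iff.2 ?_
    rintro _ ⟨l, rfl⟩
    exact U3.kl_comm_centI (hS := Fr.input.setup) Fr.v_mem (Fr.coord.kl_mem l)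
  rw [torus, ← SetLike.mem_coe, coe_mul_of_right_le_normalizer_left _ _ hle] at hx
  obtain ⟨_, ⟨l, rfl⟩, _, ⟨i, rfl⟩, rfl⟩ := hx
  exact ⟨l, i, rfl⟩

theorem torus_le : torus Fr ≤ twoStab β a t :=
  sup_le (by rintro _ ⟨l, rfl⟩; exact Fr.coord.kl_D l) (zpowers_le.2 (Subgroup.mem_inf.1 Fr.v_mem).1)

/-- the torus is commutative -/
theorem torus_comm {x y : L} (hx : x ∈ torus Fr) (hy : y ∈ torus Fr) : Commute x y := by
  obtain ⟨l, i, rfl⟩ := mem_torus Fr hx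
  obtain ⟨m, j, rfl⟩ := mem_torus Fr hy
  have c1 : Commute (Fr.kl l) (Fr.v ^ j) :=
    U3.kl_comm_centI (hS := Fr.input.setup) (zpow_mem Fr.v_mem j) (Fr.coord.kl_mem l)
  have c2 : Commute (Fr.kl m) (Fr.v ^ i) :=
    U3.kl_comm_centI (hS := Fr.input.setup) (zpow_mem Fr.v_mem i) (Fr.coord.kl_mem m)
  exact Commute.mul_left (((Commute.all l m).map Fr.kl).mul_right c1)
    (c2.symm.mul_right ((Commute.refl Fr.v).zpow_zpow i j))

theorem conj_Q (Fr : U3.Frame β a t Q F E) {x p : L} (hx : x ∈ twoStab β a t) (hp : p ∈ Q) : x * p * x⁻¹ ∈ Q :=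
  Fr.input.setup.conj_mem x (Subgroup.mem_inf.1 hx).1 p hp

theorem ca_one : Fr.ca 1 = 0 := (Fr.ca_zero_iff 1 (one_mem Q)).2 (one_mul 1)

theorem ca_inv {p : L} (hp : p ∈ Q) : Fr.ca p⁻¹ = Fr.ca p := by
  have h := Fr.ca_mul p⁻¹ (inv_mem hp) p hp
  rw [inv_mul_cancel, ca_one] at h
  exact (CharTwo.add_eq_zero.1 h.symm)

/-- equal coordinates: equal modulo the involutions -/
theorem ca_eq_iff {p r : L} (hp : p ∈ Q) (hr : r ∈ Q) :
    Fr.ca p = Fr.ca r ↔ p⁻¹ * r * (p⁻¹ * r) = 1 := by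
  rw [← Fr.ca_zero_iff _ (mul_mem (inv_mem hp) hr), Fr.ca_mul _ (inv_mem hp) _ hr, ca_inv Fr hp,
    CharTwo.add_eq_zero]

theorem ν_unit (l : Fˣ) : Fr.ν (l : F) ≠ 0 := (map_ne_zero Fr.ν).2 l.ne_zero

theorem ca_kl' (l : Fˣ) {p : L} (hp : p ∈ Q) :
    Fr.ca (Fr.kl l * p * (Fr.kl l)⁻¹) = (Fr.ν (l : F))⁻¹ * Fr.ca p := by
  rw [← Fr.ca_kl l p hp, inv_mul_cancel_left₀ (ν_unit Fr l)]

/-- the torus acts by scalars -/
theorem scalar_torus {x : L} (hx : x ∈ torus Fr) :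
    ∃ c : E, ∀ p ∈ Q, Fr.ca (x * p * x⁻¹) = c * Fr.ca p := by
  obtain ⟨l, i, rfl⟩ := mem_torus Fr hx
  obtain ⟨c, -, -, hc⟩ := Fr.lin _ (zpow_mem Fr.v_mem i)
  refine ⟨(Fr.ν (l : F))⁻¹ * c, fun p hp => ?_⟩
  rw [show Fr.kl l * Fr.v ^ i * p * (Fr.kl l * Fr.v ^ i)⁻¹ =
    Fr.kl l * (Fr.v ^ i * p * (Fr.v ^ i)⁻¹) * (Fr.kl l)⁻¹ by group, ca_kl' Fr l
    (conj_Q Fr (Subgroup.mem_inf.1 (zpow_mem Fr.v_mem i)).1 hp), hc p hp, mul_assoc]

/-- `E = ν F + ν F ε` -/
theorem coord_E (x : E) : ∃ c d : F, x = Fr.ν c + Fr.ν d * Fr.ε := by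
  have hinj : Function.Injective (fun p : F × F => Fr.ν p.1 + Fr.ν p.2 * Fr.ε) := by
    rintro ⟨c, d⟩ ⟨c', d'⟩ h
    change Fr.ν c + Fr.ν d * Fr.ε = Fr.ν c' + Fr.ν d' * Fr.ε at h
    have h1 : Fr.ν c + Fr.ν c' = (Fr.ν d + Fr.ν d') * Fr.ε := by
      have h2 : (2 : E) = 0 := CharTwo.two_eq_zero
      linear_combination h + (Fr.ν c' - Fr.ν d * Fr.ε) * h2
    by_cases hd : Fr.ν d + Fr.ν d' = 0
    · rw [hd, zero_mul] at h1
      exact Prod.ext (Fr.ν_inj (CharTwo.add_eq_zero.1 h1)) (Fr.ν_inj (CharTwo.add_eq_zero.1 hd))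
    exfalso
    have hfix : Fr.D.bar Fr.ε = Fr.ε := by
      have e := congrArg Fr.D.bar h1
      simp only [map_add, map_mul, Fr.ν_fix] at e
      exact mul_left_cancel₀ hd (e.symm.trans h1)
    have hsq : (Fr.ε + 1) * (Fr.ε + 1) = 0 := by
      have h3 := Fr.ε_norm
      rw [hfix] at h3
      linear_combination h3 + (Fr.ε + 1) * (CharTwo.two_eq_zero (R := E))
    exact Fr.ε_ne (CharTwo.add_eq_zero.1 (mul_self_eq_zero.1 hsq))
  have hcard : Nat.card (F × F) = Nat.card E := by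
    rw [Nat.card_prod, Nat.card_eq_fintype_card (α := F), Fr.coord.card, ← Fr.q_eq,
      Nat.card_eq_fintype_card (α := E), Fr.D.hF, pow_two]
  obtain ⟨⟨c, d⟩, h⟩ := ((Nat.bijective_iff_injective_and_card _).2 ⟨hinj, hcard⟩).2 x
  exact ⟨c, d, h.symm⟩

/-- the torus is irreducible on `Q / Z` -/
theorem irreducible {Y : Subgroup L} (hYQ : Y ≤ Q) (hY : ∀ x ∈ torus Fr, ∀ y ∈ Y, x * y * x⁻¹ ∈ Y)
    {p : L} (hp : p ∈ Y) (hp0 : Fr.ca p ≠ 0) (hZ : ∀ z ∈ Q, z * z = 1 → z ∈ Y) : Y = Q := by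
  refine le_antisymm hYQ fun r hr => ?_
  -- the coordinates of `Y` are closed under the scalars
  have hν : ∀ c : F, ∀ y ∈ Y, ∃ y' ∈ Y, Fr.ca y' = Fr.ν c * Fr.ca y := fun c y hy => by
    by_cases hc : c = 0
    · exact ⟨1, one_mem Y, by rw [hc, map_zero, zero_mul, ca_one]⟩
    refine ⟨_, hY _ (kl_mem_torus Fr (Units.mk0 c hc)⁻¹) y hy, ?_⟩
    rw [ca_kl' Fr _ (hYQ hy), Units.val_inv_eq_inv_val, Units.val_mk0, map_inv₀, inv_inv]
  obtain ⟨c, d, hcd⟩ := coord_E Fr (Fr.ca r * (Fr.ca p)⁻¹)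
  obtain ⟨y₁, hy₁, e₁⟩ := hν c p hp
  obtain ⟨y₂, hy₂, e₂⟩ := hν d _ (hY _ (v_mem_torus Fr) p hp)
  rw [Fr.ca_v p (hYQ hp)] at e₂
  have hy : y₁ * y₂ ∈ Y := mul_mem hy₁ hy₂
  have hca : Fr.ca (y₁ * y₂) = Fr.ca r := by
    rw [Fr.ca_mul _ (hYQ hy₁) _ (hYQ hy₂), e₁, e₂, ← mul_assoc, ← add_mul, ← hcd,
      inv_mul_cancel_right₀ hp0]
  have h1 := hZ _ (mul_mem (inv_mem (hYQ hy)) hr) ((ca_eq_iff Fr (hYQ hy) hr).1 hca)
  have h2 := mul_mem hy h1
  rwa [mul_inv_cancel_left] at h2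

/-- an automorphism fixing two points -/
structure PairAut (φ : MulAut L) (σ : β ≃ β) : Prop where
  map : ∀ (l : L) (p : β), φ l • σ p = σ (l • p)
  fixa : σ a = a
  fixb : σ (t • a) = t • a
  fixQ : ∀ p ∈ Q, φ p ∈ Q

variable {Fr} {φ : MulAut L} {σ : β ≃ β} (A : PairAut (a := a) (t := t) (Q := Q) φ σ)
include A

theorem PairAut.twoStab_mem {x : L} (hx : x ∈ twoStab β a t) : φ x ∈ twoStab β a t := by
  obtain ⟨h1, h2⟩ := Subgroup.mem_inf.1 hx
  refine Subgroup.mem_inf.2 ⟨?_, ?_⟩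
  · rw [mem_stabilizer_iff]
    have h := A.map x a
    rwa [mem_stabilizer_iff.1 h1, A.fixa] at h
  · rw [mem_stabilizer_iff]
    have h := A.map x (t • a)
    rwa [mem_stabilizer_iff.1 h2, A.fixb] at h

theorem PairAut.invl_mem {s : L} (hs : s ∈ invl L a) : φ s ∈ invl L a := by
  refine ⟨?_, fun h => hs.2.1 (φ.injective (h.trans (map_one φ).symm)), by rw [← map_mul, hs.2.2, map_one]⟩
  have h := A.map s a
  rwa [show s • a = a from hs.1, A.fixa] at h

/-- the inverted elements are mapped to themselves -/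
theorem PairAut.invK_mem (Fr : U3.Frame β a t Q F E) {k : L} (hk : k ∈ invK β a t) : φ k ∈ invK β a t := by
  have hS := Fr.input.setup
  obtain ⟨C, hC, -, hCn⟩ := inverted_subgroup hS Fr.input.two
  have hCmem : ∀ x, x ∈ C ↔ x ∈ invK β a t := Set.ext_iff.1 hC
  set t' := φ t with ht'
  have ht'2 : t' * t' = 1 := by rw [← map_mul, hS.mul_self, map_one]
  have h1 : t' • a = t • a := by
    have h := A.map t a
    rwa [A.fixa, A.fixb] at h
  have h1' : t' • t • a = a := by rw [← h1, ← mul_smul, ht'2, one_smul]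
  have hD : t * t' ∈ twoStab β a t := by
    refine Subgroup.mem_inf.2 ⟨?_, ?_⟩
    · rw [mem_stabilizer_iff, mul_smul, h1, t_ta hS]
    · rw [mem_stabilizer_iff, mul_smul, h1']
  have hodd := orderOf_odd_mem hS.odd_card hD
  have hd2 : orderOf t = 2 := order_two_of_mul_self hS.mul_self hS.ne_one
  have ht'o : orderOf t' = 2 := by rw [ht', MulEquiv.orderOf_eq, hd2]
  obtain ⟨j, hj⟩ := hodd
  set d := (t * t') ^ (j : ℤ) with hdef
  have hdD : d ∈ twoStab β a t := zpow_mem hD _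
  have hdt : d * t * d⁻¹ = t' := by
    have hti := inv_of_sq hS.mul_self
    have hrev : t * d⁻¹ = d * t := by
      have h3 : t * (t * t') * t⁻¹ = (t * t')⁻¹ := by
        rw [mul_inv_rev, inv_of_sq ht'2, hti, ← mul_assoc, hS.mul_self, one_mul]
      have h4 : t * d * t⁻¹ = d⁻¹ := by
        rw [hdef, ← conj_zpow, h3, inv_zpow]
      calc t * d⁻¹ = t * (t * d * t⁻¹) := by rw [h4]
        _ = (t * t) * d * t⁻¹ := by group
        _ = d * t := by rw [hS.mul_self, one_mul, hti]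
    rw [mul_assoc, hrev, ← mul_assoc, hdef, ← zpow_add]
    have h5 : (t * t') ^ ((j : ℤ) + j) * (t * t') = 1 := by
      rw [← zpow_add_one, show ((j : ℤ) + j + 1) = ((orderOf (t * t') : ℕ) : ℤ) by rw [hj]; push_cast; ring,
        zpow_natCast, pow_orderOf_eq_one]
    rw [eq_inv_of_mul_eq_one_left h5, mul_inv_rev, inv_of_sq ht'2, hti, mul_assoc, hS.mul_self, mul_one]
  have hkD := A.twoStab_mem hk.1
  have hk' : d⁻¹ * φ k * d ∈ invK β a t := by
    refine ⟨mul_mem (mul_mem (inv_mem hdD) hkD) hdD, ?_⟩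
    have h3 : t' * φ k * t'⁻¹ = (φ k)⁻¹ := by rw [ht', ← map_inv φ t, ← map_mul, ← map_mul, hk.2, map_inv]
    rw [← hdt] at h3
    calc t * (d⁻¹ * φ k * d) * t⁻¹ = d⁻¹ * (d * t * d⁻¹ * φ k * (d * t * d⁻¹)⁻¹) * d := by group
      _ = (d⁻¹ * φ k * d)⁻¹ := by rw [h3]; group
  have := (hCmem _).1 (hCn d hdD _ ((hCmem _).2 hk'))
  rwa [show d * (d⁻¹ * φ k * d) * d⁻¹ = φ k by group] at this

/-- elements centralising the involutions at `a` are mapped to such -/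
theorem PairAut.centI_mem {w : L} (hw : w ∈ centI β a t) : φ w ∈ centI β a t := by
  classical
  refine Subgroup.mem_inf.2 ⟨A.twoStab_mem (Subgroup.mem_inf.1 hw).1, mem_centralizer_iff.2 fun s hs => ?_⟩
  let f : invl L a → invl L a := fun s => ⟨φ s, A.invl_mem s.2⟩
  have hf : Function.Injective f := fun s s' h => Subtype.ext (φ.injective (congrArg Subtype.val h))
  obtain ⟨⟨s₀, hs₀⟩, h⟩ := (Finite.injective_iff_surjective.1 hf) ⟨s, hs⟩
  obtain rfl : φ s₀ = s := congrArg Subtype.val h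
  rw [← map_mul, ← map_mul, mem_centralizer_iff.1 (Subgroup.mem_inf.1 hw).2 s₀ hs₀]

/-- the torus is mapped into the torus, up to elements centralising the involutions -/
theorem PairAut.map_torus (Fr : U3.Frame β a t Q F E) {x : L} (hx : x ∈ torus Fr) :
    ∃ l, ∃ w ∈ centI β a t, φ x = Fr.kl l * w := by
  obtain ⟨m, i, rfl⟩ := mem_torus Fr hx
  obtain ⟨l, hl⟩ := Fr.coord.kl_surj _ (A.invK_mem Fr (Fr.coord.kl_mem m))
  exact ⟨l, _, A.centI_mem (zpow_mem Fr.v_mem i), by rw [map_mul, hl]⟩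

/-- an automorphism fixing the involutions at `a` fixes the inverted elements -/
theorem PairAut.kl_fixed (Fr : U3.Frame β a t Q F E) (hinv : ∀ s ∈ invl L a, φ s = s) (l : Fˣ) :
    φ (Fr.kl l) = Fr.kl l := by
  have hS := Fr.input.setup
  obtain ⟨s, hs⟩ := exists_invol hS
  refine conj_inj hS hs (A.invK_mem Fr (Fr.coord.kl_mem l)) (Fr.coord.kl_mem l) ?_
  have hm : (Fr.kl l)⁻¹ * s * Fr.kl l ∈ invl L a := by
    have := conj_invol hS (x := (Fr.kl l)⁻¹) (mem_stabilizer_iff.1 (inv_mem (Subgroup.mem_inf.1 (Fr.coord.kl_D l)).1)) hs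
    rwa [inv_inv] at this
  calc (φ (Fr.kl l))⁻¹ * s * φ (Fr.kl l) = φ ((Fr.kl l)⁻¹ * s * Fr.kl l) := by
        rw [map_mul, map_mul, map_inv, hinv s hs]
    _ = _ := hinv _ hm

/-- such an automorphism is a scalar, or a scalar times the involutory automorphism of the field -/
theorem PairAut.scalar_or_bar (Fr : U3.Frame β a t Q F E) (hinv : ∀ s ∈ invl L a, φ s = s) :
    (∃ c : E, ∀ p ∈ Q, Fr.ca (φ p) = c * Fr.ca p) ∨
      ∃ c : E, ∀ p ∈ Q, Fr.ca (φ p) = c * Fr.D.bar (Fr.ca p) := by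
  classical
  have hS := Fr.input.setup
  choose pre hpre hcapre using Fr.ca_surj
  let f : E → E := fun x => Fr.ca (φ (pre x))
  have hf : ∀ p ∈ Q, Fr.ca (φ p) = f (Fr.ca p) := fun p hp => by
    refine (ca_eq_iff Fr (A.fixQ p hp) (A.fixQ _ (hpre _))).2 ?_
    have h0 := (ca_eq_iff Fr hp (hpre _)).1 (hcapre (Fr.ca p)).symm
    rw [← map_inv, ← map_mul, ← map_mul, h0, map_one]
  have hfadd : ∀ x y, f (x + y) = f x + f y := fun x y => by
    have h : Fr.ca (pre x * pre y) = x + y := by rw [Fr.ca_mul _ (hpre x) _ (hpre y), hcapre, hcapre]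
    rw [← h, ← hf _ (mul_mem (hpre x) (hpre y)), map_mul, Fr.ca_mul _ (A.fixQ _ (hpre x)) _ (A.fixQ _ (hpre y))]
  have hfν : ∀ (c : F) x, f (Fr.ν c * x) = Fr.ν c * f x := fun c x => by
    by_cases hc : c = 0
    · have h0 : f 0 = 0 := by simpa using hfadd 0 0
      rw [hc, map_zero, zero_mul, zero_mul, h0]
    set l : Fˣ := (Units.mk0 c hc)⁻¹
    have hl : (Fr.ν (l : F))⁻¹ = Fr.ν c := by rw [Units.val_inv_eq_inv_val, Units.val_mk0, map_inv₀, inv_inv]
    have h1 : Fr.ca (Fr.kl l * pre x * (Fr.kl l)⁻¹) = Fr.ν c * x := by rw [ca_kl' Fr l (hpre x), hl, hcapre]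
    rw [← h1, ← hf _ (conj_Q Fr (Fr.coord.kl_D l) (hpre x)), map_mul, map_mul, map_inv φ, A.kl_fixed Fr hinv,
      ca_kl' Fr l (A.fixQ _ (hpre x)), hl]
  obtain ⟨c', -, -, hc'⟩ := Fr.lin _ (A.centI_mem Fr.v_mem)
  have hfε : ∀ x, f (Fr.ε * x) = c' * f x := fun x => by
    have h1 : Fr.ca (Fr.v * pre x * Fr.v⁻¹) = Fr.ε * x := by rw [Fr.ca_v _ (hpre x), hcapre]
    rw [← h1, ← hf _ (conj_Q Fr (Subgroup.mem_inf.1 Fr.v_mem).1 (hpre x)), map_mul, map_mul, map_inv,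
      hc' _ (A.fixQ _ (hpre x))]
  -- the equation of `ε`
  have h2 : (2 : E) = 0 := CharTwo.two_eq_zero
  obtain ⟨s₀, hs₀⟩ := Fr.ν_surj (Fr.ε + Fr.D.bar Fr.ε) (by rw [map_add, Fr.D.bar_bar, add_comm])
  by_cases hf1 : f 1 = 0
  · refine Or.inl ⟨0, fun p hp => ?_⟩
    obtain ⟨c, d, hcd⟩ := coord_E Fr (Fr.ca p)
    rw [hf p hp, hcd, hfadd, hfν, show f Fr.ε = c' * f 1 by rw [← hfε, mul_one], ← mul_one (Fr.ν c),
      hfν, hf1]
    ring
  have hq : (c' + Fr.ε) * (c' + Fr.D.bar Fr.ε) = 0 := by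
    have he : Fr.ε * Fr.ε = Fr.ν s₀ * Fr.ε + 1 := by
      rw [hs₀]
      linear_combination (-1 : E) * Fr.ε_norm - h2
    have h3 := congrArg f he
    have hfεv : f Fr.ε = c' * f 1 := by rw [← hfε, mul_one]
    rw [hfadd, hfε, hfν, hfεv, hs₀] at h3
    have h4 : (c' + Fr.ε) * (c' + Fr.D.bar Fr.ε) * f 1 = 0 := by
      linear_combination h3 + Fr.ε_norm * f 1 + (f 1 + c' * Fr.ε * f 1 + c' * Fr.D.bar Fr.ε * f 1) * h2
    exact (mul_eq_zero.1 h4).resolve_right hf1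
  have key : ∀ p ∈ Q, ∃ c d : F, Fr.ca p = Fr.ν c + Fr.ν d * Fr.ε ∧
      Fr.ca (φ p) = f 1 * (Fr.ν c + Fr.ν d * c') := fun p hp => by
    obtain ⟨c, d, hcd⟩ := coord_E Fr (Fr.ca p)
    refine ⟨c, d, hcd, ?_⟩
    rw [hf p hp, hcd, hfadd, hfν, show f Fr.ε = c' * f 1 by rw [← hfε, mul_one], ← mul_one (Fr.ν c), hfν]
    ring
  rcases mul_eq_zero.1 hq with h | h
  · refine Or.inl ⟨f 1, fun p hp => ?_⟩
    obtain ⟨c, d, e1, e2⟩ := key p hp
    rw [e2, e1, CharTwo.add_eq_zero.1 h]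
  · refine Or.inr ⟨f 1, fun p hp => ?_⟩
    obtain ⟨c, d, e1, e2⟩ := key p hp
    rw [e2, e1, map_add, map_mul, Fr.ν_fix, Fr.ν_fix, CharTwo.add_eq_zero.1 h]

/-- of odd order on `Q / Z`: a scalar -/
theorem PairAut.scalar_of_odd (Fr : U3.Frame β a t Q F E) (hinv : ∀ s ∈ invl L a, φ s = s) {m : ℕ}
    (hm : Odd m) (hpow : ∀ p ∈ Q, Fr.ca ((φ ^ m) p) = Fr.ca p) :
    ∃ c : E, ∀ p ∈ Q, Fr.ca (φ p) = c * Fr.ca p := by
  refine (A.scalar_or_bar Fr hinv).resolve_right ?_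
  rintro ⟨c, hc⟩
  have hmem : ∀ n : ℕ, ∀ p ∈ Q, (φ ^ n) p ∈ Q := fun n => by
    induction n with
    | zero => intro p hp; exact hp
    | succ n ih => intro p hp; rw [pow_succ']; exact A.fixQ _ (ih p hp)
  have hit : ∀ i : ℕ, ∃ d : E, ∀ p ∈ Q, Fr.ca ((φ ^ (2 * i)) p) = d * Fr.ca p := fun i => by
    induction i with
    | zero => exact ⟨1, fun p _ => by rw [one_mul]; rfl⟩
    | succ i ih =>
      obtain ⟨d, hd⟩ := ih
      refine ⟨c * Fr.D.bar c * d, fun p hp => ?_⟩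
      have h0 := hmem (2 * i) p hp
      rw [show 2 * (i + 1) = 1 + 1 + 2 * i by ring, pow_add, pow_add, pow_one]
      show Fr.ca (φ (φ ((φ ^ (2 * i)) p))) = _
      rw [hc _ (A.fixQ _ h0), hc _ h0, map_mul, Fr.D.bar_bar, hd p hp]
      ring
  obtain ⟨i, rfl⟩ := hm
  obtain ⟨d, hd⟩ := hit i
  have hall : ∀ x : E, c * Fr.D.bar (d * x) = x := fun x => by
    obtain ⟨p, hp, rfl⟩ := Fr.ca_surj x
    conv_rhs => rw [← hpow p hp]
    rw [show 2 * i + 1 = 1 + 2 * i by ring, pow_add, pow_one]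
    show _ = Fr.ca (φ ((φ ^ (2 * i)) p))
    rw [hc _ (hmem _ p hp), hd p hp]
  obtain ⟨x, hx⟩ := Fr.D.exists_moved
  have h1 := hall 1
  rw [mul_one] at h1
  exact hx (by
    have h2 := hall x
    rwa [map_mul, ← mul_assoc, h1, one_mul] at h2)

end Cfsg.Lib.BenderSE.Crit2.RootModel
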