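/-
Aschbacher's criterion, lines with a four group: on a line with `q ^ 3 + 1` points the model gives an element of
odd prime order centralising the four group and the cliques at two points, with centraliser `A` in `Q`
(notes/s1175_h3_kernel.md, 4).
-/
import Cfsg.Agent.BenderSE.Criterion2.KernelFixed
import Cfsg.Agent.BenderSE.Criterion2.RootModel
import Cfsg.Agent.BenderSE.Criterion2.Lines

set_option autoImplicit false
set_option linter.unusedSectionVars false
set_option linter.style.haveILetI false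

namespace Cfsg.Lib.BenderSE.Crit2.Ker

open Subgroup MulAction Cfsg.Lib.InvolCalc Cfsg.Lib.StrongEmb Cfsg.Lib.BenderSE.CritDep
open Cfsg.Lib.RankOne Cfsg.Lib.BenderSuzuki

universe u

variable {G α : Type u} [Group G] [MulAction G α] [Finite G] [Finite α] [FaithfulSMul G α] {z : G} {q g : ℕ}

/-- the four group centralises the members centralising one of its involutions -/
theorem Frame.comm_localGen (hK : KSet α z q g) {V : Subgroup G} {F : Set α} {c : α} {A Q : Subgroup G}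
    (hf : Frame α z q g V F c A Q) {u : G} (hu : u ∈ V) (hu1 : u ≠ 1) {k : G} (hk : k ∈ localGen z u) :
    ∀ v ∈ V, Commute k v := by
  have h := hK.crit
  have hle : localGen z u ≤ centralizer (V : Set G) := by
    rw [localGen, closure_le]
    rintro d ⟨hd, hdu⟩
    obtain ⟨p, hp, -⟩ := h.uniq d hd
    have hpF := (hf.fix u hu hu1 p).1 (smul_centre h hd (show Commute d u from hdu).symm hp)
    obtain ⟨B, R, hB⟩ := hf.exists_at h hpF
    exact mem_centralizer_iff.2 fun v hv => (hB.comm_A hv (hB.members hK hd hp)).eq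
  exact fun v hv => (mem_centralizer_iff.1 (hle hk) v hv).symm

/-- THE ELEMENT of a line of type U3 -/
theorem exists_central_torus [IsSimpleGroup G] (hna : ¬ IsMulCommutative G)
    (crit : CriterionBelow.{u} (Nat.card G)) {u : G} {a : α} {A Q X : Subgroup G} (hu : orderOf u = 2)
    (hua : u • a = a) (D : LineData z u a A Q X q 3) (hK : KSet α z q (q ^ 3)) {V : Subgroup G}
    (hf : Frame α z q (q ^ 3) V (fixedBy α u) a A Q) (huV : u ∈ V) :
    ∃ ζ : G, (∃ p, p.Prime ∧ p ≠ 2 ∧ IsPGroup p (zpowers ζ)) ∧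
      Full α z q (q ^ 3) q ζ V (fixedBy α u) := by
  classical
  have h := hK.crit
  haveI : Fact (Nat.Prime 2) := ⟨Nat.prime_two⟩
  have hu1 := ne_one_of_order_two hu
  obtain ⟨b₀, hb₀, hb₀a⟩ := hf.two_points hK
  set W := zpowers u with hWdef
  have hW : IsPGroup 2 W := isPGroup_zpowers_of_two hu
  have ha : a ∈ fixSet α W := mem_line.2 hua
  have hfix : (fixSet α W).Nontrivial := ⟨a, ha, b₀, mem_line.2 hb₀, hb₀a.symm⟩
  have hn : Nat.card (lineImage α z W) < Nat.card G :=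
    card_lineImage_lt h hna fun e => hu1 (Subgroup.mem_bot.1 (e ▸ mem_zpowers u))
  obtain ⟨d₁, hd₁, d₂, hd₂, h12, hd₁1, hd₂1⟩ : ∃ d₁ ∈ A, ∃ d₂ ∈ A, d₁ ≠ d₂ ∧ d₁ ≠ 1 ∧ d₂ ≠ 1 := by
    have h3 : 1 < ((A : Set G) \ {1}).ncard := by
      rw [Set.ncard_sdiff_singleton_of_mem (s := (A : Set G)) (one_mem A), ← Nat.card_coe_set_eq,
        SetLike.coe_sort_coe, D.card]
      have := D.four
      omega
    obtain ⟨d, hd, d', hd', hne⟩ := (Set.one_lt_ncard (Set.toFinite _)).1 h3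
    exact ⟨d, hd.1, d', hd'.1, hne, fun e => hd.2 e, fun e => hd'.2 e⟩
  have hcommW : ∀ {k : G}, Commute k u → ∀ w ∈ W, Commute k w := by
    rintro k hk w ⟨i, rfl⟩
    exact hk.zpow_right i
  have hAW : ∀ d ∈ A, ∀ w ∈ W, Commute d w := fun d hd => hcommW (hf.comm_A huV hd).symm
  have C := line_cover h hW hfix crit hn (hf.memA d₁ hd₁ hd₁1) (hf.memA d₂ hd₂ hd₂1)
    (hf.commA h hd₁ hd₂) h12 (hAW d₁ hd₁) (hAW d₂ hd₂) (a := ⟨a, ha⟩) (hf.fixA hd₁)
  haveI := C.simple
  haveI := C.trans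
  obtain ⟨QL, CL, k, e, M⟩ := exists_modelData C.setting
  obtain ⟨t, hs, hqN⟩ := RootModel.exists_simple C.setting M
  -- the image is faithful
  set π := (lineHom α z W).rangeRestrict with hπ
  have hπsm : ∀ (y : lineGen z W) (p : fixSet α W), ((π y • p : fixSet α W) : α) = (y : G) • (p : α) :=
    fun y p => rfl
  have hloc : ∀ y : lineGen z W, (y : G) ∈ localGen z u := fun y => by
    rw [localGen_eq_lineGen]; exact y.2
  have hinj : Function.Injective π := (injective_iff_map_eq_one π).2 fun y hy => Subtype.ext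
    (hf.faithful hK huV hu1 (hloc y) fun p hp => by
      rw [← hπsm y ⟨p, mem_line.2 hp⟩, hy, one_smul])
  have hstab : ∀ y : lineGen z W, π y ∈ stabilizer (lineImage α z W) (⟨a, ha⟩ : fixSet α W) ↔
      (y : G) • a = a := fun y =>
    ⟨fun h1 => congrArg Subtype.val (mem_stabilizer_iff.1 h1), fun h1 => mem_stabilizer_iff.2 (Subtype.ext h1)⟩
  -- its regular group is the image of `Q`
  have hQle : ∀ {x : G}, x ∈ Q → x ∈ lineGen z W := fun {x} hx => by
    have := D.Qle hx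
    rwa [localGen_eq_lineGen] at this
  have hπQ : ∀ (x : G) (hx : x ∈ Q), π ⟨x, hQle hx⟩ ∈ QL := by
    intro x hx
    refine M.qmax ((Q.subgroupOf (lineGen z W)).map π)
      ((hf.twoQ.of_equiv (subgroupOfEquivOfLe fun y hy => hQle hy).symm).map π) ?_
      (mem_map_of_mem π (show (⟨x, hQle hx⟩ : lineGen z W) ∈ Q.subgroupOf _ from hx))
    rintro _ ⟨y, hy, rfl⟩
    exact (hstab y).2 (hf.fixQ y hy)
  have hQmem : ∀ y : lineGen z W, π y ∈ QL → (y : G) ∈ Q := by
    have h1 : (QL.comap π).map (lineGen z W).subtype = Q := by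
      refine D.Qmax _ ((M.q2.comap_of_injective π hinj).map _) ?_ ?_
        fun x hx => ⟨⟨x, hQle hx⟩, hπQ x hx, rfl⟩
      · rw [localGen_eq_lineGen]; exact map_subtype_le _
      · rintro _ ⟨y, hy, rfl⟩
        exact mem_stabilizer_iff.2 ((hstab y).1 (M.qle hy))
    intro y hy
    rw [← h1]
    exact ⟨y, hy, rfl⟩
  have hcardQL : Nat.card QL = q ^ 3 := by
    rw [← D.cardQ]
    refine (Nat.card_eq_of_bijective (fun x : Q => (⟨π ⟨x, hQle x.2⟩, hπQ x x.2⟩ : QL))
      ⟨fun x y e' => Subtype.ext (congrArg (fun y : lineGen z W => (y : G)) (hinj (congrArg Subtype.val e'))),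
        fun w => ?_⟩).symm
    obtain ⟨y, hy⟩ := (lineHom α z W).rangeRestrict_surjective (w : lineImage α z W)
    exact ⟨⟨y, hQmem y (hy ▸ w.2)⟩, Subtype.ext hy⟩
  have hinvA : ∀ {w : lineImage α z W}, w ∈ invl (lineImage α z W) (⟨a, ha⟩ : fixSet α W) →
      ∃ y : lineGen z W, π y = w ∧ (y : G) ∈ A ∧ (y : G) ≠ 1 := by
    intro w hw
    obtain ⟨y, rfl⟩ := (lineHom α z W).rangeRestrict_surjective w
    have ho : orderOf (π y) = 2 := order_two_of_mul_self hw.2.2 hw.2.1
    have ho' : orderOf (y : G) = 2 := by rw [Subgroup.orderOf_coe, ← orderOf_injective π hinj, ho]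
    exact ⟨y, rfl, hf.invA _ (hQmem y (M.qinvol _ ho hw.1).1) ho', ne_one_of_order_two ho'⟩
  have hAL : ∀ {d : G} (hd : d ∈ A), d ≠ 1 →
      π ⟨d, hQle (hf.leQ hd)⟩ ∈ invl (lineImage α z W) (⟨a, ha⟩ : fixSet α W) := by
    intro d hd hd1
    refine ⟨(hstab _).2 (hf.fixA hd), fun e' => hd1 (congrArg Subtype.val (hinj (e'.trans (map_one π).symm))), ?_⟩
    rw [← map_mul]
    exact (congrArg π (Subtype.ext (hf.sqA h hd) : (⟨d, hQle (hf.leQ hd)⟩ : lineGen z W) * ⟨d, hQle (hf.leQ hd)⟩ = 1)).trans (map_one π)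
  have hqN' : qNum (lineImage α z W) (⟨a, ha⟩ : fixSet α W) = q := by
    have hbij : Function.Bijective (fun d : ((A : Set G) \ {1} : Set G) =>
        (⟨π ⟨d, hQle (hf.leQ d.2.1)⟩, hAL d.2.1 d.2.2⟩ : invl (lineImage α z W) (⟨a, ha⟩ : fixSet α W))) := by
      refine ⟨fun x y e' => Subtype.ext (congrArg (fun y : lineGen z W => (y : G)) (hinj (congrArg Subtype.val e'))),
        fun w => ?_⟩
      obtain ⟨y, hy, hyA, hy1⟩ := hinvA w.2
      exact ⟨⟨y, hyA, hy1⟩, Subtype.ext hy⟩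
    rw [qNum, ← Nat.card_eq_of_bijective _ hbij, Nat.card_coe_set_eq,
      Set.ncard_sdiff_singleton_of_mem (s := (A : Set G)) (one_mem A), ← Nat.card_coe_set_eq,
      SetLike.coe_sort_coe, D.card]
    have := D.four
    omega
  -- the dichotomy leaves the unitary case
  have hgood := ih_of_unitary unitaryStep (Nat.card (lineImage α z W) + 1) (lineImage α z W) (fixSet α W)
    ⟨a, ha⟩ t QL (Nat.lt_succ_self _) hs
  have hq4 := D.four
  obtain ⟨hl, hna', hV⟩ : CaseL (⟨a, ha⟩ : fixSet α W) t QL ∧ NonAb QL ∧ centI (fixSet α W) ⟨a, ha⟩ t ≠ ⊥ := by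
    rcases hgood.dich with ⟨-, h1⟩ | ⟨-, h1, -⟩ | ⟨hl, -, hna', hV⟩
    · rw [hcardQL, hqN'] at h1
      exact absurd h1 (ne_of_gt (lt_self_pow₀ (by omega) (by omega)))
    · rw [hcardQL, hqN'] at h1
      exact absurd ((Nat.pow_right_injective (by omega : 2 ≤ q)) h1) (by omega)
    · exact ⟨hl, hna', hV⟩
  have I := U3.Input.of_step hs (ih_of_unitary unitaryStep _) hl (by rw [hcardQL, hqN']) hna' hV
  -- an element of prime order centralising the involutions at `a`
  obtain ⟨p, hp, hpdvd⟩ := Nat.exists_prime_and_dvd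
    (n := Nat.card (centI (fixSet α W) (⟨a, ha⟩ : fixSet α W) t))
    fun e' => hV (Subgroup.eq_bot_of_card_eq _ e')
  haveI := Fact.mk hp
  obtain ⟨⟨x, hx⟩, hxp⟩ := exists_prime_orderOf_dvd_card' p hpdvd
  rw [Subgroup.orderOf_mk] at hxp
  have hx1 : x ≠ 1 := fun e' => hp.one_lt.ne (by rw [← hxp, e', orderOf_one])
  have hp2 : p ≠ 2 := fun e' => by
    have h1 := orderOf_odd_mem hs.setup.odd_card (Subgroup.mem_inf.1 hx).1
    rw [hxp, e'] at h1
    exact absurd h1 (by decide)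
  obtain ⟨hxa, hxb⟩ := Subgroup.mem_inf.1 (Subgroup.mem_inf.1 hx).1
  have hxt : Commute x t :=
    mem_centralizer_singleton_iff.1 (Subgroup.mem_inf.1 (U3.centI_le_centT (hS := hs.setup) hx)).2
  obtain ⟨ξ, rfl⟩ := (lineHom α z W).rangeRestrict_surjective x
  obtain ⟨τ, hτ⟩ := (lineHom α z W).rangeRestrict_surjective t
  set ζ : G := (ξ : G) with hζdef
  have hlift : ∀ {y : lineGen z W}, Commute (π ξ) (π y) → Commute ζ (y : G) := fun {y} hc =>
    congrArg Subtype.val (hinj (by rw [map_mul, map_mul]; exact hc) : ξ * y = y * ξ)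
  have hζA : ∀ d ∈ A, Commute ζ d := by
    intro d hd
    rcases eq_or_ne d 1 with rfl | hd1
    · exact Commute.one_right _
    · exact hlift (y := ⟨d, hQle (hf.leQ hd)⟩)
        (mem_centralizer_iff.1 (Subgroup.mem_inf.1 hx).2 _ (hAL hd hd1)).symm
  have hζp : ∃ p, p.Prime ∧ p ≠ 2 ∧ IsPGroup p (zpowers ζ) := ⟨p, hp, hp2,
    IsPGroup.of_card (n := 1) (by
      rw [Nat.card_zpowers, pow_one, Subgroup.orderOf_coe, ← orderOf_injective π hinj, hxp])⟩
  have hζa : ζ • a = a := (hstab ξ).1 hxa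
  set b : α := (τ : G) • a
  have hζb : ζ • b = b := by
    show ζ • (τ : G) • a = (τ : G) • a
    rw [smul_smul, (hlift (y := τ) (by rw [hπ, hτ]; exact hxt)).eq, mul_smul, hζa]
  have hbF : b ∈ fixedBy α u := by
    show u • (τ : G) • a = (τ : G) • a
    rw [smul_smul, ← (commute_of_mem (hloc τ)).eq, mul_smul, hua]
  have hba : b ≠ a := fun e' => ta_ne hs.setup (by
    rw [← hτ]; exact Subtype.ext e')
  have hf' : ZFrame α z q (q ^ 3) q ζ V (fixedBy α u) a A Q := by
    refine ⟨hf, hf.comm_localGen hK huV hu1 (hloc ξ), hζa, hζA, fun y hy => ?_, ?_, ⟨b, hbF, hba, hζb⟩⟩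
    · refine hQmem (ξ * ⟨y, hQle hy⟩ * ξ⁻¹) ?_
      rw [map_mul, map_mul, map_inv]
      exact (mem_normalizer_iff.1 (M.qn hxa) _).1 (hπQ y hy)
    · rw [← hf.cardA]
      congr 2
      refine le_antisymm (fun y hy => ?_) fun y hy =>
        mem_inf.2 ⟨hf.leQ hy, mem_centralizer_singleton_iff.2 (hζA y hy).symm.eq⟩
      obtain ⟨hyQ, hyζ⟩ := mem_inf.1 hy
      have hc : Commute ξ (⟨y, hQle hyQ⟩ : lineGen z W) :=
        Subtype.ext (mem_centralizer_singleton_iff.1 hyζ).symm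
      have h1 := I.cent (π ξ) hx hx1 _ (hπQ y hyQ) (hc.map π)
      rw [← map_mul, ← map_one π] at h1
      have h2 : y * y = 1 := congrArg Subtype.val (hinj h1)
      rcases eq_or_ne y 1 with rfl | hy1
      · exact one_mem A
      · exact hf.invA y hyQ (order_two_of_mul_self h2 hy1)
  have hζτ : Commute ζ (τ : G) := hlift (y := τ) (by rw [hπ, hτ]; exact hxt)
  refine ⟨ζ, hζp, hf'.full hK hbF hba hζb (d := (τ : G) * d₁ * (τ : G)⁻¹)
    ((hf.memA d₁ hd₁ hd₁1).trans (isConj_iff.2 ⟨(τ : G), rfl⟩)) ?_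
    ((hζτ.mul_right (hζA d₁ hd₁)).mul_right hζτ.inv_right)⟩
  show ((τ : G) * d₁ * (τ : G)⁻¹) • (τ : G) • a = (τ : G) • a
  rw [mul_smul, mul_smul, inv_smul_smul, hf.fixA hd₁]

end Cfsg.Lib.BenderSE.Crit2.Ker
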