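/-
Aschbacher's criterion, lines with a four group: if two fixed points of `ζ` determine the fixed points on a line
through them, the lines through one point of a perpendicular give more points off the line than the
perpendiculars cover (notes/s1175_h3_kernel.md, 4).
-/
import Cfsg.Agent.BenderSE.Criterion2.KernelFixed

set_option autoImplicit false
set_option linter.unusedSectionVars false
set_option linter.style.haveILetI false

namespace Cfsg.Lib.BenderSE.Crit2.Ker

open Subgroup MulAction Cfsg.Lib.InvolCalc Cfsg.Lib.StrongEmb Cfsg.Lib.BenderSE.CritDep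

universe u

variable {G α : Type u} [Group G] [MulAction G α]

/-- two common fixed points of `ζ` determine the fixed points on a full line -/
def LineUnique (α : Type u) [MulAction G α] (z : G) (q g s : ℕ) (ζ : G) : Prop :=
  ∀ (V V' : Subgroup G) (M M' : Set α), Full α z q g s ζ V M → Full α z q g s ζ V' M' →
    ∀ x y : α, x ≠ y → x ∈ M → y ∈ M → x ∈ M' → y ∈ M' → ζ • x = x → ζ • y = y →
      ∀ p : α, ζ • p = p → (p ∈ M ↔ p ∈ M')

variable [Finite G] [Finite α] [FaithfulSMul G α] {z : G} {q g s : ℕ} {ζ : G} {V : Subgroup G} {F : Set α}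
  {c : α} {A Q : Subgroup G}

omit [Finite α] [FaithfulSMul G α] in
theorem ZFrame.even_s (hf : ZFrame α z q g s ζ V F c A Q) (hq : 4 ≤ q) : Even s := by
  haveI : Fact (Nat.Prime 2) := ⟨Nat.prime_two⟩
  obtain ⟨m, hm⟩ := (hf.twoQ.to_le (inf_le_left : Q ⊓ centralizer {ζ} ≤ Q)).exists_card_eq
  have hle : A ≤ Q ⊓ centralizer {ζ} := fun d hd =>
    mem_inf.2 ⟨hf.leQ hd, mem_centralizer_singleton_iff.2 (hf.zA d hd).symm.eq⟩
  have h1 := Subgroup.card_le_of_le hle
  rw [hf.cardA, hm] at h1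
  rw [← hf.zcard, hm]
  exact Nat.even_pow.2 ⟨even_two, fun e => by rw [e, pow_zero] at h1; omega⟩

/-- the four group of a line preserves the fixed points of `ζ` on a perpendicular of it -/
theorem preserved_perp {W : Subgroup G} {L : Set α} {y : α} {B R : Subgroup G}
    (hB : ZFrame α z q g s ζ W L y B R) {w ε : G} (hw : w ∈ W) (hε : ε ∈ B) {k : G} (hk : k ∈ W) {p : α}
    (hp : (w * ε) • p = p ∧ ζ • p = p) : (w * ε) • k • p = k • p ∧ ζ • k • p = k • p := by
  refine ⟨?_, ?_⟩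
  · rw [smul_smul, ← ((hB.comm k hk w hw).mul_right (hB.toFrame.comm_A hk hε)).eq, mul_smul, hp.1]
  · rw [smul_smul, (hB.zV k hk).eq, mul_smul, hp.2]

/-- THE COUNT -/
theorem false_of_full (hK : KSet α z q g) (hζ : ∃ p, p.Prime ∧ p ≠ 2 ∧ IsPGroup p (zpowers ζ))
    (huni : LineUnique α z q g s ζ) (hF : Full α z q g s ζ V F) : False := by
  classical
  have h := hK.crit
  obtain ⟨a, ha, hζa⟩ := hF.1
  obtain ⟨A, Q, hf⟩ := hF.2 a ha hζa
  obtain ⟨u, hu, hu1⟩ := hf.toFrame.exists_ne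
  have hu2 := hf.toFrame.orderV hu hu1
  obtain ⟨e₀, he₀, he₀1, he₀D, he₀a⟩ := hf.toFrame.exists_memA hK
  have hL₀ := hf.perp hK hζ hu hu1 he₀ he₀1
  obtain ⟨x, hx, hxa, hζx⟩ := hL₀.zfix
  have hxF : x ∉ F := fun hxF => hxa (hf.toFrame.perp_inter hK hu hu1 he₀ he₀1 hx hxF)
  have hw₀ : u * e₀ ≠ 1 := ne_one_of_order_two (hf.toFrame.perp_order hK hu hu1 he₀ he₀1)
  have hw₀V := hf.toFrame.perp_mem_group hK hu hu1 he₀ he₀1
  obtain ⟨A₀, hFull₀, hA₀w⟩ := hF.perp hK hζ hu hu1 he₀D ha hζa he₀a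
  obtain ⟨B, R, hBx⟩ := hFull₀.2 x hx hζx
  obtain ⟨ε₀, hε₀, -, hε₀D, hε₀x⟩ := hBx.toFrame.exists_memA hK
  obtain ⟨v, -, hva, -, -, hvcomm⟩ := exists_midpoint h he₀D hε₀D he₀a hε₀x hxa.symm
  have hvζ : Commute ζ v := hvcomm ζ (hf.zA e₀ he₀) (hBx.zA ε₀ hε₀)
  -- the members at the fixed points of `ζ` on the line
  set J : Finset G := (Set.toFinite {e : G | IsConj z e ∧ ∃ c ∈ F, ζ • c = c ∧ e • c = c}).toFinset with hJdef
  have hJ : ∀ {e : G}, e ∈ J ↔ IsConj z e ∧ ∃ c ∈ F, ζ • c = c ∧ e • c = c := by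
    intro e; rw [hJdef, Set.Finite.mem_toFinset]; rfl
  have hJu : ∀ e ∈ J, e ∈ localGen z u ∧ ∀ c, e • c = c → ∃ B R, ZFrame α z q g s ζ V F c B R ∧ e ∈ B := by
    intro e he
    obtain ⟨heD, c, hc, hζc, hec⟩ := hJ.1 he
    obtain ⟨B, R, hB⟩ := hF.2 c hc hζc
    have heB := hB.toFrame.members hK heD hec
    refine ⟨mem_localGen_of heD (hB.toFrame.comm_A hu heB).symm, fun c' hc' => ?_⟩
    obtain rfl := centre_unique h heD hec hc'
    exact ⟨B, R, hB, heB⟩
  -- the points covered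
  let U : G → Finset α := fun e => (Set.toFinite {p : α | (u * e) • p = p ∧ ζ • p = p ∧ e • p ≠ p}).toFinset
  have hUcard : ∀ e ∈ J, (U e).card = s := by
    intro e he
    obtain ⟨heD, c, hc, hζc, hec⟩ := hJ.1 he
    obtain ⟨B, R, hB, heB⟩ := (hJu e he).2 c hec
    have hP := hB.perp hK hζ hu hu1 heB (ne_one_of_order_two (orderOf_conj h heD))
    rw [← hP.card_fixed h, ← Set.ncard_eq_toFinset_card]
    congr 1
    ext p
    refine ⟨fun hp => ⟨hp.1, fun e' => hp.2.2 (e' ▸ hec), hp.2.1⟩, fun hp => ⟨hp.1, hp.2.2, fun e' =>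
      hp.2.1 (centre_unique h heD e' hec)⟩⟩
  set O : Finset α := (Set.toFinite {p : α | ζ • p = p ∧ p ∉ F}).toFinset with hOdef
  have hO : ∀ {p : α}, p ∈ O ↔ ζ • p = p ∧ p ∉ F := by
    intro p; rw [hOdef, Set.Finite.mem_toFinset]; rfl
  have hcover : O ⊆ J.biUnion U := by
    intro p hp
    obtain ⟨hζp, hpF⟩ := hO.1 hp
    obtain ⟨e, c, he, -, hec, hc, hep, -, hζc⟩ := foot_fixed hK hf.toFrame hu hu1 (hf.zV u hu) hpF hζp
    refine Finset.mem_biUnion.2 ⟨e, hJ.2 ⟨he, c, hc, hζc, hec⟩, ?_⟩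
    exact (Set.Finite.mem_toFinset _).2 ⟨hep, hζp, fun e' => hpF (centre_unique h he e' hec ▸ hc)⟩
  -- the lines through `x`
  let Data : G → Set α → Prop := fun e M => ∃ (W : Subgroup G) (d ε : G) (y : α) (VM : Subgroup G),
    Full α z q g s ζ VM M ∧ Full α z q g s ζ W (fixedBy α (u * d)) ∧ IsConj z d ∧ IsConj z ε ∧
      u * d ∈ W ∧ ε • y = y ∧ (u * d) • y = y ∧ ζ • y = y ∧ M = fixedBy α (u * d * ε) ∧ x ∈ M ∧
      (∀ p ∈ M, p ∉ F) ∧ ((e • a = a ∧ d = e₀ ∧ y = x ∧ ε = v * e * v⁻¹) ∨ (e • a ≠ a ∧ d = e))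
  have hdata : ∀ e ∈ J, ∃ M, Data e M := by
    intro e he
    obtain ⟨heD, c, hc, hζc, hec⟩ := hJ.1 he
    obtain ⟨Bc, Rc, hBc, heB⟩ := (hJu e he).2 c hec
    have he1 : e ≠ 1 := ne_one_of_order_two (orderOf_conj h heD)
    by_cases hea : e • a = a
    · have hε : IsConj z (v * e * v⁻¹) := heD.trans (isConj_iff.2 ⟨v, rfl⟩)
      have hεx : (v * e * v⁻¹) • x = x := by rw [← hva, mul_smul, mul_smul, inv_smul_smul, hea]
      obtain ⟨VM, hM, -⟩ := hFull₀.perp hK hζ hA₀w hw₀ hε hx hζx hεx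
      refine ⟨_, _, e₀, v * e * v⁻¹, x, _, hM, hFull₀, he₀D, hε, hA₀w, hεx, hx, hζx, rfl, ?_,
        fun p hp => perp_perp_disjoint hK hf.toFrame hu hu1 he₀ he₀1 hx hxa hε hεx hp,
        Or.inl ⟨hea, rfl, rfl, rfl⟩⟩
      show (u * e₀ * (v * e * v⁻¹)) • x = x
      rw [mul_smul, hεx]
      exact hx
    · obtain ⟨A', hF', hw'V⟩ := hF.perp hK hζ hu hu1 heD hc hζc hec
      have hw' : u * e ≠ 1 := ne_one_of_order_two (hBc.toFrame.perp_order hK hu hu1 heB he1)
      have hee : ∀ {d : G} {p : α}, IsConj z d → p ∈ F → d • p = p → (u * d) • x = x → d = e₀ :=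
        fun hd hp hdp hxd => foot_unique hK hf.toFrame hu hu1 hxF hd he₀D hp ha hdp he₀a hxd hx
      have hxL : x ∉ fixedBy α (u * e) := fun hxL => hea (by rw [hee heD hc hec hxL, he₀a])
      obtain ⟨r, hr, hζr⟩ := hF'.1
      obtain ⟨B', R', hB'⟩ := hF'.2 r hr hζr
      obtain ⟨ε, y, hε, -, hεy, hy, hεx, -, hζy⟩ :=
        foot_fixed hK hB'.toFrame hw'V hw' (hB'.zV _ hw'V) hxL hζx
      have hyc : y ≠ c := by
        rintro rfl
        have hεB := hBc.toFrame.members hK hε hεy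
        by_cases heε : e * ε = 1
        · rw [mul_assoc, heε, mul_one] at hεx
          exact hxF ((hf.fix u hu hu1 x).1 hεx)
        have hd := mul_mem heB hεB
        have h1 := hee (hBc.memA _ hd heε) hc (hBc.toFrame.fixA hd) (by rw [← mul_assoc]; exact hεx)
        exact hea (centre_unique h he₀D he₀a (h1 ▸ hBc.toFrame.fixA hd) ▸ hec)
      obtain ⟨VM, hM, -⟩ := hF'.perp hK hζ hw'V hw' hε hy hζy hεy
      exact ⟨_, _, e, ε, y, _, hM, hF', heD, hε, hw'V, hεy, hy, hζy, rfl, hεx,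
        fun p hp => perp_perp_disjoint hK hBc.toFrame hu hu1 heB he1 hy hyc hε hεy hp, Or.inr ⟨hea, rfl⟩⟩
  choose! M hM using hdata
  let T : G → Finset α := fun e => (Set.toFinite {p : α | p ∈ M e ∧ p ≠ x ∧ ζ • p = p}).toFinset
  have hTcard : ∀ e ∈ J, (T e).card = s := by
    intro e he
    obtain ⟨W, d, ε, y, VM, hFM, -, -, -, -, -, -, -, -, hxM, -⟩ := hM e he
    obtain ⟨B', R', hB'⟩ := hFM.2 x hxM hζx
    rw [← hB'.card_fixed h, ← Set.ncard_eq_toFinset_card]
  have hTsub : J.biUnion T ⊆ O.erase x := by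
    intro p hp
    obtain ⟨e, he, hpe⟩ := Finset.mem_biUnion.1 hp
    obtain ⟨hpM, hpx, hζp⟩ := (Set.Finite.mem_toFinset _).1 hpe
    obtain ⟨W, d, ε, y, VM, -, -, -, -, -, -, -, -, -, -, hMF, -⟩ := hM e he
    exact Finset.mem_erase.2 ⟨hpx, hO.2 ⟨hζp, hMF p hpM⟩⟩
  have hdisj : ∀ e ∈ J, ∀ e' ∈ J, e ≠ e' → Disjoint (T e) (T e') := by
    intro e he e' he' hne
    rw [Finset.disjoint_left]
    intro p hp hp'
    obtain ⟨hpM, hpx, hζp⟩ := (Set.Finite.mem_toFinset _).1 hp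
    obtain ⟨hpM', -, -⟩ := (Set.Finite.mem_toFinset _).1 hp'
    obtain ⟨W, d, ε, y, VM, hFM, hFd, hd, hε, hdW, hεy, hy, hζy, hMe, hxM, hMF, hcase⟩ := hM e he
    obtain ⟨W', d', ε', y', VM', hFM', hFd', hd', hε', hdW', hεy', hy', hζy', hMe', hxM', -, hcase'⟩ :=
      hM e' he'
    -- both lines have the same fixed points
    have heq := huni VM VM' _ _ hFM hFM' x p hpx.symm hxM hpM hxM' hpM' hζx hζp
    set P : Set α := {r | r ∈ M e ∧ ζ • r = r}
    have hPodd : Odd P.ncard := by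
      obtain ⟨B', R', hB'⟩ := hFM.2 x hxM hζx
      have hins : P = insert x {r | r ∈ M e ∧ r ≠ x ∧ ζ • r = r} := by
        ext r
        by_cases hrx : r = x
        · simp [hrx, P, hxM, hζx]
        · simp [hrx, P]
      rw [hins, Set.ncard_insert_of_notMem (fun hh => hh.2.1 rfl) (Set.toFinite _), hB'.card_fixed h]
      exact (hB'.even_s hK.four).add_one
    obtain ⟨By, Ry, hBy⟩ := hFd.2 y hy hζy
    obtain ⟨By', Ry', hBy'⟩ := hFd'.2 y' hy' hζy'
    have hinv : ∀ k ∈ W, ∀ r ∈ P, k • r ∈ P := by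
      intro k hk r hr
      have := preserved_perp hBy hdW (hBy.toFrame.members hK hε hεy) hk (p := r)
        ⟨by simpa [hMe] using hr.1, hr.2⟩
      exact ⟨by simpa [hMe] using this.1, this.2⟩
    have hinv' : ∀ k ∈ W', ∀ r ∈ P, k • r ∈ P := by
      intro k hk r hr
      have := preserved_perp hBy' hdW' (hBy'.toFrame.members hK hε' hεy') hk (p := r)
        ⟨by simpa [hMe'] using (heq r hr.2).1 hr.1, hr.2⟩
      exact ⟨(heq _ this.2).2 (by simpa [hMe'] using this.1), this.2⟩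
    have hPF : ∀ r ∈ P, r ∉ F := fun r hr => hMF r hr.1
    -- centres of `d` and `d'`
    have hcd : ∀ {e d : G}, e ∈ J → ((e • a = a ∧ d = e₀) ∨ (e • a ≠ a ∧ d = e)) →
        ∃ c ∈ F, ζ • c = c ∧ d • c = c ∧ e • c = c := by
      rintro e d he (⟨hea, rfl⟩ | ⟨-, rfl⟩)
      · exact ⟨a, ha, hζa, he₀a, hea⟩
      · obtain ⟨-, c, hc, hζc, hec⟩ := hJ.1 he
        exact ⟨c, hc, hζc, hec, hec⟩
    obtain ⟨cd, hcdF, hζcd, hdcd, hecd⟩ := hcd he (hcase.imp (fun q => ⟨q.1, q.2.1⟩) id)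
    obtain ⟨cd', hcdF', hζcd', hdcd', hecd'⟩ := hcd he' (hcase'.imp (fun q => ⟨q.1, q.2.1⟩) id)
    obtain ⟨C, S, hC⟩ := hF.2 cd hcdF hζcd
    obtain ⟨C', S', hC'⟩ := hF.2 cd' hcdF' hζcd'
    have hdC := hC.toFrame.members hK hd hdcd
    have hdC' := hC'.toFrame.members hK hd' hdcd'
    have hd1 : d ≠ 1 := ne_one_of_order_two (orderOf_conj h hd)
    have hd1' : d' ≠ 1 := ne_one_of_order_two (orderOf_conj h hd')
    by_cases hcc : cd = cd'
    · subst hcc
      rcases hcase with ⟨hea, rfl, rfl, rfl⟩ | ⟨hea, rfl⟩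
      · rcases hcase' with ⟨-, rfl, rfl, rfl⟩ | ⟨hea', -⟩
        · -- two perpendiculars at `x`
          rw [hMe] at hpM
          rw [hMe'] at hpM'
          have hεA := hBy.toFrame.members hK hε hεy
          have hεA' := hBy.toFrame.members hK hε' hεy'
          have hne' : (v * e * v⁻¹)⁻¹ * (v * e' * v⁻¹) ≠ 1 := fun e'' =>
            hne (mul_left_cancel (mul_right_cancel (inv_mul_eq_one.1 e'')))
          have hD := mul_mem (inv_mem hεA) hεA'
          exact hpx (eq_of_fix_two h (hBy.memA _ hD hne') (hBy.toFrame.fixA hD) hpM hpM')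
        · exact hea' (by rw [centre_unique h hd hdcd he₀a] at hecd'; exact hecd')
      · rcases hcase' with ⟨hea', rfl, -⟩ | ⟨hea', rfl⟩
        · exact hea (by rw [centre_unique h hd' hdcd' he₀a] at hecd; exact hecd)
        · -- two perpendiculars at `c'`: the member `d d'` fixes a point of `P`
          have hdd : d * d' ≠ 1 := fun e'' => hne (by
            rw [eq_inv_of_mul_eq_one_left e'', inv_of_order_two (orderOf_conj h hd')])
          have hdC'' := hC.toFrame.members hK hd' hdcd'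
          have hD := mul_mem hdC hdC''
          have hDmem := hC.memA _ hD hdd
          have hmap : ∀ r ∈ P, (d * d') • r ∈ P := by
            intro r hr
            have h2 := hinv _ hdW _ (hinv' _ hdW' r hr)
            rwa [smul_smul, show u * d * (u * d') = d * d' by
              rw [(hC.toFrame.comm_A hu hdC).symm.mul_mul_mul_comm, hf.two u hu, one_mul]] at h2
          obtain ⟨r, hr, hrfix⟩ := exists_fixed_point Nat.prime_two
            (isPGroup_zpowers_of_two (orderOf_conj h hDmem)) (Set.toFinite P)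
            (fun hdvd => Nat.not_even_iff_odd.2 hPodd (even_iff_two_dvd.2 hdvd)) hmap
          exact hPF r hr (centre_unique h hDmem (hC.toFrame.fixA hD) hrfix ▸ hcdF)
    · have hinvP : ∀ k ∈ perpGroup V C (fixedBy α (u * d)), ∀ r ∈ P, k • r ∈ P := by
        intro k hk r hr
        have hP₀ := hC.perp hK hζ hu hu1 hdC hd1
        obtain ⟨B₁, R₁, hB₁⟩ := hP₀.toFrame.exists_at h hy
        have hkε : Commute k ε := hB₁.comm_A hk (hB₁.members hK hε hεy)
        have hkw : Commute k (u * d) := hP₀.comm k hk _ (hC.toFrame.perp_mem_group hK hu hu1 hdC hd1)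
        refine ⟨?_, by rw [smul_smul, (hP₀.zV k hk).eq, mul_smul, hr.2]⟩
        rw [hMe]
        show (u * d * ε) • k • r = k • r
        rw [smul_smul, ← (hkw.mul_right hkε).eq, mul_smul]
        exact congrArg (k • ·) (show (u * d * ε) • r = r by simpa [hMe] using hr.1)
      have hinvP' : ∀ k ∈ perpGroup V C' (fixedBy α (u * d')), ∀ r ∈ P, k • r ∈ P := by
        intro k hk r hr
        have hP₀ := hC'.perp hK hζ hu hu1 hdC' hd1'
        obtain ⟨B₁, R₁, hB₁⟩ := hP₀.toFrame.exists_at h hy'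
        have hkε : Commute k ε' := hB₁.comm_A hk (hB₁.members hK hε' hεy')
        have hkw : Commute k (u * d') := hP₀.comm k hk _ (hC'.toFrame.perp_mem_group hK hu hu1 hdC' hd1')
        have hζk : ζ • k • r = k • r := by rw [smul_smul, (hP₀.zV k hk).eq, mul_smul, hr.2]
        refine ⟨(heq _ hζk).2 ?_, hζk⟩
        rw [hMe']
        show (u * d' * ε') • k • r = k • r
        rw [smul_smul, ← (hkw.mul_right hkε).eq, mul_smul]
        exact congrArg (k • ·) (show (u * d' * ε') • r = r by simpa [hMe'] using (heq r hr.2).1 hr.1)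
      obtain ⟨r, hr, hrF⟩ := meet_of_invariant hK hC.toFrame hC'.toFrame hcc
        (hC.toFrame.perp_isPerp hK hu hu1 hdC hd1).1 (hC'.toFrame.perp_isPerp hK hu hu1 hdC' hd1').1
        hPodd hinvP hinvP'
      exact hPF r hr hrF
  -- the contradiction
  have h1 : J.card * s ≤ (O.erase x).card := by
    refine le_trans (le_of_eq ?_) (Finset.card_le_card hTsub)
    rw [Finset.card_biUnion hdisj, Finset.sum_congr rfl hTcard, Finset.sum_const, smul_eq_mul]
  have h2 : O.card ≤ J.card * s := by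
    refine (Finset.card_le_card hcover).trans (Finset.card_biUnion_le.trans (le_of_eq ?_))
    rw [Finset.sum_congr rfl hUcard, Finset.sum_const, smul_eq_mul]
  have hxO : x ∈ O := hO.2 ⟨hζx, hxF⟩
  have h3 := Finset.card_erase_lt_of_mem hxO
  omega

end Cfsg.Lib.BenderSE.Crit2.Ker
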