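/-
Aschbacher's criterion, lines with a four group: two points determine the fixed points of `ζ` on a line through
them if there are `q + 1` of them, and two points determine a line with `q ^ 2 + 1` points
(notes/s1175_h3_kernel.md, 4).
-/
import Cfsg.Agent.BenderSE.Criterion2.KernelCount

set_option autoImplicit false
set_option linter.unusedSectionVars false
set_option linter.style.haveILetI false

namespace Cfsg.Lib.BenderSE.Crit2.Ker

open Subgroup MulAction Cfsg.Lib.InvolCalc Cfsg.Lib.StrongEmb Cfsg.Lib.BenderSE.CritDep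

universe u

variable {G α : Type u} [Group G] [MulAction G α]

/-- the group of the members at a point -/
def memberGroup (z : G) (p : α) : Subgroup G := closure {d : G | IsConj z d ∧ d • p = p}

/-- the orbit of `p` under the members at `p` and at `r` -/
def chord (z : G) (p r : α) : Set α := {w | ∃ k ∈ memberGroup z p ⊔ memberGroup z r, k • p = w}

theorem conj_memberGroup {z : G} (k : G) (p : α) :
    (memberGroup z p).map (MulAut.conj k).toMonoidHom ≤ memberGroup z (k • p) := by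
  rw [memberGroup, MonoidHom.map_closure, closure_le]
  rintro _ ⟨d, ⟨hd, hdp⟩, rfl⟩
  exact subset_closure ⟨hd.trans (isConj_iff.2 ⟨k, rfl⟩), by
    show (k * d * k⁻¹) • k • p = k • p
    rw [mul_smul, mul_smul, inv_smul_smul, hdp]⟩

theorem smul_chord {z : G} (k : G) {p r w : α} (hw : w ∈ chord z p r) : k • w ∈ chord z (k • p) (k • r) := by
  obtain ⟨m, hm, rfl⟩ := hw
  refine ⟨k * m * k⁻¹, ?_, by rw [mul_smul, mul_smul, inv_smul_smul]⟩
  have h1 : (memberGroup z p ⊔ memberGroup z r).map (MulAut.conj k).toMonoidHom ≤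
      memberGroup z (k • p) ⊔ memberGroup z (k • r) := by
    rw [Subgroup.map_sup]
    exact sup_le_sup (conj_memberGroup k p) (conj_memberGroup k r)
  exact h1 (mem_map_of_mem _ hm)

theorem chord_subset {z : G} {p r p' r' : α} (hp : p' ∈ chord z p r) (hr : r' ∈ chord z p r) :
    chord z p' r' ⊆ chord z p r := by
  set H := memberGroup z p ⊔ memberGroup z r
  have key : ∀ {w : α}, w ∈ chord z p r → memberGroup z w ≤ H := by
    rintro w ⟨k, hk, rfl⟩
    refine (closure_le _).2 fun d ⟨hd, hdw⟩ => ?_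
    have h1 : k⁻¹ * d * k ∈ H := mem_sup_left (subset_closure ⟨hd.trans (isConj_iff.2 ⟨k⁻¹, by group⟩), by
      rw [mul_smul, mul_smul, hdw, inv_smul_smul]⟩)
    have h2 := mul_mem (mul_mem hk h1) (inv_mem hk)
    rwa [show k * (k⁻¹ * d * k) * k⁻¹ = d by group] at h2
  rintro w ⟨m, hm, rfl⟩
  obtain ⟨k, hk, rfl⟩ := id hp
  exact ⟨m * k, mul_mem ((sup_le (key hp) (key hr)) hm) hk, mul_smul m k p⟩

variable [Finite G] [Finite α] {z : G}

theorem right_mem_chord (h : Crit G α z) {p r : α} (hpr : p ≠ r) : r ∈ chord z p r := by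
  obtain ⟨d, hd, hdp⟩ := h.exists_member p
  obtain ⟨e, he, her⟩ := h.exists_member r
  obtain ⟨k, hk, hkd⟩ := conj_of_odd (orderOf_conj h hd) (orderOf_conj h he) (odd_product h hd he hdp her hpr)
  refine ⟨k, (closure_le _).2 ?_ hk, conj_centre h he hkd hdp her⟩
  rintro w (rfl | rfl)
  · exact mem_sup_left (subset_closure ⟨hd, hdp⟩)
  · exact mem_sup_right (subset_closure ⟨he, her⟩)

theorem left_mem_chord (p r : α) : p ∈ chord z p r := ⟨1, one_mem _, one_smul G p⟩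

/-- the arithmetic of a chord -/
theorem chord_arith {k r : ℕ} (hr : 2 ≤ r) (hk : r ≤ k) (hk' : k ≤ 2 * r)
    (hdvd : 2 ^ k + 1 ∣ (2 ^ (2 * r) + 1) * 2 ^ (2 * r)) : k = 2 * r := by
  have hodd : Odd (2 ^ k + 1) := (Nat.even_pow.2 ⟨even_two, by omega⟩).add_one
  have h1 : 2 ^ k + 1 ∣ 2 ^ (2 * r) + 1 :=
    ((Nat.coprime_two_left.2 hodd).symm.pow_right (2 * r)).dvd_of_dvd_mul_right hdvd
  by_contra hne
  obtain ⟨d, hd⟩ : ∃ d, 2 * r = k + d := ⟨2 * r - k, by omega⟩
  have hd0 : 1 ≤ 2 ^ d := Nat.one_le_two_pow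
  have hsum : 2 ^ (2 * r) + 1 + (2 ^ d - 1) = (2 ^ k + 1) * 2 ^ d := by
    rw [hd, pow_add, add_mul, one_mul]
    omega
  have h2 : 2 ^ k + 1 ∣ 2 ^ d - 1 := (Nat.dvd_add_right h1).1 (hsum ▸ dvd_mul_right _ _)
  have h3 : 2 ^ d ≤ 2 ^ k := Nat.pow_le_pow_right two_pos (by omega)
  have h4 := Nat.eq_zero_of_dvd_of_lt h2 (by omega)
  have h5 : 1 < 2 ^ d := Nat.one_lt_two_pow (by omega)
  omega

variable [FaithfulSMul G α] {q g s : ℕ} {ζ : G} {V : Subgroup G} {F : Set α} {c : α} {A Q : Subgroup G}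

theorem Frame.memberGroup_eq (hK : KSet α z q g) (hf : Frame α z q g V F c A Q) : memberGroup z c = A :=
  le_antisymm ((closure_le _).2 fun d hd => hf.members hK hd.1 hd.2) fun d hd => by
    rcases eq_or_ne d 1 with rfl | hd1
    · exact one_mem _
    · exact subset_closure ⟨hf.memA d hd hd1, hf.fixA hd⟩

/-- two points determine a line of `q ^ 2 + 1` points -/
theorem chord_eq_line (hK : KSet α z q g) (hg : g = q ^ 2) (hf : Frame α z q g V F c A Q) {y : α}
    (hy : y ∈ F) (hyc : c ≠ y) : chord z c y = F := by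
  classical
  have h := hK.crit
  obtain ⟨u, hu, hu1⟩ := hf.exists_ne
  have hsubF : ∀ {p r : α}, p ∈ F → r ∈ F → chord z p r ⊆ F := by
    intro p r hp hr w hw
    obtain ⟨k, hk, rfl⟩ := hw
    obtain ⟨B, R, hB⟩ := hf.exists_at h hp
    obtain ⟨B', R', hB'⟩ := hf.exists_at h hr
    rw [hB.memberGroup_eq hK, hB'.memberGroup_eq hK] at hk
    have hle : B ⊔ B' ≤ centralizer ({u} : Set G) :=
      sup_le (fun d hd => mem_centralizer_singleton_iff.2 (hB.comm_A hu hd).symm.eq)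
        fun d hd => mem_centralizer_singleton_iff.2 (hB'.comm_A hu hd).symm.eq
    exact hf.maps hu hu1 (mem_centralizer_singleton_iff.1 (hle hk)) hp
  -- the centraliser of `V` is transitive on the pairs
  have htrans : ∀ {p r p' r' : α}, p ∈ F → r ∈ F → p' ∈ F → r' ∈ F → p ≠ r → p' ≠ r' →
      ∃ k : G, k • p = p' ∧ k • r = r' := by
    intro p r p' r' hp hr hp' hr' hne hne'
    obtain ⟨k, hk, hkp⟩ : ∃ k : G, (∀ v ∈ V, Commute k v) ∧ k • p = p' := by
      by_cases e : p = p'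
      · exact ⟨1, fun v _ => Commute.one_left v, by rw [one_smul, e]⟩
      obtain ⟨v, -, hvV, hvp, -⟩ := exists_swap_fix h hf.twoV
        (x := p) (y := p') (fun w hw => hf.fixV hw hp) (fun w hw => hf.fixV hw hp') e
      exact ⟨v, hvV, hvp⟩
    obtain ⟨B, R, hB⟩ := hf.exists_at h hp'
    obtain ⟨m, ⟨hm, hmr⟩, -⟩ := hB.reg (k • r) (hf.maps hu hu1 (hk u hu) hr) r' hr'
      (fun e => hne (smul_left_cancel k (hkp.trans e.symm))) hne'.symm
    exact ⟨m * k, by rw [mul_smul, hkp, hB.fixQ m hm], by rw [mul_smul, hmr]⟩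
  let Ch : α → α → Finset α := fun p r => (Set.toFinite (chord z p r)).toFinset
  have hCh : ∀ {p r w : α}, w ∈ Ch p r ↔ w ∈ chord z p r := fun {p r w} => Set.Finite.mem_toFinset _
  have hcard : ∀ {p r p' r' : α}, p ∈ F → r ∈ F → p' ∈ F → r' ∈ F → p ≠ r → p' ≠ r' →
      (Ch p r).card ≤ (Ch p' r').card := by
    intro p r p' r' hp hr hp' hr' hne hne'
    obtain ⟨k, hkp, hkr⟩ := htrans hp hr hp' hr' hne hne'
    refine Finset.card_le_card_of_injOn (k • ·) (fun w hw => hCh.2 ?_)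
      (fun a _ b _ e => smul_left_cancel k e)
    rw [← hkp, ← hkr]
    exact smul_chord k (hCh.1 hw)
  have hblock : ∀ {p r p' r' : α}, p ∈ F → r ∈ F → p ≠ r → p' ∈ Ch p r → r' ∈ Ch p r → p' ≠ r' →
      Ch p' r' = Ch p r := by
    intro p r p' r' hp hr hne hp' hr' hne'
    refine Finset.eq_of_subset_of_card_le (fun w hw => hCh.2 (chord_subset (hCh.1 hp') (hCh.1 hr') (hCh.1 hw)))
      (hcard hp hr (hsubF hp hr (hCh.1 hp')) (hsubF hp hr (hCh.1 hr')) hne hne')
  set O := Ch c y with hO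
  set n := (O.erase c).card with hn
  have hOcard : ∀ {p r : α}, p ∈ F → r ∈ F → p ≠ r → (Ch p r).card = n + 1 := by
    intro p r hp hr hne
    rw [le_antisymm (hcard hp hr hf.mem hy hne hyc) (hcard hf.mem hy hp hr hyc hne), hn,
      Finset.card_erase_add_one (hCh.2 (left_mem_chord c y))]
  set M := (Set.toFinite F).toFinset with hM
  have hMF : ∀ {p : α}, p ∈ M ↔ p ∈ F := fun {p} => Set.Finite.mem_toFinset _
  have hMcard : M.card = g + 1 := by rw [hM, ← Set.ncard_eq_toFinset_card, hf.cardF]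
  -- the chords at `c` partition the other points
  have h1 : n ∣ g := by
    have hfib := Finset.card_eq_sum_card_image (fun r => Ch c r) (M.erase c)
    rw [Finset.card_erase_of_mem (hMF.2 hf.mem), hMcard, Nat.add_sub_cancel] at hfib
    rw [hfib]
    refine Finset.dvd_sum fun S hS => ?_
    obtain ⟨r₀, hr₀, rfl⟩ := Finset.mem_image.1 hS
    obtain ⟨hr₀c, hr₀M⟩ := Finset.mem_erase.1 hr₀
    have hset : (M.erase c).filter (fun r => Ch c r = Ch c r₀) = (Ch c r₀).erase c := by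
      ext r
      simp only [Finset.mem_filter, Finset.mem_erase]
      constructor
      · rintro ⟨⟨hrc, -⟩, e⟩
        exact ⟨hrc, e ▸ hCh.2 (right_mem_chord h hrc.symm)⟩
      · rintro ⟨hrc, hr⟩
        exact ⟨⟨hrc, hMF.2 (hsubF hf.mem (hMF.1 hr₀M) (hCh.1 hr))⟩,
          hblock hf.mem (hMF.1 hr₀M) hr₀c.symm (hCh.2 (left_mem_chord c r₀)) hr hrc.symm⟩
    rw [hset, Finset.card_erase_of_mem (hCh.2 (left_mem_chord c r₀)), hOcard hf.mem (hMF.1 hr₀M) hr₀c.symm,
      Nat.add_sub_cancel]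
  have h2 : n + 1 ∣ (g + 1) * g := by
    have hfib := Finset.card_eq_sum_card_image (fun p : α × α => Ch p.1 p.2) M.offDiag
    rw [Finset.offDiag_card, hMcard, ← Nat.mul_sub_one, Nat.add_sub_cancel] at hfib
    rw [hfib]
    refine Finset.dvd_sum fun S hS => ?_
    obtain ⟨⟨p₀, r₀⟩, hpr, rfl⟩ := Finset.mem_image.1 hS
    obtain ⟨hp₀, hr₀, hne⟩ := Finset.mem_offDiag.1 hpr
    have hset : M.offDiag.filter (fun p => Ch p.1 p.2 = Ch p₀ r₀) = (Ch p₀ r₀).offDiag := by
      ext ⟨p, r⟩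
      simp only [Finset.mem_filter, Finset.mem_offDiag]
      constructor
      · rintro ⟨⟨-, -, hpr⟩, e⟩
        exact ⟨e ▸ hCh.2 (left_mem_chord p r), e ▸ hCh.2 (right_mem_chord h hpr), hpr⟩
      · rintro ⟨hp, hr, hpr⟩
        exact ⟨⟨hMF.2 (hsubF (hMF.1 hp₀) (hMF.1 hr₀) (hCh.1 hp)),
          hMF.2 (hsubF (hMF.1 hp₀) (hMF.1 hr₀) (hCh.1 hr)), hpr⟩,
          hblock (hMF.1 hp₀) (hMF.1 hr₀) hne hp hr hpr⟩
    rw [hset, Finset.offDiag_card, hOcard (hMF.1 hp₀) (hMF.1 hr₀) hne, ← Nat.mul_sub_one]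
    exact dvd_mul_right _ _
  have h3 : q ≤ n := by
    rw [← hf.cardA, hn, ← SetLike.coe_sort_coe, Nat.card_coe_set_eq,
      Set.ncard_eq_toFinset_card _ (Set.toFinite _)]
    refine Finset.card_le_card_of_injOn (fun d => d • y) (fun d hd => ?_) (fun a ha b hb e => ?_)
    · have hdA : d ∈ A := (Set.Finite.mem_toFinset _).1 hd
      refine Finset.mem_erase.2 ⟨fun e => hyc (smul_left_cancel d ((hf.fixA hdA).trans e.symm)), hCh.2 ?_⟩
      obtain ⟨k, hk, hky⟩ := right_mem_chord h hyc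
      exact ⟨d * k, mul_mem (mem_sup_left ((hf.memberGroup_eq hK).ge hdA)) hk, by rw [mul_smul, hky]⟩
    · exact hf.inj h (hf.leQ ((Set.Finite.mem_toFinset _).1 ha)) (hf.leQ ((Set.Finite.mem_toFinset _).1 hb))
        hyc.symm e
  obtain ⟨r, hr⟩ : ∃ r, q = 2 ^ r := by
    haveI : Fact (Nat.Prime 2) := ⟨Nat.prime_two⟩
    obtain ⟨r, hr⟩ := (hf.twoQ.to_le hf.leQ).exists_card_eq
    exact ⟨r, hf.cardA ▸ hr⟩
  have hr2 : 2 ≤ r := by
    by_contra hr'
    have := hK.four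
    rw [hr] at this
    have : 2 ^ r ≤ 2 ^ 1 := Nat.pow_le_pow_right two_pos (by omega)
    omega
  have hgr : g = 2 ^ (2 * r) := by rw [hg, hr, ← pow_mul, mul_comm]
  obtain ⟨k, hk, hnk⟩ := (Nat.dvd_prime_pow Nat.prime_two).1 (hgr ▸ h1)
  have hkr : r ≤ k := (Nat.pow_le_pow_iff_right (show 1 < 2 by norm_num)).1 (by rw [← hr, ← hnk]; exact h3)
  have hk2 := chord_arith hr2 hkr hk (by rw [← hnk, ← hgr]; exact h2)
  refine Set.eq_of_subset_of_ncard_le (hsubF hf.mem hy) ?_ (Set.toFinite _)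
  rw [hf.cardF, Set.ncard_eq_toFinset_card _ (Set.toFinite _)]
  show g + 1 ≤ (Ch c y).card
  rw [hOcard hf.mem hy hyc, hnk, hk2, hgr]

/-- the lines are unique on chords when `ζ` has `q + 1` fixed points on a line -/
theorem lineUnique_of_eq (hK : KSet α z q g) (hs : s = q) : LineUnique α z q g s ζ := by
  subst hs
  have key : ∀ (V V' : Subgroup G) (M M' : Set α), Full α z s g s ζ V M → Full α z s g s ζ V' M' →
      ∀ x y : α, x ≠ y → x ∈ M → y ∈ M → x ∈ M' → y ∈ M' → ζ • x = x → ζ • y = y →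
        ∀ p : α, ζ • p = p → p ∈ M → p ∈ M' := by
    intro V V' M M' hM hM' x y hxy hx hy hx' hy' hζx hζy p hζp hp
    by_cases hpx : p = x
    · rwa [hpx]
    obtain ⟨A, Q, hf⟩ := hM.2 x hx hζx
    obtain ⟨A', Q', hf'⟩ := hM'.2 x hx' hζx
    obtain ⟨k, hk, hkζ, rfl⟩ := hf.fixed_orbit hK.crit hy hxy.symm hζy hp hpx hζp
    have hA : A = Q ⊓ centralizer {ζ} := Subgroup.eq_of_le_of_card_ge
      (fun d hd => mem_inf.2 ⟨hf.leQ hd, mem_centralizer_singleton_iff.2 (hf.zA d hd).symm.eq⟩)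
      (by rw [hf.zcard, hf.cardA])
    have hkA : k ∈ A' := by
      rw [← hf'.toFrame.memberGroup_eq hK, hf.toFrame.memberGroup_eq hK, hA]
      exact mem_inf.2 ⟨hk, mem_centralizer_singleton_iff.2 hkζ.eq⟩
    exact hf'.toFrame.mapsQ (hf'.leQ hkA) hy'
  intro V V' M M' hM hM' x y hxy hx hy hx' hy' hζx hζy p hζp
  exact ⟨key V V' M M' hM hM' x y hxy hx hy hx' hy' hζx hζy p hζp,
    key V' V M' M hM' hM x y hxy hx' hy' hx hy hζx hζy p hζp⟩

/-- the lines with `q ^ 2 + 1` points are unique -/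
theorem lineUnique_square (hK : KSet α z q g) (hg : g = q ^ 2) : LineUnique α z q g s (1 : G) := by
  intro V V' M M' hM hM' x y hxy hx hy hx' hy' hζx hζy p _
  obtain ⟨A, Q, hf⟩ := hM.2 x hx hζx
  obtain ⟨A', Q', hf'⟩ := hM'.2 x hx' hζx
  rw [← chord_eq_line hK hg hf.toFrame hy hxy, chord_eq_line hK hg hf'.toFrame hy' hxy]

end Cfsg.Lib.BenderSE.Crit2.Ker
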