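/-
Aschbacher's criterion, OPEN 1: the kernel of the chosen involution has no second involution
(notes/s1175_h3_kernel.md).
-/
import Cfsg.Agent.BenderSE.Criterion2.KernelModel
import Cfsg.Agent.BenderSE.Criterion2.KernelUnique
import Cfsg.Agent.BenderSE.Criterion2.LineFibres
import Cfsg.Agent.BenderSE.Criterion2.LineActions
import Cfsg.Agent.BenderSE.Criterion2.Assemble

set_option autoImplicit false
set_option linter.unusedSectionVars false
set_option linter.style.haveILetI false

namespace Cfsg.Lib.BenderSE.Crit2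

open Subgroup MulAction Cfsg.Lib.InvolCalc Cfsg.Lib.StrongEmb Cfsg.Lib.BenderSE.CritDep
open Cfsg.Lib.Misc.FourConnected Cfsg.Lib.BenderSE.FourConn Cfsg.Lib.BenderSE.Thick

universe u

variable {G α : Type u} [Group G] [Finite G] [MulAction G α] [Finite α] [IsPretransitive G α]
  [FaithfulSMul G α] {z u : G} {a : α} {A Q X : Subgroup G} {q j : ℕ}

/-- an involution with two fixed points centralising a clique of the largest size -/
theorem Chosen.rank_of_clique (h : Crit G α z) (hu : Chosen α z u) {w : G} {B : Subgroup G}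
    (hB : IsClique z w B) (hcard : Nat.card B = cliqueNum z u) (hw : orderOf w = 2) {x y : α} (hxy : x ≠ y)
    (hwx : w • x = x) (hwy : w • y = y) :
    RankTwo z w ∧ cliqueNum z w = cliqueNum z u ∧
      Nat.card (fixedBy α w) ≤ Nat.card (fixedBy α u) := by
  have h3 : 1 < ((B : Set G) \ {1}).ncard := by
    rw [Set.ncard_sdiff_singleton_of_mem (s := (B : Set G)) (one_mem B), ← Nat.card_coe_set_eq,
      SetLike.coe_sort_coe, hcard]
    have := four_le_cliqueNum h hu.rank
    omega
  obtain ⟨d, ⟨hd, hd1⟩, d', ⟨hd', hd'1⟩, hne⟩ := (Set.one_lt_ncard (Set.toFinite _)).1 h3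
  have hr : RankTwo z w := ⟨hw, not_conj_of_fix h hwx hwy hxy, d, d', (hB d hd).2 hd1, (hB d' hd').2 hd'1,
    hne, clique_comm h hB hd hd', (hB d hd).1, (hB d' hd').1⟩
  have hq : cliqueNum z w = cliqueNum z u := le_antisymm (hu.clique w hr) (hcard ▸ le_cliqueNum hB)
  exact ⟨hr, hq, hu.fix w hr hq⟩

theorem LineCase.cliqueNum_self (C : LineCase α z u a A Q X q j) : cliqueNum z u = q := by
  haveI := C.simple
  exact cliqueNum_eq C.crit C.chosen.rank.1 C.fixa C.data

/-- the line of an involution centralising a largest clique -/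
theorem LineCase.exists_line (C : LineCase α z u a A Q X q j) {w : G} {B : Subgroup G} (hB : IsClique z w B)
    (hcard : Nat.card B = q) (hw : orderOf w = 2) {c d : α} (hwc : w • c = c) (hwd : w • d = d) (hcd : c ≠ d) :
    ∃ (B' R Y : Subgroup G) (i : ℕ), LineData z w c B' R Y q i := by
  haveI := C.simple
  obtain ⟨hr, hq, -⟩ :=
    C.chosen.rank_of_clique C.crit hB (hcard.trans C.cliqueNum_self.symm) hw hcd hwc hwd
  obtain ⟨-, -, e, e', he, he', hne, hee, hwe, hwe'⟩ := id hr
  obtain ⟨B', R, Y, r, i, L⟩ := (C.lines w c d hw hwc hwd hcd).2 ⟨e, e', he, he', hne, hee, hwe, hwe'⟩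
  obtain rfl : r = q := by rw [← cliqueNum_eq C.crit hw hwc L, hq, C.cliqueNum_self]
  exact ⟨B', R, Y, i, L⟩

theorem LineCase.kset (C : LineCase α z u a A Q X q j) : Ker.KSet α z q (q ^ j) := by
  classical
  haveI := C.simple
  have h := C.crit
  have hF : LineFacts α z := lineFacts_of_below h C.below fun K hK =>
    (Subgroup.card_le_card_group K).lt_of_ne fun e => hK (Subgroup.eq_top_of_card_eq K e)
  refine ⟨h, C.data.four, ?_, fun w B x y hw hB hcard hxy hwx hwy => ?_, ?_, ?_⟩
  · obtain ⟨k, hk⟩ := C.data.pow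
    exact ⟨k * j, by rw [hk, pow_mul]⟩
  · obtain ⟨-, -, hle⟩ :=
      C.chosen.rank_of_clique h hB (hcard.trans C.cliqueNum_self.symm) hw hxy hwx hwy
    rw [← Nat.card_coe_set_eq]
    refine hle.trans (le_of_eq ?_)
    rw [← C.data.fixed]
    exact Nat.card_congr (Equiv.subtypeEquivRight fun p => mem_line.symm)
  · intro w B c d hw hB hcard hBc hwc hwd hcd v hv
    obtain ⟨B', R, Y, i, L⟩ := C.exists_line hB hcard hw hwc hwd hcd
    have hW : Wide α z (localGen z w) := L.wide C.nonab h hw hwd hcd.symm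
    -- the actions of `B` are those of `B'`
    have hact : ∀ e ∈ B, ∃ e' ∈ B', ∀ p : α, w • p = p → e • p = e' • p := by
      intro e he
      rcases eq_or_ne e 1 with rfl | he1
      · exact ⟨1, one_mem _, fun p _ => rfl⟩
      obtain ⟨e', he', -, h1⟩ :=
        member_acts_like_clique h hF hW hw hwc L (d := e) ⟨(hB e he).2 he1, (hB e he).1, hBc e he⟩
      exact ⟨e', he', h1⟩
    choose f hf hfact using fun e : B => hact e e.2
    have hbij : Function.Bijective (fun e : B => (⟨f e, hf e⟩ : B')) := by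
      refine (Nat.bijective_iff_injective_and_card _).2 ⟨fun e e' he => ?_, hcard.trans L.card.symm⟩
      have he' : f e = f e' := congrArg Subtype.val he
      by_contra hne
      have h1 : (e : G)⁻¹ * e' ≠ 1 := fun h1 => hne (Subtype.ext (inv_mul_eq_one.1 h1))
      refine hcd (centre_unique h ((hB _ (mul_mem (inv_mem e.2) e'.2)).2 h1)
        (hBc _ (mul_mem (inv_mem e.2) e'.2)) ?_)
      rw [mul_smul, inv_smul_eq_iff, hfact e d hwd, hfact e' d hwd, he']
    obtain ⟨e', he', he'1, hv'⟩ := member_acts_like_clique h hF hW hw hwc L hv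
    obtain ⟨e, he⟩ := hbij.2 ⟨e', he'⟩
    have he'' : f e = e' := congrArg Subtype.val he
    refine ⟨e, e.2, fun e1 => hcd (centre_unique h hv.1 hv.2.2 ?_), fun p hp => by
      rw [hv' p hp, ← he'', hfact e p hp]⟩
    rw [hv' d hwd, ← he'', ← hfact e d hwd, e1, one_smul]
  · intro w B c d hw hB hcard hwc hwd hcd t ht ht2 htc
    obtain ⟨B', R, Y, i, L⟩ := C.exists_line hB hcard hw hwc hwd hcd
    obtain ⟨k, -, hk⟩ := exists_conj_into_Q hwc L (isPGroup_zpowers_of_two ht2)
      (zpowers_le.2 (mem_inf.2 ⟨ht, mem_stabilizer_iff.2 htc⟩))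
    have ho : orderOf (k⁻¹ * t * k) = 2 := by
      rw [show k⁻¹ * t * k = MulAut.conj k⁻¹ t by simp, MulEquiv.orderOf_eq, ht2]
    have hmem := L.invA _ (hk t (mem_zpowers t)) ho
    exact (L.memA _ hmem (ne_one_of_order_two ho)).1.trans (isConj_iff.2 ⟨k, by group⟩)

/-- a second involution in the kernel gives a four group fixing the line -/
theorem LineCase.exists_frame (C : LineCase α z u a A Q X q j) {t : G} (ht : orderOf t = 2)
    (htu : Commute t u) (htF : ∀ p : α, u • p = p → t • p = p) (hne : t ≠ u) :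
    ∃ V : Subgroup G, u ∈ V ∧ Ker.Frame α z q (q ^ j) V (fixedBy α u) a A Q := by
  classical
  haveI := C.simple
  have h := C.crit
  have D := C.data
  have hu := C.chosen.rank.1
  obtain ⟨S, hQS, huS, hSa, hsyl⟩ := exists_line_sylow h C.fixa hu D
  obtain ⟨b, hub, hba⟩ := exists_other_fixed D hQS hSa
  obtain ⟨k, hk, hkS⟩ := hsyl (zpowers t) (isPGroup_zpowers_of_two ht) (zpowers_le.2 (mem_inf.2
    ⟨mem_centralizer_singleton_iff.2 htu.eq, mem_stabilizer_iff.2 (htF a C.fixa)⟩))
  have hku : Commute k u := mem_centralizer_singleton_iff.1 (mem_inf.1 hk).1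
  set t' := k⁻¹ * t * k with ht'
  have ht'2 : orderOf t' = 2 := by
    rw [ht', show k⁻¹ * t * k = MulAut.conj k⁻¹ t by simp, MulEquiv.orderOf_eq, ht]
  have ht'u : Commute t' u := (hku.inv_left.mul_left htu).mul_left hku
  have ht'F : ∀ p : α, u • p = p → t' • p = p := fun p hp => by
    rw [ht', mul_smul, mul_smul, htF _ (by rw [smul_smul, ← hku.eq, mul_smul, hp]), inv_smul_smul]
  have ht'ne : t' ≠ u := fun e => hne (by
    rw [show t = k * t' * k⁻¹ by rw [ht']; group, e, hku.eq, mul_inv_cancel_right])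
  have ht'Q : ∀ x ∈ Q, Commute t' x := fun x hx =>
    commute_kernel_Q D hQS hSa (mem_lineKernel.2 ⟨hkS t (mem_zpowers t), ht'u, ht'F⟩) hx
  have hclq : IsClique z u A := fun d hd =>
    ⟨(commute_of_mem (D.Qle (D.leQ hd))).symm, fun hd1 => (D.memA d hd hd1).1⟩
  obtain ⟨V, hV, huV, htV, -⟩ := exists_klein (sq_of_order_two hu) (sq_of_order_two ht'2)
    (ne_one_of_order_two hu) (ne_one_of_order_two ht'2) ht'ne.symm ht'u.symm
  haveI := hV
  have hcases : ∀ v ∈ V, v = 1 ∨ v = t' ∨ v = u ∨ v = t' * u := fun v hv => by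
    rcases klein_cases hV htV huV (ne_one_of_order_two ht'2) (ne_one_of_order_two hu) ht'ne hv with
      e | e | e | e
    · exact Or.inl e
    · exact Or.inr (Or.inl e)
    · exact Or.inr (Or.inr (Or.inl e))
    · exact Or.inr (Or.inr (Or.inr e))
  have hVQ : ∀ v ∈ V, ∀ x ∈ Q, Commute v x := by
    intro v hv x hx
    have hux : Commute u x := (commute_of_mem (D.Qle hx)).symm
    rcases hcases v hv with rfl | rfl | rfl | rfl
    · exact Commute.one_left x
    · exact ht'Q x hx
    · exact hux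
    · exact (ht'Q x hx).mul_left hux
  have hVF : ∀ v ∈ V, ∀ p : α, u • p = p → v • p = p := by
    intro v hv p hp
    rcases hcases v hv with rfl | rfl | rfl | rfl
    · exact one_smul G p
    · exact ht'F p hp
    · exact hp
    · rw [mul_smul, hp, ht'F p hp]
  have hV2 : ∀ v ∈ V, v * v = 1 := fun v hv => by
    rcases hcases v hv with rfl | rfl | rfl | rfl
    · exact one_mul 1
    · exact sq_of_order_two ht'2
    · exact sq_of_order_two hu
    · rw [ht'u.symm.mul_mul_mul_comm, sq_of_order_two ht'2, sq_of_order_two hu, one_mul]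
  refine ⟨V, huV, ⟨hV2, fun v hv w hw => comm_of_klein v hv w hw, card_klein hV, fun v hv hv1 p => ?_,
    C.fixa, ?_, fun d hd hd1 => (D.memA d hd hd1).1, D.card, D.leQ, D.twoQ, fun x hx => D.Qfix hx,
    D.centQ, D.invA, hVQ, fun p hp p' hp' hpa hp'a => D.regQ p (mem_line.2 hp) p' (mem_line.2 hp') hpa hp'a⟩⟩
  · obtain ⟨-, -, heq⟩ := C.chosen.kernel_fix h hclq (D.card.trans C.cliqueNum_self.symm)
      (order_two_of_mul_self (hV2 v hv) hv1) (fun d hd => hVQ v hv d (D.leQ hd)) hba hub C.fixa (hVF v hv)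
    exact Set.ext_iff.1 heq p
  · rw [← Nat.card_coe_set_eq, ← D.fixed]
    exact Nat.card_congr (Equiv.subtypeEquivRight fun p => mem_line.symm)

/-- OPEN 1 -/
theorem kernelProp : KernelProp.{u} := by
  intro G α _ _ _ _ _ _ z u a A Q X q j C t ht htu htF _
  by_contra hne
  haveI := C.simple
  have hK := C.kset
  obtain ⟨V, huV, hf⟩ := C.exists_frame ht htu htF hne
  have hodd1 : ∃ p, p.Prime ∧ p ≠ 2 ∧ IsPGroup p (zpowers (1 : G)) :=
    ⟨3, Nat.prime_three, by norm_num, by rw [zpowers_one_eq_bot]; exact IsPGroup.of_bot⟩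
  have hfull : Ker.Full α z q (q ^ j) (q ^ j) (1 : G) V (fixedBy α u) := by
    refine ⟨⟨a, hf.mem, one_smul G a⟩, fun c hc _ => ?_⟩
    obtain ⟨B, R, hB⟩ := hf.exists_at C.crit hc
    obtain ⟨b, hb, hbc⟩ := hB.two_points hK
    refine ⟨B, R, hB, fun v _ => Commute.one_left v, one_smul G c, fun d _ => Commute.one_left d,
      fun x hx => by simpa using hx, ?_, ⟨b, hb, hbc, one_smul G b⟩⟩
    rw [show R ⊓ centralizer ({1} : Set G) = R from inf_eq_left.2 fun x _ =>
      mem_centralizer_singleton_iff.2 (Commute.one_right x).eq]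
    exact hB.card_Q C.crit hK
  rcases C.data.jcase with rfl | rfl | rfl
  · exact Ker.false_of_full hK hodd1 (Ker.lineUnique_of_eq hK (pow_one q)) hfull
  · exact Ker.false_of_full hK hodd1 (Ker.lineUnique_square hK rfl) hfull
  · obtain ⟨ζ, hζ, hF⟩ := Ker.exists_central_torus C.nonab C.below C.chosen.rank.1 C.fixa C.data hK hf huV
    exact Ker.false_of_full hK hζ (Ker.lineUnique_of_eq hK rfl) hF

end Cfsg.Lib.BenderSE.Crit2
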