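/-
Aschbacher's criterion, the chords of a line: the fixed point of an involution of the model lies in the orbit of
the involutions at a point exactly off the Suzuki type, and on a line of unitary type squares in the root group
have order at most two.
-/
import Cfsg.Agent.BenderSE.Criterion2.LineModel
import Cfsg.Agent.BenderSuzuki.U3.InputOf
import Cfsg.Agent.BenderSuzuki.Assembly
import Cfsg.Agent.BenderSuzuki.Unitary

set_option autoImplicit false
set_option linter.unusedSectionVars false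
set_option linter.style.haveILetI false

namespace Cfsg.Lib.BenderSE.Crit2

open Subgroup MulAction Cfsg.Lib.InvolCalc Cfsg.Lib.StrongEmb

universe u v

/-- the fixed point of the involution `t` lies in the orbit of `t • a` under the involutions at `a` -/
def IsChord {L : Type u} [Group L] {β : Type v} [MulAction L β] (a : β) (t : L) : Prop :=
  ∃ s : L, orderOf s = 2 ∧ s • a = a ∧ t • s • t • a = s • t • a

/-- THE CHORDS: off the Suzuki type every involution is a chord, on it none; and squares on the unitary type -/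
theorem model_chord {L : Type u} [Group L] [Finite L] [IsSimpleGroup L] {β : Type v} [MulAction L β]
    [IsPretransitive L β] {a : β} (hS : Cfsg.Lib.BenderSE.Setting (stabilizer L a)) {Q C : Subgroup L} {k e : ℕ}
    (M : ModelData a Q C k e) :
    (∀ t : L, orderOf t = 2 → t • a ≠ a → (IsChord a t ↔ e ≠ 2)) ∧
      (e = 3 → ∀ x ∈ Q, x * x * (x * x) = 1) := by
  set H := stabilizer L a with hH
  have hbase : stabilizer L ((1 : L) : L ⧸ H) = H := MulAction.stabilizer_quotient H
  have hQn : (Q.subgroupOf H).Normal := (normal_subgroupOf_iff_le_normalizer M.qle).2 M.qn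
  have hmove : ∀ g : L, g ∉ H → g • a ≠ a := fun g hg e' => hg (mem_stabilizer_iff.2 e')
  have htr : ∀ g₁ g₂ : L, g₁ ∉ H → g₂ ∉ H → ∃ w ∈ Q, g₂⁻¹ * (w * g₁) ∈ H := fun g₁ g₂ h₁ h₂ => by
    obtain ⟨w, ⟨hw, hw'⟩, -⟩ := M.regular _ _ (hmove g₁ h₁) (hmove g₂ h₂)
    exact ⟨w, hw, mem_stabilizer_iff.2 (by rw [mul_smul, mul_smul, hw', inv_smul_smul])⟩
  have hreg : ∀ g : L, g ∉ H → ∀ w ∈ Q, g⁻¹ * (w * g) ∈ H → w = 1 := fun g hg w hw h => by
    refine (M.regular _ _ (hmove g hg) (hmove g hg)).unique ⟨hw, ?_⟩ ⟨one_mem Q, one_smul _ _⟩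
    have h' := mem_stabilizer_iff.1 h
    rwa [mul_smul, mul_smul, inv_smul_eq_iff] at h'
  have hfaith : FaithfulSMul L (L ⧸ H) := by
    constructor
    intro x y h
    have hk : y⁻¹ * x ∈ H.normalCore := by
      rw [Subgroup.normalCore_eq_ker, MonoidHom.mem_ker]
      refine Equiv.ext fun p => ?_
      show (y⁻¹ * x) • p = p
      rw [mul_smul, h p, inv_smul_smul]
    rw [hS.core, mem_bot, inv_mul_eq_one] at hk
    exact hk.symm
  obtain ⟨p, q, hp, hq, hpq, hc⟩ := hS.rank2
  have hsim : ∀ {t : L}, orderOf t = 2 → t ∉ H →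
      Cfsg.Lib.BenderSuzuki.Simple L (L ⧸ H) ((1 : L) : L ⧸ H) t Q := fun {t} ht2 ht =>
    ⟨Cfsg.Lib.BenderSuzuki.embedded_setup H hS.se Q M.qle hQn htr hreg ht ht2, hfaith,
      ⟨p, q, ne_one_of_order_two hp, ne_one_of_order_two hq, hpq, sq_of_order_two hp, sq_of_order_two hq, hc⟩,
      inferInstance⟩
  have hmem : ∀ i : L, (orderOf i = 2 ∧ i ∈ H) ↔ i ∈ Cfsg.Lib.BenderSuzuki.invl L ((1 : L) : L ⧸ H) := by
    intro i
    show _ ↔ i ∈ (stabilizer L ((1 : L) : L ⧸ H) : Set L) ∧ i ≠ 1 ∧ i * i = 1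
    rw [hbase]
    exact ⟨fun h => ⟨h.2, ne_one_of_order_two h.1, sq_of_order_two h.1⟩,
      fun h => ⟨order_two_of_mul_self h.2.2 h.2.1, h.1⟩⟩
  have hqn : Cfsg.Lib.BenderSuzuki.qNum L ((1 : L) : L ⧸ H) = 2 ^ k := by
    rw [Cfsg.Lib.BenderSuzuki.qNum, ← M.cardI]
    exact congrArg (· + 1) (Nat.card_congr (Equiv.subtypeEquivRight hmem)).symm
  have hq4 : 4 ≤ 2 ^ k := le_of_eq_of_le (by norm_num) (Nat.pow_le_pow_right two_pos M.two)
  have hdich : ∀ {t : L}, orderOf t = 2 → t ∉ H →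
      ((Cfsg.Lib.BenderSuzuki.CaseL ((1 : L) : L ⧸ H) t Q ↔ e ≠ 2) ∧
        (e = 3 → ∀ x ∈ Q, x * x * (x * x) = 1)) := by
    intro t ht2 ht
    have hs := hsim ht2 ht
    have hIH := Cfsg.Lib.BenderSuzuki.ih_of_unitary Cfsg.Lib.BenderSuzuki.unitaryStep
    have hgood := hIH (Nat.card L + 1) L (L ⧸ H) _ t Q (Nat.lt_succ_self _) hs
    have hinj : Function.Injective fun i : ℕ => (2 ^ k) ^ i := Nat.pow_right_injective (by omega)
    rcases hgood.dich with ⟨h1, h⟩ | ⟨h1, h, -⟩ | ⟨h1, h, hna, hV⟩ <;> rw [M.cardQ, hqn] at h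
    · obtain rfl : e = 1 := hinj (by simpa using h)
      exact ⟨iff_of_true h1 (by omega), by omega⟩
    · obtain rfl : e = 2 := hinj h
      exact ⟨iff_of_false h1 (by omega), by omega⟩
    · obtain rfl : e = 3 := hinj h
      refine ⟨iff_of_true h1 (by omega), fun _ x hx => ?_⟩
      have I := Cfsg.Lib.BenderSuzuki.U3.Input.of_step hs (hIH _) h1 (by rw [M.cardQ, hqn]) hna hV
      exact (I.mem_Z.1 (I.sq_mem hx)).2
  refine ⟨fun t ht2 hta => ?_, fun he x hx => ?_⟩
  · have ht : t ∉ H := fun h => hta (mem_stabilizer_iff.1 h)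
    rw [← (hdich ht2 ht).1]
    have htt := sq_of_order_two ht2
    have hti := inv_of_order_two ht2
    constructor
    · rintro ⟨s, hs, hsa, hst⟩
      have hsH : s ∈ H := mem_stabilizer_iff.2 hsa
      have hsQ := (M.qinvol s hs hsH).1
      have hssi := inv_of_order_two hs
      refine ⟨t * (s * t * s) * t, (hmem _).1 ⟨?_, mem_stabilizer_iff.2 ?_⟩, s, hsQ, sq_of_order_two hs, ?_⟩
      · rw [show t * (s * t * s) * t = MulAut.conj (t * s) t by
          simp only [MulAut.conj_apply, mul_inv_rev, hti, hssi, mul_assoc],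
          MulEquiv.orderOf_eq, ht2]
      · rw [mul_smul, mul_smul, mul_smul, mul_smul, hst, ← mul_smul s s, sq_of_order_two hs, one_smul,
          ← mul_smul, htt, one_smul]
      · rw [hssi, show t * (t * (s * t * s) * t) * t = t * t * (s * t * s) * (t * t) by simp only [mul_assoc],
          htt, one_mul, mul_one]
    · rintro ⟨s₀, hs₀, r, hr, hr2, he0⟩
      obtain ⟨hs₀2, hs₀H⟩ := (hmem s₀).2 hs₀
      have hr1 : r ≠ 1 := fun h => by
        subst h
        rw [inv_one, one_mul, mul_one, mul_eq_right, mul_eq_one_iff_eq_inv] at he0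
        exact ht ((inv_of_order_two hs₀2 ▸ he0 : t = s₀) ▸ hs₀H)
      have hri : r⁻¹ = r := inv_eq_of_mul_eq_one_right hr2
      refine ⟨r, order_two_of_mul_self hr2 hr1, mem_stabilizer_iff.1 (M.qle hr), ?_⟩
      have h1 : (r * t * r) • t • a = t • a := by
        have h2 : (t * s₀ * t) • t • a = t • a := by
          rw [mul_smul, mul_smul, ← mul_smul t t, htt, one_smul, mem_stabilizer_iff.1 hs₀H]
        rwa [he0, hri] at h2
      rw [mul_smul, mul_smul] at h1
      have h3 := congrArg (r • ·) h1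
      simp only [← mul_smul r r, hr2, one_smul] at h3
      exact h3
  · obtain ⟨t, ht, ht2⟩ := Cfsg.Lib.BenderSuzuki.exists_invol_out H hS.se
    exact (hdich ht2 ht).2 he x hx

end Cfsg.Lib.BenderSE.Crit2
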