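/-
Aschbacher's criterion, no field automorphism on a line of unitary type: an involutory automorphism of the model
fixing two points fixes the involutions at them, so a 2-element of square one on the line centralises the clique.
-/
import Cfsg.Agent.BenderSE.Criterion2.LineChord
import Cfsg.Agent.BenderSE.Criterion2.Assemble
import Cfsg.Agent.BenderSE.Criterion2.Lines
import Cfsg.Agent.BenderSuzuki.U3.Frame
import Cfsg.Agent.SuzukiSolv.Field

set_option autoImplicit false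
set_option linter.unusedSectionVars false
set_option linter.style.haveILetI false

namespace Cfsg.Lib.BenderSuzuki.U3

open MulAction Cfsg.Lib.RankOne

universe u v

/-- an involutory automorphism of a field with `q²` elements fixes the `q`-th roots of the identity map -/
theorem fixed_of_involutive {E : Type} [Field E] [Fintype E] [CharP E 2] (D : UThreeEven.Dat E) (τ : E ≃+* E)
    (hτ : ∀ x, τ (τ x) = x) {x : E} (hx : D.bar x = x) : τ x = x := by
  haveI : Fact (Nat.Prime 2) := ⟨Nat.prime_two⟩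
  have hn0 : 0 < D.n := Nat.pos_of_ne_zero fun e => by
    have := D.hq
    rw [D.hn, e, pow_zero] at this
    omega
  have hcard : Nat.card E = 2 ^ (2 * D.n) := by
    rw [Nat.card_eq_fintype_card, D.hF, D.hn, ← pow_mul, mul_comm]
  obtain ⟨i, hi, hτi⟩ := Cfsg.Lib.SuzukiSolv.exists_frob hcard τ
  obtain ⟨w, hw⟩ := IsCyclic.exists_ofOrder_eq_natCard (α := Eˣ)
  rw [Nat.card_units, hcard] at hw
  have hzero : ∀ j, j < 2 * D.n → (∀ y : E, y ^ 2 ^ j = y) → j = 0 := by
    intro j hj h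
    have h0 : (w : E) ^ (2 ^ j - 1) = 1 := by
      refine mul_left_cancel₀ w.ne_zero ?_
      rw [← pow_succ', Nat.sub_add_cancel Nat.one_le_two_pow, h, mul_one]
    have h1 : orderOf w ∣ 2 ^ j - 1 := orderOf_dvd_of_pow_eq_one (Units.ext (by simpa using h0))
    by_contra hj0
    have h2 := Nat.le_of_dvd (by have := Nat.one_lt_two_pow hj0; omega) h1
    have h3 := Nat.pow_lt_pow_right (show 1 < 2 by norm_num) hj
    have h4 := Nat.one_lt_two_pow hj0
    rw [hw] at h2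
    omega
  have hrep : ∀ y : E, y ^ 2 ^ (2 * i) = y := fun y => by
    rw [two_mul, pow_add, pow_mul, ← hτi, ← hτi, hτ]
  rcases Nat.lt_or_ge (2 * i) (2 * D.n) with h | h
  · rw [hτi, show i = 0 by have := hzero _ h hrep; omega, pow_zero, pow_one]
  · have h' := hzero (2 * i - 2 * D.n) (by omega) fun y => by
      have h1 := hrep y
      rwa [show 2 * i = 2 * D.n + (2 * i - 2 * D.n) by omega, pow_add, pow_mul,
        show y ^ 2 ^ (2 * D.n) = y by rw [← hcard, Nat.card_eq_fintype_card, FiniteField.pow_card]] at h1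
    rw [hτi, show i = D.n by omega, ← D.hn, ← D.bar_apply, hx]

variable {G : Type u} {Ω : Type v} [Group G] [Finite G] [MulAction G Ω] {a : Ω} {t : G} {Q : Subgroup G}
  {F E : Type} [Field F] [Fintype F] [CharP F 2] [Field E] [Fintype E] [CharP E 2]

/-- NO FIELD AUTOMORPHISM: an involutory automorphism fixing `t`, the stabiliser of `a` and `Q` fixes the
involutions at `a` -/
theorem Frame.fix_invl (Fr : Frame Ω a t Q F E) (φ : MulAut G) (hφ2 : ∀ x, φ (φ x) = x) (ht : φ t = t)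
    (hH : ∀ x ∈ stabilizer G a, φ x ∈ stabilizer G a) (hQ : ∀ x ∈ Q, φ x ∈ Q) :
    ∀ s ∈ invl G a, φ s = s := by
  have I := Fr.input
  have hS := I.setup
  have hinvl : ∀ s ∈ invl G a, φ s ∈ invl G a := fun s hs =>
    ⟨hH s hs.1, fun e => hs.2.1 (φ.injective (e.trans (map_one φ).symm)), by rw [← map_mul, hs.2.2, map_one]⟩
  have hD : ∀ x ∈ twoStab Ω a t, φ x ∈ twoStab Ω a t := by
    intro x hx
    obtain ⟨hxa, hxb⟩ := Subgroup.mem_inf.1 hx
    refine Subgroup.mem_inf.2 ⟨hH x hxa, ?_⟩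
    have h1 := hH (t * x * t) (mem_stabilizer_iff.2 (by
      rw [mul_smul, mul_smul, mem_stabilizer_iff.1 hxb, t_ta hS]))
    rw [mem_stabilizer_iff, map_mul, map_mul, ht, mul_smul, mul_smul] at h1
    have h2 := congrArg (fun p : Ω => t • p) h1
    simp only [← mul_smul t t, hS.mul_self, one_smul] at h2
    exact mem_stabilizer_iff.2 h2
  have hV : ∀ x ∈ centI Ω a t, φ x ∈ centI Ω a t := by
    intro x hx
    obtain ⟨hxD, hxc⟩ := Subgroup.mem_inf.1 hx
    refine Subgroup.mem_inf.2 ⟨hD x hxD, Subgroup.mem_centralizer_iff.2 fun s hs => ?_⟩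
    have h1 := congrArg φ (Subgroup.mem_centralizer_iff.1 hxc _ (hinvl s hs))
    rwa [map_mul, map_mul, hφ2] at h1
  have hlam : ∀ l : Fˣ, ∃ l' : Fˣ, Fr.kl l' = φ (Fr.kl l) := fun l =>
    Fr.coord.kl_surj _ ⟨hD _ (Fr.coord.kl_D l), by
      have h := congrArg φ (Fr.coord.kl_mem l).2
      rwa [map_mul, map_mul, map_inv, map_inv, ht] at h⟩
  choose lam hlam using hlam
  have hklS : ∀ l, Fr.kl l ∈ stabilizer G a := fun l => (Subgroup.mem_inf.1 (Fr.coord.kl_D l)).1
  have hvS : Fr.v ∈ stabilizer G a := (Subgroup.mem_inf.1 (Subgroup.mem_inf.1 Fr.v_mem).1).1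
  choose lift hliftQ hlift using Fr.ca_surj
  have hca1 : Fr.ca 1 = 0 := (Fr.ca_zero_iff 1 (one_mem Q)).2 (one_mul 1)
  have hdef : ∀ p ∈ Q, Fr.ca (φ (lift (Fr.ca p))) = Fr.ca (φ p) := by
    intro p hp
    have hd : lift (Fr.ca p) * p⁻¹ ∈ Q := mul_mem (hliftQ _) (inv_mem hp)
    have h0 := Fr.ca_mul _ hd p hp
    rw [inv_mul_cancel_right, hlift, eq_comm, add_eq_right] at h0
    have h2 : Fr.ca (φ (lift (Fr.ca p) * p⁻¹)) = 0 :=
      (Fr.ca_zero_iff _ (hQ _ hd)).2 (by rw [← map_mul, (Fr.ca_zero_iff _ hd).1 h0, map_one])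
    rw [show φ (lift (Fr.ca p)) = φ (lift (Fr.ca p) * p⁻¹) * φ p by rw [← map_mul, inv_mul_cancel_right],
      Fr.ca_mul _ (hQ _ hd) _ (hQ _ hp), h2, zero_add]
  let f : E → E := fun e => Fr.ca (φ (lift e))
  have hf : ∀ p ∈ Q, f (Fr.ca p) = Fr.ca (φ p) := hdef
  have hfadd : ∀ x y, f (x + y) = f x + f y := by
    intro x y
    rw [← hlift x, ← hlift y, ← Fr.ca_mul _ (hliftQ x) _ (hliftQ y), hf _ (mul_mem (hliftQ x) (hliftQ y)),
      hf _ (hliftQ x), hf _ (hliftQ y), map_mul, Fr.ca_mul _ (hQ _ (hliftQ x)) _ (hQ _ (hliftQ y))]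
  have hff : ∀ e, f (f e) = e := fun e => by
    rw [← hlift e, hf _ (hliftQ e), hf _ (hQ _ (hliftQ e)), hφ2]
  have hf0 : f 0 = 0 := by rw [← hca1, hf _ (one_mem Q), map_one]
  have hfν : ∀ (l : Fˣ) e, f (Fr.ν (l : F) * e) = Fr.ν (lam l : F) * f e := by
    intro l e
    obtain ⟨p, hp, hpe⟩ : ∃ p ∈ Q, Fr.ca p = Fr.ν (l : F) * e := Fr.ca_surj _
    have hk := hS.conj_mem (Fr.kl l) (hklS l) p hp
    have h1 : Fr.ca (Fr.kl l * p * (Fr.kl l)⁻¹) = e :=
      mul_left_cancel₀ (fun e' => l.ne_zero (Fr.ν_inj (e'.trans (map_zero Fr.ν).symm)))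
        ((Fr.ca_kl l p hp).trans hpe)
    rw [← hpe, hf p hp, ← h1, hf _ hk, map_mul, map_mul, map_inv, ← hlam, Fr.ca_kl _ _ (hQ _ hp)]
  obtain ⟨c1, -, -, hc1⟩ := Fr.lin _ (hV _ Fr.v_mem)
  have hfε : ∀ e, f (Fr.ε * e) = c1 * f e := by
    intro e
    rw [← hlift e, ← Fr.ca_v _ (hliftQ e), hf _ (hS.conj_mem _ hvS _ (hliftQ e)), hf _ (hliftQ e), map_mul, map_mul,
      map_inv, hc1 _ (hQ _ (hliftQ e))]
  set c := f 1 with hc
  have hc0 : c ≠ 0 := fun h => one_ne_zero (α := E) (by rw [← hff 1, ← hc, h, hf0])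
  let R : Subring E :=
    { carrier := {r | ∀ x, f (r * x) * c = f r * f x}
      zero_mem' := fun x => by rw [zero_mul, hf0, zero_mul, zero_mul]
      one_mem' := fun x => by rw [one_mul, mul_comm]
      add_mem' := fun {r s} hr hs x => by rw [add_mul, hfadd, add_mul, hr x, hs x, hfadd r s, add_mul]
      neg_mem' := fun {r} hr x => by rw [CharTwo.neg_eq]; exact hr x
      mul_mem' := fun {r s} hr hs x => by
        have h1 := hr (s * x)
        have h2 := hs x
        have h3 := hr s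
        refine mul_right_cancel₀ hc0 ?_
        rw [mul_assoc r s x, h1, mul_assoc (f r), h2, ← mul_assoc, ← h3]
        ring }
  have hνR : ∀ x : F, Fr.ν x ∈ R := by
    intro x
    by_cases hx : x = 0
    · rw [hx, map_zero]; exact R.zero_mem
    intro y
    obtain ⟨l, rfl⟩ : ∃ l : Fˣ, (l : F) = x := ⟨Units.mk0 x hx, rfl⟩
    have h1 := hfν l 1
    rw [mul_one] at h1
    rw [hfν, h1, ← hc]
    ring
  have hεR : Fr.ε ∈ R := by
    intro y
    have h1 := hfε 1
    rw [mul_one] at h1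
    rw [hfε, h1, ← hc]
    ring
  have hεm : Fr.D.bar Fr.ε ≠ Fr.ε := by
    intro e
    have h1 := Fr.ε_norm
    rw [e] at h1
    refine Fr.ε_ne (CharTwo.add_eq_zero.1 ((mul_self_eq_zero).1 ?_))
    linear_combination h1 + (1 + Fr.ε) * CharTwo.two_eq_zero (R := E)
  have hall : ∀ r, r ∈ R := by
    intro r
    have hd : Fr.ε + Fr.D.bar Fr.ε ≠ 0 := fun e => hεm (CharTwo.add_eq_zero.1 e).symm
    set β := (r + Fr.D.bar r) / (Fr.ε + Fr.D.bar Fr.ε) with hβ
    have hβfix : Fr.D.bar β = β := by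
      rw [hβ, map_div₀, Fr.D.bar_trace, Fr.D.bar_trace]
    have hαfix : Fr.D.bar (r + β * Fr.ε) = r + β * Fr.ε := by
      have h1 : β * (Fr.ε + Fr.D.bar Fr.ε) = r + Fr.D.bar r := div_mul_cancel₀ _ hd
      rw [map_add, map_mul, hβfix]
      linear_combination h1 + (Fr.D.bar r - β * Fr.ε) * CharTwo.two_eq_zero (R := E)
    obtain ⟨x, hx⟩ := Fr.ν_surj _ hαfix
    obtain ⟨y, hy⟩ := Fr.ν_surj _ hβfix
    rw [show r = Fr.ν x + Fr.ν y * Fr.ε by rw [hx, hy, add_assoc, CharTwo.add_self_eq_zero, add_zero]]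
    exact R.add_mem (hνR x) (R.mul_mem (hνR y) hεR)
  let τ0 : E →+* E :=
    { toFun := fun x => f x / c
      map_one' := div_self hc0
      map_mul' := fun x y => by
        rw [div_mul_div_comm, div_eq_div_iff hc0 (mul_ne_zero hc0 hc0), ← mul_assoc, hall x y]
      map_zero' := by rw [hf0, zero_div]
      map_add' := fun x y => by rw [hfadd, add_div] }
  let τ : E ≃+* E := RingEquiv.ofBijective τ0 ⟨τ0.injective, Finite.surjective_of_injective τ0.injective⟩
  have hfτ : ∀ x, f x = c * τ x := fun x => (mul_div_cancel₀ _ hc0).symm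
  have hττ : ∀ x, τ (τ x) = x := by
    intro x
    have h1 : ∀ e, c * τ c * τ (τ e) = e := fun e => by
      conv_rhs => rw [← hff e, hfτ (f e), hfτ e, map_mul]
      rw [mul_assoc]
    have h2 := h1 1
    rw [map_one, map_one, mul_one] at h2
    have h3 := h1 x
    rwa [h2, one_mul] at h3
  have hlam1 : ∀ l, lam l = l := by
    intro l
    have h1 := hfν l 1
    rw [mul_one, ← hc, hfτ, fixed_of_involutive Fr.D τ hττ (Fr.ν_fix _), mul_comm] at h1
    exact Units.ext (Fr.ν_inj (mul_right_cancel₀ hc0 h1).symm)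
  -- the point `zc 1`, then all the involutions
  have h1I : Fr.zc 1 ∈ invl G a := Fr.coord.zc_invl one_ne_zero hS
  obtain ⟨m, hm⟩ := Fr.coord.eq_zc_of_invl hS (hinvl _ h1I)
  have hm0 : m ≠ 0 := fun e => (hinvl _ h1I).2.1 (by rw [← hm, e, Fr.coord.zc_zero])
  have hmul : ∀ x : F, φ (Fr.zc x) = Fr.zc (x * m) := by
    intro x
    by_cases hx : x = 0
    · rw [hx, zero_mul, Fr.coord.zc_zero, map_one]
    haveI : Fact (Nat.Prime 2) := ⟨Nat.prime_two⟩
    obtain ⟨s, hs⟩ := (PerfectRing.bijective_frobenius (R := F) (p := 2)).surjective x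
    replace hs : s ^ 2 = x := hs
    have hs0 : s ≠ 0 := fun e => hx (by rw [← hs, e, zero_pow two_ne_zero])
    set l := Units.mk0 s hs0 with hl
    have h1 := Fr.coord.kl_zc l 1
    have h2 := Fr.coord.kl_zc l m
    rw [Units.val_mk0, ← pow_two, hs] at h1 h2
    rw [mul_one] at h1
    rw [← h1, map_mul, map_mul, map_inv, ← hlam, hlam1, ← hm, h2]
  have hm1 : m = 1 := by
    have h1 := hφ2 (Fr.zc 1)
    rw [← hm, hmul] at h1
    have h2 : m * m = 1 := Fr.coord.zc_inj h1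
    refine CharTwo.add_eq_zero.1 (mul_self_eq_zero.1 ?_)
    linear_combination h2 + (m + 1) * CharTwo.two_eq_zero (R := F)
  intro s hs
  obtain ⟨x, rfl⟩ := Fr.coord.eq_zc_of_invl hS hs
  rw [hmul, hm1, mul_one]

end Cfsg.Lib.BenderSuzuki.U3

namespace Cfsg.Lib.BenderSE.Crit2

open Subgroup MulAction Cfsg.Lib.InvolCalc Cfsg.Lib.StrongEmb

universe u v

/-- an involutory automorphism of a model of unitary type fixing an outer involution fixes the involutions at
the point -/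
theorem model_fix {L : Type u} [Group L] [Finite L] [IsSimpleGroup L] {β : Type v} [MulAction L β]
    [IsPretransitive L β] {a : β} (hS : Cfsg.Lib.BenderSE.Setting (stabilizer L a)) {Q C : Subgroup L} {k : ℕ}
    (M : ModelData a Q C k 3) (φ : MulAut L) (hφ2 : ∀ x, φ (φ x) = x)
    (hH : ∀ x ∈ stabilizer L a, φ x ∈ stabilizer L a) {t : L} (ht2 : orderOf t = 2) (hta : t • a ≠ a)
    (hφt : φ t = t) : ∀ i : L, orderOf i = 2 → i • a = a → φ i = i := by
  haveI : Fact (Nat.Prime 2) := ⟨Nat.prime_two⟩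
  set H := stabilizer L a with hHdef
  have hbase : stabilizer L ((1 : L) : L ⧸ H) = H := MulAction.stabilizer_quotient H
  have hQn : (Q.subgroupOf H).Normal := (normal_subgroupOf_iff_le_normalizer M.qle).2 M.qn
  have hmove : ∀ g : L, g ∉ H → g • a ≠ a := fun g hg e' => hg (mem_stabilizer_iff.2 e')
  have htr : ∀ g₁ g₂ : L, g₁ ∉ H → g₂ ∉ H → ∃ w ∈ Q, g₂⁻¹ * (w * g₁) ∈ H := fun g₁ g₂ h₁ h₂ => by
    obtain ⟨w, ⟨hw, hw'⟩, -⟩ := M.regular _ _ (hmove g₁ h₁) (hmove g₂ h₂)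
    exact ⟨w, hw, mem_stabilizer_iff.2 (by rw [mul_smul, mul_smul, hw', inv_smul_smul])⟩
  have hreg : ∀ g : L, g ∉ H → ∀ w ∈ Q, g⁻¹ * (w * g) ∈ H → w = 1 := fun g hg w hw h => by
    refine (M.regular _ _ (hmove g hg) (hmove g hg)).unique ⟨hw, ?_⟩ ⟨one_mem Q, one_smul _ _⟩
    have h' := mem_stabilizer_iff.1 h
    rwa [mul_smul, mul_smul, inv_smul_eq_iff] at h'
  have hfaith : FaithfulSMul L (L ⧸ H) := by
    constructor
    intro x y h
    have hk : y⁻¹ * x ∈ H.normalCore := by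
      rw [Subgroup.normalCore_eq_ker, MonoidHom.mem_ker]
      refine Equiv.ext fun p => ?_
      show (y⁻¹ * x) • p = p
      rw [mul_smul, h p, inv_smul_smul]
    rw [hS.core, mem_bot, inv_mul_eq_one] at hk
    exact hk.symm
  obtain ⟨p, q, hp, hq, hpq, hc⟩ := hS.rank2
  have ht : t ∉ H := fun h => hta (mem_stabilizer_iff.1 h)
  have hs : Cfsg.Lib.BenderSuzuki.Simple L (L ⧸ H) ((1 : L) : L ⧸ H) t Q :=
    ⟨Cfsg.Lib.BenderSuzuki.embedded_setup H hS.se Q M.qle hQn htr hreg ht ht2, hfaith,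
      ⟨p, q, ne_one_of_order_two hp, ne_one_of_order_two hq, hpq, sq_of_order_two hp, sq_of_order_two hq, hc⟩,
      inferInstance⟩
  have hmem : ∀ i : L, (orderOf i = 2 ∧ i ∈ H) ↔ i ∈ Cfsg.Lib.BenderSuzuki.invl L ((1 : L) : L ⧸ H) := by
    intro i
    show _ ↔ i ∈ (stabilizer L ((1 : L) : L ⧸ H) : Set L) ∧ i ≠ 1 ∧ i * i = 1
    rw [hbase]
    exact ⟨fun h => ⟨h.2, ne_one_of_order_two h.1, sq_of_order_two h.1⟩,
      fun h => ⟨order_two_of_mul_self h.2.2 h.2.1, h.1⟩⟩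
  have hqn : Cfsg.Lib.BenderSuzuki.qNum L ((1 : L) : L ⧸ H) = 2 ^ k := by
    rw [Cfsg.Lib.BenderSuzuki.qNum, ← M.cardI]
    exact congrArg (· + 1) (Nat.card_congr (Equiv.subtypeEquivRight hmem)).symm
  have hq4 : 4 ≤ 2 ^ k := le_of_eq_of_le (by norm_num) (Nat.pow_le_pow_right two_pos M.two)
  have hIH := Cfsg.Lib.BenderSuzuki.ih_of_unitary Cfsg.Lib.BenderSuzuki.unitaryStep
  have hinj : Function.Injective fun i : ℕ => (2 ^ k) ^ i := Nat.pow_right_injective (by omega)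
  rcases (hIH (Nat.card L + 1) L (L ⧸ H) _ t Q (Nat.lt_succ_self _) hs).dich with
    ⟨-, h⟩ | ⟨-, h, -⟩ | ⟨h1, h, hna, hV⟩ <;> rw [M.cardQ, hqn] at h
  · exact absurd (hinj (show (2 ^ k) ^ 3 = (2 ^ k) ^ 1 by simpa using h)) (by omega)
  · exact absurd (hinj h) (by omega)
  have I := Cfsg.Lib.BenderSuzuki.U3.Input.of_step hs (hIH _) h1 (by rw [M.cardQ, hqn]) hna hV
  obtain ⟨F, E, iF, iFF, iFC, iE, iEF, iEC, ⟨Fr⟩⟩ := I.exists_frame
  have hQ : ∀ x ∈ Q, φ x ∈ Q := by
    have h2 : Q.map φ.toMonoidHom ≤ Q := M.qmax _ (M.q2.map _) (by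
      rintro _ ⟨x, hx, rfl⟩
      exact hH x (M.qle hx))
    exact fun x hx => h2 (mem_map_of_mem _ hx)
  intro i hi hia
  exact Fr.fix_invl φ hφ2 hφt (by rw [hbase]; exact hH) hQ i ((hmem i).1 ⟨hi, mem_stabilizer_iff.2 hia⟩)

variable {G α : Type u} [Group G] [Finite G] [MulAction G α] [Finite α] [FaithfulSMul G α] {z u : G} {a : α}
  {A Q X : Subgroup G} {q j : ℕ}

open Cfsg.Lib.BenderSE.CritDep in
/-- a 2-element fixing two points of a line of unitary type, of square one on it, centralises the clique -/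
theorem LineCase.centA_of_unitary (C : LineCase α z u a A Q X q j) (hj : j = 3) {b : α} (hub : u • b = b)
    (hab : b ≠ a) {g : G} (hg2 : IsPGroup 2 (zpowers g)) (hga : g • a = a) (hgb : g • b = b)
    (hgu : Commute g u) (hgA : g ∈ normalizer (A : Set G))
    (hsq : ∀ p : α, u • p = p → (g * g) • p = p) : ∀ d ∈ A, Commute g d := by
  classical
  haveI : Fact (Nat.Prime 2) := ⟨Nat.prime_two⟩
  have h := C.crit
  have D := C.data
  have hu := C.chosen.rank.1
  set W := zpowers u with hWdef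
  have hW : IsPGroup 2 W := isPGroup_zpowers_of_two hu
  have ha : a ∈ fixSet α W := mem_line.2 C.fixa
  have hb : b ∈ fixSet α W := mem_line.2 hub
  have hfix : (fixSet α W).Nontrivial := ⟨b, hb, a, ha, hab⟩
  have hn : Nat.card (lineImage α z W) < Nat.card G := by
    refine lt_of_le_of_lt (Nat.card_le_card_of_surjective _ (lineHom α z W).rangeRestrict_surjective) ?_
    refine lt_of_le_of_ne (card_le_card_group _) fun heq => ?_
    have htop := eq_top_iff.1 ((Subgroup.card_eq_iff_eq_top _).1 heq)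
    refine ne_one_of_order_two hu (eq_of_smul_eq_smul fun p : α => ?_)
    obtain ⟨k, rfl⟩ := h.transitive a p
    rw [one_smul, smul_smul, mem_centralizer_iff.1 (lineGen_le z W (htop (Subgroup.mem_top k))) u (mem_zpowers u),
      mul_smul, C.fixa]
  set Y := lineGen z W with hY
  set π := (lineHom α z W).rangeRestrict with hπ
  have hQY : Q ≤ Y := by rw [hY, ← localGen_eq_lineGen]; exact D.Qle
  have hmemW : ∀ d ∈ A, d ≠ 1 → IsConj z d ∧ ∀ w ∈ W, Commute d w := fun d hd h1 => by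
    obtain ⟨hc, hdu, -⟩ := D.memA d hd h1
    refine ⟨hc, fun w hw => ?_⟩
    obtain ⟨i, rfl⟩ := mem_zpowers_iff.1 hw
    exact hdu.symm.zpow_right i
  obtain ⟨d₁, e₁, hd₁, he₁, hd₁1, he₁1, hne⟩ :
      ∃ d e : G, d ∈ A ∧ e ∈ A ∧ d ≠ 1 ∧ e ≠ 1 ∧ d ≠ e := by
    haveI : Nontrivial A := Finite.one_lt_card_iff_nontrivial.1 (by rw [D.card]; have := D.four; omega)
    obtain ⟨⟨d, hd⟩, hd1⟩ := exists_ne (1 : A)
    obtain ⟨⟨e, he⟩, he'⟩ : ∃ e : A, e ≠ 1 ∧ e ≠ ⟨d, hd⟩ := by
      by_contra hno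
      push Not at hno
      haveI := Fintype.ofFinite A
      have hle : (Finset.univ : Finset A).card ≤ ({1, ⟨d, hd⟩} : Finset A).card := Finset.card_le_card fun e _ => by
        by_cases e1 : e = 1
        · simp [e1]
        · simp [hno e e1]
      rw [Finset.card_univ, Fintype.card_eq_nat_card, D.card] at hle
      have h4 := D.four
      have := hle.trans Finset.card_le_two
      omega
    exact ⟨d, e, hd, he, fun e' => hd1 (Subtype.ext e'), fun e' => he'.1 (Subtype.ext e'),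
      fun e' => he'.2 (Subtype.ext e'.symm)⟩
  have hda₁ : d₁ • a = a := (D.memA d₁ hd₁ hd₁1).2.2
  have L := line_cover h hW hfix C.below hn (hmemW d₁ hd₁ hd₁1).1 (hmemW e₁ he₁ he₁1).1
    (D.centQ d₁ hd₁ e₁ (D.leQ he₁)) hne (hmemW d₁ hd₁ hd₁1).2 (hmemW e₁ he₁ he₁1).2 (a := ⟨a, ha⟩) hda₁
  haveI := L.simple
  haveI := L.trans
  obtain ⟨Qb, Cb, k, e, M⟩ := exists_modelData L.setting
  have hsm : ∀ (y : Y) (p : fixSet α W), ((π y • p : fixSet α W) : α) = (y : G) • (p : α) := fun y p => rfl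
  have hstab : ∀ y : Y, π y ∈ stabilizer (lineImage α z W) (⟨a, ha⟩ : fixSet α W) ↔ (y : G) • a = a :=
    fun y => ⟨fun h1 => congrArg Subtype.val (mem_stabilizer_iff.1 h1),
      fun h1 => mem_stabilizer_iff.2 (Subtype.ext h1)⟩
  -- the root group maps onto the one of the model
  have hinj : ∀ x y : Y, (x : G) ∈ Q → (y : G) ∈ Q → π x = π y → x = y := fun x y hx hy hxy => by
    have h1 : (x : G) • b = (y : G) • b := (hsm x ⟨b, hb⟩).symm.trans ((congrArg
      (fun l => ((l • (⟨b, hb⟩ : fixSet α W) : fixSet α W) : α)) hxy).trans (hsm y ⟨b, hb⟩))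
    have h2 : (x : G) • b ≠ a := fun e' =>
      hab (smul_left_cancel (x : G) (e'.trans (mem_stabilizer_iff.1 (D.Qfix hx)).symm))
    exact Subtype.ext ((D.regQ b hb _ (lineGen_maps x.2 hb) hab h2).unique ⟨hx, rfl⟩ ⟨hy, h1.symm⟩)
  set QY := Q.subgroupOf Y with hQYdef
  have hle : QY.map π ≤ Qb := M.qmax _ (D.twoQ.comap_subtype.map _) (by
    rintro _ ⟨y, hy, rfl⟩
    exact (hstab y).2 (mem_stabilizer_iff.1 (D.Qfix hy)))
  have hcQY : Nat.card (QY.map π) = q ^ 3 := by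
    rw [← hj, ← D.cardQ, ← Nat.card_congr (subgroupOfEquivOfLe hQY).toEquiv]
    exact (Nat.card_congr (Equiv.ofBijective (fun s : QY => (⟨π s, mem_map_of_mem π s.2⟩ : QY.map π))
      ⟨fun s s' e' => Subtype.ext (hinj _ _ s.2 s'.2 (congrArg Subtype.val e')), fun y => by
        obtain ⟨s, hs, hsy⟩ := y.2
        exact ⟨⟨s, hs⟩, Subtype.ext hsy⟩⟩)).symm
  have hcb : Nat.card Qb + 1 = Nat.card (fixSet α W) := by
    rw [← Finite.card_option]
    refine Nat.card_eq_of_bijective (fun o : Option Qb => o.elim (⟨a, ha⟩ : fixSet α W)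
      fun s => (s : lineImage α z W) • (⟨b, hb⟩ : fixSet α W)) ⟨?_, ?_⟩
    · have hne' : ∀ s : Qb, (s : lineImage α z W) • (⟨b, hb⟩ : fixSet α W) ≠ ⟨a, ha⟩ := fun s e' =>
        hab (congrArg Subtype.val (smul_left_cancel (s : lineImage α z W)
          (e'.trans (mem_stabilizer_iff.1 (M.qle s.2)).symm)))
      rintro (_ | s) (_ | t) e'
      · rfl
      · exact absurd e'.symm (hne' t)
      · exact absurd e' (hne' s)
      · exact congrArg some (Subtype.ext ((M.regular ⟨b, hb⟩ _ (fun e'' => hab (congrArg Subtype.val e''))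
          (hne' s)).unique ⟨s.2, rfl⟩ ⟨t.2, e'.symm⟩))
    · intro p
      by_cases hp : p = ⟨a, ha⟩
      · exact ⟨none, hp.symm⟩
      · obtain ⟨v, ⟨hv, hvp⟩, -⟩ := M.regular ⟨b, hb⟩ p (fun e'' => hab (congrArg Subtype.val e'')) hp
        exact ⟨some ⟨v, hv⟩, hvp⟩
  have hQb : Nat.card Qb = q ^ 3 := by
    rw [D.fixed, hj] at hcb
    omega
  have heq : QY.map π = Qb := Subgroup.eq_of_le_of_card_ge hle (by rw [hQb, hcQY])
  -- the involutions at the point
  have hliftI : ∀ i : lineImage α z W, orderOf i = 2 → i ∈ stabilizer (lineImage α z W) (⟨a, ha⟩ : fixSet α W) →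
      ∃ y : Y, (y : G) ∈ A ∧ π y = i := by
    intro i hi hiH
    obtain ⟨y, hy, rfl⟩ : i ∈ QY.map π := heq.symm ▸ (M.qinvol i hi hiH).1
    have hy2 : y * y = 1 := hinj _ _ (mul_mem hy hy) (one_mem Q) (by rw [map_mul, sq_of_order_two hi, map_one])
    refine ⟨y, D.invA _ hy ?_, rfl⟩
    rw [Subgroup.orderOf_coe]
    exact order_two_of_mul_self hy2 fun e' => ne_one_of_order_two hi (by rw [e', map_one])
  have hAY : ∀ d ∈ A, d ∈ Y := fun d hd => hQY (D.leQ hd)
  have hord : ∀ (d : G) (hd : d ∈ A), d ≠ 1 → orderOf (π ⟨d, hAY d hd⟩) = 2 ∧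
      π ⟨d, hAY d hd⟩ ∈ stabilizer (lineImage α z W) (⟨a, ha⟩ : fixSet α W) := fun d hd h1 =>
    ⟨order_two_of_mul_self
      (by rw [← map_mul, show (⟨d, hAY d hd⟩ : Y) * ⟨d, hAY d hd⟩ = 1 from Subtype.ext (D.elem d hd), map_one])
      fun e' => h1 (congrArg Subtype.val (hinj ⟨d, hAY d hd⟩ 1 (D.leQ hd) (one_mem Q) (by rw [e', map_one]))),
      (hstab _).2 (D.memA d hd h1).2.2⟩
  have hk : 2 ^ k = q := by
    haveI := Fintype.ofFinite A
    rw [← M.cardI, ← D.card, ← Finite.card_option]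
    refine (Nat.card_eq_of_bijective (fun d : A => if h1 : (d : G) = 1 then none else
      some ⟨π ⟨d, hAY d d.2⟩, hord d d.2 h1⟩) ⟨fun d d' e' => ?_, fun o => ?_⟩).symm
    · by_cases h1 : (d : G) = 1 <;> by_cases h2 : (d' : G) = 1 <;> simp only [h1, h2, dite_true, dite_false] at e'
      · exact Subtype.ext (h1.trans h2.symm)
      · exact absurd e' (by simp)
      · exact absurd e' (by simp)
      · exact Subtype.ext (congrArg Subtype.val (hinj ⟨d, hAY d d.2⟩ ⟨d', hAY d' d'.2⟩ (D.leQ d.2) (D.leQ d'.2)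
          (congrArg Subtype.val (Option.some.inj e'))) :)
    · cases o with
      | none => exact ⟨1, dif_pos rfl⟩
      | some i =>
        obtain ⟨y, hy, hyi⟩ := hliftI i i.2.1 i.2.2
        have hy1 : (y : G) ≠ 1 := fun e' => ne_one_of_order_two i.2.1 (by
          rw [← hyi, show y = 1 from Subtype.ext e', map_one])
        exact ⟨⟨y, hy⟩, by simp only [dif_neg hy1]; exact congrArg some (Subtype.ext hyi)⟩
  obtain rfl : e = 3 := by
    have h1 := M.cardQ
    rw [hQb, ← hk] at h1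
    exact (Nat.pow_right_injective (show 2 ≤ 2 ^ k by
      calc 2 = 2 ^ 1 := rfl
        _ ≤ _ := Nat.pow_le_pow_right two_pos (by have := M.two; omega)) h1).symm
  -- the automorphism
  have hgmap : ∀ (x : G), Commute x u → ∀ y ∈ Y, x * y * x⁻¹ ∈ Y := by
    intro x hxu y hy
    have hle' : Y.map (MulAut.conj x).toMonoidHom ≤ Y := by
      rw [hY, MonoidHom.map_closure, closure_le]
      rintro _ ⟨y', hy', rfl⟩
      refine mem_lineGen (hy'.1.trans (isConj_iff.2 ⟨x, rfl⟩)) fun w hw => ?_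
      obtain ⟨i, rfl⟩ := mem_zpowers_iff.1 hw
      exact ((hxu.zpow_right i).mul_left (hy'.2 _ hw)).mul_left (hxu.zpow_right i).inv_left
    exact hle' (mem_map_of_mem _ hy)
  have hgfix : ∀ p ∈ fixSet α W, g • p ∈ fixSet α W := fun p hp => mem_line.2 (by
    rw [smul_smul, ← hgu.eq, mul_smul, mem_line.1 hp])
  have hgg : ∀ p ∈ fixSet α W, g • g • p = p := fun p hp => by
    rw [smul_smul]; exact hsq p (mem_line.1 hp)
  let σ : Equiv.Perm (fixSet α W) :=
    { toFun := fun p => ⟨g • (p : α), hgfix _ p.2⟩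
      invFun := fun p => ⟨g • (p : α), hgfix _ p.2⟩
      left_inv := fun p => Subtype.ext (hgg _ p.2)
      right_inv := fun p => Subtype.ext (hgg _ p.2) }
  have hσσ : σ * σ = 1 := Equiv.ext fun p => Subtype.ext (hgg _ p.2)
  have hσinv : σ⁻¹ = σ := inv_eq_of_mul_eq_one_right hσσ
  have hconj : ∀ y : Y, σ * (π y : Equiv.Perm (fixSet α W)) * σ⁻¹ =
      (π ⟨g * y * g⁻¹, hgmap g hgu y y.2⟩ : Equiv.Perm (fixSet α W)) := fun y => by
    rw [hσinv]
    refine Equiv.ext fun p => Subtype.ext ?_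
    show g • (y : G) • g • (p : α) = (g * (y : G) * g⁻¹) • (p : α)
    rw [mul_smul, mul_smul, show g⁻¹ • (p : α) = g • p from inv_smul_eq_iff.2 (hgg _ p.2).symm]
  have hLmap : ∀ l ∈ lineImage α z W, σ * l * σ⁻¹ ∈ lineImage α z W := by
    rintro _ ⟨y, rfl⟩
    rw [show lineHom α z W y = (π y : Equiv.Perm (fixSet α W)) from rfl, hconj]
    exact Subtype.prop _
  have hinv2 : ∀ l, σ * (σ * l * σ⁻¹) * σ⁻¹ = l := fun l => by
    rw [hσinv, ← mul_assoc, ← mul_assoc, hσσ, one_mul, mul_assoc, hσσ, mul_one]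
  let φ : MulAut (lineImage α z W) :=
    { toFun := fun l => ⟨σ * l * σ⁻¹, hLmap _ l.2⟩
      invFun := fun l => ⟨σ * l * σ⁻¹, hLmap _ l.2⟩
      left_inv := fun l => Subtype.ext (hinv2 _)
      right_inv := fun l => Subtype.ext (hinv2 _)
      map_mul' := fun l l' => Subtype.ext (by simp [mul_assoc]) }
  have hφπ : ∀ y : Y, φ (π y) = π ⟨g * y * g⁻¹, hgmap g hgu y y.2⟩ := fun y => Subtype.ext (hconj y)
  -- a member swapping the two points and commuting with `g`
  have hT : IsPGroup 2 (W ⊔ zpowers g : Subgroup G) := hW.to_sup_of_normal_left' hg2 (zpowers_le.2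
    (centralizer_le_normalizer _ (mem_centralizer_iff.2 fun w hw => by
      obtain ⟨i, rfl⟩ := mem_zpowers_iff.1 hw
      exact (hgu.zpow_right i).eq.symm)))
  have hTfix : ∀ p, u • p = p → g • p = p → p ∈ fixSet α (W ⊔ zpowers g : Subgroup G) := fun p h1 h2 w hw =>
    mem_stabilizer_iff.1 ((sup_le (zpowers_le.2 (mem_stabilizer_iff.2 h1))
      (zpowers_le.2 (mem_stabilizer_iff.2 h2)) : W ⊔ zpowers g ≤ stabilizer G p) hw)
  obtain ⟨v, hv, hvT, hva, -⟩ := exists_swap_fix h hT (hTfix a C.fixa hga) (hTfix b hub hgb) hab.symm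
  have hvW : ∀ w ∈ W, Commute v w := fun w hw => hvT w (mem_sup_left hw)
  set vY : Y := ⟨v, mem_lineGen hv hvW⟩ with hvY
  have hvg : φ (π vY) = π vY := by
    rw [hφπ]
    refine congrArg π (Subtype.ext ?_)
    show g * v * g⁻¹ = v
    rw [(hvT g (mem_sup_right (mem_zpowers g))).symm.eq, mul_inv_cancel_right]
  have hmove : π vY • (⟨a, ha⟩ : fixSet α W) ≠ ⟨a, ha⟩ := fun e' =>
    hab (hva.symm.trans (congrArg Subtype.val e'))
  have hv2 : orderOf (π vY) = 2 := order_two_of_mul_self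
    (by rw [← map_mul, show vY * vY = 1 from Subtype.ext (sq_of_order_two (orderOf_conj h hv)), map_one])
    fun e' => hmove (by rw [e', one_smul])
  have hfinal := model_fix L.setting M φ (fun l => Subtype.ext (hinv2 _)) (fun l hl => ?_) hv2 hmove hvg
  · intro d hd
    by_cases h1 : d = 1
    · rw [h1]; exact Commute.one_right g
    have hgd : g * d * g⁻¹ ∈ A := (mem_normalizer_iff.1 hgA d).1 hd
    have h2 := hfinal _ (hord d hd h1).1 (mem_stabilizer_iff.1 (hord d hd h1).2)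
    rw [hφπ] at h2
    have h3 : g * d * g⁻¹ = d := congrArg Subtype.val (hinj _ ⟨d, hAY d hd⟩ (D.leQ hgd) (D.leQ hd) h2)
    exact mul_inv_eq_iff_eq_mul.1 h3
  · obtain ⟨_, y, rfl⟩ := l
    refine mem_stabilizer_iff.2 ?_
    have h1 := (hstab y).1 hl
    show (σ * lineHom α z W y * σ⁻¹ : Equiv.Perm (fixSet α W)) ⟨a, ha⟩ = (⟨a, ha⟩ : fixSet α W)
    rw [hσinv]
    refine Subtype.ext ?_
    show g • (y : G) • g • a = a
    rw [hga, h1, hga]

end Cfsg.Lib.BenderSE.Crit2
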