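/-
Aschbacher's criterion, RootProp (notes/s1175_h7_graph.md, SIGMA): an involutive automorphism `σ` of a group `Q` of
order `q ^ 3` whose fixed group is the central subgroup `A` of order `q` that contains the squares and the
involutions, with automorphisms commuting with `σ` transitive on `A`.
The elements inverted by `σ` form an abelian group `V` of order `q ^ 2` mapped onto `A` by squaring, the product
`γ (a, b) = [z_a, y_b]` is symmetric with `γ (a, a) = a`, and counting gives that `γ (a, b) = b` only for `a = b`.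
-/
import Mathlib.GroupTheory.PGroup
import Mathlib.GroupTheory.QuotientGroup.Basic
import Mathlib.GroupTheory.Perm.Cycle.Type
import Mathlib.Tactic.Group
import Mathlib.Tactic.Linarith
import Mathlib.Tactic.Ring

set_option autoImplicit false
set_option linter.unusedSectionVars false
set_option linter.style.haveILetI false

namespace Cfsg.Lib.BenderSE.Crit2

open Subgroup

universe u

variable {Q : Type u} [Group Q]

/-- an involutive automorphism fixing exactly the centre `A` -/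
structure GraphSigma (A : Subgroup Q) (σ : MulAut Q) (q : ℕ) : Prop where
  centA : ∀ a ∈ A, ∀ x, Commute a x
  cardA : Nat.card A = q
  four : 4 ≤ q
  cardQ : Nat.card Q = q ^ 3
  sq : ∀ x, x * x ∈ A
  invA : ∀ x, x * x = 1 → x ∈ A
  invol : ∀ x, σ (σ x) = x
  fixed : ∀ x, σ x = x ↔ x ∈ A
  trans : ∀ a ∈ A, ∀ b ∈ A, a ≠ 1 → b ≠ 1 → ∃ τ : MulAut Q, (∀ x, τ (σ x) = σ (τ x)) ∧ τ a = b

namespace GraphSigma

theorem card_range_ker {H : Type*} [Group H] {K : Type*} [Group K] (f : H →* K) :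
    Nat.card f.range * Nat.card f.ker = Nat.card H := by
  rw [← Subgroup.index_ker, mul_comm, Subgroup.card_mul_index]

variable {A : Subgroup Q} {σ : MulAut Q} {q : ℕ} (h : GraphSigma A σ q)
include h

theorem finite : Finite Q := Nat.finite_of_card_ne_zero (by
  rw [h.cardQ]
  exact pow_ne_zero _ (by have := h.four; omega))

theorem sigma_A {a : Q} (ha : a ∈ A) : σ a = a := (h.fixed a).2 ha

theorem normal : A.Normal := ⟨fun a ha g => by rw [← (h.centA a ha g).eq, mul_inv_cancel_right]; exact ha⟩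

theorem map_A {τ : MulAut Q} (hτ : ∀ x, τ (σ x) = σ (τ x)) {a : Q} (ha : a ∈ A) : τ a ∈ A :=
  (h.fixed _).1 (by rw [← hτ, h.sigma_A ha])

theorem sq_A {a : Q} (ha : a ∈ A) : a * a = 1 := by
  haveI := h.finite
  by_cases ha1 : a = 1
  · rw [ha1, mul_one]
  rcases Nat.even_or_odd q with hev | hodd
  · haveI : Fact (Nat.Prime 2) := ⟨Nat.prime_two⟩
    obtain ⟨b, hb⟩ := exists_prime_orderOf_dvd_card' (G := A) 2 (by rw [h.cardA]; exact hev.two_dvd)
    have hb2 : orderOf (b : Q) = 2 := by rw [Subgroup.orderOf_coe, hb]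
    obtain ⟨τ, -, hτ⟩ := h.trans b b.2 a ha (fun e => by rw [e, orderOf_one] at hb2; omega) ha1
    have hbb : (b : Q) * b = 1 := by rw [← pow_two, ← hb2, pow_orderOf_eq_one]
    rw [← hτ, ← map_mul, hbb, map_one]
  · exfalso
    have hQodd : Odd (Nat.card Q) := by rw [h.cardQ]; exact hodd.pow
    have htop : (⊤ : Subgroup Q) ≤ A := by
      intro x _
      obtain ⟨k, hk⟩ := hQodd
      have e : x = (x * x) ^ (k + 1) := by
        rw [← pow_two, ← pow_mul, show 2 * (k + 1) = Nat.card Q + 1 by omega, pow_succ, pow_card_eq_one',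
          one_mul]
      rw [e]
      exact pow_mem (h.sq x) _
    have h1 := card_le_of_le htop
    rw [card_top, h.cardQ, h.cardA] at h1
    have := h.four
    have h2 : q ^ 2 * q ≤ 1 * q := by rwa [← pow_succ, one_mul]
    have h3 := Nat.le_of_mul_le_mul_right h2 (by omega)
    nlinarith

theorem inv_A {a : Q} (ha : a ∈ A) : a⁻¹ = a := inv_eq_of_mul_eq_one_right (h.sq_A ha)

theorem sq_coset {x a : Q} (ha : a ∈ A) : (x * a) * (x * a) = x * x := by
  calc x * a * (x * a) = x * (a * x) * a := by group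
    _ = x * (x * a) * a := by rw [(h.centA a ha x).eq]
    _ = x * x * (a * a) := by group
    _ = x * x := by rw [h.sq_A ha, mul_one]

theorem comm_mem (x y : Q) : x * y * x⁻¹ * y⁻¹ ∈ A := by
  have hxx : Commute (x * x)⁻¹ y⁻¹ := h.centA _ (inv_mem (h.sq x)) _
  rw [show x * y * x⁻¹ * y⁻¹ = (x * y) * (x * y) * (y⁻¹ * (x * x)⁻¹ * y⁻¹) by group, ← hxx.eq, mul_assoc _ y⁻¹,
    ← mul_inv_rev y y]
  exact mul_mem (h.sq _) (mul_mem (inv_mem (h.sq _)) (inv_mem (h.sq _)))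

omit h in
/-- the elements fixed modulo `A` -/
def core (h : GraphSigma A σ q) : Subgroup Q where
  carrier := {x | x⁻¹ * σ x ∈ A}
  one_mem' := by simp
  mul_mem' := fun {x y} hx hy => by
    show (x * y)⁻¹ * σ (x * y) ∈ A
    rw [map_mul, show (x * y)⁻¹ * (σ x * σ y) = y⁻¹ * (x⁻¹ * σ x) * σ y by group, ← (h.centA _ hx y⁻¹).eq,
      mul_assoc]
    exact mul_mem hx hy
  inv_mem' := fun {x} hx => by
    show x⁻¹⁻¹ * σ x⁻¹ ∈ A
    have hx' : Commute (x⁻¹ * σ x) x := h.centA _ hx x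
    rw [map_inv, inv_inv, show x * (σ x)⁻¹ = x * (x⁻¹ * σ x)⁻¹ * x⁻¹ by group, ← hx'.inv_left.eq,
      mul_inv_cancel_right]
    exact inv_mem hx

theorem mem_core {x : Q} : x ∈ h.core ↔ x⁻¹ * σ x ∈ A := Iff.rfl

theorem le_core : A ≤ h.core := fun a ha => h.mem_core.2 (by rw [h.sigma_A ha, inv_mul_cancel]; exact one_mem A)

/-- `z⁻¹ σ z` is inverted -/
theorem twist_inverted (z : Q) : σ (z⁻¹ * σ z) = (z⁻¹ * σ z)⁻¹ := by
  rw [map_mul, map_inv, h.invol, mul_inv_rev, inv_inv]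

theorem twist_mem (z : Q) : z⁻¹ * σ z ∈ h.core := h.mem_core.2 (by
  rw [h.twist_inverted, ← mul_inv_rev]
  exact inv_mem (h.sq _))

/-- `z ↦ z⁻¹ σ z` is multiplicative modulo `A` -/
theorem twist_mul (z w : Q) :
    ∃ c ∈ A, (z * w)⁻¹ * σ (z * w) = (z⁻¹ * σ z) * (w⁻¹ * σ w) * c := by
  refine ⟨((z⁻¹ * σ z) * (w⁻¹ * σ w))⁻¹ * ((z * w)⁻¹ * σ (z * w)), ?_, by group⟩
  rw [map_mul, show ((z⁻¹ * σ z) * (w⁻¹ * σ w))⁻¹ * ((z * w)⁻¹ * (σ z * σ w)) =
    (σ w)⁻¹ * (w * (z⁻¹ * σ z)⁻¹ * w⁻¹ * (z⁻¹ * σ z)⁻¹⁻¹) * σ w by group,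
    ← (h.centA _ (h.comm_mem _ _) (σ w)⁻¹).eq, mul_assoc, inv_mul_cancel, mul_one]
  exact h.comm_mem _ _

theorem card_core : Nat.card h.core = q ^ 2 ∧ ∀ x ∈ h.core, ∃ z, ∃ c ∈ A, x = z⁻¹ * σ z * c := by
  haveI := h.finite
  haveI := h.normal
  have hq : 0 < q := by have := h.four; omega
  let δ : h.core →* A :=
    { toFun := fun x => ⟨(x : Q)⁻¹ * σ x, h.mem_core.1 x.2⟩
      map_one' := Subtype.ext (by simp)
      map_mul' := fun x y => Subtype.ext (by
        show ((x : Q) * y)⁻¹ * σ ((x : Q) * y) = ((x : Q)⁻¹ * σ x) * ((y : Q)⁻¹ * σ y)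
        rw [map_mul, show ((x : Q) * y)⁻¹ * (σ x * σ y) = (y : Q)⁻¹ * ((x : Q)⁻¹ * σ x) * σ y by group,
          ← (h.centA _ (h.mem_core.1 x.2) (y : Q)⁻¹).eq, mul_assoc]) }
  have hker : δ.ker = A.subgroupOf h.core := by
    ext x
    rw [MonoidHom.mem_ker, mem_subgroupOf, ← h.fixed]
    exact ⟨fun e => (inv_mul_eq_one.1 (congrArg Subtype.val e)).symm,
      fun e => Subtype.ext (inv_mul_eq_one.2 e.symm)⟩
  have hAc : Nat.card (A.subgroupOf h.core) = q := by
    rw [Nat.card_congr (subgroupOfEquivOfLe h.le_core).toEquiv, h.cardA]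
  have h1 : Nat.card h.core = Nat.card δ.range * q := by
    have e := card_range_ker δ
    rw [hker, hAc] at e
    exact e.symm
  have h2 : Nat.card δ.range ≤ q := (Nat.card_le_card_of_injective _ Subtype.val_injective).trans_eq h.cardA
  let ψ : Q →* Q ⧸ A :=
    { toFun := fun z => ((z⁻¹ * σ z : Q) : Q ⧸ A)
      map_one' := by simp
      map_mul' := fun z w => by
        obtain ⟨c, hc, e⟩ := h.twist_mul z w
        rw [e, QuotientGroup.mk_mul, (QuotientGroup.eq_one_iff c).2 hc, mul_one, QuotientGroup.mk_mul] }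
  have hψk : ψ.ker = h.core := by
    ext x
    rw [MonoidHom.mem_ker, h.mem_core]
    exact QuotientGroup.eq_one_iff _
  have hrange : ψ.range ≤ h.core.map (QuotientGroup.mk' A) := by
    rintro _ ⟨z, rfl⟩
    exact mem_map_of_mem _ (h.twist_mem z)
  have hmap : Nat.card (h.core.map (QuotientGroup.mk' A)) * q = Nat.card h.core := by
    have e := card_range_ker ((QuotientGroup.mk' A).comp h.core.subtype)
    rw [MonoidHom.range_comp, range_subtype, ← MonoidHom.comap_ker, QuotientGroup.ker_mk'] at e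
    rw [show Nat.card (comap h.core.subtype A) = q from hAc] at e
    exact e
  have h3 : Nat.card ψ.range * Nat.card h.core = q ^ 3 := by
    rw [← h.cardQ, ← hψk, card_range_ker]
  have h4 : Nat.card ψ.range ≤ Nat.card (h.core.map (QuotientGroup.mk' A)) := card_le_of_le hrange
  have h5 : Nat.card (h.core.map (QuotientGroup.mk' A)) = Nat.card δ.range :=
    Nat.eq_of_mul_eq_mul_right hq (hmap.trans h1)
  have h6 : Nat.card δ.range = q := by
    refine le_antisymm h2 (not_lt.1 fun hlt => ?_)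
    have : q ^ 3 < q * (q * q) := by
      rw [← h3, h1]
      calc Nat.card ψ.range * (Nat.card δ.range * q) ≤ q * (Nat.card δ.range * q) :=
            Nat.mul_le_mul_right _ (h4.trans (h5.le.trans h2))
        _ < q * (q * q) := by nlinarith
    rw [pow_succ, pow_two, mul_assoc] at this
    exact lt_irrefl _ this
  refine ⟨by rw [h1, h6, pow_two], fun x hx => ?_⟩
  have h7 : Nat.card ψ.range = q := Nat.eq_of_mul_eq_mul_right (Nat.mul_pos hq hq) (by
    rw [← pow_two, ← pow_succ', ← h3, h1, h6, pow_two])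
  have heq := Subgroup.eq_of_le_of_card_ge hrange (by rw [h7, h5, h6])
  obtain ⟨z, hz⟩ := (heq ▸ mem_map_of_mem _ hx : QuotientGroup.mk' A x ∈ ψ.range)
  exact ⟨z, (z⁻¹ * σ z)⁻¹ * x, QuotientGroup.eq.1 hz, by group⟩

/-- (S1) an element fixed modulo `A` is inverted -/
theorem flip' {x : Q} (hx : x ∈ h.core) : σ x = x⁻¹ := by
  obtain ⟨z, c, hc, rfl⟩ := h.card_core.2 x hx
  rw [map_mul, h.twist_inverted, h.sigma_A hc, mul_inv_rev (z⁻¹ * σ z) c, h.inv_A hc]
  exact (h.centA c hc _).eq.symm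

/-- (S1) -/
theorem flip {x : Q} (hx : x * σ x ∈ A) : σ x = x⁻¹ :=
  h.flip' (h.mem_core.2 (by
    rw [show x⁻¹ * σ x = (x * x)⁻¹ * (x * σ x) by group]
    exact mul_mem (inv_mem (h.sq x)) hx))

theorem core_iff {x : Q} : x ∈ h.core ↔ σ x = x⁻¹ :=
  ⟨h.flip', fun e => h.mem_core.2 (by rw [e, ← mul_inv_rev]; exact inv_mem (h.sq x))⟩

theorem core_comm {x y : Q} (hx : x ∈ h.core) (hy : y ∈ h.core) : Commute x y := by
  have h1 := h.flip' (mul_mem hx hy)
  rw [map_mul, h.flip' hx, h.flip' hy, ← mul_inv_rev] at h1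
  exact (inv_injective h1).symm

/-- the inverted elements commute -/
theorem comm {x y : Q} (hx : σ x = x⁻¹) (hy : σ y = y⁻¹) : Commute x y :=
  h.core_comm (h.core_iff.2 hx) (h.core_iff.2 hy)

/-- there are `q ^ 2` inverted elements -/
theorem card_inverted : Nat.card {x : Q // σ x = x⁻¹} = q ^ 2 := by
  rw [← h.card_core.1]
  exact Nat.card_congr (Equiv.subtypeEquivRight fun x => h.core_iff.symm)

/-- (S2) squaring is injective modulo `A` -/
theorem inverted_unique {x y : Q} (hx : σ x = x⁻¹) (hy : σ y = y⁻¹) (he : x * x = y * y) : y⁻¹ * x ∈ A :=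
  h.invA _ (by
    rw [((h.comm hy hx).inv_left).symm.mul_mul_mul_comm, he, ← mul_inv_rev, inv_mul_cancel])

/-- (S2) every element of `A` is the square of an inverted element -/
theorem inverted_onto {a : Q} (ha : a ∈ A) : ∃ y, σ y = y⁻¹ ∧ y * y = a := by
  haveI := h.finite
  let f : h.core →* A :=
    { toFun := fun x => ⟨(x : Q) * x, h.sq _⟩
      map_one' := Subtype.ext (one_mul 1)
      map_mul' := fun x y => Subtype.ext ((h.core_comm y.2 x.2).mul_mul_mul_comm _ _) }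
  have hker : f.ker = A.subgroupOf h.core := by
    ext x
    rw [MonoidHom.mem_ker, mem_subgroupOf]
    exact ⟨fun e => h.invA _ (congrArg Subtype.val e), fun e => Subtype.ext (h.sq_A e)⟩
  have h1 := card_range_ker f
  rw [hker, Nat.card_congr (subgroupOfEquivOfLe h.le_core).toEquiv, h.cardA, h.card_core.1, pow_two] at h1
  have htop : f.range = ⊤ := Subgroup.eq_top_of_card_eq _ (by
    rw [h.cardA]
    exact Nat.eq_of_mul_eq_mul_right (by have := h.four; omega) h1)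
  obtain ⟨y, hy⟩ := (htop ▸ mem_top (⟨a, ha⟩ : A) : (⟨a, ha⟩ : A) ∈ f.range)
  exact ⟨y, h.flip' y.2, congrArg Subtype.val hy⟩

omit h in
/-- the square of `z⁻¹ σ z` -/
def tsq (σ : MulAut Q) (z : Q) : Q := (z⁻¹ * σ z) * (z⁻¹ * σ z)

theorem tsq_mem (z : Q) : tsq σ z ∈ A := h.sq _

theorem tsq_mul (z w : Q) : tsq σ (z * w) = tsq σ z * tsq σ w := by
  obtain ⟨c, hc, e⟩ := h.twist_mul z w
  rw [tsq, e, h.sq_coset hc, (h.core_comm (h.twist_mem w) (h.twist_mem z)).mul_mul_mul_comm, tsq, tsq]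

theorem mem_core_of_tsq {v : Q} (hv : tsq σ v = 1) : v ∈ h.core := h.mem_core.2 (h.invA _ hv)

theorem exists_tsq {a : Q} (ha : a ∈ A) : ∃ z, tsq σ z = a := by
  obtain ⟨y, hy, hya⟩ := h.inverted_onto ha
  obtain ⟨z, c, hc, rfl⟩ := h.card_core.2 y (h.core_iff.2 hy)
  exact ⟨z, by rw [tsq, ← hya, h.sq_coset hc]⟩

/-- `[z, z⁻¹ σ z] = (z⁻¹ σ z) ^ 2` -/
theorem comm_twist (z : Q) : z * (z⁻¹ * σ z) * z⁻¹ * (z⁻¹ * σ z)⁻¹ = tsq σ z := by
  set y := z⁻¹ * σ z with hy
  have e : σ z = z * y := by rw [hy]; group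
  have h1 : σ (z * z) = z * z := h.sigma_A (h.sq z)
  rw [map_mul, e, mul_assoc] at h1
  have h2 : y * z * y = z := by
    rw [mul_assoc]
    exact mul_left_cancel h1
  have h3 : z * y * z⁻¹ = y⁻¹ := by
    calc z * y * z⁻¹ = y⁻¹ * (y * z * y) * z⁻¹ := by group
      _ = y⁻¹ := by rw [h2, mul_inv_cancel_right]
  rw [h3, ← mul_inv_rev, h.inv_A (h.sq y), tsq, ← hy]

theorem comm_mul_left (z w y : Q) :
    z * w * y * (z * w)⁻¹ * y⁻¹ = (z * y * z⁻¹ * y⁻¹) * (w * y * w⁻¹ * y⁻¹) := by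
  rw [show z * w * y * (z * w)⁻¹ * y⁻¹ = z * (w * y * w⁻¹ * y⁻¹) * (y * z⁻¹ * y⁻¹) by group,
    ← (h.centA _ (h.comm_mem w y) z).eq, mul_assoc,
    show z * (y * z⁻¹ * y⁻¹) = z * y * z⁻¹ * y⁻¹ by group]
  exact (h.centA _ (h.comm_mem w y) _).eq

theorem comm_mul_right (z y y' : Q) :
    z * (y * y') * z⁻¹ * (y * y')⁻¹ = (z * y * z⁻¹ * y⁻¹) * (z * y' * z⁻¹ * y'⁻¹) := by
  rw [show z * (y * y') * z⁻¹ * (y * y')⁻¹ = (z * y * z⁻¹) * (z * y' * z⁻¹ * y'⁻¹) * y⁻¹ by group,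
    mul_assoc, (h.centA _ (h.comm_mem z y') y⁻¹).eq, ← mul_assoc]

/-- `[z, y]` depends on the squares of `z⁻¹ σ z` and `y` only -/
theorem comm_congr {z z' y y' : Q} (hz : tsq σ z = tsq σ z') (hy : σ y = y⁻¹) (hy' : σ y' = y'⁻¹)
    (he : y * y = y' * y') : z * y * z⁻¹ * y⁻¹ = z' * y' * z'⁻¹ * y'⁻¹ := by
  have hv : z'⁻¹ * z ∈ h.core := h.mem_core_of_tsq (by
    have h1 := h.tsq_mul z' (z'⁻¹ * z)
    rw [mul_inv_cancel_left, hz] at h1
    exact mul_eq_left.1 h1.symm)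
  have hc := h.inverted_unique hy hy' he
  have e1 : z * y * z⁻¹ * y⁻¹ = z' * y * z'⁻¹ * y⁻¹ := by
    have h2 := h.comm_mul_left z' (z'⁻¹ * z) y
    rw [mul_inv_cancel_left, (h.core_comm hv (h.core_iff.2 hy)).eq, mul_inv_cancel_right, mul_inv_cancel,
      mul_one] at h2
    exact h2
  rw [e1]
  have h3 := h.comm_mul_right z' y' (y'⁻¹ * y)
  rw [mul_inv_cancel_left, (h.centA _ hc z').symm.eq, mul_inv_cancel_right, mul_inv_cancel, mul_one] at h3
  exact h3

theorem tsq_map {τ : MulAut Q} (hτ : ∀ x, τ (σ x) = σ (τ x)) (z : Q) : tsq σ (τ z) = τ (tsq σ z) := by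
  rw [tsq, tsq, ← hτ, ← map_inv, ← map_mul, map_mul τ (z⁻¹ * σ z)]

theorem inverted_map {τ : MulAut Q} (hτ : ∀ x, τ (σ x) = σ (τ x)) {y : Q} (hy : σ y = y⁻¹) :
    σ (τ y) = (τ y)⁻¹ := by rw [← hτ, hy, map_inv]

/-- (S3) `[z, y] = y ^ 2` only if `y` is trivial or `z⁻¹ σ z` modulo `A` -/
theorem key {z y : Q} (hy : σ y = y⁻¹) (he : z * y * z⁻¹ * y⁻¹ = y * y) :
    y ∈ A ∨ y⁻¹ * (z⁻¹ * σ z) ∈ A := by
  classical
  haveI := h.finite
  have hF : ∀ a b : A, ∃ c : A, ∀ z y : Q, tsq σ z = a → σ y = y⁻¹ → y * y = b → z * y * z⁻¹ * y⁻¹ = c := by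
    intro a b
    obtain ⟨z₀, hz₀⟩ := h.exists_tsq a.2
    obtain ⟨y₀, hy₀, hy₀b⟩ := h.inverted_onto b.2
    exact ⟨⟨_, h.comm_mem z₀ y₀⟩, fun z y hz hy hyb =>
      h.comm_congr (hz.trans hz₀.symm) hy hy₀ (hyb.trans hy₀b.symm)⟩
  choose F hF using hF
  have hl : ∀ a a' b : A, F (a * a') b = F a b * F a' b := by
    intro a a' b
    obtain ⟨z₁, hz₁⟩ := h.exists_tsq a.2
    obtain ⟨z₂, hz₂⟩ := h.exists_tsq a'.2
    obtain ⟨y₀, hy₀, hy₀b⟩ := h.inverted_onto b.2
    refine Subtype.ext ?_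
    rw [Subgroup.coe_mul, ← hF _ _ (z₁ * z₂) y₀ (by rw [h.tsq_mul, hz₁, hz₂, Subgroup.coe_mul]) hy₀ hy₀b,
      ← hF _ _ z₁ y₀ hz₁ hy₀ hy₀b, ← hF _ _ z₂ y₀ hz₂ hy₀ hy₀b, h.comm_mul_left]
  have hr : ∀ a b b' : A, F a (b * b') = F a b * F a b' := by
    intro a b b'
    obtain ⟨z₁, hz₁⟩ := h.exists_tsq a.2
    obtain ⟨y₁, hy₁, hy₁b⟩ := h.inverted_onto b.2
    obtain ⟨y₂, hy₂, hy₂b⟩ := h.inverted_onto b'.2
    refine Subtype.ext ?_
    rw [Subgroup.coe_mul, ← hF _ _ z₁ (y₁ * y₂) hz₁ (h.flip' (mul_mem (h.core_iff.2 hy₁) (h.core_iff.2 hy₂)))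
      (by rw [(h.comm hy₂ hy₁).mul_mul_mul_comm, hy₁b, hy₂b, Subgroup.coe_mul]),
      ← hF _ _ z₁ y₁ hz₁ hy₁ hy₁b, ← hF _ _ z₁ y₂ hz₁ hy₂ hy₂b, h.comm_mul_right]
  have hd : ∀ a : A, F a a = a := by
    intro a
    obtain ⟨z₁, hz₁⟩ := h.exists_tsq a.2
    exact Subtype.ext ((hF _ _ z₁ _ hz₁ (h.twist_inverted z₁) hz₁).symm.trans ((h.comm_twist z₁).trans hz₁))
  have hAA : ∀ a : A, a * a = 1 := fun a => Subtype.ext (h.sq_A a.2)
  have hcA : ∀ a b : A, a * b = b * a := fun a b => Subtype.ext (h.centA a a.2 b).eq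
  letI : CommGroup A := { (inferInstance : Group A) with mul_comm := hcA }
  have hsym : ∀ a b : A, F a b = F b a := by
    intro a b
    have e := hd (a * b)
    rw [hl, hr, hr, hd, hd] at e
    have e' : F a b * F b a = 1 := by
      have : a * b * (F a b * F b a) = a * b := by
        calc a * b * (F a b * F b a) = a * F a b * (b * F b a) := mul_mul_mul_comm _ _ _ _
          _ = a * b := by rw [mul_comm b (F b a)]; exact e
      exact mul_eq_left.1 this
    exact (eq_inv_of_mul_eq_one_left e').trans (inv_eq_of_mul_eq_one_right (hAA _))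
  have h1l : ∀ b : A, F 1 b = 1 := fun b => mul_eq_left.1 (by rw [← hl, one_mul])
  let fix' : A → Subgroup A := fun a => (MonoidHom.mk' (fun b => F a b * b) fun b b' => by
    show F a (b * b') * (b * b') = _
    rw [hr, mul_mul_mul_comm]).ker
  let nul : A → Subgroup A := fun b => (MonoidHom.mk' (fun a => F b a) fun a a' => hr b a a').ker
  have hfix : ∀ a b : A, b ∈ fix' a ↔ F a b = b := fun a b => by
    rw [MonoidHom.mem_ker]
    show F a b * b = 1 ↔ _
    rw [mul_eq_one_iff_eq_inv, inv_eq_of_mul_eq_one_right (hAA b)]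
  have hnul : ∀ a b : A, a ∈ nul b ↔ F b a = 1 := fun a b => Iff.rfl
  -- invariance
  have hinv : ∀ a a' : A, a ≠ 1 → a' ≠ 1 →
      Nat.card (fix' a) = Nat.card (fix' a') ∧ Nat.card (nul a) = Nat.card (nul a') := by
    intro a a' ha ha'
    obtain ⟨τ, hτ, hτa⟩ := h.trans a a.2 a' a'.2 (fun e => ha (Subtype.ext e)) (fun e => ha' (Subtype.ext e))
    have hτ' : ∀ x, τ.symm (σ x) = σ (τ.symm x) := fun x => τ.injective (by
      rw [MulEquiv.apply_symm_apply, hτ, MulEquiv.apply_symm_apply])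
    let e : A ≃ A :=
      { toFun := fun b => ⟨τ b, h.map_A hτ b.2⟩
        invFun := fun b => ⟨τ.symm b, h.map_A hτ' b.2⟩
        left_inv := fun b => Subtype.ext (τ.symm_apply_apply b)
        right_inv := fun b => Subtype.ext (τ.apply_symm_apply b) }
    have he : e a = a' := Subtype.ext hτa
    have hF' : ∀ b, F a' (e b) = e (F a b) := by
      intro b
      obtain ⟨z₁, hz₁⟩ := h.exists_tsq a.2
      obtain ⟨y₁, hy₁, hy₁b⟩ := h.inverted_onto b.2
      refine Subtype.ext ?_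
      rw [← hF _ _ (τ z₁) (τ y₁) (by rw [h.tsq_map hτ, hz₁, hτa]) (h.inverted_map hτ hy₁)
        (show τ y₁ * τ y₁ = τ (b : Q) by rw [← map_mul, hy₁b])]
      show _ = τ (F a b : Q)
      rw [← hF _ _ z₁ y₁ hz₁ hy₁ hy₁b, map_mul, map_mul, map_mul, map_inv, map_inv]
    have he1 : e 1 = 1 := Subtype.ext (map_one τ)
    exact ⟨Nat.card_congr (e.subtypeEquiv fun b => by rw [hfix, hfix, hF', e.apply_eq_iff_eq]),
      Nat.card_congr (e.subtypeEquiv fun b => by rw [hnul, hnul, hF']; exact ⟨fun x => by rw [x, he1], fun x => e.injective (x.trans he1.symm)⟩)⟩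
  -- the count
  suffices hmain : ∀ a b : A, F a b = b → b = 1 ∨ a = b by
    have hyA : y * y ∈ A := h.sq y
    have e := hmain ⟨tsq σ z, h.tsq_mem z⟩ ⟨y * y, hyA⟩ (Subtype.ext ((hF _ _ z y rfl hy rfl).symm.trans he))
    rcases e with e | e
    · exact Or.inl (h.invA y (congrArg Subtype.val e))
    · exact Or.inr (h.inverted_unique (h.twist_inverted z) hy (congrArg Subtype.val e))
  intro a₀ b₀ h₀
  by_cases hb₀ : b₀ = 1
  · exact Or.inl hb₀
  by_contra hne
  push Not at hne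
  have ha₀ : a₀ ≠ 1 := fun e => hb₀ (by rw [← h₀, e, h1l])
  set L := Nat.card (fix' a₀)
  set S := Nat.card (nul a₀)
  let P := {p : A × A // p.1 ≠ 1 ∧ p.2 ≠ 1 ∧ F p.1 p.2 = p.2}
  haveI := Fintype.ofFinite A
  have hP1 : Nat.card P = (Nat.card A - 1) * (L - 1) := by
    have e : P ≃ Σ a : {a : A // a ≠ 1}, {b : A // b ≠ 1 ∧ F a b = b} :=
      { toFun := fun p => ⟨⟨p.1.1, p.2.1⟩, ⟨p.1.2, p.2.2⟩⟩
        invFun := fun p => ⟨(p.1.1, p.2.1), p.1.2, p.2.2⟩
        left_inv := fun p => rfl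
        right_inv := fun p => rfl }
    have hone : ∀ a : {a : A // a ≠ 1}, Nat.card {b : A // b ≠ 1 ∧ F a b = b} = L - 1 := by
      intro a
      have hset : {b : A | b ≠ 1 ∧ F a b = b} = ((fix' a : Subgroup A) : Set A) \ {1} := by
        ext b
        simp only [Set.mem_ofPred_eq, Set.mem_sdiff, SetLike.mem_coe, hfix, Set.mem_singleton_iff]
        tauto
      show Nat.card ↑{b : A | b ≠ 1 ∧ F a b = b} = L - 1
      rw [Nat.card_coe_set_eq, hset, Set.ncard_sdiff (Set.singleton_subset_iff.2 (one_mem _)),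
        Set.ncard_singleton, ← Nat.card_coe_set_eq, SetLike.coe_sort_coe, (hinv a a₀ a.2 ha₀).1]
    rw [Nat.card_congr e, Nat.card_sigma, Finset.sum_congr rfl fun a _ => hone a, Finset.sum_const,
      Finset.card_univ, smul_eq_mul, Fintype.card_subtype_compl, Fintype.card_subtype_eq, Nat.card_eq_fintype_card]
  have hP2 : Nat.card P = (Nat.card A - 1) * S := by
    have e : P ≃ Σ b : {b : A // b ≠ 1}, {a : A // F a b = b} :=
      { toFun := fun p => ⟨⟨p.1.2, p.2.2.1⟩, ⟨p.1.1, p.2.2.2⟩⟩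
        invFun := fun p => ⟨(p.2.1, p.1.1), fun e => p.1.2 (p.2.2.symm.trans ((congrArg (F · p.1.1) e).trans
          (h1l _))), p.1.2, p.2.2⟩
        left_inv := fun p => rfl
        right_inv := fun p => rfl }
    have hone : ∀ b : {b : A // b ≠ 1}, Nat.card {a : A // F a b = b} = S := by
      intro b
      show _ = Nat.card (nul a₀)
      rw [← (hinv b a₀ b.2 ha₀).2]
      refine Nat.card_congr ((Equiv.mulLeft (b : A)).subtypeEquiv fun a => ?_)
      show F a b = b ↔ b.1 * a ∈ nul b.1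
      rw [hnul, hr, hd, hsym b.1 a, mul_eq_one_iff_eq_inv', inv_eq_of_mul_eq_one_right (hAA b.1)]
    rw [Nat.card_congr e, Nat.card_sigma, Finset.sum_congr rfl fun b _ => hone b, Finset.sum_const,
      Finset.card_univ, smul_eq_mul, Fintype.card_subtype_compl, Fintype.card_subtype_eq, Nat.card_eq_fintype_card]
  have hLS : L - 1 = S := by
    refine Nat.eq_of_mul_eq_mul_left ?_ (hP1.symm.trans hP2)
    have := h.four
    rw [h.cardA]
    omega
  have h2A : IsPGroup 2 A := fun a => ⟨1, by rw [pow_one, pow_two, hAA]⟩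
  haveI : Fact (Nat.Prime 2) := ⟨Nat.prime_two⟩
  obtain ⟨n, hn⟩ := IsPGroup.iff_card.1 (h2A.to_subgroup (fix' a₀))
  obtain ⟨m, hm⟩ := IsPGroup.iff_card.1 (h2A.to_subgroup (nul a₀))
  have hL3 : 3 ≤ L := by
    have hsub : ({1, a₀, b₀} : Set A) ⊆ (fix' a₀ : Set A) := by
      rintro x (rfl | rfl | rfl)
      · exact one_mem _
      · exact (hfix _ _).2 (hd _)
      · exact (hfix _ _).2 h₀
    have hc3 : ({1, a₀, b₀} : Set A).ncard = 3 := by
      rw [Set.ncard_insert_of_notMem (by simp [Ne.symm ha₀, Ne.symm hb₀]), Set.ncard_pair hne.2]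
    have := Set.ncard_le_ncard hsub (Set.toFinite _)
    rwa [hc3, ← Nat.card_coe_set_eq] at this
  rcases n with _ | n
  · change L = _ at hn
    rw [pow_zero] at hn
    omega
  rcases m with _ | m
  · change L = _ at hn; change S = _ at hm
    omega
  · change L = _ at hn; change S = _ at hm
    rw [pow_succ] at hn hm
    omega

/-- an automorphism commuting with `σ` and fixing `A` is trivial on the inverted elements modulo `A` -/
theorem aut_inverted {χ : MulAut Q} (hA : ∀ a ∈ A, χ a = a) (hc : ∀ x, χ (σ x) = σ (χ x)) {y : Q}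
    (hy : σ y = y⁻¹) : y⁻¹ * χ y ∈ A :=
  h.inverted_unique (h.inverted_map hc hy) hy (by rw [← map_mul, hA _ (h.sq y)])

/-- (S4) an automorphism commuting with `σ` and fixing `A` acts on `Q / A` as `1` or as `σ` -/
theorem aut_cases {χ : MulAut Q} (hA : ∀ a ∈ A, χ a = a) (hc : ∀ x, χ (σ x) = σ (χ x)) :
    (∀ z, z⁻¹ * χ z ∈ A) ∨ (∀ z, (σ z)⁻¹ * χ z ∈ A) := by
  haveI := h.normal
  have hone : ∀ z, z⁻¹ * χ z ∈ A ∨ (σ z)⁻¹ * χ z ∈ A := by
    intro z
    set v := z⁻¹ * χ z with hv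
    have hvc : v ∈ h.core := h.mem_core_of_tsq (by
      have e : χ z = z * v := by rw [hv]; group
      have h1 := h.tsq_mul z v
      rw [← e, h.tsq_map hc, hA _ (h.tsq_mem z)] at h1
      exact mul_eq_left.1 h1.symm)
    have e : χ z = z * v := by rw [hv]; group
    have h1 : χ (z * z) = z * z := hA _ (h.sq z)
    rw [map_mul, e, mul_assoc] at h1
    have h2 : v * z * v = z := by
      rw [mul_assoc]
      exact mul_left_cancel h1
    have h3 : z * v * z⁻¹ * v⁻¹ = v * v := by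
      have : z * v * z⁻¹ = v⁻¹ := by
        calc z * v * z⁻¹ = v⁻¹ * (v * z * v) * z⁻¹ := by group
          _ = v⁻¹ := by rw [h2, mul_inv_cancel_right]
      rw [this, ← mul_inv_rev, h.inv_A (h.sq v)]
    rcases h.key (h.flip' hvc) h3 with h4 | h4
    · exact Or.inl h4
    · refine Or.inr ?_
      have h5 := inv_mem h4
      rwa [show (v⁻¹ * (z⁻¹ * σ z))⁻¹ = (σ z)⁻¹ * (z * v) by group, ← e] at h5
  by_contra hcon
  push Not at hcon
  obtain ⟨⟨x, hx⟩, y, hy⟩ := hcon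
  have hx' := (hone x).resolve_left hx
  have hy' := (hone y).resolve_right hy
  have ex : (χ x : Q ⧸ A) = (σ x : Q ⧸ A) := (QuotientGroup.eq.2 hx').symm
  have ey : (χ y : Q ⧸ A) = (y : Q ⧸ A) := (QuotientGroup.eq.2 hy').symm
  rcases hone (x * y) with h1 | h1
  · have e := QuotientGroup.eq.2 h1
    rw [map_mul, QuotientGroup.mk_mul, QuotientGroup.mk_mul, ey] at e
    exact hx (QuotientGroup.eq.1 (mul_right_cancel e))
  · have e := QuotientGroup.eq.2 h1
    rw [map_mul, map_mul, QuotientGroup.mk_mul, QuotientGroup.mk_mul, ex] at e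
    exact hy (QuotientGroup.eq.1 (mul_left_cancel e))

/-- (S5) such an automorphism acting trivially on `Q / A` is involutive and fixes the inverted elements -/
theorem aut_trivial {χ : MulAut Q} (hA : ∀ a ∈ A, χ a = a) (hc : ∀ x, χ (σ x) = σ (χ x))
    (ht : ∀ z, z⁻¹ * χ z ∈ A) : (∀ z, χ (χ z) = z) ∧ ∀ y, σ y = y⁻¹ → χ y = y := by
  refine ⟨fun z => ?_, fun y hy => ?_⟩
  · calc χ (χ z) = χ (z * (z⁻¹ * χ z)) := by rw [mul_inv_cancel_left]
      _ = χ z * (z⁻¹ * χ z) := by rw [map_mul, hA _ (ht z)]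
      _ = z * ((z⁻¹ * χ z) * (z⁻¹ * χ z)) := by group
      _ = z := by rw [h.sq_A (ht z), mul_one]
  · obtain ⟨z, c, hc', rfl⟩ := h.card_core.2 y (h.core_iff.2 hy)
    obtain ⟨t, ht', e⟩ : ∃ t ∈ A, χ z = z * t := ⟨_, ht z, by group⟩
    rw [map_mul, map_mul, map_inv, hc, e, map_mul, h.sigma_A ht', hA c hc']
    calc (z * t)⁻¹ * (σ z * t) * c = t⁻¹ * ((z⁻¹ * σ z) * t) * c := by group
      _ = z⁻¹ * σ z * c := by rw [← (h.centA t ht' _).eq, inv_mul_cancel_left]

end GraphSigma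

end Cfsg.Lib.BenderSE.Crit2
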