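/-
Aschbacher's criterion, graph involutions (notes/s1175_h7_graph.md): conjugate line data and the setting at a
Sylow 2-subgroup of the centraliser of an involution and its clique on a line of unitary type.
-/
import Cfsg.Agent.BenderSE.Criterion2.LineSylow
import Cfsg.Agent.BenderSE.Criterion2.Choice
import Cfsg.Agent.BenderSE.Criterion2.LineTorus

set_option autoImplicit false
set_option linter.unusedSectionVars false
set_option linter.style.haveILetI false

namespace Cfsg.Lib.BenderSE.Crit2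

open Subgroup MulAction Cfsg.Lib.InvolCalc Cfsg.Lib.BenderSE.CritDep

universe u v

variable {G : Type u} [Group G] [Finite G] {α : Type v} [MulAction G α] {z : G}

/-- an element centralising `t` and fixing `a` carries the data of the line of `t` to data of this line -/
theorem LineData.conj {t : G} {a : α} {A Q X : Subgroup G} {q j : ℕ} (L : LineData z t a A Q X q j) {k : G}
    (hkt : Commute k t) (hka : k • a = a) :
    LineData z t a (A.map (MulAut.conj k).toMonoidHom) (Q.map (MulAut.conj k).toMonoidHom)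
      (X.map (MulAut.conj k).toMonoidHom) q j := by
  have hinj : Function.Injective (MulAut.conj k).toMonoidHom := (MulAut.conj k).injective
  have hcard : ∀ K : Subgroup G, Nat.card (K.map (MulAut.conj k).toMonoidHom) = Nat.card K := fun K =>
    card_map_of_injective hinj
  have hka' : k⁻¹ • a = a := inv_smul_eq_iff.2 hka.symm
  have hgen : ∀ K : Subgroup G, K ≤ localGen z t → K.map (MulAut.conj k).toMonoidHom ≤ localGen z t := by
    rintro K hK _ ⟨x, hx, rfl⟩
    exact conj_mem_localGen hkt (hK hx)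
  have hstab : ∀ K : Subgroup G, K ≤ stabilizer G a → K.map (MulAut.conj k).toMonoidHom ≤ stabilizer G a := by
    rintro K hK _ ⟨x, hx, rfl⟩
    refine mem_stabilizer_iff.2 ?_
    show (k * x * k⁻¹) • a = a
    rw [mul_smul, mul_smul, hka', mem_stabilizer_iff.1 (hK hx), hka]
  have hnorm : ∀ K : Subgroup G, X ≤ normalizer (K : Set G) →
      X.map (MulAut.conj k).toMonoidHom ≤ normalizer (K.map (MulAut.conj k).toMonoidHom : Set G) := fun K hK =>
    (map_mono hK).trans (le_normalizer_map _)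
  have hpt : ∀ p : α, t • p = p → t • k⁻¹ • p = k⁻¹ • p := fun p hp => by
    rw [smul_smul, ← hkt.inv_left.eq, mul_smul, hp]
  constructor
  case embedded => exact L.embedded
  case card => rw [hcard]; exact L.card
  case four => exact L.four
  case pow => exact L.pow
  case jcase => exact L.jcase
  case cardQ => rw [hcard]; exact L.cardQ
  case fixed => exact L.fixed
  case twoQ => exact L.twoQ.map _
  case Qle => exact hgen Q L.Qle
  case Qfix => exact hstab Q L.Qfix
  case Qmax =>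
    intro P hP hPY hPa hQP
    have h1 := L.Qmax (P.map (MulAut.conj k⁻¹).toMonoidHom) (hP.map _) ?_ ?_ ?_
    · rw [← h1, map_map]
      convert (map_id P).symm using 2
      ext x; simp [mul_assoc]
    · rintro _ ⟨x, hx, rfl⟩
      exact conj_mem_localGen hkt.inv_left (hPY hx)
    · rintro _ ⟨x, hx, rfl⟩
      refine mem_stabilizer_iff.2 ?_
      show (k⁻¹ * x * k⁻¹⁻¹) • a = a
      rw [inv_inv, mul_smul, mul_smul, hka, mem_stabilizer_iff.1 (hPa hx), hka']
    · intro x hx
      exact ⟨k * x * k⁻¹, hQP ⟨x, hx, rfl⟩, by simp [mul_assoc]⟩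
  case regQ =>
    intro p hp r hr hpa hra
    have hp' := hpt p (mem_line.1 hp)
    have hr' := hpt r (mem_line.1 hr)
    obtain ⟨g, ⟨hg, hgr⟩, huniq⟩ := L.regQ (k⁻¹ • p) (mem_line.2 hp') (k⁻¹ • r) (mem_line.2 hr')
      (fun e => hpa (by rw [← smul_inv_smul k p, e, hka]))
      (fun e => hra (by rw [← smul_inv_smul k r, e, hka]))
    refine ⟨k * g * k⁻¹, ⟨⟨g, hg, rfl⟩, by rw [mul_smul, mul_smul, hgr, smul_inv_smul]⟩, ?_⟩
    rintro _ ⟨⟨y, hy, rfl⟩, hyr⟩
    have hyr' : (k * y * k⁻¹) • p = r := hyr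
    show k * y * k⁻¹ = _
    rw [huniq y ⟨hy, by rw [← hyr', smul_smul k⁻¹, show k⁻¹ * (k * y * k⁻¹) = y * k⁻¹ by group, mul_smul]⟩]
  case leQ => exact map_mono L.leQ
  case memA =>
    rintro _ ⟨d, hd, rfl⟩ hd1
    obtain ⟨hdz, hdt, hda⟩ := L.memA d hd fun e => hd1 (by rw [e, map_one])
    refine ⟨hdz.trans (isConj_iff.2 ⟨k, rfl⟩), ?_, ?_⟩
    · exact (((hkt.symm.mul_right hdt).mul_right hkt.symm.inv_right :) : Commute t (k * d * k⁻¹))
    · show (k * d * k⁻¹) • a = a
      rw [mul_smul, mul_smul, hka', hda, hka]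
  case invA =>
    rintro _ ⟨d, hd, rfl⟩ hd2
    exact mem_map_of_mem _ (L.invA d hd (by rw [← hd2]; exact ((MulAut.conj k).orderOf_eq d).symm))
  case elem =>
    rintro _ ⟨d, hd, rfl⟩
    rw [← map_mul, L.elem d hd, map_one]
  case centQ =>
    rintro _ ⟨d, hd, rfl⟩ _ ⟨g, hg, rfl⟩
    exact (L.centQ d hd g hg).map (MulAut.conj k).toMonoidHom
  case Xle => exact hgen X L.Xle
  case Xfix => exact hstab X L.Xfix
  case cyclicX =>
    haveI := L.cyclicX
    exact isCyclic_of_surjective _ ((MulAut.conj k).toMonoidHom.subgroupMap_surjective X)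
  case oddX => rw [hcard]; exact L.oddX
  case centX =>
    rintro _ ⟨x, hx, rfl⟩
    exact ((hkt.mul_left (L.centX x hx)).mul_left hkt.inv_left :)
  case normA => exact hnorm A L.normA
  case normQ => exact hnorm Q L.normQ
  case transA =>
    rintro _ ⟨d, hd, rfl⟩ _ ⟨e, he, rfl⟩ hd1 he1
    obtain ⟨x, hx, hxd⟩ := L.transA d hd e he (fun e' => hd1 (by rw [e', map_one]))
      (fun e' => he1 (by rw [e', map_one]))
    exact ⟨_, mem_map_of_mem _ hx, by rw [← map_inv, ← map_mul, ← map_mul, hxd]⟩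
  case semilinear =>
    rintro g hga hgt hgA _ ⟨x, hx, rfl⟩
    obtain ⟨y, hy, hyd⟩ := L.semilinear (k⁻¹ * g * k)
      (by rw [mul_smul, mul_smul, hka, hga, hka']) ((hkt.inv_left.mul_left hgt).mul_left hkt)
      (mem_normalizer_of_maps fun d hd => by
        obtain ⟨d', hd', e⟩ := (mem_normalizer_iff.1 hgA _).1 (mem_map_of_mem (MulAut.conj k).toMonoidHom hd)
        have e1 : k * d' * k⁻¹ = g * (k * d * k⁻¹) * g⁻¹ := e
        rwa [show k⁻¹ * g * k * d * (k⁻¹ * g * k)⁻¹ = k⁻¹ * (g * (k * d * k⁻¹) * g⁻¹) * k by group, ← e1,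
          show k⁻¹ * (k * d' * k⁻¹) * k = d' by group]) x hx
    refine ⟨_, mem_map_of_mem _ hy, ?_⟩
    rintro _ ⟨d, hd, rfl⟩
    have e := congrArg (fun w => k * w * k⁻¹) (hyd d hd)
    show g * (k * x * k⁻¹) * g⁻¹ * (k * d * k⁻¹) * (g * (k * x * k⁻¹) * g⁻¹)⁻¹ =
      k * y * k⁻¹ * (k * d * k⁻¹) * (k * y * k⁻¹)⁻¹
    convert e using 1 <;> group

/-- the centraliser of `t` and of the group `A` at `a` -/
def cliqueCent (a : α) (t : G) (A : Subgroup G) : Subgroup G :=
  centralizer {t} ⊓ centralizer (A : Set G) ⊓ stabilizer G a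

theorem mem_cliqueCent {a : α} {t g : G} {A : Subgroup G} :
    g ∈ cliqueCent a t A ↔ Commute g t ∧ (∀ d ∈ A, Commute d g) ∧ g • a = a := by
  rw [cliqueCent, mem_inf, mem_inf, mem_centralizer_singleton_iff, mem_centralizer_iff, mem_stabilizer_iff,
    and_assoc]
  exact Iff.rfl

/-- The setting at a Sylow 2-subgroup `P` of the centraliser of `t` and its clique at `a`, on a line of unitary
type whose kernel is `⟨t⟩`. -/
structure GraphSylow (z t : G) (a b : α) (A Q X : Subgroup G) (q : ℕ) (P : Subgroup G) : Prop where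
  two : orderOf t = 2
  fixa : t • a = a
  fixb : t • b = b
  ne : a ≠ b
  line : LineData z t a A Q X q 3
  maxClique : cliqueNum z t ≤ q
  hker : ∀ g : G, IsPGroup 2 (zpowers g) → Commute g t → (∀ p : α, t • p = p → g • p = p) →
    (∀ d ∈ A, Commute g d) → g ∈ zpowers t
  twoP : IsPGroup 2 P
  leQ : Q ≤ P
  leK : P ≤ cliqueCent a t A
  maxP : ∀ R : Subgroup G, IsPGroup 2 R → R ≤ cliqueCent a t A → P ≤ R → R = P

/-- The setting at a Sylow 2-subgroup `P` of the centraliser of `t` and its clique at `a`, on a line of unitary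
type, without a hypothesis on the kernel. -/
structure GraphPre (z t : G) (a b : α) (A Q X : Subgroup G) (q : ℕ) (P : Subgroup G) : Prop where
  two : orderOf t = 2
  fixa : t • a = a
  fixb : t • b = b
  ne : a ≠ b
  line : LineData z t a A Q X q 3
  maxClique : cliqueNum z t ≤ q
  twoP : IsPGroup 2 P
  leQ : Q ≤ P
  leK : P ≤ cliqueCent a t A
  maxP : ∀ R : Subgroup G, IsPGroup 2 R → R ≤ cliqueCent a t A → P ≤ R → R = P

/-- `g` fixes every fixed point of `t` -/
def FixesLine (α : Type v) [MulAction G α] (t g : G) : Prop := ∀ p : α, t • p = p → g • p = p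

variable {t : G} {a b : α} {A Q X P : Subgroup G} {q : ℕ}

theorem GraphSylow.pre (S : GraphSylow z t a b A Q X q P) : GraphPre z t a b A Q X q P :=
  ⟨S.two, S.fixa, S.fixb, S.ne, S.line, S.maxClique, S.twoP, S.leQ, S.leK, S.maxP⟩

namespace GraphPre

theorem memt (S : GraphPre z t a b A Q X q P) : t ∈ P := by
  have htK : zpowers t ≤ cliqueCent a t A := zpowers_le.2 (mem_cliqueCent.2
    ⟨Commute.refl t, fun d hd => commute_of_mem (S.line.Qle (S.line.leQ hd)), S.fixa⟩)
  have hn : zpowers t ≤ normalizer (P : Set G) := zpowers_le.2 (centralizer_le_normalizer _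
    (mem_centralizer_iff.2 fun x hx => (mem_cliqueCent.1 (S.leK hx)).1.eq))
  rw [← S.maxP (P ⊔ zpowers t) (IsPGroup.to_sup_of_normal_left' S.twoP (isPGroup_zpowers_of_two S.two) hn)
    (sup_le S.leK htK) le_sup_left]
  exact mem_sup_right (mem_zpowers t)

theorem commute_t (S : GraphPre z t a b A Q X q P) {g : G} (hg : g ∈ P) : Commute g t :=
  (mem_cliqueCent.1 (S.leK hg)).1

theorem commute_A (S : GraphPre z t a b A Q X q P) {g d : G} (hg : g ∈ P) (hd : d ∈ A) : Commute d g :=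
  (mem_cliqueCent.1 (S.leK hg)).2.1 d hd

theorem smul_a (S : GraphPre z t a b A Q X q P) {g : G} (hg : g ∈ P) : g • a = a :=
  (mem_cliqueCent.1 (S.leK hg)).2.2

/-- the part of the line in `P` is `Q` -/
theorem inf_localGen (S : GraphPre z t a b A Q X q P) : P ⊓ localGen z t = Q :=
  S.line.Qmax _ (S.twoP.to_le inf_le_left) inf_le_right
    (fun _ hx => mem_stabilizer_iff.2 (S.smul_a (mem_inf.1 hx).1)) (le_inf S.leQ S.line.Qle)

theorem conj_mem_Q (S : GraphPre z t a b A Q X q P) {g x : G} (hg : g ∈ P) (hx : x ∈ Q) :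
    g * x * g⁻¹ ∈ Q := by
  rw [← S.inf_localGen]
  exact mem_inf.2 ⟨mul_mem (mul_mem hg (S.leQ hx)) (inv_mem hg),
    conj_mem_localGen (S.commute_t hg) (S.line.Qle hx)⟩

end GraphPre

namespace GraphSylow

theorem memt (S : GraphSylow z t a b A Q X q P) : t ∈ P := S.pre.memt

theorem commute_t (S : GraphSylow z t a b A Q X q P) {g : G} (hg : g ∈ P) : Commute g t := S.pre.commute_t hg

theorem commute_A (S : GraphSylow z t a b A Q X q P) {g d : G} (hg : g ∈ P) (hd : d ∈ A) : Commute d g :=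
  S.pre.commute_A hg hd

theorem smul_a (S : GraphSylow z t a b A Q X q P) {g : G} (hg : g ∈ P) : g • a = a := S.pre.smul_a hg

theorem inf_localGen (S : GraphSylow z t a b A Q X q P) : P ⊓ localGen z t = Q := S.pre.inf_localGen

theorem conj_mem_Q (S : GraphSylow z t a b A Q X q P) {g x : G} (hg : g ∈ P) (hx : x ∈ Q) :
    g * x * g⁻¹ ∈ Q :=
  S.pre.conj_mem_Q hg hx

end GraphSylow

/-- a Sylow subgroup through a 2-group of the centraliser of `t` and its clique, with the data of the line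
moved to it -/
theorem exists_graphPre (h2 : orderOf t = 2) (hta : t • a = a) (htb : t • b = b) (hab : a ≠ b)
    (L : LineData z t a A Q X q 3) (hmax : cliqueNum z t ≤ q)
    {V : Subgroup G} (hV : IsPGroup 2 V) (hVK : V ≤ cliqueCent a t A) :
    ∃ Q' X' P : Subgroup G, GraphPre z t a b A Q' X' q P ∧ V ≤ P := by
  haveI : Fact (Nat.Prime 2) := ⟨Nat.prime_two⟩
  set K := cliqueCent a t A
  have hQK : Q ≤ K := fun x hx => mem_cliqueCent.2
    ⟨commute_of_mem (L.Qle hx), fun d hd => L.centQ d hd x hx, mem_stabilizer_iff.1 (L.Qfix hx)⟩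
  obtain ⟨P₀, hP₀⟩ := (L.twoQ.of_equiv (subgroupOfEquivOfLe hQK).symm).exists_le_sylow
  obtain ⟨P₁, hP₁⟩ := (hV.of_equiv (subgroupOfEquivOfLe hVK).symm).exists_le_sylow
  obtain ⟨c, rfl⟩ := MulAction.exists_smul_eq K P₀ P₁
  obtain ⟨hct, hcA, hca⟩ := mem_cliqueCent.1 c.2
  have hAmap : A.map (MulAut.conj (c : G)).toMonoidHom = A := by
    have e : ∀ d ∈ A, (c : G) * d * (c : G)⁻¹ = d := fun d hd => by
      rw [← (hcA d hd).eq, mul_inv_cancel_right]
    ext d
    exact ⟨fun ⟨d', hd', hdd⟩ => hdd ▸ (show (c : G) * d' * (c : G)⁻¹ ∈ A from (e d' hd').symm ▸ hd'),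
      fun hd => ⟨d, hd, e d hd⟩⟩
  have L' := L.conj hct hca
  rw [hAmap] at L'
  refine ⟨_, _, ((c • P₀ : Sylow 2 K) : Subgroup K).map K.subtype, ⟨h2, hta, htb, hab, L', hmax,
    (c • P₀).isPGroup'.map _, ?_, map_subtype_le _, fun R hR hRK hle => ?_⟩, fun v hv =>
      ⟨⟨v, hVK hv⟩, hP₁ (show (⟨v, hVK hv⟩ : K) ∈ V.subgroupOf K from hv), rfl⟩⟩
  · rintro _ ⟨x, hx, rfl⟩
    refine ⟨c * ⟨x, hQK hx⟩ * c⁻¹, ?_, rfl⟩
    rw [Sylow.coe_subgroup_smul]
    exact ⟨⟨x, hQK hx⟩, hP₀ (show (⟨x, hQK hx⟩ : K) ∈ Q.subgroupOf K from hx), rfl⟩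
  · have h1 := (c • P₀).3 (Q := R.subgroupOf K) hR.comap_subtype fun x hx =>
      mem_subgroupOf.2 (hle ⟨x, hx, rfl⟩)
    rw [← h1, subgroupOf_map_subtype, inf_eq_left.2 hRK]

/-- the same with the kernel hypothesis -/
theorem exists_graphSylow (h2 : orderOf t = 2) (hta : t • a = a) (htb : t • b = b) (hab : a ≠ b)
    (L : LineData z t a A Q X q 3) (hmax : cliqueNum z t ≤ q)
    (hker : ∀ g : G, IsPGroup 2 (zpowers g) → Commute g t → (∀ p : α, t • p = p → g • p = p) →
      (∀ d ∈ A, Commute g d) → g ∈ zpowers t)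
    {V : Subgroup G} (hV : IsPGroup 2 V) (hVK : V ≤ cliqueCent a t A) :
    ∃ Q' X' P : Subgroup G, GraphSylow z t a b A Q' X' q P ∧ V ≤ P := by
  obtain ⟨Q', X', P, S, hle⟩ := exists_graphPre h2 hta htb hab L hmax hV hVK
  exact ⟨Q', X', P, ⟨S.two, S.fixa, S.fixb, S.ne, S.line, S.maxClique, hker, S.twoP, S.leQ, S.leK, S.maxP⟩, hle⟩

end Cfsg.Lib.BenderSE.Crit2
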