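/-
Aschbacher's criterion, graph involutions (notes/s1175_h7_graph.md): the line of a 2-group that centralises a
whole clique, its size and its chords; the elements acting as the root group; the fixed subline of a graph
automorphism.
-/
import Cfsg.Agent.BenderSE.Criterion2.Lines
import Cfsg.Agent.BenderSE.Criterion2.LineChord
import Cfsg.Agent.BenderSE.Criterion2.LineActions

set_option autoImplicit false
set_option linter.unusedSectionVars false
set_option linter.style.haveILetI false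

namespace Cfsg.Lib.BenderSE.Crit2

open Subgroup MulAction Cfsg.Lib.InvolCalc Cfsg.Lib.StrongEmb Cfsg.Lib.BenderSE.CritDep

universe u

variable {G α : Type u} [Group G] [Finite G] [MulAction G α] [Finite α] [FaithfulSMul G α] {z : G}
  (h : Crit G α z) (crit : CriterionBelow.{u} (Nat.card G))
include h crit

omit crit in
/-- the line of a 2-group with an involution fixing `a` is smaller than the group -/
theorem line_card_lt {W : Subgroup G} {u : G} (huW : u ∈ W) (hu : u ≠ 1) {a : α} (hua : u • a = a) :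
    Nat.card (lineImage α z W) < Nat.card G := by
  refine lt_of_le_of_lt (Nat.card_le_card_of_surjective _ (lineHom α z W).rangeRestrict_surjective) ?_
  refine lt_of_le_of_ne (card_le_card_group _) fun heq => ?_
  have htop := eq_top_iff.1 ((Subgroup.card_eq_iff_eq_top _).1 heq)
  refine hu (eq_of_smul_eq_smul fun p : α => ?_)
  obtain ⟨g, rfl⟩ := h.transitive a p
  rw [one_smul, smul_smul, mem_centralizer_iff.1 (lineGen_le z W (htop (Subgroup.mem_top g))) u huW,
    mul_smul, hua]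

/-- THE LINE OF A WHOLE CLIQUE: a 2-group `W` through an involution `t` of clique number at most `q`, centralising
the members of a group `A` of order `q` at `a`, has `q ^ e + 1` fixed points, and the swappers are chords of `A`
exactly off the Suzuki type -/
theorem line_of_clique {t : G} (ht : orderOf t = 2) {W : Subgroup G} (hW : IsPGroup 2 W) (htW : t ∈ W)
    {a b : α} (ha : a ∈ fixSet α W) (hb : b ∈ fixSet α W) (hab : a ≠ b) {A : Subgroup G} {q : ℕ}
    (hA : Nat.card A = q) (hq : 4 ≤ q) (hmem : ∀ d ∈ A, d ≠ 1 → IsConj z d ∧ d • a = a)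
    (hAW : ∀ d ∈ A, ∀ w ∈ W, Commute d w) (hmax : cliqueNum z t ≤ q) :
    ∃ e : ℕ, (e = 1 ∨ e = 2 ∨ e = 3) ∧ Nat.card (fixSet α W) = q ^ e + 1 ∧
      (∀ v : G, IsConj z v → (∀ w ∈ W, Commute v w) → v • a ≠ a →
        ((∃ d ∈ A, d ≠ 1 ∧ v • d • v • a = d • v • a) ↔ e ≠ 2)) ∧
      (e = 3 → ∀ g ∈ lineGen z W, IsPGroup 2 (zpowers g) → g • a = a →
        ∀ p ∈ fixSet α W, (g * g * (g * g)) • p = p) ∧
      ∀ d ∈ A, ∀ d' ∈ A, d ≠ 1 → d' ≠ 1 →
        ∃ g ∈ lineGen z W, g • a = a ∧ ∀ p ∈ fixSet α W, (g * d * g⁻¹) • p = d' • p := by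
  classical
  have hfix : (fixSet α W).Nontrivial := ⟨a, ha, b, hb, hab⟩
  have hn : Nat.card (lineImage α z W) < Nat.card G :=
    line_card_lt h htW (ne_one_of_order_two ht) (ha t htW)
  haveI : Nontrivial (fixSet α W) := hfix.coe_sort
  haveI := lineImage_transitive h hW hfix
  -- two commuting members
  obtain ⟨d, hd, d', hd', hne, hd1, hd1'⟩ : ∃ d ∈ A, ∃ d' ∈ A, d ≠ d' ∧ d ≠ 1 ∧ d' ≠ 1 := by
    have h3 : 1 < ((A : Set G) \ {1}).ncard := by
      rw [Set.ncard_sdiff_singleton_of_mem (s := (A : Set G)) (one_mem A), ← Nat.card_coe_set_eq,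
        SetLike.coe_sort_coe, hA]
      omega
    obtain ⟨d, hd, d', hd', hne⟩ := (Set.one_lt_ncard (Set.toFinite _)).1 h3
    exact ⟨d, hd.1, d', hd'.1, hne, fun e => hd.2 e, fun e => hd'.2 e⟩
  have hclA : IsClique z t A := fun g hg => ⟨(hAW g hg t htW).symm, fun hg1 => (hmem g hg hg1).1⟩
  have C := line_cover h hW hfix crit hn (hmem d hd hd1).1 (hmem d' hd' hd1').1 (clique_comm h hclA hd hd') hne
    (hAW d hd) (hAW d' hd') (a := ⟨a, ha⟩) (hmem d hd hd1).2
  haveI := C.simple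
  obtain ⟨Qb, Cb, k, e, M⟩ := exists_modelData C.setting
  obtain ⟨A', Q', X', q', j', D⟩ := C.exists_liftData
  obtain ⟨hchord, hsq⟩ := model_chord C.setting M
  set π := (lineHom α z W).rangeRestrict with hπ
  set a' : fixSet α W := ⟨a, ha⟩
  set b' : fixSet α W := ⟨b, hb⟩
  have hb' : b' ≠ a' := fun e' => hab (congrArg Subtype.val e').symm
  -- the images of the involutions at `a`
  have himg : ∀ g, ∀ (hg : g ∈ A) (hg1 : g ≠ 1), orderOf (π ⟨g, mem_lineGen (hmem g hg hg1).1 (hAW g hg)⟩) = 2 ∧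
      π ⟨g, mem_lineGen (hmem g hg hg1).1 (hAW g hg)⟩ • a' = a' := fun g hg hg1 =>
    ⟨(crit_image h hW hfix (hmem g hg hg1).1 (hAW g hg)).ord, Subtype.ext (hmem g hg hg1).2⟩
  let I := {i : lineImage α z W // orderOf i = 2 ∧ i ∈ stabilizer (lineImage α z W) a'}
  let f : A → Option I := fun g => if h1 : (g : G) = 1 then none else
    some ⟨π ⟨g, mem_lineGen (hmem g g.2 h1).1 (hAW g g.2)⟩, (himg g g.2 h1).1,
      mem_stabilizer_iff.2 (himg g g.2 h1).2⟩
  have hf : Function.Injective f := by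
    intro g g' hgg
    simp only [f] at hgg
    split_ifs at hgg with h1 h2 h3
    · exact Subtype.ext (h1.trans h2.symm)
    · by_contra hgne
      exact line_ne h hfix (hmem g g.2 h1).1 (hmem g' g'.2 (by assumption)).1 (clique_comm h hclA g.2 g'.2)
        (fun e' => hgne (Subtype.ext e')) (hAW g g.2) (hAW g' g'.2)
        (congrArg Subtype.val (congrArg Subtype.val (Option.some.inj hgg)))
  -- the lifted clique
  have hcard' : Nat.card (Option I) ≤ q := by
    have hcl : IsClique z t (A'.map (lineGen z W).subtype) := by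
      rintro _ ⟨w, hw, rfl⟩
      refine ⟨(commute_lineGen h w t htW).symm, fun hw1 => ?_⟩
      exact (hmem d hd hd1).1.trans ((lineGen z W).subtype.map_isConj
        (D.memA w hw fun e' => hw1 (by rw [e', map_one])))
    have h1 := (le_cliqueNum hcl).trans hmax
    rw [card_map_of_injective (lineGen z W).subtype_injective] at h1
    refine le_trans ?_ h1
    let g : A' → Option I := fun w =>
      if h1 : π (w : lineGen z W) = 1 then none else some ⟨π w, order_two_of_mul_self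
        (by rw [← map_mul, D.elem w w.2, map_one]) h1, D.Qle (D.leQ w.2)⟩
    refine Nat.card_le_card_of_surjective g fun o => ?_
    cases o with
    | none => exact ⟨1, dif_pos (map_one π)⟩
    | some i =>
      obtain ⟨hiQ, -⟩ := M.qinvol i.1 i.2.1 i.2.2
      obtain ⟨s, ⟨hs, hsb⟩, -⟩ := D.regQ b' (i.1 • b') hb' fun e' => hb'
        (smul_left_cancel i.1 (e'.trans (mem_stabilizer_iff.1 i.2.2).symm))
      have hsQ : π s ∈ Qb :=
        M.qmax _ (D.twoQ.map π) (map_le_iff_le_comap.2 D.Qle) (mem_map_of_mem π hs)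
      have hne' : i.1 • b' ≠ a' := fun e' => hb'
        (smul_left_cancel i.1 (e'.trans (mem_stabilizer_iff.1 i.2.2).symm))
      have heq : π s = i.1 := (M.regular b' _ hb' hne').unique ⟨hsQ, hsb⟩ ⟨hiQ, rfl⟩
      have hs2 : s * s = 1 := (D.regQ b' b' hb' hb').unique
        ⟨mul_mem hs hs, by rw [map_mul, heq, sq_of_order_two i.2.1, one_smul]⟩
        ⟨one_mem _, by rw [map_one, one_smul]⟩
      have hs1 : s ≠ 1 := fun e' => ne_one_of_order_two i.2.1 (by rw [← heq, e', map_one])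
      refine ⟨⟨s, D.invA s hs (order_two_of_mul_self hs2 hs1)⟩, ?_⟩
      show dite _ _ _ = _
      rw [dif_neg (show ¬ π s = 1 from fun e' => ne_one_of_order_two i.2.1 (heq ▸ e'))]
      exact congrArg some (Subtype.ext heq)
  have hq2 : 2 ^ k = q := by
    have h1 : Nat.card (Option I) = 2 ^ k := Finite.card_option.trans M.cardI
    have h2 := Nat.card_le_card_of_injective f hf
    rw [hA] at h2
    omega
  have hbij : Function.Bijective f := hf.bijective_of_nat_card_le (hA.symm ▸ hcard')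
  -- the size
  have hfixcard : Nat.card (fixSet α W) = q ^ e + 1 := by
    rw [← hq2, ← M.cardQ, ← Finite.card_option]
    refine (Nat.card_eq_of_bijective (fun o : Option Qb => o.elim a' fun s => (s : lineImage α z W) • b')
      ⟨?_, ?_⟩).symm
    · have hne' : ∀ s : Qb, (s : lineImage α z W) • b' ≠ a' := fun s e' => hb'
        (smul_left_cancel _ (e'.trans (mem_stabilizer_iff.1 (M.qle s.2)).symm))
      rintro (_ | s) (_ | r) e'
      · rfl
      · exact absurd e'.symm (hne' r)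
      · exact absurd e' (hne' s)
      · obtain ⟨w, -, hw⟩ := M.regular b' _ hb' (hne' s)
        exact congrArg some (Subtype.ext ((hw _ ⟨s.2, rfl⟩).trans (hw _ ⟨r.2, e'.symm⟩).symm))
    · intro p
      by_cases hp : p = a'
      · exact ⟨none, hp.symm⟩
      · obtain ⟨w, ⟨hw, hwp⟩, -⟩ := M.regular b' p hb' hp
        exact ⟨some ⟨w, hw⟩, hwp⟩
  refine ⟨e, M.ecase, hfixcard, fun v hv hvW hva => ?_, fun he g hg hg2 hga p hp => ?_,
    fun d₁ hd₁ d₂ hd₂ h₁ h₂ => ?_⟩
  · have hv2 : orderOf (π ⟨v, mem_lineGen hv hvW⟩) = 2 := (crit_image h hW hfix hv hvW).ord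
    rw [← hchord _ hv2 fun e' => hva (congrArg Subtype.val e')]
    constructor
    · rintro ⟨g, hg, hg1, hgv⟩
      exact ⟨_, (himg g hg hg1).1, (himg g hg hg1).2, Subtype.ext hgv⟩
    · rintro ⟨s, hs, hsa, hsv⟩
      obtain ⟨g, hg⟩ := hbij.2 (some ⟨s, hs, mem_stabilizer_iff.2 hsa⟩)
      simp only [f] at hg
      split_ifs at hg with h1
      obtain rfl : π ⟨g, _⟩ = s := congrArg Subtype.val (Option.some.inj hg)
      exact ⟨g, g.2, h1, congrArg Subtype.val hsv⟩
  · have hgQ : π ⟨g, hg⟩ ∈ Qb := by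
      refine M.qmax (zpowers (π ⟨g, hg⟩)) ?_ (zpowers_le.2 (mem_stabilizer_iff.2 (Subtype.ext hga)))
        (mem_zpowers _)
      have h1 : IsPGroup 2 (zpowers (⟨g, hg⟩ : lineGen z W)) := by
        have h0 : ((zpowers (⟨g, hg⟩ : lineGen z W)).map (lineGen z W).subtype) = zpowers g := by
          rw [MonoidHom.map_zpowers]; rfl
        exact (h0.symm ▸ hg2 : IsPGroup 2 _).of_equiv
          (equivMapOfInjective _ _ (lineGen z W).subtype_injective).symm
      have h2 := h1.map π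
      rwa [MonoidHom.map_zpowers] at h2
    have h4 := hsq he _ hgQ
    rw [← map_mul, ← map_mul] at h4
    exact congrArg Subtype.val (Equiv.Perm.ext_iff.1 (congrArg Subtype.val h4) ⟨p, hp⟩)
  · obtain ⟨c, hc, hcd⟩ := M.ctrans _ _ (himg d₁ hd₁ h₁).1 (mem_stabilizer_iff.2 (himg d₁ hd₁ h₁).2)
      (himg d₂ hd₂ h₂).1 (mem_stabilizer_iff.2 (himg d₂ hd₂ h₂).2)
    obtain ⟨g, rfl⟩ := (lineHom α z W).rangeRestrict_surjective c
    refine ⟨g, g.2, congrArg Subtype.val (mem_stabilizer_iff.1 (M.cle hc)), fun p hp => ?_⟩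
    rw [← map_inv, ← map_mul, ← map_mul] at hcd
    exact congrArg Subtype.val (Equiv.Perm.ext_iff.1 (congrArg Subtype.val hcd) ⟨p, hp⟩)

/-- nested lines with one clique are of Suzuki type together -/
theorem line_type_eq {t t' : G} (ht : orderOf t = 2) (ht' : orderOf t' = 2) {W W' : Subgroup G}
    (hW : IsPGroup 2 W) (hW' : IsPGroup 2 W') (hWW' : W ≤ W') (htW : t ∈ W) (htW' : t' ∈ W') {a b : α}
    (ha : a ∈ fixSet α W') (hb : b ∈ fixSet α W') (hab : a ≠ b) {A : Subgroup G} {q : ℕ} (hA : Nat.card A = q)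
    (hq : 4 ≤ q) (hmem : ∀ d ∈ A, d ≠ 1 → IsConj z d ∧ d • a = a) (hAW : ∀ d ∈ A, ∀ w ∈ W', Commute d w)
    (hmax : cliqueNum z t ≤ q) (hmax' : cliqueNum z t' ≤ q) :
    ∃ e e' : ℕ, (e = 1 ∨ e = 2 ∨ e = 3) ∧ (e' = 1 ∨ e' = 2 ∨ e' = 3) ∧ (e = 2 ↔ e' = 2) ∧
      Nat.card (fixSet α W) = q ^ e + 1 ∧ Nat.card (fixSet α W') = q ^ e' + 1 ∧ e' ≤ e := by
  obtain ⟨e, he, hf, hc, -⟩ := line_of_clique h crit ht hW htW (fixSet_anti hWW' ha) (fixSet_anti hWW' hb) hab hA hq
    hmem (fun d hd w hw => hAW d hd w (hWW' hw)) hmax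
  obtain ⟨e', he', hf', hc', -⟩ := line_of_clique h crit ht' hW' htW' ha hb hab hA hq hmem hAW hmax'
  obtain ⟨v, hv, hvW, hva, -⟩ := exists_swap_fix h hW' ha hb hab
  have hva' : v • a ≠ a := by rw [hva]; exact hab.symm
  have h1 := hc v hv (fun w hw => hvW w (hWW' hw)) hva'
  have h2 := hc' v hv hvW hva'
  refine ⟨e, e', he, he', not_iff_not.1 (h1.symm.trans h2), hf, hf', ?_⟩
  have hle : q ^ e' + 1 ≤ q ^ e + 1 := by
    rw [← hf, ← hf', Nat.card_coe_set_eq, Nat.card_coe_set_eq]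
    exact Set.ncard_le_ncard (fixSet_anti hWW') (Set.toFinite _)
  exact (Nat.pow_le_pow_iff_right (a := q) (by omega)).1 (by omega)

section Root

variable {t : G} {a : α} {A Q X : Subgroup G} {q j : ℕ} (ht : orderOf t = 2) (L : LineData z t a A Q X q j)
  {b : α} (hta : t • a = a) (htb : t • b = b) (hab : a ≠ b)
include ht L hta htb hab

/-- a 2-element of the line at `a` acts on it as an element of the root group -/
theorem act_as_Q {w : G} (hw : w ∈ localGen z t) (hw2 : IsPGroup 2 (zpowers w)) (hwa : w • a = a) :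
    ∃ y ∈ Q, ∀ p : α, t • p = p → w • p = y • p := by
  rw [localGen_eq_lineGen] at hw
  set W := zpowers t with hWdef
  have hW : IsPGroup 2 W := isPGroup_zpowers_of_two ht
  have ha : a ∈ fixSet α W := mem_line.2 hta
  have hb : b ∈ fixSet α W := mem_line.2 htb
  have hfix : (fixSet α W).Nontrivial := ⟨a, ha, b, hb, hab⟩
  have hn := line_card_lt (W := W) h (mem_zpowers t) (ne_one_of_order_two ht) hta
  obtain ⟨d, hd, d', hd', hne, hd1, hd1'⟩ : ∃ d ∈ A, ∃ d' ∈ A, d ≠ d' ∧ d ≠ 1 ∧ d' ≠ 1 := by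
    have h3 : 1 < ((A : Set G) \ {1}).ncard := by
      rw [Set.ncard_sdiff_singleton_of_mem (s := (A : Set G)) (one_mem A), ← Nat.card_coe_set_eq,
        SetLike.coe_sort_coe, L.card]
      have := L.four
      omega
    obtain ⟨d, hd, d', hd', hne⟩ := (Set.one_lt_ncard (Set.toFinite _)).1 h3
    exact ⟨d, hd.1, d', hd'.1, hne, fun e => hd.2 e, fun e => hd'.2 e⟩
  have hcW : ∀ g ∈ localGen z t, ∀ v ∈ W, Commute g v := fun g hg v hv => by
    obtain ⟨i, rfl⟩ := mem_zpowers_iff.1 hv; exact (commute_of_mem hg).zpow_right i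
  have C := line_cover h hW hfix crit hn (L.memA d hd hd1).1 (L.memA d' hd' hd1').1 (L.centQ d hd d' (L.leQ hd'))
    hne (hcW d (L.Qle (L.leQ hd))) (hcW d' (L.Qle (L.leQ hd'))) (a := ⟨a, ha⟩) (L.memA d hd hd1).2.2
  haveI := C.simple
  haveI := lineImage_transitive h hW hfix
  obtain ⟨Qb, Cb, k, e, M⟩ := exists_modelData C.setting
  set π := (lineHom α z W).rangeRestrict with hπ
  set a' : fixSet α W := ⟨a, ha⟩
  set b' : fixSet α W := ⟨b, hb⟩
  have hb' : b' ≠ a' := fun e' => hab (congrArg Subtype.val e').symm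
  have hwQ : π ⟨w, hw⟩ ∈ Qb := by
    refine M.qmax (zpowers (π ⟨w, hw⟩)) ?_ (zpowers_le.2 (mem_stabilizer_iff.2 (Subtype.ext hwa)))
      (mem_zpowers _)
    have h1 : IsPGroup 2 (zpowers (⟨w, hw⟩ : lineGen z W)) := fun x => by
      obtain ⟨i, hi⟩ := hw2 ⟨((x : lineGen z W) : G), by
        obtain ⟨j, hj⟩ := mem_zpowers_iff.1 x.2
        exact ⟨j, by rw [← hj]; simp⟩⟩
      refine ⟨i, Subtype.ext (Subtype.ext ?_)⟩
      simpa using congrArg Subtype.val hi
    have h2 := h1.map π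
    rwa [MonoidHom.map_zpowers] at h2
  have hne' : π ⟨w, hw⟩ • b' ≠ a' := fun e' => hb'
    (smul_left_cancel _ (e'.trans (Subtype.ext hwa : π ⟨w, hw⟩ • a' = a').symm))
  obtain ⟨y, ⟨hy, hyb⟩, -⟩ := L.regQ b hb (w • b) (π ⟨w, hw⟩ • b').2 hab.symm
    (fun e' => hne' (Subtype.ext e'))
  have hyL : y ∈ lineGen z W := by rw [← localGen_eq_lineGen]; exact L.Qle hy
  have hyQ : π ⟨y, hyL⟩ ∈ Qb :=
    M.qmax ((Q.subgroupOf (lineGen z W)).map π) (L.twoQ.comap_subtype.map π)
      (map_le_iff_le_comap.2 fun g hg => mem_stabilizer_iff.2 (Subtype.ext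
        (mem_stabilizer_iff.1 (L.Qfix (mem_subgroupOf.1 hg)))))
      ⟨⟨y, hyL⟩, mem_subgroupOf.2 hy, rfl⟩
  have heq := (M.regular b' _ hb' hne').unique ⟨hwQ, rfl⟩ ⟨hyQ, Subtype.ext hyb⟩
  refine ⟨y, hy, fun p hp => ?_⟩
  exact congrArg Subtype.val (Equiv.Perm.ext_iff.1 (congrArg Subtype.val heq) ⟨p, mem_line.2 hp⟩)

omit hab in
/-- squares in a root group of unitary type lie in the clique -/
theorem sq_mem_clique (hab : a ≠ b) (hmax : cliqueNum z t ≤ q) (hj : j = 3) {x : G} (hx : x ∈ Q) :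
    x * x ∈ A := by
  have ha : a ∈ fixSet α (zpowers t) := mem_line.2 hta
  have hb : b ∈ fixSet α (zpowers t) := mem_line.2 htb
  obtain ⟨e, -, hfc, -, hsq, -⟩ := line_of_clique h crit ht (isPGroup_zpowers_of_two ht) (mem_zpowers t) ha hb hab
    L.card L.four (fun g hg hg1 => ⟨(L.memA g hg hg1).1, (L.memA g hg hg1).2.2⟩)
    (fun g hg w hw => by
      obtain ⟨i, rfl⟩ := mem_zpowers_iff.1 hw
      exact (commute_of_mem (L.Qle (L.leQ hg))).zpow_right i) hmax
  rw [L.fixed, hj] at hfc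
  obtain rfl : e = 3 := Nat.pow_right_injective (by have := L.four; omega) (Nat.succ_injective hfc).symm
  have hxL : x ∈ lineGen z (zpowers t) := (localGen_eq_lineGen z t).le (L.Qle hx)
  have hx2 : IsPGroup 2 (zpowers x) := L.twoQ.to_le (zpowers_le.2 hx)
  have h5 : x * x * (x * x) = 1 := (L.regQ b hb b hb hab.symm hab.symm).unique
    ⟨mul_mem (mul_mem hx hx) (mul_mem hx hx), hsq rfl x hxL hx2 (mem_stabilizer_iff.1 (L.Qfix hx)) b hb⟩
    ⟨one_mem _, one_smul G b⟩
  rcases eq_or_ne (x * x) 1 with h6 | h6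
  · rw [h6]; exact one_mem A
  · exact L.invA _ (mul_mem hx hx) (order_two_of_mul_self h5 h6)

end Root

end Cfsg.Lib.BenderSE.Crit2
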