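/-
Aschbacher's criterion, graph involutions (notes/s1175_h7_graph2.md): at a Sylow 2-subgroup of the centraliser of
`t` and its clique on a line of unitary type, the elements fixing a second point act on the root group as involutory
automorphisms fixing exactly the clique.
-/
import Cfsg.Agent.BenderSE.Criterion2.GraphBasic
import Cfsg.Agent.BenderSE.Criterion2.GraphLine
import Cfsg.Agent.BenderSE.Criterion2.GraphAlgebra

set_option autoImplicit false
set_option linter.unusedSectionVars false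
set_option linter.style.haveILetI false

namespace Cfsg.Lib.BenderSE.Crit2

open Subgroup MulAction Cfsg.Lib.InvolCalc Cfsg.Lib.StrongEmb Cfsg.Lib.BenderSE.CritDep

universe u

variable {G α : Type u} [Group G] [Finite G] [MulAction G α] [Finite α] [FaithfulSMul G α] {z t : G} {a b : α}
  {A Q X P : Subgroup G} {q : ℕ}

/-- an element of `P` acts on the fixed points of `t` -/
theorem GraphPre.smul_fix (S : GraphPre z t a b A Q X q P) {g : G} (hg : g ∈ P) {p : α} (hp : t • p = p) :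
    t • g • p = g • p := by
  rw [smul_smul, ← (S.commute_t hg).eq, mul_smul, hp]

theorem GraphPre.smul_fix_Q (S : GraphPre z t a b A Q X q P) {x : G} (hx : x ∈ Q) : t • x • b = x • b :=
  S.smul_fix (S.leQ hx) S.fixb

theorem GraphPre.ne_a (S : GraphPre z t a b A Q X q P) {g : G} (hg : g ∈ P) : g • b ≠ a := fun e =>
  S.ne.symm (smul_left_cancel g (e.trans (S.smul_a hg).symm))

/-- `Q` is regular at `b` -/
theorem GraphPre.eq_of_smul (S : GraphPre z t a b A Q X q P) {x y : G} (hx : x ∈ Q) (hy : y ∈ Q)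
    (e : x • b = y • b) : x = y :=
  (S.line.regQ b (mem_line.2 S.fixb) (y • b) (mem_line.2 (S.smul_fix_Q hy)) S.ne.symm
    (S.ne_a (S.leQ hy))).unique ⟨hx, e⟩ ⟨hy, rfl⟩

/-- `P` is `Q` times the stabiliser of `b` -/
theorem GraphPre.decomp (S : GraphPre z t a b A Q X q P) {g : G} (hg : g ∈ P) :
    ∃ x ∈ Q, ∃ c ∈ P, c • b = b ∧ g = x * c := by
  obtain ⟨x, ⟨hx, hxb⟩, -⟩ := S.line.regQ b (mem_line.2 S.fixb) (g • b) (mem_line.2 (S.smul_fix hg S.fixb))
    S.ne.symm (S.ne_a hg)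
  exact ⟨x, hx, x⁻¹ * g, mul_mem (inv_mem (S.leQ hx)) hg, by rw [mul_smul, ← hxb, inv_smul_smul],
    (mul_inv_cancel_left x g).symm⟩

theorem GraphPre.decomp_eq (S : GraphPre z t a b A Q X q P) {x x' c c' : G} (hx : x ∈ Q) (hx' : x' ∈ Q)
    (hc : c • b = b) (hc' : c' • b = b) (e : x * c = x' * c') : x = x' ∧ c = c' := by
  have h1 : x = x' := S.eq_of_smul hx hx' (by
    have h2 := congrArg (fun g => g • b) e
    simpa [mul_smul, hc, hc'] using h2)
  subst h1
  exact ⟨rfl, mul_left_cancel e⟩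

/-- an element fixing `b` and centralising `Q` fixes the line -/
theorem GraphPre.fixes_of_centralises (S : GraphPre z t a b A Q X q P) {g : G} (hg : g ∈ P) (hgb : g • b = b)
    (hgQ : ∀ y ∈ Q, Commute g y) : FixesLine α t g := by
  intro p hp
  rcases eq_or_ne p a with rfl | hpa
  · exact S.smul_a hg
  · obtain ⟨y, ⟨hy, rfl⟩, -⟩ := S.line.regQ b (mem_line.2 S.fixb) p (mem_line.2 hp) S.ne.symm hpa
    rw [smul_smul, (hgQ y hy).eq, mul_smul, hgb]

theorem GraphPre.commute_zpowers (S : GraphPre z t a b A Q X q P) {g v : G} (hg : g ∈ P) (hv : v ∈ zpowers t) :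
    Commute g v := by
  obtain ⟨i, rfl⟩ := mem_zpowers_iff.1 hv
  exact (S.commute_t hg).zpow_right i

/-- an element fixing the line centralises `Q` -/
theorem GraphPre.commute_fixes (S : GraphPre z t a b A Q X q P) {g x : G} (hg : g ∈ P)
    (hgf : FixesLine α t g) (hx : x ∈ Q) : Commute g x := by
  refine mul_inv_eq_iff_eq_mul.1 (S.eq_of_smul (S.conj_mem_Q hg hx) hx ?_)
  have hgb : g⁻¹ • b = b := inv_smul_eq_iff.2 (hgf b S.fixb).symm
  rw [mul_smul, mul_smul, hgb, hgf _ (S.smul_fix_Q hx)]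

/-- conjugation on `Q` -/
def GraphPre.conjAut (S : GraphPre z t a b A Q X q P) {g : G} (hg : g ∈ P) : MulAut Q :=
  { toFun := fun y => ⟨g * y * g⁻¹, S.conj_mem_Q hg y.2⟩
    invFun := fun y => ⟨g⁻¹ * y * g, by simpa using S.conj_mem_Q (inv_mem hg) y.2⟩
    left_inv := fun y => Subtype.ext (by simp [mul_assoc])
    right_inv := fun y => Subtype.ext (by simp [mul_assoc])
    map_mul' := fun y y' => Subtype.ext (by simp [mul_assoc]) }

@[simp] theorem GraphPre.conjAut_coe (S : GraphPre z t a b A Q X q P) {g : G} (hg : g ∈ P) (y : Q) :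
    (S.conjAut hg y : G) = g * y * g⁻¹ := rfl

section Pre

variable (h : Crit G α z) (crit : CriterionBelow.{u} (Nat.card G)) (S : GraphPre z t a b A Q X q P)
include h crit S

/-- squares lie in the clique -/
theorem GraphPre.sq_mem {x : G} (hx : x ∈ Q) : x * x ∈ A :=
  sq_mem_clique h crit S.two S.line S.fixa S.fixb S.ne S.maxClique rfl hx

section Psi

variable {psi : G} (hp : psi ∈ P) (hpb : psi • b = b) (hnt : ¬ FixesLine α t psi)
  (hp2 : FixesLine α t (psi * psi))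
include hp hpb hnt

omit hnt in
theorem GraphPre.pair_le : zpowers t ⊔ zpowers psi ≤ P ∧ a ∈ fixSet α (zpowers t ⊔ zpowers psi : Subgroup G) ∧
    b ∈ fixSet α (zpowers t ⊔ zpowers psi : Subgroup G) := by
  refine ⟨sup_le (zpowers_le.2 S.memt) (zpowers_le.2 hp), fun g hg => ?_, fun g hg => ?_⟩
  · exact mem_stabilizer_iff.1 ((sup_le (zpowers_le.2 (mem_stabilizer_iff.2 S.fixa))
      (zpowers_le.2 (mem_stabilizer_iff.2 (S.smul_a hp))) : _ ≤ stabilizer G a) hg)
  · exact mem_stabilizer_iff.1 ((sup_le (zpowers_le.2 (mem_stabilizer_iff.2 S.fixb))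
      (zpowers_le.2 (mem_stabilizer_iff.2 hpb)) : _ ≤ stabilizer G b) hg)

/-- THE SUBLINE: `⟨t, ψ⟩` fixes exactly `q + 1` points -/
theorem GraphPre.card_subline : Nat.card (fixSet α (zpowers t ⊔ zpowers psi : Subgroup G)) = q + 1 := by
  obtain ⟨hle, ha, hb⟩ := S.pair_le h crit hp hpb
  have h4 := S.line.four
  obtain ⟨e, e', he, he', hiff, hc, hc', -⟩ := line_type_eq h crit S.two S.two
    (isPGroup_zpowers_of_two S.two) (S.twoP.to_le hle) le_sup_left (mem_zpowers t)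
    (mem_sup_left (mem_zpowers t)) ha hb S.ne S.line.card h4
    (fun d hd hd1 => ⟨(S.line.memA d hd hd1).1, (S.line.memA d hd hd1).2.2⟩)
    (fun d hd w hw => S.commute_A (hle hw) hd) S.maxClique S.maxClique
  have hcc := hc
  rw [S.line.fixed] at hcc
  obtain rfl : e = 3 := Nat.pow_right_injective (by omega) (Nat.succ_injective hcc).symm
  rcases he' with rfl | rfl | rfl
  · rw [hc', pow_one]
  · exact absurd (hiff.2 rfl) (by omega)
  · exfalso
    rw [← hc, Nat.card_coe_set_eq, Nat.card_coe_set_eq] at hc'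
    have heq := Set.eq_of_subset_of_ncard_le (fixSet_anti (α := α) (le_sup_left : zpowers t ≤ zpowers t ⊔ zpowers psi))
      hc'.ge (Set.toFinite _)
    refine hnt fun p hp' => ?_
    exact (heq.symm ▸ mem_line.2 hp' : p ∈ fixSet α (zpowers t ⊔ zpowers psi : Subgroup G)) psi
      (mem_sup_right (mem_zpowers psi))

/-- THE SUBLINE: only the clique is centralised -/
theorem GraphPre.subline {y : G} (hy : y ∈ Q) (hc : Commute psi y) : y ∈ A := by
  classical
  obtain ⟨hle, ha, hb⟩ := S.pair_le h crit hp hpb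
  have hfix : ∀ x ∈ Q, Commute psi x → x • b ∈ fixSet α (zpowers t ⊔ zpowers psi : Subgroup G) \ {a} := by
    intro x hx hxc
    refine ⟨fun g hg => ?_, S.ne_a (S.leQ hx)⟩
    refine mem_stabilizer_iff.1 ((sup_le (zpowers_le.2 (mem_stabilizer_iff.2 (S.smul_fix_Q hx)))
      (zpowers_le.2 (mem_stabilizer_iff.2 ?_)) : _ ≤ stabilizer G (x • b)) hg)
    rw [smul_smul, hxc.eq, mul_smul, hpb]
  have hsub : (fun x : G => x • b) '' (A : Set G) ⊆ fixSet α (zpowers t ⊔ zpowers psi : Subgroup G) \ {a} := by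
    rintro _ ⟨d, hd, rfl⟩
    exact hfix d (S.line.leQ hd) (S.commute_A hp hd).symm
  have heq : (fun x : G => x • b) '' (A : Set G) = fixSet α (zpowers t ⊔ zpowers psi : Subgroup G) \ {a} := by
    refine Set.eq_of_subset_of_ncard_le hsub ?_ (Set.toFinite _)
    rw [Set.ncard_sdiff_singleton_of_mem ha, ← Nat.card_coe_set_eq, S.card_subline h crit hp hpb hnt,
      Set.InjOn.ncard_image (fun x hx x' hx' e => S.eq_of_smul (S.line.leQ hx) (S.line.leQ hx') e),
      ← Nat.card_coe_set_eq, SetLike.coe_sort_coe, S.line.card, Nat.add_sub_cancel]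
  obtain ⟨d, hd, hdy⟩ := heq.symm ▸ hfix y hy hc
  exact S.eq_of_smul (S.line.leQ hd) hy hdy ▸ hd

include hp2

/-- THE AUTOMORPHISM: conjugation by `ψ` with the axioms of `GraphSigma` -/
theorem GraphPre.sigma : GraphSigma (A.subgroupOf Q) (S.conjAut hp) q := by
  obtain ⟨hle, ha, hb⟩ := S.pair_le h crit hp hpb
  refine ⟨fun d hd x => Subtype.ext (S.line.centQ d (mem_subgroupOf.1 hd) x x.2).eq, ?_, S.line.four,
    S.line.cardQ, fun x => mem_subgroupOf.2 (S.sq_mem h crit x.2), fun x hx => ?_, fun x => ?_, fun x => ?_,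
    fun d hd d' hd' hd1 hd1' => ?_⟩
  · rw [Nat.card_congr (subgroupOfEquivOfLe S.line.leQ).toEquiv, S.line.card]
  · refine mem_subgroupOf.2 ?_
    by_cases hx1 : (x : G) = 1
    · rw [hx1]; exact one_mem A
    · exact S.line.invA x x.2 (order_two_of_mul_self (congrArg Subtype.val hx) hx1)
  · refine Subtype.ext ?_
    rw [S.conjAut_coe, S.conjAut_coe, show psi * (psi * (x : G) * psi⁻¹) * psi⁻¹ =
      (psi * psi) * x * (psi * psi)⁻¹ by group, (S.commute_fixes (mul_mem hp hp) hp2 x.2).eq, mul_inv_cancel_right]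
  · rw [mem_subgroupOf, Subtype.ext_iff, S.conjAut_coe, mul_inv_eq_iff_eq_mul]
    exact ⟨fun e => S.subline h crit hp hpb hnt x.2 e, fun hx => (S.commute_A hp hx).eq.symm⟩
  · -- the torus of the subline
    obtain ⟨e, -, -, -, -, htr⟩ := line_of_clique h crit S.two (S.twoP.to_le hle) (mem_sup_left (mem_zpowers t))
      ha hb S.ne S.line.card S.line.four
      (fun d hd hd1 => ⟨(S.line.memA d hd hd1).1, (S.line.memA d hd hd1).2.2⟩)
      (fun d hd w hw => S.commute_A (hle hw) hd) S.maxClique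
    obtain ⟨g, hgW, hga, hgd⟩ := htr d (mem_subgroupOf.1 hd) d' (mem_subgroupOf.1 hd')
      (fun e => hd1 (Subtype.ext e)) (fun e => hd1' (Subtype.ext e))
    have hgt : Commute g t := commute_lineGen h (W := _) ⟨g, hgW⟩ t (mem_sup_left (mem_zpowers t))
    have hgp : Commute g psi := commute_lineGen h (W := _) ⟨g, hgW⟩ psi (mem_sup_right (mem_zpowers psi))
    have hgl : g ∈ localGen z t := by
      refine (closure_le (K := localGen z t)).2 (fun v hv => ?_) hgW
      exact mem_localGen_of hv.1 (hv.2 t (mem_sup_left (mem_zpowers t)))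
    have hga' : g⁻¹ • a = a := inv_smul_eq_iff.2 hga.symm
    have hgfix : ∀ p : α, t • p = p → t • g⁻¹ • p = g⁻¹ • p := fun p hp' => by
      rw [smul_smul, ← hgt.inv_left.eq, mul_smul, hp']
    have hex : ∀ x : Q, ∃ y : Q, ∀ p : α, t • p = p → (g * x * g⁻¹) • p = (y : G) • p := by
      intro x
      obtain ⟨y, hy, hye⟩ := act_as_Q h crit S.two S.line S.fixa S.fixb S.ne (w := g * x * g⁻¹)
        (mul_mem (mul_mem hgl (S.line.Qle x.2)) (inv_mem hgl))
        (by
          have h1 := ((S.line.twoQ.to_le (zpowers_le.2 x.2)).map (MulAut.conj g).toMonoidHom)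
          rwa [MonoidHom.map_zpowers] at h1)
        (by rw [mul_smul, mul_smul, hga', mem_stabilizer_iff.1 (S.line.Qfix x.2), hga])
      exact ⟨⟨y, hy⟩, hye⟩
    choose f hf using hex
    have hfeq : ∀ {x y : Q}, (∀ p : α, t • p = p → (g * x * g⁻¹) • p = (y : G) • p) → f x = y := fun {x y} hy =>
      Subtype.ext (S.eq_of_smul (f x).2 y.2 (by rw [← hf x b S.fixb, hy b S.fixb]))
    let F : Q →* Q := MonoidHom.mk' f fun x x' => hfeq fun p hp' => by
      rw [Subgroup.coe_mul, Subgroup.coe_mul, show g * ((x : G) * x') * g⁻¹ = (g * x * g⁻¹) * (g * x' * g⁻¹) by group,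
        mul_smul (g * x * g⁻¹), mul_smul (f x : G), hf x' p hp', hf x _ (S.smul_fix (S.leQ (f x').2) hp')]
    have hinj : Function.Injective F := (injective_iff_map_eq_one F).2 fun x hx => by
      refine Subtype.ext (S.eq_of_smul x.2 (one_mem Q) ?_)
      have hgb : t • g • b = g • b := by rw [smul_smul, ← hgt.eq, mul_smul, S.fixb]
      have h1 := hf x _ hgb
      rw [show f x = 1 from hx, OneMemClass.coe_one, one_smul, ← mul_smul,
        show g * (x : G) * g⁻¹ * g = g * x by group, mul_smul] at h1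
      rw [OneMemClass.coe_one, one_smul]
      exact smul_left_cancel g h1
    refine ⟨MulEquiv.ofBijective F (Finite.injective_iff_bijective.1 hinj), fun x => ?_, hfeq fun p hp' => ?_⟩
    · refine hfeq fun p hp' => ?_
      show (g * (psi * x * psi⁻¹) * g⁻¹) • p = (psi * (f x : G) * psi⁻¹) • p
      rw [show g * (psi * (x : G) * psi⁻¹) * g⁻¹ = (g * psi) * x * (g * psi)⁻¹ by group, hgp.eq,
        show psi * g * (x : G) * (psi * g)⁻¹ = psi * ((g * x * g⁻¹) * psi⁻¹) by group, mul_smul, mul_smul,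
        hf x _ (S.smul_fix (inv_mem hp) hp'), mul_smul, mul_smul]
    · have e1 : f d = d' := Subtype.ext (S.eq_of_smul (f d).2 d'.2 (by
        rw [← hf d b S.fixb]
        exact hgd b hb))
      rw [hf d p hp', e1]

/-- (S1) in `G` -/
theorem GraphPre.flip {x : G} (hx : x ∈ Q) (hA : x * (psi * x * psi⁻¹) ∈ A) : psi * x * psi⁻¹ = x⁻¹ :=
  congrArg Subtype.val ((S.sigma h crit hp hpb hnt hp2).flip (x := ⟨x, hx⟩) (mem_subgroupOf.2 hA))

/-- (S2) in `G` -/
theorem GraphPre.exists_inverted {d : G} (hd : d ∈ A) :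
    ∃ y ∈ Q, psi * y * psi⁻¹ = y⁻¹ ∧ y * y = d := by
  obtain ⟨y, hy, hyd⟩ := (S.sigma h crit hp hpb hnt hp2).inverted_onto
    (a := ⟨d, S.line.leQ hd⟩) (mem_subgroupOf.2 hd)
  exact ⟨y, y.2, congrArg Subtype.val hy, congrArg Subtype.val hyd⟩

/-- an element fixing `b` whose conjugation commutes with that of `ψ` lies in `⟨t, ψ⟩` -/
theorem GraphPre.same_out {c : G} (hc : c ∈ P) (hcb : c • b = b)
    (hcomm : ∀ y ∈ Q, psi * (c * y * c⁻¹) * psi⁻¹ = c * (psi * y * psi⁻¹) * c⁻¹) :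
    FixesLine α t c ∨ FixesLine α t (psi⁻¹ * c) := by
  have hs := S.sigma h crit hp hpb hnt hp2
  have hχA : ∀ d ∈ A.subgroupOf Q, S.conjAut hc d = d := fun d hd => Subtype.ext (by
    rw [S.conjAut_coe, ← (S.commute_A hc (mem_subgroupOf.1 hd)).eq, mul_inv_cancel_right])
  have hχ : ∀ x, S.conjAut hc (S.conjAut hp x) = S.conjAut hp (S.conjAut hc x) := fun x =>
    Subtype.ext (hcomm x x.2).symm
  have key : ∀ {c₁ : G} (hc₁ : c₁ ∈ P), c₁ • b = b →
      (∀ x, S.conjAut hc₁ (S.conjAut hp x) = S.conjAut hp (S.conjAut hc₁ x)) →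
      (∀ x, x⁻¹ * S.conjAut hc₁ x ∈ A.subgroupOf Q) → FixesLine α t c₁ := by
    intro c₁ hc₁ hc₁b hχ₁ htriv
    have hχ₁A : ∀ d ∈ A.subgroupOf Q, S.conjAut hc₁ d = d := fun d hd => Subtype.ext (by
      rw [S.conjAut_coe, ← (S.commute_A hc₁ (mem_subgroupOf.1 hd)).eq, mul_inv_cancel_right])
    obtain ⟨hinv, hfixed⟩ := hs.aut_trivial hχ₁A hχ₁ htriv
    by_contra hn
    have hsq : FixesLine α t (c₁ * c₁) := by
      refine S.fixes_of_centralises (mul_mem hc₁ hc₁) (by rw [mul_smul, hc₁b, hc₁b]) fun y hy => ?_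
      have e : c₁ * (c₁ * y * c₁⁻¹) * c₁⁻¹ = y := congrArg Subtype.val (hinv ⟨y, hy⟩)
      rw [show c₁ * (c₁ * y * c₁⁻¹) * c₁⁻¹ = c₁ * c₁ * y * (c₁ * c₁)⁻¹ by group,
        mul_inv_eq_iff_eq_mul] at e
      exact e
    obtain ⟨d, hd, hd1⟩ : ∃ d ∈ A, d ≠ 1 := by
      refine A.bot_or_exists_ne_one.resolve_left fun e => ?_
      have h1 := S.line.card
      rw [e, card_bot] at h1
      have := S.line.four
      omega
    obtain ⟨y, hy, hyd⟩ := hs.inverted_onto (a := ⟨d, S.line.leQ hd⟩) (mem_subgroupOf.2 hd)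
    have e := congrArg Subtype.val (hfixed y hy)
    rw [S.conjAut_coe, mul_inv_eq_iff_eq_mul] at e
    have hyA := S.subline h crit hc₁ hc₁b hn y.2 e
    exact hd1 ((congrArg Subtype.val hyd).symm.trans (S.line.elem y hyA))
  rcases hs.aut_cases hχA hχ with htriv | htriv
  · exact Or.inl (key hc hcb hχ htriv)
  · refine Or.inr (key (mul_mem (inv_mem hp) hc) (by rw [mul_smul, hcb, inv_smul_eq_iff, hpb]) (fun x => ?_) fun x => ?_)
    · have e1 : ∀ y : Q, S.conjAut (mul_mem (inv_mem hp) hc) y = (S.conjAut hp).symm (S.conjAut hc y) := fun y =>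
        Subtype.ext (by
          show psi⁻¹ * c * (y : G) * (psi⁻¹ * c)⁻¹ = psi⁻¹ * (c * y * c⁻¹) * psi
          group)
      rw [e1, e1, hχ, MulEquiv.symm_apply_apply, MulEquiv.apply_symm_apply]
    · have e2 : S.conjAut hp (S.conjAut (mul_mem (inv_mem hp) hc) x) = S.conjAut hc x := Subtype.ext (by
        show psi * (psi⁻¹ * c * (x : G) * (psi⁻¹ * c)⁻¹) * psi⁻¹ = c * x * c⁻¹
        group)
      have e3 : S.conjAut hp ((S.conjAut hp x)⁻¹ * S.conjAut hc x) = (S.conjAut hp x)⁻¹ * S.conjAut hc x :=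
        hs.sigma_A (htriv x)
      rw [map_mul, map_inv, hs.invol, ← e2, hs.invol] at e3
      rw [e3, e2]
      exact htriv x

end Psi

/-- an involution of `P` off `A × ⟨t⟩` is conjugate under `Q` to an involution fixing `b` -/
theorem GraphPre.outer_conj {g : G} (hg : g ∈ P) (hg2 : g * g = 1) (hgA : ∀ d ∈ A, ¬ FixesLine α t (d * g)) :
    ∃ c ∈ P, c • b = b ∧ c * c = 1 ∧ ¬ FixesLine α t c ∧ ∃ k ∈ Q, k * c * k⁻¹ = g := by
  obtain ⟨x, hx, c, hc, hcb, rfl⟩ := S.decomp hg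
  have hxx : x * (c * x * c⁻¹) ∈ Q := mul_mem hx (S.conj_mem_Q hc hx)
  obtain ⟨h1, h2⟩ := S.decomp_eq hxx (one_mem Q) (c := c * c) (c' := 1) (by rw [mul_smul, hcb, hcb])
    (one_smul G b) (by rw [one_mul, ← hg2]; group)
  have hnt : ¬ FixesLine α t c := fun hct => by
    rw [(S.commute_fixes hc hct hx).eq, mul_inv_cancel_right] at h1
    have hxA : x ∈ A := by
      by_cases hx1 : x = 1
      · rw [hx1]; exact one_mem A
      · exact S.line.invA x hx (order_two_of_mul_self h1 hx1)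
    refine hgA x⁻¹ (inv_mem hxA) ?_
    rwa [inv_mul_cancel_left]
  refine ⟨c, hc, hcb, h2, hnt, ?_⟩
  have hcc : FixesLine α t (c * c) := fun p _ => by rw [h2, one_smul]
  have hs := S.sigma h crit hc hcb hnt hcc
  have hflip := S.flip h crit hc hcb hnt hcc hx (by rw [h1]; exact one_mem A)
  obtain ⟨w, e, he, hwe⟩ := hs.card_core.2 ⟨x, hx⟩ (hs.core_iff.2 (Subtype.ext hflip))
  obtain ⟨y, hy, hyy⟩ := hs.inverted_onto he
  have hxe : x = (w : G)⁻¹ * (c * w * c⁻¹) * e := congrArg Subtype.val hwe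
  have hyy' : (y : G) * y = e := congrArg Subtype.val hyy
  have hy' : c * (y : G) * c⁻¹ = (y : G)⁻¹ := congrArg Subtype.val hy
  refine ⟨y * (w : G)⁻¹, mul_mem y.2 (inv_mem w.2), ?_⟩
  have hcore : Commute (y : G) ((w : G)⁻¹ * (c * w * c⁻¹)) :=
    congrArg Subtype.val (hs.core_comm (hs.core_iff.2 hy) (hs.twist_mem w)).eq
  have hcy : c * (y : G)⁻¹ = y * c := by
    rw [← hy', show c * (c * (y : G) * c⁻¹) = c * c * y * c⁻¹ by group, h2, one_mul,
      inv_eq_of_mul_eq_one_right h2]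
  calc (y : G) * (w : G)⁻¹ * c * (y * (w : G)⁻¹)⁻¹
      = (y * ((w : G)⁻¹ * (c * w * c⁻¹))) * (c * (y : G)⁻¹) := by group
    _ = (((w : G)⁻¹ * (c * w * c⁻¹)) * y) * (y * c) := by rw [hcore.eq, hcy]
    _ = (w : G)⁻¹ * (c * w * c⁻¹) * (y * y) * c := by group
    _ = x * c := by rw [hyy', ← hxe]

/-- an element normalising `P` and `A` maps `Q` into `Q` times the involutions fixing the line -/
theorem GraphPre.map_line {g : G} (hgP : g ∈ normalizer (P : Set G)) (hgA : ∀ d ∈ A, g * d * g⁻¹ ∈ A)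
    {x : G} (hx : x ∈ Q) :
    ∃ x' ∈ Q, ∃ v ∈ P, FixesLine α t v ∧ v • b = b ∧ v * v = 1 ∧ g * x * g⁻¹ = x' * v := by
  classical
  -- the components
  have hex : ∀ y : Q, ∃ p : G × G, p.1 ∈ Q ∧ p.2 ∈ P ∧ p.2 • b = b ∧ p.2 * p.2 = 1 ∧
      g * y * g⁻¹ = p.1 * p.2 := by
    intro y
    obtain ⟨y', hy', v, hv, hvb, e⟩ := S.decomp ((mem_normalizer_iff.1 hgP (y : G)).1 (S.leQ y.2))
    refine ⟨(y', v), hy', hv, hvb, ?_, e⟩
    have hA := S.sq_mem h crit y.2
    exact (S.decomp_eq (mul_mem hy' (S.conj_mem_Q hv hy')) (S.line.leQ (hgA _ hA)) (c := v * v) (c' := 1)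
      (by rw [mul_smul, hvb, hvb]) (one_smul G b) (by
        calc y' * (v * y' * v⁻¹) * (v * v) = (y' * v) * (y' * v) := by group
          _ = g * ((y : G) * y) * g⁻¹ := by rw [← e]; group
          _ = g * ((y : G) * y) * g⁻¹ * 1 := (mul_one _).symm)).2
  choose p hp1 hp2 hpb hpsq hpe using hex
  set x₀ : Q := ⟨x, hx⟩
  by_cases hv : FixesLine α t (p x₀).2
  · exact ⟨_, hp1 x₀, _, hp2 x₀, hv, hpb x₀, hpsq x₀, hpe x₀⟩
  exfalso
  have hs := S.sigma h crit (hp2 x₀) (hpb x₀) hv (fun w _ => by rw [hpsq, one_smul])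
  set σ := S.conjAut (hp2 x₀) with hσ
  let F : Q → Q := fun y => ⟨(p y).1, hp1 y⟩
  have hinj : Function.Injective F := by
    intro y y' e
    have e' : (p y).1 = (p y').1 := congrArg Subtype.val e
    have e2 : g * ((y : G)⁻¹ * y') * g⁻¹ = (p y).2⁻¹ * (p y').2 := by
      calc g * ((y : G)⁻¹ * y') * g⁻¹ = (g * y * g⁻¹)⁻¹ * (g * y' * g⁻¹) := by group
        _ = _ := by rw [hpe, hpe, e']; group
    set w := (y : G)⁻¹ * y'
    have hwA : w * w ∈ A := S.sq_mem h crit (mul_mem (inv_mem y.2) y'.2)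
    have hone : ∀ {d : G}, d ∈ A → (g * d * g⁻¹) • b = b → d = 1 := fun {d} hd e => by
      have h1 := S.eq_of_smul (S.line.leQ (hgA _ hd)) (one_mem Q) (by rw [one_smul, e])
      rwa [conj_eq_one_iff] at h1
    have hw2 : w * w = 1 := hone hwA (by
      rw [show g * (w * w) * g⁻¹ = (g * w * g⁻¹) * (g * w * g⁻¹) by group, e2,
        mul_smul, mul_smul, mul_smul, hpb, inv_smul_eq_iff.2 (hpb y).symm, hpb, inv_smul_eq_iff.2 (hpb y).symm])
    have hw : w ∈ A := by
      by_cases hw1 : w = 1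
      · rw [hw1]; exact one_mem A
      · exact S.line.invA w (mul_mem (inv_mem y.2) y'.2) (order_two_of_mul_self hw2 hw1)
    have : w = 1 := hone hw (by rw [e2, mul_smul, hpb, inv_smul_eq_iff.2 (hpb y).symm])
    exact Subtype.ext (inv_mul_eq_one.1 this)
  have hsurj : Function.Surjective F := (Finite.injective_iff_bijective.1 hinj).2
  have hval : ∀ y : Q, GraphSigma.tsq σ y = 1 ∨ GraphSigma.tsq σ y = GraphSigma.tsq σ (F x₀) := by
    intro y₁
    obtain ⟨y, rfl⟩ := hsurj y₁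
    -- commutators lie in the clique
    have hcA : g * (x * y * x⁻¹ * (y : G)⁻¹) * g⁻¹ ∈ A := hgA _ (mem_subgroupOf.1 (hs.comm_mem x₀ y))
    set c : Q := ⟨_, S.line.leQ hcA⟩ with hcdef
    have hc : c ∈ A.subgroupOf Q := mem_subgroupOf.2 hcA
    have key : (p x₀).1 * ((p x₀).2 * (p y).1 * (p x₀).2⁻¹) * ((p x₀).2 * (p y).2) =
        (c : G) * (p y).1 * ((p y).2 * (p x₀).1 * (p y).2⁻¹) * ((p y).2 * (p x₀).2) := by
      calc _ = (g * x * g⁻¹) * (g * y * g⁻¹) := by rw [hpe x₀, hpe y]; group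
        _ = g * (x * y * x⁻¹ * (y : G)⁻¹) * g⁻¹ * ((g * y * g⁻¹) * (g * x * g⁻¹)) := by group
        _ = _ := by rw [show g * (x * y * x⁻¹ * (y : G)⁻¹) * g⁻¹ = (c : G) from rfl, hpe x₀, hpe y]; group
    obtain ⟨e1, e2⟩ := S.decomp_eq (mul_mem (hp1 x₀) (S.conj_mem_Q (hp2 x₀) (hp1 y)))
      (mul_mem (mul_mem c.2 (hp1 y)) (S.conj_mem_Q (hp2 y) (hp1 x₀))) (by rw [mul_smul, hpb, hpb])
      (by rw [mul_smul, hpb, hpb]) key
    have h1 : F x₀ * σ (F y) = c * F y * S.conjAut (hp2 y) (F x₀) := Subtype.ext e1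
    have hτ : (∀ w : Q, S.conjAut (hp2 y) w = w) ∨ ∀ w : Q, S.conjAut (hp2 y) w = σ w := by
      rcases S.same_out h crit (hp2 x₀) (hpb x₀) hv (fun w _ => by rw [hpsq, one_smul]) (hp2 y) (hpb y) (fun w _ => by
          rw [show (p x₀).2 * ((p y).2 * w * (p y).2⁻¹) * (p x₀).2⁻¹ =
            ((p x₀).2 * (p y).2) * w * ((p x₀).2 * (p y).2)⁻¹ by group, e2]
          group) with hk | hk
      · exact Or.inl fun w => Subtype.ext (by
          rw [S.conjAut_coe, (S.commute_fixes (hp2 y) hk w.2).eq, mul_inv_cancel_right])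
      · refine Or.inr fun w => Subtype.ext ?_
        rw [hσ, S.conjAut_coe, S.conjAut_coe]
        conv_lhs => rw [show (p y).2 = (p x₀).2 * ((p x₀).2⁻¹ * (p y).2) by group]
        rw [show ∀ k : G, (p x₀).2 * k * w * ((p x₀).2 * k)⁻¹ = (p x₀).2 * (k * w * k⁻¹) * (p x₀).2⁻¹ from
          fun k => by group, (S.commute_fixes (mul_mem (inv_mem (hp2 x₀)) (hp2 y)) hk w.2).eq, mul_inv_cancel_right]
    have h2 : (F y)⁻¹ * σ (F y) =
        (c * ((F y)⁻¹ * (F x₀)⁻¹ * (F y)⁻¹⁻¹ * (F x₀)⁻¹⁻¹)) * ((F x₀)⁻¹ * S.conjAut (hp2 y) (F x₀)) := by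
      calc (F y)⁻¹ * σ (F y) = (F y)⁻¹ * (F x₀)⁻¹ * (F x₀ * σ (F y)) := by group
        _ = ((F y)⁻¹ * (F x₀)⁻¹) * c * F y * S.conjAut (hp2 y) (F x₀) := by rw [h1]; group
        _ = c * ((F y)⁻¹ * (F x₀)⁻¹) * F y * S.conjAut (hp2 y) (F x₀) := by rw [(hs.centA c hc _).eq]
        _ = _ := by group
    have hd : c * ((F y)⁻¹ * (F x₀)⁻¹ * (F y)⁻¹⁻¹ * (F x₀)⁻¹⁻¹) ∈ A.subgroupOf Q :=
      mul_mem hc (hs.comm_mem _ _)
    rcases hτ with hτ | hτ
    · refine Or.inl ?_
      rw [GraphSigma.tsq, h2, hτ, inv_mul_cancel, mul_one]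
      exact hs.sq_A hd
    · refine Or.inr ?_
      rw [GraphSigma.tsq, GraphSigma.tsq, h2, hτ, (hs.centA _ hd _).eq, hs.sq_coset hd]
  have hsub : ((A.subgroupOf Q : Subgroup Q) : Set Q) ⊆ {1, GraphSigma.tsq σ (F x₀)} := by
    intro d hd
    obtain ⟨y, hy⟩ := hs.exists_tsq hd
    rcases hval y with e | e
    · exact Or.inl (hy.symm.trans e)
    · exact Or.inr (hy.symm.trans e)
  have h2 := Set.ncard_le_ncard hsub (Set.toFinite _)
  rw [← Nat.card_coe_set_eq, SetLike.coe_sort_coe, hs.cardA] at h2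
  have h3 := (Set.ncard_insert_le (1 : Q) {GraphSigma.tsq σ (F x₀)}).trans_eq
    (by rw [Set.ncard_singleton])
  have := S.line.four
  omega

end Pre

/-! the forms under the kernel hypothesis -/

theorem GraphSylow.smul_fix (S : GraphSylow z t a b A Q X q P) {g : G} (hg : g ∈ P) {p : α} (hp : t • p = p) :
    t • g • p = g • p := S.pre.smul_fix hg hp

theorem GraphSylow.smul_fix_Q (S : GraphSylow z t a b A Q X q P) {x : G} (hx : x ∈ Q) : t • x • b = x • b :=
  S.pre.smul_fix_Q hx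

theorem GraphSylow.ne_a (S : GraphSylow z t a b A Q X q P) {g : G} (hg : g ∈ P) : g • b ≠ a := S.pre.ne_a hg

theorem GraphSylow.eq_of_smul (S : GraphSylow z t a b A Q X q P) {x y : G} (hx : x ∈ Q) (hy : y ∈ Q)
    (e : x • b = y • b) : x = y := S.pre.eq_of_smul hx hy e

theorem GraphSylow.decomp (S : GraphSylow z t a b A Q X q P) {g : G} (hg : g ∈ P) :
    ∃ x ∈ Q, ∃ c ∈ P, c • b = b ∧ g = x * c := S.pre.decomp hg

theorem GraphSylow.decomp_eq (S : GraphSylow z t a b A Q X q P) {x x' c c' : G} (hx : x ∈ Q) (hx' : x' ∈ Q)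
    (hc : c • b = b) (hc' : c' • b = b) (e : x * c = x' * c') : x = x' ∧ c = c' :=
  S.pre.decomp_eq hx hx' hc hc' e

theorem GraphSylow.commute_zpowers (S : GraphSylow z t a b A Q X q P) {g v : G} (hg : g ∈ P) (hv : v ∈ zpowers t) :
    Commute g v := S.pre.commute_zpowers hg hv

/-- under the kernel hypothesis only `⟨t⟩` fixes the line -/
theorem GraphSylow.mem_of_fixes (S : GraphSylow z t a b A Q X q P) {g : G} (hg : g ∈ P)
    (hgf : FixesLine α t g) : g ∈ zpowers t :=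
  S.hker g (S.twoP.to_le (zpowers_le.2 hg)) (S.commute_t hg) hgf fun d hd => (S.commute_A hg hd).symm

theorem fixes_of_mem {t g : G} (hg : g ∈ zpowers t) : FixesLine α t g := fun p hp =>
  mem_stabilizer_iff.1 ((zpowers_le.2 (mem_stabilizer_iff.2 hp) : zpowers t ≤ stabilizer G p) hg)

/-- an element fixing `b` and centralising `Q` lies in the kernel -/
theorem GraphSylow.mem_kernel (S : GraphSylow z t a b A Q X q P) {g : G} (hg : g ∈ P) (hgb : g • b = b)
    (hgQ : ∀ y ∈ Q, Commute g y) : g ∈ zpowers t :=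
  S.mem_of_fixes hg (S.pre.fixes_of_centralises hg hgb hgQ)

/-- conjugation on `Q` -/
abbrev GraphSylow.conjAut (S : GraphSylow z t a b A Q X q P) {g : G} (hg : g ∈ P) : MulAut Q := S.pre.conjAut hg

theorem GraphSylow.conjAut_coe (S : GraphSylow z t a b A Q X q P) {g : G} (hg : g ∈ P) (y : Q) :
    (S.conjAut hg y : G) = g * y * g⁻¹ := rfl

variable (h : Crit G α z) (crit : CriterionBelow.{u} (Nat.card G)) (S : GraphSylow z t a b A Q X q P)
include h crit S

/-- squares lie in the clique -/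
theorem GraphSylow.sq_mem {x : G} (hx : x ∈ Q) : x * x ∈ A := S.pre.sq_mem h crit hx

section Psi

variable {psi : G} (hp : psi ∈ P) (hpb : psi • b = b) (hnt : psi ∉ zpowers t) (hp2 : psi * psi ∈ zpowers t)
include hp hpb hnt

/-- THE SUBLINE: `⟨t, ψ⟩` fixes exactly `q + 1` points -/
theorem GraphSylow.card_subline : Nat.card (fixSet α (zpowers t ⊔ zpowers psi : Subgroup G)) = q + 1 :=
  S.pre.card_subline h crit hp hpb fun e => hnt (S.mem_of_fixes hp e)

/-- THE SUBLINE: only the clique is centralised -/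
theorem GraphSylow.subline {y : G} (hy : y ∈ Q) (hc : Commute psi y) : y ∈ A :=
  S.pre.subline h crit hp hpb (fun e => hnt (S.mem_of_fixes hp e)) hy hc

include hp2

/-- THE AUTOMORPHISM: conjugation by `ψ` with the axioms of `GraphSigma` -/
theorem GraphSylow.sigma : GraphSigma (A.subgroupOf Q) (S.conjAut hp) q :=
  S.pre.sigma h crit hp hpb (fun e => hnt (S.mem_of_fixes hp e)) (fixes_of_mem hp2)

/-- (S1) in `G` -/
theorem GraphSylow.flip {x : G} (hx : x ∈ Q) (hA : x * (psi * x * psi⁻¹) ∈ A) : psi * x * psi⁻¹ = x⁻¹ :=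
  S.pre.flip h crit hp hpb (fun e => hnt (S.mem_of_fixes hp e)) (fixes_of_mem hp2) hx hA

/-- (S2) in `G` -/
theorem GraphSylow.exists_inverted {d : G} (hd : d ∈ A) :
    ∃ y ∈ Q, psi * y * psi⁻¹ = y⁻¹ ∧ y * y = d :=
  S.pre.exists_inverted h crit hp hpb (fun e => hnt (S.mem_of_fixes hp e)) (fixes_of_mem hp2) hd

/-- an element fixing `b` whose conjugation commutes with that of `ψ` lies in `⟨t, ψ⟩` -/
theorem GraphSylow.same_out {c : G} (hc : c ∈ P) (hcb : c • b = b)
    (hcomm : ∀ y ∈ Q, psi * (c * y * c⁻¹) * psi⁻¹ = c * (psi * y * psi⁻¹) * c⁻¹) :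
    c ∈ zpowers t ∨ psi⁻¹ * c ∈ zpowers t :=
  (S.pre.same_out h crit hp hpb (fun e => hnt (S.mem_of_fixes hp e)) (fixes_of_mem hp2) hc hcb hcomm).imp
    (S.mem_of_fixes hc) (S.mem_of_fixes (mul_mem (inv_mem hp) hc))

end Psi

/-- an involution of `P` off `A × ⟨t⟩` is conjugate under `Q` to an involution fixing `b` -/
theorem GraphSylow.outer_conj {g : G} (hg : g ∈ P) (hg2 : g * g = 1) (hgA : g ∉ A ⊔ zpowers t) :
    ∃ c ∈ P, c • b = b ∧ c * c = 1 ∧ c ∉ zpowers t ∧ ∃ k ∈ Q, k * c * k⁻¹ = g := by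
  obtain ⟨c, hc, hcb, hc2, hcn, hk⟩ := S.pre.outer_conj h crit hg hg2 fun d hd hf => hgA (by
    have hm := S.mem_of_fixes (mul_mem (S.leQ (S.line.leQ hd)) hg) hf
    rw [← inv_mul_cancel_left d g]
    exact mul_mem_sup (inv_mem hd) hm)
  exact ⟨c, hc, hcb, hc2, fun e => hcn (fixes_of_mem e), hk⟩

end Cfsg.Lib.BenderSE.Crit2
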