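/-
Aschbacher's criterion, graph involutions (notes/s1175_h7_graph2.md), TRIALITY: two commuting involutions and their
product cannot all have lines of unitary type with the same clique through the same two points.
-/
import Cfsg.Agent.BenderSE.Criterion2.GraphPackage
import Cfsg.Agent.BenderSE.Dependents.CriterionGeneral

set_option autoImplicit false
set_option linter.unusedSectionVars false
set_option linter.style.haveILetI false

namespace Cfsg.Lib.BenderSE.Crit2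

open Subgroup MulAction Cfsg.Lib.InvolCalc Cfsg.Lib.StrongEmb Cfsg.Lib.BenderSE.CritDep

universe u

section Group

variable {G : Type u} [Group G] [Finite G]

/-- a 2-group normalising `K` normalises a Sylow 2-subgroup of `K` through its part in `K` -/
theorem exists_sylow_normalised {H K : Subgroup G} (hH : IsPGroup 2 H) (hHK : H ≤ normalizer (K : Set G)) :
    ∃ P : Subgroup G, IsPGroup 2 P ∧ P ≤ K ∧ H ⊓ K ≤ P ∧ H ≤ normalizer (P : Set G) ∧
      ∀ R : Subgroup G, IsPGroup 2 R → R ≤ K → P ≤ R → R = P := by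
  haveI : Fact (Nat.Prime 2) := ⟨Nat.prime_two⟩
  set L := K ⊔ H with hL
  have hLK : L ≤ normalizer (K : Set G) := sup_le le_normalizer hHK
  haveI : (K.subgroupOf L).Normal := (normal_subgroupOf_iff_le_normalizer le_sup_left).2 hLK
  obtain ⟨R, hR⟩ := (hH.of_equiv (subgroupOfEquivOfLe (le_sup_right : H ≤ L)).symm).exists_le_sylow
  obtain ⟨T, hT⟩ := exists_sylow_inf R (K.subgroupOf L) (by rw [normalizer_eq_top]; exact le_top)
  set R' := (R : Subgroup L).map L.subtype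
  have hHR : H ≤ R' := fun x hx => ⟨⟨x, (le_sup_right : H ≤ L) hx⟩, hR (mem_subgroupOf.2 hx), rfl⟩
  refine ⟨R' ⊓ K, (R.isPGroup'.map _).to_le inf_le_left, inf_le_right, inf_le_inf_right K hHR,
    fun x hx => ?_, fun S hS hSK hle => le_antisymm (fun s hs => ?_) hle⟩
  · refine mem_normalizer_of_maps fun p hp => ?_
    obtain ⟨hp1, hp2⟩ := mem_inf.1 hp
    exact mem_inf.2 ⟨mul_mem (mul_mem (hHR hx) hp1) (inv_mem (hHR hx)),
      (mem_normalizer_iff.1 (hHK hx) p).1 hp2⟩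
  · have hSL : S ≤ L := hSK.trans le_sup_left
    have hS2 : IsPGroup 2 ((S.subgroupOf L).subgroupOf (K.subgroupOf L)) := hS.comap_subtype.comap_subtype
    have h1 := T.3 hS2 fun p hp => by
      rw [hT] at hp
      exact mem_subgroupOf.2 (mem_subgroupOf.2 (hle (mem_inf.2 ⟨⟨p.1, mem_subgroupOf.1 hp, rfl⟩,
        mem_subgroupOf.1 p.2⟩)))
    have h2 : (⟨⟨s, hSL hs⟩, mem_subgroupOf.2 (hSK hs)⟩ : K.subgroupOf L) ∈ (T : Subgroup (K.subgroupOf L)) := by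
      rw [← h1]
      exact mem_subgroupOf.2 (mem_subgroupOf.2 hs)
    rw [hT] at h2
    exact mem_inf.2 ⟨⟨⟨s, hSL hs⟩, mem_subgroupOf.1 h2, rfl⟩, hSK hs⟩

end Group

variable {G α : Type u} [Group G] [Finite G] [MulAction G α] [Finite α] [FaithfulSMul G α] {z t : G} {a b : α}
  {A Q X P : Subgroup G} {q : ℕ} (h : Crit G α z) (crit : CriterionBelow.{u} (Nat.card G))
  (S : GraphSylow z t a b A Q X q P)
include h crit S

/-- an element normalising `P` and centralising `A` maps `Q` into `Q × ⟨t⟩` -/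
theorem GraphSylow.map_line {g : G} (hgP : g ∈ normalizer (P : Set G)) (hgA : ∀ d ∈ A, Commute d g)
    {x : G} (hx : x ∈ Q) : ∃ x' ∈ Q, ∃ v ∈ zpowers t, g * x * g⁻¹ = x' * v := by
  obtain ⟨x', hx', v, hv, hvf, -, -, e⟩ := S.pre.map_line h crit hgP
    (fun d hd => by rwa [← (hgA d hd).eq, mul_inv_cancel_right]) hx
  exact ⟨x', hx', v, S.mem_of_fixes hv hvf, e⟩

/-- the automorphisms of `Q` from a translation of `t`: it fixes or inverts all inverted elements -/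
theorem GraphSylow.translation_cases {f g s : G} (hf : f ∈ P) (hfb : f • b = b) (hfn : f ∉ zpowers t)
    (hf2 : f * f = 1) (hgP : g ∈ normalizer (P : Set G)) (hgA : ∀ d ∈ A, Commute d g) (hgf : Commute g f)
    (hgg : g * g = s) (hs1 : s ≠ 1) (hgt : t * g * t = g⁻¹) (hsA : s ∈ A) :
    (∀ x ∈ Q, f * x * f⁻¹ = x⁻¹ → g * x * g⁻¹ = x) ∨
      (∀ x ∈ Q, f * x * f⁻¹ = x⁻¹ → g * x * g⁻¹ = x⁻¹) := by
  classical
  have hf2' : f * f ∈ zpowers t := by rw [hf2]; exact one_mem _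
  have hs := S.sigma h crit hf hfb hfn hf2'
  have hvb : ∀ {v : G}, v ∈ zpowers t → v • b = b := fun {v} hv =>
    mem_stabilizer_iff.1 ((zpowers_le.2 (mem_stabilizer_iff.2 S.fixb) : zpowers t ≤ stabilizer G b) hv)
  have hex : ∀ y : Q, ∃ p : Q × G, p.2 ∈ zpowers t ∧ g * y * g⁻¹ = p.1 * p.2 := fun y => by
    obtain ⟨y', hy', v, hv, e⟩ := S.map_line h crit hgP hgA y.2
    exact ⟨(⟨y', hy'⟩, v), hv, e⟩
  choose p hpv hpe using hex
  have huniq : ∀ (y y' : Q) {v : G}, v ∈ zpowers t → g * y * g⁻¹ = y' * v → (p y).1 = y' := fun y y' v hv e =>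
    Subtype.ext (S.decomp_eq (p y).1.2 y'.2 (hvb (hpv y)) (hvb hv) ((hpe y).symm.trans e)).1
  let F : Q →* Q := MonoidHom.mk' (fun y => (p y).1) fun y y' => huniq _ _ (mul_mem (hpv y) (hpv y')) (by
    rw [Subgroup.coe_mul, Subgroup.coe_mul]
    calc g * ((y : G) * y') * g⁻¹ = (g * y * g⁻¹) * (g * y' * g⁻¹) := by group
      _ = (p y).1 * ((p y).2 * (p y').1) * (p y').2 := by rw [hpe y, hpe y']; group
      _ = _ := by rw [← (S.commute_zpowers (S.leQ (p y').1.2) (hpv y)).eq]; group)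
  have hinj : Function.Injective F := (injective_iff_map_eq_one F).2 fun y hy => by
    have e := hpe y
    rw [show (p y).1 = 1 from hy, OneMemClass.coe_one, one_mul] at e
    have hyy : y * y = 1 := Subtype.ext (by
      show (y : G) * y = 1
      have hA := S.sq_mem h crit y.2
      refine S.eq_of_smul (S.line.leQ hA) (one_mem Q) ?_
      rw [one_smul]
      have e' : g * ((y : G) * y) * g⁻¹ = (p y).2 * (p y).2 := by rw [← e]; group
      rw [← (hgA _ hA).eq, mul_inv_cancel_right] at e'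
      rw [e']
      exact hvb (mul_mem (hpv y) (hpv y)))
    have hyA : (y : G) ∈ A := mem_subgroupOf.1 (hs.invA y hyy)
    rw [← (hgA _ hyA).eq, mul_inv_cancel_right] at e
    exact Subtype.ext (S.eq_of_smul y.2 (one_mem Q) (by rw [OneMemClass.coe_one, one_smul, e, hvb (hpv y)]))
  let χ : MulAut Q := MulEquiv.ofBijective F (Finite.injective_iff_bijective.1 hinj)
  have hχ : ∀ y, χ y = (p y).1 := fun y => rfl
  have hχA : ∀ d ∈ A.subgroupOf Q, χ d = d := fun d hd => huniq _ _ (one_mem _) (by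
    rw [← (hgA _ (mem_subgroupOf.1 hd)).eq, mul_inv_cancel_right, mul_one])
  have hχc : ∀ y, χ (S.conjAut hf y) = S.conjAut hf (χ y) := fun y => huniq _ _ (hpv y) (by
    rw [S.conjAut_coe, hχ, S.conjAut_coe]
    calc g * (f * y * f⁻¹) * g⁻¹ = (g * f) * y * (g * f)⁻¹ := by group
      _ = f * (g * y * g⁻¹) * f⁻¹ := by rw [hgf.eq]; group
      _ = f * (p y).1 * ((p y).2 * f⁻¹) := by rw [hpe y]; group
      _ = _ := by rw [← (S.commute_zpowers (inv_mem hf) (hpv y)).eq]; group)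
  -- no component outside `Q` on inverted elements
  have hexact : ∀ y : Q, S.conjAut hf y = y⁻¹ → g * y * g⁻¹ = χ y := by
    intro y hy
    have hd := hs.aut_inverted hχA hχc hy
    rw [hχ, hpe y]
    rcases mem_zpowers_iff.1 (hpv y) with ⟨i, hi⟩
    suffices (p y).2 ≠ t by
      rcases Int.even_or_odd' i with ⟨m, rfl | rfl⟩
      · rw [← hi, zpow_mul, zpow_two, sq_of_order_two S.two, one_zpow, mul_one]
      · exact absurd (by rw [← hi, zpow_add, zpow_mul, zpow_two, sq_of_order_two S.two, one_zpow, one_mul,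
          zpow_one]) this
    intro hu
    obtain ⟨d, hdA, e⟩ : ∃ d ∈ A, (y : G)⁻¹ * (p y).1 = d := ⟨_, mem_subgroupOf.1 hd, rfl⟩
    have e1 : (y : G)⁻¹ * g * y = d * t * g := by
      calc (y : G)⁻¹ * g * y = (y : G)⁻¹ * (g * y * g⁻¹) * g := by group
        _ = _ := by rw [hpe y, hu, ← e]; group
    refine hs1 ?_
    have e3 : d * (t * g) = (t * g) * d :=
      ((commute_of_mem (S.line.Qle (S.line.leQ hdA))).mul_right (hgA d hdA)).eq
    calc s = (y : G)⁻¹ * (g * g) * y := by rw [hgg, mul_assoc, (S.line.centQ s hsA y y.2).eq, inv_mul_cancel_left]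
        _ = ((y : G)⁻¹ * g * y) * ((y : G)⁻¹ * g * y) := by group
        _ = (d * (t * g)) * (d * (t * g)) := by rw [e1]; group
        _ = d * (d * (t * g)) * (t * g) := by rw [mul_assoc d (t * g), ← mul_assoc (t * g) d, ← e3, ← mul_assoc]
        _ = (d * d) * ((t * g * t) * g) := by group
        _ = 1 := by rw [S.line.elem d hdA, hgt, inv_mul_cancel, one_mul]
  rcases hs.aut_cases hχA hχc with htriv | htriv
  · refine Or.inl fun x hx hxf => ?_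
    have hy : S.conjAut hf ⟨x, hx⟩ = (⟨x, hx⟩ : Q)⁻¹ := Subtype.ext hxf
    have e := (hs.aut_trivial hχA hχc htriv).2 _ hy
    exact (hexact _ hy).trans (congrArg Subtype.val e)
  · refine Or.inr fun x hx hxf => ?_
    have hy : S.conjAut hf ⟨x, hx⟩ = (⟨x, hx⟩ : Q)⁻¹ := Subtype.ext hxf
    have e := (hs.aut_trivial (χ := S.conjAut hf * χ)
      (fun d hd => by rw [MulAut.mul_apply, hχA d hd, hs.sigma_A hd])
      (fun y => by rw [MulAut.mul_apply, MulAut.mul_apply, hχc])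
      (fun y => by
        rw [MulAut.mul_apply]
        have e1 := hs.sigma_A (htriv y)
        rw [map_mul, map_inv, hs.invol] at e1
        rw [e1]
        exact htriv y)).2 _ hy
    rw [MulAut.mul_apply] at e
    have e2 : χ ⟨x, hx⟩ = (⟨x, hx⟩ : Q)⁻¹ := by rw [← hy, ← hs.invol (χ _), e]
    exact (hexact _ hy).trans (congrArg Subtype.val e2)

omit S

/-- TRIALITY -/
theorem graph_triality {u f : G} (hu : orderOf u = 2) (hf : orderOf f = 2) (huf : Commute u f) (hne : f ≠ u)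
    {a b : α} (hua : u • a = a) (hub : u • b = b) (hfa : f • a = a) (hfb : f • b = b) (hab : a ≠ b)
    {A Qu Xu Qf Xf Qv Xv : Subgroup G} {q : ℕ} (Lu : LineData z u a A Qu Xu q 3) (Lf : LineData z f a A Qf Xf q 3)
    (Lv : LineData z (u * f) a A Qv Xv q 3) (hmu : cliqueNum z u ≤ q) (hmf : cliqueNum z f ≤ q)
    (hmv : cliqueNum z (u * f) ≤ q)
    (hku : ∀ g : G, IsPGroup 2 (zpowers g) → Commute g u → (∀ p : α, u • p = p → g • p = p) →
      (∀ d ∈ A, Commute g d) → g ∈ zpowers u)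
    (hkf : ∀ g : G, IsPGroup 2 (zpowers g) → Commute g f → (∀ p : α, f • p = p → g • p = p) →
      (∀ d ∈ A, Commute g d) → g ∈ zpowers f)
    (hkv : ∀ g : G, IsPGroup 2 (zpowers g) → Commute g (u * f) → (∀ p : α, (u * f) • p = p → g • p = p) →
      (∀ d ∈ A, Commute g d) → g ∈ zpowers (u * f)) : False := by
  classical
  have hu2 := sq_of_order_two hu
  have hf2 := sq_of_order_two hf
  have hv2 : u * f * (u * f) = 1 := by rw [huf.symm.mul_mul_mul_comm, hu2, hf2, one_mul]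
  have hnot : ∀ {x y : G}, orderOf x = 2 → y * y = 1 → x ≠ y → x ∉ zpowers y := by
    intro x y hx hy hxy hm
    obtain ⟨i, hi⟩ := mem_zpowers_iff.1 hm
    rcases Int.even_or_odd' i with ⟨m, rfl | rfl⟩
    · rw [zpow_mul, zpow_two, hy, one_zpow] at hi
      exact ne_one_of_order_two hx hi.symm
    · rw [zpow_add, zpow_mul, zpow_two, hy, one_zpow, one_mul, zpow_one] at hi
      exact hxy hi.symm
  have hAu : ∀ d ∈ A, Commute d u := fun d hd => commute_of_mem (Lu.Qle (Lu.leQ hd))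
  have hAf : ∀ d ∈ A, Commute d f := fun d hd => commute_of_mem (Lf.Qle (Lf.leQ hd))
  set V := zpowers u ⊔ zpowers f
  have hV2 : IsPGroup 2 V := IsPGroup.to_sup_of_normal_left' (isPGroup_zpowers_of_two hu)
    (isPGroup_zpowers_of_two hf) (zpowers_le.2 (centralizer_le_normalizer _ (mem_centralizer_iff.2 fun x hx => by
      obtain ⟨i, rfl⟩ := mem_zpowers_iff.1 hx
      exact (huf.zpow_left i).eq)))
  have hVu : V ≤ cliqueCent a u A := sup_le
    (zpowers_le.2 (mem_cliqueCent.2 ⟨Commute.refl u, hAu, hua⟩))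
    (zpowers_le.2 (mem_cliqueCent.2 ⟨huf.symm, hAf, hfa⟩))
  have hVf : V ≤ cliqueCent a f A := sup_le
    (zpowers_le.2 (mem_cliqueCent.2 ⟨huf, hAu, hua⟩))
    (zpowers_le.2 (mem_cliqueCent.2 ⟨Commute.refl f, hAf, hfa⟩))
  -- the Sylow subgroup of the line of `f` and its translators of `u`
  obtain ⟨Q2, X2, P2, S2, hV2le⟩ := exists_graphSylow hf hfa hfb hab Lf hmf hkf hV2 hVf
  have huP2 : u ∈ P2 := hV2le (mem_sup_left (mem_zpowers u))
  let H : Subgroup G :=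
    { carrier := {g | g ∈ P2 ∧ ∃ d ∈ A, g * u * g⁻¹ = d * u}
      one_mem' := ⟨one_mem _, 1, one_mem A, by group⟩
      mul_mem' := by
        rintro g g' ⟨hg, d, hd, e⟩ ⟨hg', d', hd', e'⟩
        refine ⟨mul_mem hg hg', d' * d, mul_mem hd' hd, ?_⟩
        rw [show g * g' * u * (g * g')⁻¹ = g * (g' * u * g'⁻¹) * g⁻¹ by group, e', ← mul_assoc,
          ← (S2.commute_A hg hd').eq, mul_assoc d', mul_assoc d', e, ← mul_assoc]
      inv_mem' := by
        rintro g ⟨hg, d, hd, e⟩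
        refine ⟨inv_mem hg, d⁻¹, inv_mem hd, ?_⟩
        rw [eq_inv_mul_iff_mul_eq, ← mul_assoc, ← mul_assoc, (S2.commute_A (inv_mem hg) hd).eq, mul_assoc g⁻¹ d,
          ← e]
        group }
  have huH : u ∈ H := ⟨huP2, 1, one_mem A, by group⟩
  have hfH : f ∈ H := ⟨hV2le (mem_sup_right (mem_zpowers f)), 1, one_mem A, by rw [one_mul, ← huf.eq, mul_inv_cancel_right]⟩
  have hH2 : IsPGroup 2 H := S2.twoP.to_le fun g hg => hg.1
  have hHA : ∀ g ∈ H, ∀ d ∈ A, Commute d g := fun g hg d hd => S2.commute_A hg.1 hd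
  have hHK : H ≤ normalizer (cliqueCent a u A : Set G) := by
    intro g hg
    refine mem_normalizer_of_maps fun k hk => ?_
    obtain ⟨hku', hkA, hka⟩ := mem_cliqueCent.1 hk
    obtain ⟨hgP, d, hd, e⟩ := hg
    refine mem_cliqueCent.2 ⟨?_, fun c hc => ((S2.commute_A hgP hc).mul_right (hkA c hc)).mul_right
      (S2.commute_A hgP hc).inv_right, by
        rw [mul_smul, mul_smul, inv_smul_eq_iff.2 (S2.smul_a hgP).symm, hka, S2.smul_a hgP]⟩
    have e1 : Commute (g * k * g⁻¹) (g * u * g⁻¹) := hku'.map (MulAut.conj g).toMonoidHom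
    rw [e] at e1
    have e2 : Commute (g * k * g⁻¹) d :=
      (((S2.commute_A hgP hd).mul_right (hkA d hd)).mul_right (S2.commute_A hgP hd).inv_right).symm
    have e3 := e2.inv_right.mul_right e1
    rwa [inv_mul_cancel_left] at e3
  obtain ⟨P1, hP1, hP1K, hHP1, hnorm, hmax1⟩ := exists_sylow_normalised hH2 hHK
  obtain ⟨Q1, X1, P1', S1, hle1⟩ := exists_graphSylow hu hua hub hab Lu hmu hku hP1 hP1K
  obtain rfl : P1 = P1' := (hmax1 _ S1.twoP S1.leK hle1).symm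
  have hfP1 : f ∈ P1 := hHP1 (mem_inf.2 ⟨hfH, hVu (mem_sup_right (mem_zpowers f))⟩)
  have huP1 : u ∈ P1 := S1.memt
  have hfn1 : f ∉ zpowers u := hnot hf hu2 hne
  have hun2 : u ∉ zpowers f := hnot hu hf2 hne.symm
  have hs1 := S1.sigma h crit hfP1 hfb hfn1 (by rw [hf2]; exact one_mem _)
  have hs2 := S2.sigma h crit huP2 hub hun2 (by rw [hu2]; exact one_mem _)
  -- inverted elements
  have hx : ∀ s ∈ A, ∃ x ∈ Q1, f * x * f⁻¹ = x⁻¹ ∧ x * x = s := fun s hs =>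
    S1.exists_inverted h crit hfP1 hfb hfn1 (by rw [hf2]; exact one_mem _) hs
  have hz : ∀ s ∈ A, ∃ g ∈ Q2, u * g * u⁻¹ = g⁻¹ ∧ g * g = s := fun s hs =>
    S2.exists_inverted h crit huP2 hub hun2 (by rw [hu2]; exact one_mem _) hs
  obtain ⟨s₁, hs₁, s₂, hs₂, h12, h1, h2⟩ : ∃ d ∈ A, ∃ d' ∈ A, d ≠ d' ∧ d ≠ 1 ∧ d' ≠ 1 := by
    have h3 : 1 < ((A : Set G) \ {1}).ncard := by
      rw [Set.ncard_sdiff_singleton_of_mem (s := (A : Set G)) (one_mem A), ← Nat.card_coe_set_eq,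
        SetLike.coe_sort_coe, Lu.card]
      have := Lu.four
      omega
    obtain ⟨d, hd, d', hd', hne⟩ := (Set.one_lt_ncard (Set.toFinite _)).1 h3
    exact ⟨d, hd.1, d', hd'.1, hne, fun e => hd.2 e, fun e => hd'.2 e⟩
  obtain ⟨x₁, hx₁, hx₁f, hx₁s⟩ := hx s₁ hs₁
  obtain ⟨x₂, hx₂, hx₂f, hx₂s⟩ := hx s₂ hs₂
  obtain ⟨g₁, hg₁, hg₁u, hg₁s⟩ := hz s₁ hs₁
  obtain ⟨g₂, hg₂, hg₂u, hg₂s⟩ := hz s₂ hs₂
  have hgc : Commute g₁ g₂ := congrArg Subtype.val
    (hs2.comm (x := ⟨g₁, hg₁⟩) (y := ⟨g₂, hg₂⟩) (Subtype.ext hg₁u) (Subtype.ext hg₂u)).eq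
  have hxc : Commute x₁ x₂ := congrArg Subtype.val
    (hs1.comm (x := ⟨x₁, hx₁⟩) (y := ⟨x₂, hx₂⟩) (Subtype.ext hx₁f) (Subtype.ext hx₂f)).eq
  have h3 : s₁ * s₂ ≠ 1 := fun e => h12 (by
    rw [eq_inv_of_mul_eq_one_left e, inv_eq_of_mul_eq_one_right (Lu.elem s₂ hs₂)])
  have hg₃u : u * (g₁ * g₂) * u⁻¹ = (g₁ * g₂)⁻¹ := by
    rw [show u * (g₁ * g₂) * u⁻¹ = (u * g₁ * u⁻¹) * (u * g₂ * u⁻¹) by group, hg₁u, hg₂u, hgc.eq, mul_inv_rev]
  have hg₃s : g₁ * g₂ * (g₁ * g₂) = s₁ * s₂ := by rw [hgc.symm.mul_mul_mul_comm, hg₁s, hg₂s]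
  have hx₃f : f * (x₁ * x₂) * f⁻¹ = (x₁ * x₂)⁻¹ := by
    rw [show f * (x₁ * x₂) * f⁻¹ = (f * x₁ * f⁻¹) * (f * x₂ * f⁻¹) by group, hx₁f, hx₂f, hxc.eq, mul_inv_rev]
  have hx₃s : x₁ * x₂ * (x₁ * x₂) = s₁ * s₂ := by rw [hxc.symm.mul_mul_mul_comm, hx₁s, hx₂s]
  have hmove : ∀ {g s : G}, g ∈ Q2 → u * g * u⁻¹ = g⁻¹ → g * g = s → g * u * g⁻¹ = s * u := by
    intro g s hg hgu hgs
    calc g * u * g⁻¹ = g * (u * g⁻¹ * u⁻¹) * u := by group
      _ = g * (u * g * u⁻¹)⁻¹ * u := by group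
      _ = s * u := by rw [hgu, inv_inv, hgs]
  have hQ2H : ∀ {g s : G}, g ∈ Q2 → s ∈ A → u * g * u⁻¹ = g⁻¹ → g * g = s → g ∈ H := fun hg hs hgu hgs =>
    ⟨S2.leQ hg, _, hs, hmove hg hgu hgs⟩
  have hcase : ∀ {g s : G}, g ∈ Q2 → s ∈ A → s ≠ 1 → u * g * u⁻¹ = g⁻¹ → g * g = s →
      ∃ v, (v = 1 ∨ v = u) ∧ ∀ x ∈ Q1, f * x * f⁻¹ = x⁻¹ →
        (v = 1 → g * x * g⁻¹ = x) ∧ (v = u → g * x * g⁻¹ = x⁻¹) := by
    intro g s hg hs hs1' hgu hgs
    rcases S1.translation_cases h crit hfP1 hfb hfn1 hf2 (hnorm (hQ2H hg hs hgu hgs))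
      (hHA g (hQ2H hg hs hgu hgs)) (S2.commute_t (S2.leQ hg)) hgs hs1'
      (by rwa [inv_of_order_two hu] at hgu) hs with hk | hk
    · exact ⟨1, Or.inl rfl, fun x hx hxf => ⟨fun _ => hk x hx hxf, fun e => absurd e.symm (ne_one_of_order_two hu)⟩⟩
    · exact ⟨u, Or.inr rfl, fun x hx hxf => ⟨fun e => absurd e (ne_one_of_order_two hu), fun _ => hk x hx hxf⟩⟩
  obtain ⟨v₁, hv₁, hc₁⟩ := hcase hg₁ hs₁ h1 hg₁u hg₁s
  obtain ⟨v₂, hv₂, hc₂⟩ := hcase hg₂ hs₂ h2 hg₂u hg₂s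
  obtain ⟨v₃, hv₃, hc₃⟩ := hcase (mul_mem hg₁ hg₂) (mul_mem hs₁ hs₂) h3 hg₃u hg₃s
  have hxne : x₁ ≠ x₁⁻¹ := fun e => h1 (by rw [← hx₁s]; nth_rw 2 [e]; exact mul_inv_cancel x₁)
  have hv₁₂ : v₃ = v₁ * v₂ := by
    have e12 : ∀ {c : G}, g₂ * x₁ * g₂⁻¹ = c → g₁ * g₂ * x₁ * (g₁ * g₂)⁻¹ = g₁ * c * g₁⁻¹ := fun e => by
      rw [← e]; group
    have ea := hc₁ x₁ hx₁ hx₁f
    have eb := hc₂ x₁ hx₁ hx₁f
    have ec := hc₃ x₁ hx₁ hx₁f
    have einv : g₁ * x₁ * g₁⁻¹ = x₁⁻¹ → g₁ * x₁⁻¹ * g₁⁻¹ = x₁ := fun e => by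
      rw [show g₁ * x₁⁻¹ * g₁⁻¹ = (g₁ * x₁ * g₁⁻¹)⁻¹ by group, e, inv_inv]
    have einv' : g₁ * x₁ * g₁⁻¹ = x₁ → g₁ * x₁⁻¹ * g₁⁻¹ = x₁⁻¹ := fun e => by
      rw [show g₁ * x₁⁻¹ * g₁⁻¹ = (g₁ * x₁ * g₁⁻¹)⁻¹ by group, e]
    rcases hv₁ with e | e <;> subst v₁ <;> rcases hv₂ with e | e <;> subst v₂ <;>
      rcases hv₃ with e | e <;> subst v₃ <;>
      simp only [one_mul, mul_one, hu2] <;> exfalso
    all_goals first
      | exact hxne (((e12 (eb.1 rfl)).trans (ea.1 rfl)).symm.trans (ec.2 rfl))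
      | exact hxne ((ec.1 rfl).symm.trans ((e12 (eb.2 rfl)).trans (einv' (ea.1 rfl))))
      | exact hxne ((ec.1 rfl).symm.trans ((e12 (eb.1 rfl)).trans (ea.2 rfl)))
      | exact hxne (((e12 (eb.2 rfl)).trans (einv (ea.2 rfl))).symm.trans (ec.2 rfl))
  -- a Sylow subgroup of the line of `u * f` through all of them
  set W := P1 ⊔ H
  have hW2 : IsPGroup 2 W := IsPGroup.to_sup_of_normal_left' hP1 hH2 hnorm
  have hWmem : ∀ {g x v : G}, g ∈ H → x ∈ Q1 → v = 1 ∨ v = u → g * x * v ∈ W := by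
    intro g x v hg hx hv
    refine mul_mem (mul_mem (mem_sup_right hg) (mem_sup_left (S1.leQ hx))) ?_
    rcases hv with e | e <;> subst v
    · exact one_mem _
    · exact mem_sup_left huP1
  set V3 := W ⊓ cliqueCent a (u * f) A
  obtain ⟨Q3, X3, P3, S3, hV3le⟩ := exists_graphSylow (order_two_of_mul_self hv2 fun e => hne
    (by rw [eq_inv_of_mul_eq_one_left e, inv_of_order_two hf])) (by rw [mul_smul, hfa, hua])
    (by rw [mul_smul, hfb, hub]) hab Lv hmv hkv (hW2.to_le inf_le_left : IsPGroup 2 V3) inf_le_right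
  have huV3 : u ∈ V3 := mem_inf.2 ⟨mem_sup_left huP1,
    mem_cliqueCent.2 ⟨(Commute.refl u).mul_right huf, hAu, hua⟩⟩
  have hun3 : u ∉ zpowers (u * f) := hnot hu hv2 fun e => ne_one_of_order_two hf (mul_eq_left.1 e.symm)
  -- an involution moving `u` is outer
  have houter : ∀ {g x v s : G}, g ∈ Q2 → s ∈ A → s ≠ 1 → u * g * u⁻¹ = g⁻¹ → g * g = s → x ∈ Q1 →
      f * x * f⁻¹ = x⁻¹ → x * x = s → (v = 1 ∨ v = u) → (v = 1 → g * x * g⁻¹ = x) → (v = u → g * x * g⁻¹ = x⁻¹) →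
        g * x * v ∈ V3 ∧ ∃ y ∈ Q3, ∃ c ∈ P3, c • b = b ∧ g * x * v = y * c ∧
          u⁻¹ * c ∈ zpowers (u * f) := by
    intro g x v s hg hs hs1' hgu hgs hxQ hxf hxs hv hv1 hvu
    have hgH : g ∈ H := hQ2H hg hs hgu hgs
    have hxu : Commute x u := S1.commute_t (S1.leQ hxQ)
    have hgf : Commute g f := S2.commute_t (S2.leQ hg)
    have hgx : x * f * x⁻¹ = s * f := by
      calc x * f * x⁻¹ = x * (f * x * f⁻¹)⁻¹ * f := by group
        _ = s * f := by rw [hxf, inv_inv, hxs]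
    have hvu' : v * u * v⁻¹ = u ∧ v * f * v⁻¹ = f := by
      rcases hv with e | e <;> subst v
      · simp
      · exact ⟨mul_inv_cancel_right _ _, by rw [huf.eq, mul_inv_cancel_right]⟩
    have hmu' : g * x * v * u * (g * x * v)⁻¹ = s * u := by
      rw [show g * x * v * u * (g * x * v)⁻¹ = g * (x * (v * u * v⁻¹) * x⁻¹) * g⁻¹ by group, hvu'.1,
        hxu.eq, mul_inv_cancel_right, hmove hg hgu hgs]
    have hmf' : g * x * v * f * (g * x * v)⁻¹ = s * f := by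
      rw [show g * x * v * f * (g * x * v)⁻¹ = g * (x * (v * f * v⁻¹) * x⁻¹) * g⁻¹ by group, hvu'.2, hgx,
        show g * (s * f) * g⁻¹ = (g * s * g⁻¹) * (g * f * g⁻¹) by group, hgf.eq, mul_inv_cancel_right,
        ← (hHA g hgH s hs).eq, mul_inv_cancel_right]
    have hwK : g * x * v ∈ cliqueCent a (u * f) A := by
      refine mem_cliqueCent.2 ⟨?_, fun d hd => ((hHA g hgH d hd).mul_right (S1.commute_A (S1.leQ hxQ) hd)).mul_right
        (by rcases hv with e | e <;> subst v; exacts [Commute.one_right d, hAu d hd]), ?_⟩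
      · refine mul_inv_eq_iff_eq_mul.1 ?_
        rw [show g * x * v * (u * f) * (g * x * v)⁻¹ = (g * x * v * u * (g * x * v)⁻¹) * (g * x * v * f * (g * x * v)⁻¹)
          by group, hmu', hmf', ← mul_assoc, mul_assoc s u s, ← (hAu s hs).eq, ← mul_assoc, Lu.elem s hs, one_mul]
      · have hva : v • a = a := by rcases hv with e | e <;> subst v; exacts [one_smul G a, hua]
        rw [mul_smul, mul_smul, hva, S1.smul_a (S1.leQ hxQ), S2.smul_a (S2.leQ hg)]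
    have hwV : g * x * v ∈ V3 := mem_inf.2 ⟨hWmem hgH hxQ hv, hwK⟩
    refine ⟨hwV, ?_⟩
    have hsq : g * x * v * (g * x * v) = 1 := by
      rcases hv with e | e <;> subst v
      · have hc : Commute g x := mul_inv_eq_iff_eq_mul.1 (hv1 rfl)
        rw [mul_one, hc.symm.mul_mul_mul_comm, hgs, hxs, Lu.elem s hs]
      · have hgx' : g * x = x⁻¹ * g := mul_inv_eq_iff_eq_mul.1 (hvu rfl)
        have hginv : g⁻¹ = s * g := by
          refine inv_eq_of_mul_eq_one_right ?_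
          rw [← mul_assoc, ← (hHA g hgH s hs).eq, mul_assoc, hgs, Lu.elem s hs]
        have hgg : g * x * (g * x) = s := by
          calc g * x * (g * x) = x⁻¹ * (g * g) * x := by (nth_rw 1 [hgx']); group
            _ = s := by rw [hgs, mul_assoc, (S1.commute_A (S1.leQ hxQ) hs).eq, inv_mul_cancel_left]
        calc g * x * u * (g * x * u) = g * x * ((u * g * u⁻¹) * (u * x * u⁻¹)) * (u * u) := by group
          _ = g * x * (s * g * x) := by rw [hgu, hginv, ← hxu.eq, mul_inv_cancel_right, hu2, mul_one, mul_assoc s]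
          _ = g * x * s * (g * x) := by group
          _ = s * (g * x * (g * x)) := by
            rw [← (((hHA g hgH s hs)).mul_right (S1.commute_A (S1.leQ hxQ) hs)).eq]; group
          _ = 1 := by rw [hgg, Lu.elem s hs]
    obtain ⟨y, hy, c, hc, hcb, e⟩ := S3.decomp (hV3le hwV)
    refine ⟨y, hy, c, hc, hcb, e, ?_⟩
    have huP3 := hV3le huV3
    have e1 : y * ((c * u * c⁻¹) * y⁻¹ * (c * u * c⁻¹)⁻¹) * (c * u * c⁻¹) = s * u := by
      rw [← hmu', e]; group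
    obtain ⟨-, e2⟩ := S3.decomp_eq (mul_mem hy (S3.conj_mem_Q (mul_mem (mul_mem hc huP3) (inv_mem hc)) (inv_mem hy)))
      (S3.line.leQ hs) (by rw [mul_smul, mul_smul, inv_smul_eq_iff.2 hcb.symm, hub, hcb]) hub e1
    have hcu : Commute c u := mul_inv_eq_iff_eq_mul.1 e2
    rcases S3.same_out h crit huP3 hub hun3 (by rw [hu2]; exact one_mem _) hc hcb (fun w _ => by
        rw [show u * (c * w * c⁻¹) * u⁻¹ = (u * c) * w * (u * c)⁻¹ by group, ← hcu.eq]; group) with hk | hk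
    · exfalso
      have hc2 : c * c = 1 := by
        obtain ⟨i, rfl⟩ := mem_zpowers_iff.1 hk
        rw [← (Commute.refl _).mul_zpow, hv2, one_zpow]
      have hcy : Commute y c := S3.commute_zpowers (S3.leQ hy) hk
      have hy2 : y * y = 1 := by
        rw [e, hcy.symm.mul_mul_mul_comm, hc2, mul_one] at hsq
        exact hsq
      have hyA : y ∈ A := by
        by_cases hy1 : y = 1
        · rw [hy1]; exact one_mem A
        · exact S3.line.invA y hy (order_two_of_mul_self hy2 hy1)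
      refine hs1' (mul_eq_right.1 (show s * u = u from ?_))
      rw [← hmu', e, show y * c * u * (y * c)⁻¹ = y * (c * u * c⁻¹) * y⁻¹ by group, e2, (hAu y hyA).eq,
        mul_inv_cancel_right]
    · exact hk
  obtain ⟨hw₁, y₁, hy₁, c₁, hc₁P, hc₁b, he₁, hk₁⟩ := houter hg₁ hs₁ h1 hg₁u hg₁s hx₁ hx₁f hx₁s hv₁
    (hc₁ x₁ hx₁ hx₁f).1 (hc₁ x₁ hx₁ hx₁f).2
  obtain ⟨hw₂, y₂, hy₂, c₂, hc₂P, hc₂b, he₂, hk₂⟩ := houter hg₂ hs₂ h2 hg₂u hg₂s hx₂ hx₂f hx₂s hv₂
    (hc₂ x₂ hx₂ hx₂f).1 (hc₂ x₂ hx₂ hx₂f).2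
  obtain ⟨hw₃, y₃, hy₃, c₃, hc₃P, hc₃b, he₃, hk₃⟩ := houter (mul_mem hg₁ hg₂) (mul_mem hs₁ hs₂) h3 hg₃u hg₃s
    (mul_mem hx₁ hx₂) hx₃f hx₃s hv₃ (hc₃ _ (mul_mem hx₁ hx₂) hx₃f).1 (hc₃ _ (mul_mem hx₁ hx₂) hx₃f).2
  -- products are additive modulo the clique
  have hprod : ∃ d ∈ A, g₁ * x₁ * v₁ * (g₂ * x₂ * v₂) = g₁ * g₂ * (x₁ * x₂) * v₃ * d := by
    have ex : ∃ d ∈ A, x₁ * g₂ = g₂ * x₁ * d := by
      refine ⟨(g₂ * x₁)⁻¹ * (x₁ * g₂), ?_, by group⟩
      rcases hv₂ with e | e <;> subst v₂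
      · rw [show (g₂ * x₁)⁻¹ * (x₁ * g₂) = 1 by
          rw [show g₂ * x₁ = (g₂ * x₁ * g₂⁻¹) * g₂ by group, (hc₂ x₁ hx₁ hx₁f).1 rfl, inv_mul_cancel]]
        exact one_mem A
      · have e' : g₂ * x₁ = x₁⁻¹ * g₂ := mul_inv_eq_iff_eq_mul.1 ((hc₂ x₁ hx₁ hx₁f).2 rfl)
        rw [show (g₂ * x₁)⁻¹ * (x₁ * g₂) = g₂⁻¹ * (x₁ * x₁) * g₂ by rw [e']; group, hx₁s, mul_assoc,
          (hHA g₂ (hQ2H hg₂ hs₂ hg₂u hg₂s) s₁ hs₁).eq, inv_mul_cancel_left]
        exact hs₁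
    obtain ⟨d, hd, ed⟩ := ex
    have ev : ∃ d' ∈ A, v₁ * (g₂ * x₂) = g₂ * x₂ * v₁ * d' := by
      rcases hv₁ with e | e <;> subst v₁
      · exact ⟨1, one_mem A, by group⟩
      · refine ⟨s₂, hs₂, ?_⟩
        have hxu : Commute x₂ u := S1.commute_t (S1.leQ hx₂)
        have eg : u * g₂ = g₂ * s₂ * u := by
          calc u * g₂ = (u * g₂ * u⁻¹) * u := by group
            _ = g₂⁻¹ * u := by rw [hg₂u]
            _ = g₂⁻¹ * (g₂ * g₂) * s₂ * u := by rw [hg₂s, mul_assoc g₂⁻¹ s₂ s₂, Lu.elem s₂ hs₂, mul_one]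
            _ = _ := by group
        calc u * (g₂ * x₂) = g₂ * s₂ * (u * x₂) := by rw [← mul_assoc, eg]; group
          _ = g₂ * (s₂ * (x₂ * u)) := by rw [← hxu.eq, mul_assoc g₂]
          _ = g₂ * (x₂ * u * s₂) := by rw [((S1.commute_A (S1.leQ hx₂) hs₂).mul_right (hAu s₂ hs₂)).eq]
          _ = _ := by group
    obtain ⟨d', hd', ed'⟩ := ev
    refine ⟨d * d', mul_mem hd hd', ?_⟩
    have hdA : ∀ {c : G}, c ∈ A → ∀ {w : G}, (w ∈ Q1 ∨ w = 1 ∨ w = u) → c * w = w * c := by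
      intro c hc w hw
      rcases hw with hw | rfl | rfl
      · exact (S1.commute_A (S1.leQ hw) hc).eq
      · rw [one_mul, mul_one]
      · exact (hAu c hc).eq
    calc g₁ * x₁ * v₁ * (g₂ * x₂ * v₂) = g₁ * x₁ * (v₁ * (g₂ * x₂)) * v₂ := by group
      _ = g₁ * (x₁ * g₂) * x₂ * v₁ * (d' * v₂) := by rw [ed']; group
      _ = g₁ * g₂ * x₁ * (d * x₂) * v₁ * (v₂ * d') := by rw [ed, hdA hd' (Or.inr hv₂)]; group
      _ = g₁ * g₂ * x₁ * x₂ * (d * v₁) * v₂ * d' := by rw [hdA hd (Or.inl hx₂)]; group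
      _ = g₁ * g₂ * x₁ * x₂ * v₁ * (d * v₂) * d' := by rw [hdA hd (Or.inr hv₁)]; group
      _ = g₁ * g₂ * (x₁ * x₂) * v₃ * (d * d') := by rw [hdA hd (Or.inr hv₂), hv₁₂]; group
  obtain ⟨d, hd, he⟩ := hprod
  rw [he₁, he₂, he₃] at he
  have e4 : y₁ * (c₁ * y₂ * c₁⁻¹) * (c₁ * c₂) = y₃ * d * c₃ := by
    calc y₁ * (c₁ * y₂ * c₁⁻¹) * (c₁ * c₂) = y₁ * c₁ * (y₂ * c₂) := by group
      _ = y₃ * (c₃ * d) := by rw [he]; group
      _ = _ := by rw [← (S3.commute_A hc₃P hd).eq]; group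
  obtain ⟨-, ec⟩ := S3.decomp_eq (mul_mem hy₁ (S3.conj_mem_Q hc₁P hy₂)) (mul_mem hy₃ (S3.line.leQ hd))
    (by rw [mul_smul, hc₂b, hc₁b]) hc₃b e4
  have huP3 := hV3le huV3
  refine hun3 ?_
  -- `c₁ c₂` lies in the kernel and `c₃` does not
  have e5 : u⁻¹ * c₃ = (u⁻¹ * c₁) * (u * (u⁻¹ * c₂)) := by rw [← ec]; group
  rw [← (S3.commute_zpowers huP3 hk₂).symm.eq] at e5
  have e6 : u = (u⁻¹ * c₂)⁻¹ * ((u⁻¹ * c₁)⁻¹ * (u⁻¹ * c₃)) := by rw [e5]; group
  have e7 := mul_mem (inv_mem hk₂) (mul_mem (inv_mem hk₁) hk₃)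
  rwa [← e6] at e7

end Cfsg.Lib.BenderSE.Crit2
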