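/-
Aschbacher's criterion, a line of unitary type (notes/s1175_h7_graph2.md): in a simple group the involution is fused
to its product with a member of its clique. An involution of its conjugacy class outside `A ⊔ ⟨u⟩` is fused to
its product with every element of the clique, by an element of `Q` inverted by the outer part.
-/
import Cfsg.Agent.BenderSE.Criterion2.GraphPackage
import Cfsg.Agent.BenderSE.Criterion2.LineSylow
import Cfsg.Agent.BenderSE.Criterion2.LineActions

set_option autoImplicit false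
set_option linter.unusedSectionVars false
set_option linter.style.haveILetI false

namespace Cfsg.Lib.BenderSE.Crit2

open Subgroup MulAction Cfsg.Lib.InvolCalc Cfsg.Lib.BenderSE.CritDep

universe u

variable {G α : Type u} [Group G] [Finite G] [MulAction G α] [Finite α] [FaithfulSMul G α] {z u : G} {a : α}
  {A Q X : Subgroup G} {q : ℕ}

omit [Finite G] in
/-- the elements of the group of an involution -/
theorem mem_zpowers_involution {t x : G} (ht : t * t = 1) (hx : x ∈ zpowers t) : x = 1 ∨ x = t := by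
  obtain ⟨n, rfl⟩ := hx
  have h2 : t ^ (2 : ℤ) = 1 := by rw [zpow_two, ht]
  rcases Int.even_or_odd n with ⟨i, rfl⟩ | ⟨i, rfl⟩
  · exact Or.inl (by show t ^ (i + i) = 1; rw [← two_mul, zpow_mul, h2, one_zpow])
  · exact Or.inr (by show t ^ (2 * i + 1) = t; rw [zpow_add, zpow_mul, h2, one_zpow, one_mul, zpow_one])

/-- on a line of unitary type `u` is fused to its product with a member centralising it -/
theorem fused_of_one [IsSimpleGroup G] (hna : ¬ IsMulCommutative G) (h : Crit G α z)
    (crit : CriterionBelow.{u} (Nat.card G)) (hu : orderOf u = 2) (hua : u • a = a)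
    (L : LineData z u a A Q X q 3)
    (hone : ∀ t : G, orderOf t = 2 → Commute t u → (∀ p : α, u • p = p → t • p = p) →
      (∀ d ∈ A, Commute t d) → t = u) :
    ∃ e, IsConj z e ∧ Commute u e ∧ IsConj u (u * e) := by
  by_contra hno
  push Not at hno
  obtain ⟨S, hQS, huS, hSa, -⟩ := exists_line_sylow h hua hu L
  obtain ⟨b, hb, hba⟩ := exists_other_fixed L hQS hSa
  have huD : ¬ IsConj z u := fun e => hba (centre_unique h e hb hua)
  refine false_of_not_fused' (fun d => IsConj z d) hna (fun d hd => orderOf_conj h hd)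
    (fun d e => conj_mul_of_commute h) (fun g d hd => hd.trans (isConj_iff.2 ⟨g, rfl⟩)) S A (L.leQ.trans hQS)
    (fun d hd => commute_of_mem (L.Qle (L.leQ hd))) (fun d hd hd1 => (L.memA d hd hd1).1)
    (fun d hd hc hD => member_mem_clique L hQS hSa h hD hd hc) hu huS huD
    (fun x hx hxc hxu hxA hx2 => ?_) hno
  by_contra hout
  push Not at hout
  -- a Sylow subgroup of the centraliser of the clique through `x`
  obtain ⟨Q', X', P, T, hVP⟩ := exists_graphPre hu hua hb (Ne.symm hba) L (cliqueNum_eq h hu hua L).le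
    (V := (S : Subgroup G) ⊓ cliqueCent a u A) (S.isPGroup'.to_le inf_le_left) inf_le_right
  have hxP : x ∈ P := hVP (mem_inf.2 ⟨hx, mem_cliqueCent.2 ⟨hxu, hxA, hSa x hx⟩⟩)
  have hxout : ∀ d ∈ A, ¬ FixesLine α u (d * x) := by
    intro d hd hf
    have hdu : Commute d u := commute_of_mem (L.Qle (L.leQ hd))
    have hdx : Commute d x := hxA d hd
    have h2 : d * x * (d * x) = 1 := by rw [hdx.symm.mul_mul_mul_comm, L.elem d hd, hx2, one_mul]
    have hd' : d⁻¹ = d := inv_eq_of_mul_eq_one_right (L.elem d hd)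
    rcases eq_or_ne (d * x) 1 with e | e
    · exact hout.1 (by rw [eq_inv_of_mul_eq_one_right e, hd']; exact hd)
    · have e' := hone (d * x) (order_two_of_mul_self h2 e) (hdu.mul_left hxu) hf fun e₁ he₁ =>
        ((L.centQ d hd e₁ (L.leQ he₁)).mul_left (hxA e₁ he₁).symm)
      refine hout.2 ?_
      show u * x ∈ A
      rw [eq_inv_mul_of_mul_eq e', hd', ← mul_assoc, ← hdu.eq, mul_assoc, sq_of_order_two hu, mul_one]
      exact hd
  obtain ⟨c, hcP, hcb, hc2, hcu, k, hk, hkc⟩ := T.outer_conj h crit hxP hx2 hxout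
  obtain ⟨d, hd, hd1⟩ := A.bot_or_exists_ne_one.resolve_left fun e => by
    have := L.card
    rw [e, card_bot] at this
    have := L.four
    omega
  obtain ⟨y, hy, hcy, hyd⟩ := T.exists_inverted h crit hcP hcb hcu (fun p _ => by rw [hc2, one_smul]) hd
  have hyc : y * c * y⁻¹ = d * c := by
    have e : c * y⁻¹ = y * c := by
      conv_lhs => rw [← hcy]
      rw [← mul_assoc, ← mul_assoc, hc2, one_mul, inv_eq_of_mul_eq_one_right hc2]
    rw [mul_assoc, e, ← mul_assoc, hyd]
  have hkd : Commute d k := T.line.centQ d hd k hk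
  have hxd : IsConj x (x * d) := isConj_iff.2 ⟨k * y * k⁻¹, by
    calc k * y * k⁻¹ * x * (k * y * k⁻¹)⁻¹ = k * (y * c * y⁻¹) * k⁻¹ := by rw [← hkc]; group
      _ = (k * d) * c * k⁻¹ := by rw [hyc]; group
      _ = d * (k * c * k⁻¹) := by rw [← hkd.eq]; group
      _ = x * d := by rw [hkc, (hxA d hd).eq]⟩
  obtain ⟨g, rfl⟩ := isConj_iff.1 hxc
  have hxd' : Commute (g * u * g⁻¹) d := (hxA d hd).symm
  refine hno (g⁻¹ * d * g) ((L.memA d hd hd1).1.trans (isConj_iff.2 ⟨g⁻¹, by group⟩)) ?_ ?_
  · have h1 := hxd'.map (MulAut.conj g⁻¹).toMonoidHom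
    simpa [mul_assoc] using h1
  · refine (IsConj.trans (isConj_iff.2 ⟨g, rfl⟩) hxd).trans (isConj_iff.2 ⟨g⁻¹, ?_⟩)
    group

/-- the same under the hypothesis that the kernel is `⟨u⟩` -/
theorem fused_of_unitary [IsSimpleGroup G] (hna : ¬ IsMulCommutative G) (h : Crit G α z)
    (crit : CriterionBelow.{u} (Nat.card G)) (hu : orderOf u = 2) (hua : u • a = a)
    (L : LineData z u a A Q X q 3)
    (hker : ∀ g : G, IsPGroup 2 (zpowers g) → Commute g u → (∀ p : α, u • p = p → g • p = p) →
      (∀ d ∈ A, Commute g d) → g ∈ zpowers u) :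
    ∃ e, IsConj z e ∧ Commute u e ∧ IsConj u (u * e) :=
  fused_of_one hna h crit hu hua L fun t ht htu htf htA =>
    (mem_zpowers_involution (sq_of_order_two hu) (hker t (isPGroup_zpowers_of_two ht) htu htf htA)).resolve_left
      (ne_one_of_order_two ht)

end Cfsg.Lib.BenderSE.Crit2
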