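/-
Aschbacher's criterion, a line of unitary type (notes/s1175_h7_graph2.md, CASE psi² = u): when the involution is
fused to its product with a member, no element of a Sylow group of the centraliser of the clique has it as its square.
-/
import Cfsg.Agent.BenderSE.Criterion2.GraphPackage
import Cfsg.Agent.BenderSE.Criterion2.GraphFusion
import Cfsg.Agent.BenderSE.Criterion2.LineSylow

set_option autoImplicit false
set_option linter.unusedSectionVars false
set_option linter.style.haveILetI false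

namespace Cfsg.Lib.BenderSE.Crit2

open Subgroup MulAction Cfsg.Lib.InvolCalc Cfsg.Lib.BenderSE.CritDep

universe u

variable {G α : Type u} [Group G] [Finite G] [MulAction G α] {z u : G} {a b : α} {A Q X P : Subgroup G} {q j : ℕ}

/-- an involution fused to its product with a member is fused to its products with all of its clique -/
theorem fused_clique (h : Crit G α z) (hu : orderOf u = 2) (hua : u • a = a) (L : LineData z u a A Q X q j)
    (hfused : ∃ e, IsConj z e ∧ Commute u e ∧ IsConj u (u * e)) {d : G} (hd : d ∈ A) (hd1 : d ≠ 1) :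
    IsConj u (u * d) := by
  obtain ⟨e, he, hue, hfe⟩ := hfused
  obtain ⟨p, hp, -⟩ := h.uniq e he
  obtain ⟨c, hcu, hca⟩ : ∃ c : G, Commute c u ∧ c • a = p := by
    rcases eq_or_ne a p with rfl | hne
    · exact ⟨1, Commute.one_left u, one_smul _ _⟩
    · obtain ⟨d', hd', hd'a, hd'u⟩ := h.central a (zpowers u) (isPGroup_zpowers_of_two hu)
        fun x hx => mem_fixSet_zpowers hua x hx
      obtain ⟨w, -, hwa, -, -, hwc⟩ := exists_midpoint h hd' he hd'a hp hne
      exact ⟨w, (hwc u (hd'u u (mem_zpowers u)).symm hue).symm, hwa⟩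
  set e₁ := c⁻¹ * e * c with he₁
  have he₁u : Commute e₁ u := (hcu.inv_left.mul_left hue.symm).mul_left hcu
  have he₁a : e₁ • a = a := by rw [he₁, mul_smul, mul_smul, hca, hp, ← hca, inv_smul_smul]
  have he₁D : IsConj z e₁ := he.trans (isConj_iff.2 ⟨c⁻¹, by rw [inv_inv]⟩)
  have hf₁ : IsConj u (u * e₁) := hfe.trans (isConj_iff.2 ⟨c⁻¹, by
    rw [he₁, inv_inv, show c⁻¹ * (u * e) * c = (c⁻¹ * u) * (e * c) by group, hcu.inv_left.eq]; group⟩)
  obtain ⟨S, hQS, -, hSa, hsyl⟩ := exists_line_sylow h hua hu L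
  obtain ⟨k, hk, hkS⟩ := hsyl (zpowers e₁) (isPGroup_zpowers_of_two (orderOf_conj h he₁D)) (zpowers_le.2
    (mem_inf.2 ⟨mem_centralizer_singleton_iff.2 he₁u.eq, mem_stabilizer_iff.2 he₁a⟩))
  have hku : Commute k u := mem_centralizer_singleton_iff.1 (mem_inf.1 hk).1
  set e₂ := k⁻¹ * e₁ * k with he₂
  have he₂A : e₂ ∈ A := member_mem_clique L hQS hSa h (he₁D.trans (isConj_iff.2 ⟨k⁻¹, by rw [inv_inv]⟩))
    (hkS e₁ (mem_zpowers e₁)) ((hku.inv_left.mul_left he₁u).mul_left hku)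
  have he₂1 : e₂ ≠ 1 := fun e' => ne_one_of_order_two (orderOf_conj h he₁D) (by
    have := congrArg (fun w => k * w * k⁻¹) e'
    simpa [he₂, mul_assoc] using this)
  obtain ⟨x, hx, hxd⟩ := L.transA e₂ he₂A d hd he₂1 hd1
  refine hf₁.trans (isConj_iff.2 ⟨x * k⁻¹, ?_⟩)
  have hxu : Commute x u := L.centX x hx
  rw [← hxd, he₂, show (x * k⁻¹) * (u * e₁) * (x * k⁻¹)⁻¹ = x * ((k⁻¹ * u) * e₁ * k) * x⁻¹ by group,
    hku.inv_left.eq, show x * (u * k⁻¹ * e₁ * k) * x⁻¹ = (x * u) * (k⁻¹ * e₁ * k * x⁻¹) by group, hxu.eq]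
  group

omit [Finite G] in
/-- a 2-group acting on a non-trivial 2-group by conjugation fixes a non-trivial element -/
theorem exists_fixed_of_two [Finite G] {A R : Subgroup G} (hR : IsPGroup 2 R) (hA : Even (Nat.card A))
    (hRA : ∀ r ∈ R, ∀ d ∈ A, r * d * r⁻¹ ∈ A) : ∃ d ∈ A, d ≠ 1 ∧ ∀ r ∈ R, Commute d r := by
  haveI : Fact (Nat.Prime 2) := ⟨Nat.prime_two⟩
  letI : MulAction R A :=
    { smul := fun r d => ⟨(r : G) * d * (r : G)⁻¹, hRA r r.2 d d.2⟩
      one_smul := fun d => Subtype.ext (show (1 : G) * d * (1 : G)⁻¹ = d by group)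
      mul_smul := fun r s d => Subtype.ext (show ((r : G) * s) * d * ((r : G) * s)⁻¹
        = r * (s * d * (s : G)⁻¹) * (r : G)⁻¹ by group) }
  have h1 : (1 : A) ∈ MulAction.fixedPoints R A := fun r =>
    Subtype.ext (show (r : G) * 1 * (r : G)⁻¹ = 1 by group)
  obtain ⟨d, hd, hd1⟩ := hR.exists_fixed_point_of_prime_dvd_card_of_fixed_point (α := A) hA.two_dvd h1
  refine ⟨d, d.2, fun e => hd1 (Subtype.ext e.symm), fun r hr => ?_⟩
  have : r * (d : G) * r⁻¹ = d := congrArg Subtype.val (hd ⟨r, hr⟩)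
  exact (mul_inv_eq_iff_eq_mul.1 this).symm

variable [Finite α] [FaithfulSMul G α]

/-- BURNSIDE: when `u` is fused to its product with a member, an element at `a` normalising the clique and `P`
moves `u` by a non-trivial element of the clique -/
theorem GraphPre.exists_fusing (S : GraphPre z u a b A Q X q P) (h : Crit G α z)
    (hfused : ∃ e, IsConj z e ∧ Commute u e ∧ IsConj u (u * e)) :
    ∃ d ∈ A, d ≠ 1 ∧ ∃ n : G, n * u * n⁻¹ = u * d ∧ (∀ e ∈ A, n * e * n⁻¹ ∈ A) ∧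
      n ∈ normalizer (P : Set G) := by
  haveI : Fact (Nat.Prime 2) := ⟨Nat.prime_two⟩
  have hu := S.two
  have L := S.line
  -- a Sylow subgroup of the centraliser of `u` at `a` over `P`
  set K := centralizer ({u} : Set G) ⊓ stabilizer G a with hK
  have hPK : P ≤ K := fun g hg =>
    mem_inf.2 ⟨mem_centralizer_singleton_iff.2 (S.commute_t hg).eq, mem_stabilizer_iff.2 (S.smul_a hg)⟩
  obtain ⟨R₀, hR₀⟩ := (S.twoP.of_equiv (subgroupOfEquivOfLe hPK).symm).exists_le_sylow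
  set R := (R₀ : Subgroup K).map K.subtype with hR
  have hPR : P ≤ R := fun g hg => ⟨⟨g, hPK hg⟩, hR₀ (mem_subgroupOf.2 hg), rfl⟩
  have hR2 : IsPGroup 2 R := R₀.2.map _
  have hRK : R ≤ K := map_subtype_le _
  have hRu : ∀ r ∈ R, Commute r u := fun r hr => mem_centralizer_singleton_iff.1 (mem_inf.1 (hRK hr)).1
  have hmax : ∀ V : Subgroup G, IsPGroup 2 V → V ≤ K → Nat.card V ≤ Nat.card R := by
    intro V hV hVK
    obtain ⟨V₀, hV₀⟩ := (hV.of_equiv (subgroupOfEquivOfLe hVK).symm).exists_le_sylow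
    rw [hR, card_map_of_injective K.subtype_injective, R₀.card_eq_multiplicity, ← V₀.card_eq_multiplicity,
      ← Nat.card_congr (subgroupOfEquivOfLe hVK).toEquiv]
    exact card_le_of_le hV₀
  -- the clique is the set of members of `R` centralising `u`
  have hRQ : R ⊓ localGen z u = Q := L.Qmax _ (hR2.to_le inf_le_left) inf_le_right
    (inf_le_left.trans (hRK.trans inf_le_right)) (le_inf (S.leQ.trans hPR) L.Qle)
  have hmem : ∀ e ∈ R, IsConj z e → e ∈ A := fun e he hD =>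
    L.invA e (hRQ ▸ mem_inf.2 ⟨he, mem_localGen_of hD (hRu e he)⟩) (orderOf_conj h hD)
  have hAR : A ≤ R := L.leQ.trans (S.leQ.trans hPR)
  have hnA : ∀ n : G, (∀ r ∈ R, n * r * n⁻¹ ∈ R) → ∀ d ∈ A, n * d * n⁻¹ ∈ A := by
    intro n hn d hd
    rcases eq_or_ne d 1 with rfl | hd1
    · rw [mul_one, mul_inv_cancel]; exact one_mem A
    · exact hmem _ (hn d (hAR hd)) ((L.memA d hd hd1).1.trans (isConj_iff.2 ⟨n, rfl⟩))
  -- a member central in `R`
  obtain ⟨d, hd, hd1, hdR⟩ := exists_fixed_of_two (A := A) hR2 (by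
      rw [L.card]
      obtain ⟨e, he⟩ := L.pow
      have h4 := L.four
      rcases e with _ | e
      · rw [pow_zero] at he; omega
      · rw [he, pow_succ']; exact even_two_mul _)
    fun r hr => hnA r fun r' hr' => mul_mem (mul_mem hr hr') (inv_mem hr)
  -- Burnside
  have hdu : Commute d u := hRu d (hAR hd)
  have huR : u ∈ R := hPR S.memt
  obtain ⟨g, hg⟩ := isConj_iff.1 (fused_clique h hu S.fixa L hfused hd hd1)
  obtain ⟨m, hma, hm⟩ := control h (P := zpowers u) (g := g) (isPGroup_zpowers_of_two hu)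
    (mem_fixSet_zpowers S.fixa) fun p hp => by
    rcases mem_zpowers_involution (sq_of_order_two hu) hp with e | e
    · rw [e, mul_one, mul_inv_cancel, one_smul]
    · rw [e, hg, mul_smul, (L.memA d hd hd1).2.2, S.fixa]
  have hmu : m * u * m⁻¹ = u * d := (hm u (mem_zpowers u)).trans hg
  have hma' : m⁻¹ • a = a := inv_smul_eq_iff.2 hma.symm
  set K' := centralizer ({u * d} : Set G) ⊓ stabilizer G a with hK'
  have hRK' : R ≤ K' := fun r hr => mem_inf.2 ⟨mem_centralizer_singleton_iff.2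
    ((hRu r hr).mul_right (hdR r hr).symm).eq, (mem_inf.1 (hRK hr)).2⟩
  have hmRK' : R.map (MulAut.conj m).toMonoidHom ≤ K' := by
    rintro _ ⟨r, hr, rfl⟩
    refine mem_inf.2 ⟨mem_centralizer_singleton_iff.2 ?_, mem_stabilizer_iff.2 ?_⟩
    · show m * r * m⁻¹ * (u * d) = u * d * (m * r * m⁻¹)
      rw [← hmu]
      exact ((hRu r hr).map (MulAut.conj m).toMonoidHom).eq
    · show (m * r * m⁻¹) • a = a
      rw [mul_smul, mul_smul, hma', mem_stabilizer_iff.1 (mem_inf.1 (hRK hr)).2, hma]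
  have hsyl : ∀ V : Subgroup G, IsPGroup 2 V → V ≤ K' → Nat.card V = Nat.card R →
      ∃ T : Sylow 2 K', (T : Subgroup K').map K'.subtype = V := by
    intro V hV hVK hcard
    obtain ⟨T, hT⟩ := (hV.of_equiv (subgroupOfEquivOfLe hVK).symm).exists_le_sylow
    refine ⟨T, (Subgroup.eq_of_le_of_card_ge
      (show V ≤ (T : Subgroup K').map K'.subtype from fun v hv => ⟨⟨v, hVK hv⟩, hT (mem_subgroupOf.2 hv), rfl⟩) ?_).symm⟩
    rw [hcard, ← card_map_of_injective (K := (T : Subgroup K').map K'.subtype)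
      (f := (MulAut.conj m⁻¹).toMonoidHom) (MulAut.conj m⁻¹).injective]
    refine hmax _ ((T.2.map _).map _) ?_
    rintro _ ⟨_, ⟨x, -, rfl⟩, rfl⟩
    obtain ⟨hx1, hx2⟩ := mem_inf.1 x.2
    refine mem_inf.2 ⟨mem_centralizer_singleton_iff.2 ?_, mem_stabilizer_iff.2 ?_⟩
    · have hu' : u = m⁻¹ * (u * d) * m := by rw [← hmu]; group
      show m⁻¹ * (x : G) * m⁻¹⁻¹ * u = u * (m⁻¹ * (x : G) * m⁻¹⁻¹)
      rw [hu', inv_inv]
      have h1 := (show Commute (x : G) (u * d) from mem_centralizer_singleton_iff.1 hx1).map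
        (MulAut.conj m⁻¹).toMonoidHom
      simpa using h1.eq
    · show (m⁻¹ * (x : G) * m⁻¹⁻¹) • a = a
      rw [inv_inv, mul_smul, mul_smul, hma, mem_stabilizer_iff.1 hx2, hma']
  obtain ⟨T, hT⟩ := hsyl R hR2 hRK' rfl
  obtain ⟨T', hT'⟩ := hsyl _ (hR2.map (MulAut.conj m).toMonoidHom) hmRK'
    (card_map_of_injective (MulAut.conj m).injective)
  obtain ⟨c, hc⟩ := MulAction.exists_smul_eq K' T' T
  set n := (c : G) * m with hn
  have hcd : Commute (c : G) (u * d) := mem_centralizer_singleton_iff.1 (mem_inf.1 c.2).1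
  have hnu : n * u * n⁻¹ = u * d := by
    rw [hn, show (c : G) * m * u * ((c : G) * m)⁻¹ = (c : G) * (m * u * m⁻¹) * (c : G)⁻¹ by group, hmu, hcd.eq,
      mul_inv_cancel_right]
  have hna' : n • a = a := by rw [hn, mul_smul, hma, mem_stabilizer_iff.1 (mem_inf.1 c.2).2]
  have hnR : ∀ r ∈ R, n * r * n⁻¹ ∈ R := by
    intro r hr
    obtain ⟨x, hx, hxe⟩ : m * r * m⁻¹ ∈ (T' : Subgroup K').map K'.subtype := hT' ▸ ⟨r, hr, rfl⟩
    refine hT ▸ (⟨c * x * c⁻¹, ?_, ?_⟩ : n * r * n⁻¹ ∈ (T : Subgroup K').map K'.subtype)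
    · rw [← hc, Sylow.coe_subgroup_smul]
      exact ⟨x, hx, rfl⟩
    · show (c : G) * (x : G) * (c : G)⁻¹ = _
      rw [show (x : G) = m * r * m⁻¹ from hxe, hn]
      group
  -- `n` normalises `P`
  have hPeq : R ⊓ centralizer (A : Set G) = P := S.maxP _ (hR2.to_le inf_le_left) (fun g hg =>
      mem_cliqueCent.2 ⟨hRu g (mem_inf.1 hg).1, fun d hd => mem_centralizer_iff.1 (mem_inf.1 hg).2 d hd,
        mem_stabilizer_iff.1 (mem_inf.1 (hRK (mem_inf.1 hg).1)).2⟩)
    fun g hg => mem_inf.2 ⟨hPR hg, mem_centralizer_iff.2 fun d hd => (S.commute_A hg hd).eq⟩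
  refine ⟨d, hd, hd1, n, hnu, fun e he => hnA n hnR e he, mem_normalizer_of_maps fun psi hpsi => ?_⟩
  rw [← hPeq]
  refine mem_inf.2 ⟨hnR psi (hPR hpsi), mem_centralizer_iff.2 fun e he => ?_⟩
  have hsur : ∃ e' ∈ A, n * e' * n⁻¹ = e := by
    have hle : A.map (MulAut.conj n).toMonoidHom ≤ A := by
      rintro _ ⟨x, hx, rfl⟩
      exact hnA n hnR x hx
    rw [← Subgroup.eq_of_le_of_card_ge hle (card_map_of_injective (MulAut.conj n).injective).ge] at he
    obtain ⟨e', he', rfl⟩ := he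
    exact ⟨e', he', rfl⟩
  obtain ⟨e', he', rfl⟩ := hsur
  exact ((S.commute_A hpsi he').map (MulAut.conj n).toMonoidHom).eq

namespace GraphSylow

/-- when `u` is fused to its product with a member it is no square of an element of `P` -/
theorem no_square (S : GraphSylow z u a b A Q X q P) (h : Crit G α z) (crit : CriterionBelow.{u} (Nat.card G))
    (hfused : ∃ e, IsConj z e ∧ Commute u e ∧ IsConj u (u * e)) {psi : G} (hpsi : psi ∈ P) :
    psi * psi ≠ u := by
  intro hsq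
  have hu := S.two
  have L := S.line
  obtain ⟨d, hd, hd1, n, hnu, -, hnN⟩ := S.pre.exists_fusing h hfused
  have hdu : Commute d u := commute_of_mem (L.Qle (L.leQ hd))
  have hnP : n * psi * n⁻¹ ∈ P := (mem_normalizer_iff.1 hnN psi).1 hpsi
  -- split it on the line
  obtain ⟨x, hx, c₁, hc₁, hc₁b, hsplit⟩ := S.decomp hnP
  have hsq' : x * (c₁ * x * c₁⁻¹) * (c₁ * c₁) = d * u := by
    rw [show x * (c₁ * x * c₁⁻¹) * (c₁ * c₁) = (x * c₁) * (x * c₁) by group, ← hsplit, hdu.eq, ← hnu, ← hsq]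
    group
  obtain ⟨hxd, hc₁2⟩ := S.decomp_eq (mul_mem hx (S.conj_mem_Q hc₁ hx)) (L.leQ hd)
    (by rw [mul_smul, hc₁b, hc₁b]) S.fixb hsq'
  have hc₁t : c₁ ∉ zpowers u := fun hm' => by
    rcases mem_zpowers_involution (sq_of_order_two hu) hm' with e | e
    · rw [e, one_mul] at hc₁2
      exact ne_one_of_order_two hu hc₁2.symm
    · rw [e, sq_of_order_two hu] at hc₁2
      exact ne_one_of_order_two hu hc₁2.symm
  have hflip := S.flip h crit hc₁ hc₁b hc₁t (hc₁2 ▸ mem_zpowers u) hx (hxd ▸ hd)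
  rw [hflip, mul_inv_cancel] at hxd
  exact hd1 hxd.symm

end GraphSylow

end Cfsg.Lib.BenderSE.Crit2
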