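/-
Aschbacher's criterion, graph involutions (notes/s1175_h7_graph2.md): the line of an outer involution centralising
the clique of the chosen involution is again of unitary type, with the same clique and a kernel of order two.
-/
import Cfsg.Agent.BenderSE.Criterion2.GraphBasic
import Cfsg.Agent.BenderSE.Criterion2.GraphLine
import Cfsg.Agent.BenderSE.Criterion2.LineFibres
import Cfsg.Agent.BenderSE.Criterion2.Assemble

set_option autoImplicit false
set_option linter.unusedSectionVars false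
set_option linter.style.haveILetI false

namespace Cfsg.Lib.BenderSE.Crit2

open Subgroup MulAction Cfsg.Lib.InvolCalc Cfsg.Lib.BenderSE.CritDep

universe u

variable {G α : Type u} [Group G] [Finite G] [MulAction G α] [Finite α] [FaithfulSMul G α] {z u : G} {a : α}
  {A Q X : Subgroup G} {q j : ℕ}

omit [FaithfulSMul G α] in
theorem card_fixedBy_of_data (L : LineData z u a A Q X q j) : Nat.card (fixedBy α u) = q ^ j + 1 := by
  rw [← L.fixed]
  exact Nat.card_congr (Equiv.setCongr (Set.ext fun x => mem_line.symm))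

theorem LineData.isClique (L : LineData z u a A Q X q j) : IsClique z u A := fun g hg => by
  rcases eq_or_ne g 1 with rfl | hg1
  · exact ⟨Commute.one_right u, fun e => absurd rfl e⟩
  · exact ⟨(L.memA g hg hg1).2.1, fun _ => (L.memA g hg hg1).1⟩

/-- a kernel of the chosen line has order at most two when its part centralising the clique is `⟨u⟩` -/
theorem kernelNum_le_two (h : Crit G α z) (hu : orderOf u = 2) (hua : u • a = a) (L : LineData z u a A Q X q j)
    (hker : ∀ g : G, IsPGroup 2 (zpowers g) → Commute g u → (∀ p : α, u • p = p → g • p = p) →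
      (∀ d ∈ A, Commute g d) → g ∈ zpowers u) : kernelNum α u ≤ 2 := by
  obtain ⟨V, ⟨hV2, hV⟩, hcard⟩ := exists_kernel α u
  rw [← hcard]
  obtain ⟨S, hQS, -, hSa, hsyl⟩ := exists_line_sylow h hua hu L
  obtain ⟨k, hk, hkV⟩ := hsyl V hV2 fun v hv =>
    mem_inf.2 ⟨mem_centralizer_singleton_iff.2 (hV v hv).1.eq, mem_stabilizer_iff.2 ((hV v hv).2 a hua)⟩
  have hku : Commute k u := mem_centralizer_singleton_iff.1 (mem_inf.1 hk).1
  have hle : V.map (MulAut.conj k⁻¹).toMonoidHom ≤ zpowers u := by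
    rintro _ ⟨v, hv, rfl⟩
    show k⁻¹ * v * k⁻¹⁻¹ ∈ zpowers u
    rw [inv_inv]
    have hS := hkV v hv
    have hgu : Commute (k⁻¹ * v * k) u := (hku.inv_left.mul_left (hV v hv).1).mul_left hku
    have hgfix : ∀ p : α, u • p = p → (k⁻¹ * v * k) • p = p := fun p hp => by
      rw [mul_smul, mul_smul, (hV v hv).2 _ (by rw [smul_smul, ← hku.eq, mul_smul, hp]), inv_smul_smul]
    exact hker _ (S.isPGroup'.to_le (zpowers_le.2 hS)) hgu hgfix fun d hd =>
      commute_kernel_Q L hQS hSa (mem_lineKernel.2 ⟨hS, hgu, hgfix⟩) (L.leQ hd)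
  have h2 := card_le_of_le hle
  rw [card_map_of_injective (MulAut.conj k⁻¹).injective, Nat.card_zpowers, hu] at h2
  exact h2

/-- THE LINE OF AN OUTER INVOLUTION is of unitary type with clique `A` and kernel of order two -/
theorem unitary_of_outer (C : LineCase α z u a A Q X q j) (hj : j = 3)
    (hker : ∀ g : G, IsPGroup 2 (zpowers g) → Commute g u → (∀ p : α, u • p = p → g • p = p) →
      (∀ d ∈ A, Commute g d) → g ∈ zpowers u)
    (hfus : ∃ e, IsConj z e ∧ Commute u e ∧ IsConj u (u * e)) {φ : G} {b : α} (hφ : orderOf φ = 2)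
    (hφu : Commute φ u) (hab : a ≠ b) (hub : u • b = b) (hφa : φ • a = a) (hφb : φ • b = b)
    (hφA : ∀ d ∈ A, Commute φ d)
    (hfour : Nat.card (fixSet α (zpowers u ⊔ zpowers φ : Subgroup G)) = q + 1)
    (hflip : ∃ d ∈ A, d ≠ 1 ∧ IsConj φ (φ * d)) :
    ∃ Q' X' : Subgroup G, LineData z φ a A Q' X' q 3 ∧ cliqueNum z φ ≤ q ∧
      ∀ g : G, IsPGroup 2 (zpowers g) → Commute g φ → (∀ p : α, φ • p = p → g • p = p) →
        (∀ d ∈ A, Commute g d) → g ∈ zpowers φ := by
  have h := C.crit
  have D := C.data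
  have hua := C.fixa
  haveI := C.simple
  have hu := C.chosen.rank.1
  have hclA := D.isClique
  have hq : cliqueNum z u = q := cliqueNum_eq h hu hua D
  have hcardA : Nat.card A = cliqueNum z u := D.card.trans hq.symm
  have h4 := D.four
  obtain ⟨hr, hqφ, hfφ⟩ := C.chosen.of_clique h hclA hcardA hφ hφA hab hφa hφb
  rw [hq] at hqφ
  rw [card_fixedBy_of_data D, hj] at hfφ
  -- the type of the line
  set W := (zpowers u ⊔ zpowers φ : Subgroup G) with hWdef
  have hW : IsPGroup 2 W := (isPGroup_zpowers_of_two hu).to_sup_of_normal_left' (isPGroup_zpowers_of_two hφ)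
    (zpowers_le.2 (centralizer_le_normalizer _ (mem_centralizer_iff.2 fun w hw => by
      obtain ⟨i, rfl⟩ := mem_zpowers_iff.1 hw
      exact (hφu.zpow_right i).eq.symm)))
  have hWle : ∀ p : α, u • p = p → φ • p = p → p ∈ fixSet α W := fun p h1 h2 w hw =>
    mem_stabilizer_iff.1 ((sup_le (zpowers_le.2 (mem_stabilizer_iff.2 h1))
      (zpowers_le.2 (mem_stabilizer_iff.2 h2)) : W ≤ stabilizer G p) hw)
  obtain ⟨e, e', he, he', hee, hfe, hfe', -⟩ := line_type_eq h C.below (t := φ) (t' := φ) hφ hφ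
    (isPGroup_zpowers_of_two hφ) hW le_sup_right (mem_zpowers φ) (mem_sup_right (mem_zpowers φ))
    (hWle a hua hφa) (hWle b hub hφb) hab D.card h4 (fun d hd hd1 => ⟨(D.memA d hd hd1).1, (D.memA d hd hd1).2.2⟩)
    (fun d hd w hw => mem_centralizer_singleton_iff.1 (show w ∈ centralizer ({d} : Set G) from
      (sup_le (zpowers_le.2 (mem_centralizer_singleton_iff.2 (hclA d hd).1.eq))
        (zpowers_le.2 (mem_centralizer_singleton_iff.2 (hφA d hd).eq)) : W ≤ _) hw) |> Eq.symm)
    hqφ.le hqφ.le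
  have hinj := Nat.pow_right_injective (a := q) (by omega)
  obtain rfl : e' = 1 := hinj (show q ^ e' = q ^ 1 by rw [pow_one]; omega)
  have hfφ' : Nat.card (fixedBy α φ) = q ^ e + 1 := by
    rw [← hfe]
    exact Nat.card_congr (Equiv.setCongr (Set.ext fun x => mem_line.symm))
  have he3 : e = 3 := by
    rcases he with rfl | h2 | h3
    · exfalso
      -- a small line: too few points
      obtain ⟨e₀, he₀, hue₀, hfu⟩ := hfus
      obtain ⟨d₁, hd₁, hd₁1⟩ : ∃ d ∈ A, d ≠ 1 := by
        refine A.bot_or_exists_ne_one.resolve_left fun e => ?_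
        have := D.card
        rw [e, card_bot] at this
        omega
      obtain ⟨g, hg, hgd⟩ := members_conj_line h hu hua hub hab he₀ (D.memA d₁ hd₁ hd₁1).1 hue₀.symm
        (D.memA d₁ hd₁ hd₁1).2.1.symm
      have hfu' : IsConj u (u * d₁) := hfu.trans (isConj_iff.2 ⟨g, by
        rw [← hgd, show g * (u * e₀) * g⁻¹ = g * u * g⁻¹ * (g * e₀ * g⁻¹) by group,
          (commute_of_mem hg).eq, mul_inv_cancel_right]⟩)
      have hlow := lower_bound_fused h hu hua hub hab (fun d hd hd1 => D.memA d hd hd1) hd₁ hd₁1 hfu'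
      rw [D.card, card_fixedBy_of_data D, hj, Nat.add_sub_cancel] at hlow
      -- the upper bound through `φ d`
      obtain ⟨d, hd, hd1, hφd⟩ := hflip
      obtain ⟨k, hk⟩ := isConj_iff.1 hφd
      have hde : d ∈ membersAt z φ a := ⟨(D.memA d hd hd1).1, hφA d hd, (D.memA d hd hd1).2.2⟩
      have hv2 : orderOf (φ * d) = 2 := by rw [← hk, ← MulAut.conj_apply, MulEquiv.orderOf_eq, hφ]
      have hva : (φ * d) • a = a := by rw [mul_smul, (D.memA d hd hd1).2.2, hφa]
      have hvf : Nat.card (fixedBy α (φ * d)) = q + 1 := by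
        rw [← hk, card_fixedBy_conj, hfφ', pow_one]
      obtain ⟨b', hb', hb'a⟩ : ∃ b', (φ * d) • b' = b' ∧ b' ≠ a := by
        haveI : Nontrivial (fixedBy α (φ * d)) := Finite.one_lt_card_iff_nontrivial.1 (by omega)
        obtain ⟨⟨b', hb'⟩, hne⟩ := exists_ne (⟨a, hva⟩ : fixedBy α (φ * d))
        exact ⟨b', hb', fun e => hne (Subtype.ext e)⟩
      have hvA : ∀ c ∈ A, Commute (φ * d) c := fun c hc =>
        (hφA c hc).mul_left (D.centQ d hd c (D.leQ hc))
      obtain ⟨hrv, hqv, -⟩ := C.chosen.of_clique h hclA hcardA hv2 hvA hb'a.symm hva hb'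
      rw [hq] at hqv
      obtain ⟨B, R, Y, r, i, Lv⟩ := (C.lines (φ * d) a b' hv2 hva hb' hb'a.symm).2 hrv.2.2
      obtain rfl : r = q := (cliqueNum_eq h hv2 hva Lv).symm.trans hqv
      have hF : LineFacts α z := lineFacts_of_below h C.below fun K hK =>
        lt_of_le_of_ne (card_le_card_group _) fun e => hK ((Subgroup.card_eq_iff_eq_top _).1 e)
      have hup := (line_points_bound h hF hφ hφa (fun e => hab (centre_unique h e hφa hφb)) hφb hab hde
        (Lv.wide C.nonab h hv2 hb' hb'a) Lv).1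
      rw [hfφ', hvf, pow_one, Nat.add_sub_cancel] at hup
      have h5 : (r + 1) * (r * (r - 1)) + (r + 1) ≤ r * r ^ 3 := by
        obtain ⟨m, rfl⟩ : ∃ m, r = m + 4 := ⟨r - 4, by omega⟩
        rw [show m + 4 - 1 = m + 3 by omega]
        nlinarith [Nat.zero_le (m * m), Nat.zero_le (m * m * m)]
      omega
    · exact absurd (hee.1 h2) (by omega)
    · exact h3
  subst he3
  -- the data
  obtain ⟨B, R, Y, r, i, L⟩ := (C.lines φ a b hφ hφa hφb hab).2 hr.2.2
  obtain rfl : r = q := (cliqueNum_eq h hφ hφa L).symm.trans hqφ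
  obtain rfl : i = 3 := hinj (show r ^ i = r ^ 3 by have := card_fixedBy_of_data L; omega)
  obtain ⟨S, hRS, -, hSa, hsyl⟩ := exists_line_sylow h hφa hφ L
  obtain ⟨k, hk, hkA⟩ := hsyl A (D.twoQ.to_le D.leQ) fun d hd => mem_inf.2
    ⟨mem_centralizer_singleton_iff.2 (hφA d hd).symm.eq, D.Qfix (D.leQ hd)⟩
  have hkφ : Commute k φ := mem_centralizer_singleton_iff.1 (mem_inf.1 hk).1
  have hB : B.map (MulAut.conj k).toMonoidHom = A := by
    refine (Subgroup.eq_of_le_of_card_ge (fun d hd => ?_) ?_).symm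
    · refine ⟨k⁻¹ * d * k, ?_, by simp [mul_assoc]⟩
      rcases eq_or_ne d 1 with rfl | hd1
      · simp
      · exact member_mem_clique L hRS hSa h ((D.memA d hd hd1).1.trans (isConj_iff.2 ⟨k⁻¹, by rw [inv_inv]⟩))
          (hkA d hd) ((hkφ.inv_left.mul_left (hφA d hd).symm).mul_left hkφ)
    · rw [card_map_of_injective (MulAut.conj k).injective, L.card, D.card]
  have L' := L.conj hkφ (mem_stabilizer_iff.1 (mem_inf.1 hk).2)
  rw [hB] at L'
  refine ⟨_, _, L', hqφ.le, fun g hg hgφ hgfix _ => ?_⟩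
  -- the kernel
  have hV : IsKernel α φ (zpowers φ ⊔ zpowers g) := by
    refine ⟨(isPGroup_zpowers_of_two hφ).to_sup_of_normal_left' hg (zpowers_le.2
      (centralizer_le_normalizer _ (mem_centralizer_iff.2 fun w hw => by
        obtain ⟨i, rfl⟩ := mem_zpowers_iff.1 hw
        exact (hgφ.zpow_right i).eq.symm))), fun w hw => ?_⟩
    refine ⟨mem_centralizer_singleton_iff.1 ((sup_le (zpowers_le.2 (mem_centralizer_singleton_iff.2 rfl))
      (zpowers_le.2 (mem_centralizer_singleton_iff.2 hgφ.eq)) : _ ≤ centralizer ({φ} : Set G)) hw), fun p hp => ?_⟩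
    exact mem_stabilizer_iff.1 ((sup_le (zpowers_le.2 (mem_stabilizer_iff.2 hp))
      (zpowers_le.2 (mem_stabilizer_iff.2 (hgfix p hp))) : _ ≤ stabilizer G p) hw)
  have h2 : Nat.card (zpowers φ ⊔ zpowers g : Subgroup G) ≤ Nat.card (zpowers φ) := by
    rw [Nat.card_zpowers φ, hφ]
    refine ((le_kernelNum hV).trans (C.chosen.kernel φ hr (hqφ.trans hq.symm) ?_)).trans
      (kernelNum_le_two h hu hua D hker)
    rw [hfφ', card_fixedBy_of_data D, hj]
  exact (Subgroup.eq_of_le_of_card_ge le_sup_left h2) ▸ mem_sup_right (mem_zpowers g)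

end Cfsg.Lib.BenderSE.Crit2
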