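/-
Aschbacher's criterion, graph and field automorphisms excluded (notes/s1175_h7_graph2.md): on a line of unitary type
of the chosen involution `u` the group `Q⟨u⟩` is a maximal 2-subgroup of the centraliser of `u` at the point.
-/
import Cfsg.Agent.BenderSE.Criterion2.FieldMove
import Cfsg.Agent.BenderSE.Criterion2.GraphUnitary
import Cfsg.Agent.BenderSE.Criterion2.GraphEnd
import Cfsg.Agent.BenderSE.Criterion2.GraphSquare
import Cfsg.Agent.BenderSE.Criterion2.GraphFusion

set_option autoImplicit false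
set_option linter.unusedSectionVars false
set_option linter.style.haveILetI false

namespace Cfsg.Lib.BenderSE.Crit2

open Subgroup MulAction Cfsg.Lib.InvolCalc Cfsg.Lib.BenderSE.CritDep

universe u

variable {G α : Type u} [Group G] [Finite G] [MulAction G α] [Finite α] [FaithfulSMul G α] {z u : G} {a b : α}
  {A Q X P : Subgroup G} {q : ℕ}

/-- an outer involution of `P` gives a flip -/
theorem GraphSylow.exists_flip (S : GraphSylow z u a b A Q X q P) (h : Crit G α z)
    (crit : CriterionBelow.{u} (Nat.card G)) {φ : G} (hφ : φ ∈ P) (hφb : φ • b = b) (hnu : φ ∉ zpowers u)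
    (hφ2 : φ * φ = 1) : ∃ d ∈ A, d ≠ 1 ∧ IsConj φ (φ * d) := by
  obtain ⟨d, hd, hd1⟩ : ∃ d ∈ A, d ≠ 1 := by
    refine A.bot_or_exists_ne_one.resolve_left fun e => ?_
    have h1 := S.line.card
    rw [e, card_bot] at h1
    have := S.line.four
    omega
  obtain ⟨y, -, hy, hyd⟩ := S.exists_inverted h crit hφ hφb hnu (by rw [hφ2]; exact one_mem _) hd
  refine ⟨d, hd, hd1, isConj_iff.2 ⟨y, ?_⟩⟩
  rw [← (S.commute_A hφ hd).eq, ← hyd]
  have h1 : φ * y⁻¹ * φ⁻¹ = y := by
    rw [show φ * y⁻¹ * φ⁻¹ = (φ * y * φ⁻¹)⁻¹ by group, hy, inv_inv]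
  calc y * φ * y⁻¹ = y * (φ * y⁻¹ * φ⁻¹) * φ := by group
    _ = y * y * φ := by rw [h1]

/-- NO GRAPH AUTOMORPHISM: in `P` only `⟨u⟩` fixes a second point of the line -/
theorem GraphSylow.fix_le (S : GraphSylow z u a b A Q X q P) {Q₀ X₀ : Subgroup G}
    (C : LineCase α z u a A Q₀ X₀ q 3) (hfus : ∃ e, IsConj z e ∧ Commute u e ∧ IsConj u (u * e)) {c : G}
    (hc : c ∈ P) (hcb : c • b = b) : c ∈ zpowers u := by
  have h := C.crit
  have crit := C.below
  have hu2 := sq_of_order_two S.two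
  obtain ⟨n, hn⟩ : ∃ n : ℕ, c ^ 2 ^ n = 1 := by
    obtain ⟨n, hn⟩ := S.twoP ⟨c, hc⟩
    exact ⟨n, congrArg Subtype.val hn⟩
  induction n generalizing c with
  | zero => rw [pow_zero, pow_one] at hn; rw [hn]; exact one_mem _
  | succ n ih =>
    have hcc : c * c ∈ zpowers u := ih (mul_mem hc hc) (by rw [mul_smul, hcb, hcb])
      (by rw [← pow_two, ← pow_mul, ← pow_succ']; exact hn)
    by_contra hnu
    have hc2 : c * c = 1 :=
      (mem_zpowers_involution hu2 hcc).resolve_right (no_square S h crit hfus hc)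
    have hord : orderOf c = 2 := order_two_of_mul_self hc2 fun e => hnu (e ▸ one_mem _)
    have hcu : Commute u c := (S.commute_t hc).symm
    have hvP : u * c ∈ P := mul_mem S.memt hc
    have hvb : (u * c) • b = b := by rw [mul_smul, hcb, S.fixb]
    have hvnu : u * c ∉ zpowers u := fun e => hnu (by
      have h1 := mul_mem (mem_zpowers u) e
      rwa [← mul_assoc, hu2, one_mul] at h1)
    have hv2 : u * c * (u * c) = 1 := by rw [hcu.symm.mul_mul_mul_comm, hu2, hc2, one_mul]
    have hvord : orderOf (u * c) = 2 := order_two_of_mul_self hv2 fun e => hvnu (e ▸ one_mem _)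
    have hsub : ∀ {g : G}, g ∈ P → g • b = b → g ∉ zpowers u →
        Nat.card (fixSet α (zpowers u ⊔ zpowers g : Subgroup G)) = q + 1 :=
      fun hg hgb hgn => S.card_subline h crit hg hgb hgn
    obtain ⟨Qf, Xf, Lf, hmf, hkf⟩ := unitary_of_outer C rfl S.hker hfus hord (S.commute_t hc) S.ne S.fixb
      (S.smul_a hc) hcb (fun d hd => (S.commute_A hc hd).symm) (hsub hc hcb hnu)
      (S.exists_flip h crit hc hcb hnu hc2)
    obtain ⟨Qv, Xv, Lv, hmv, hkv⟩ := unitary_of_outer C rfl S.hker hfus hvord (S.commute_t hvP) S.ne S.fixb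
      (S.smul_a hvP) hvb (fun d hd => (S.commute_A hvP hd).symm) (hsub hvP hvb hvnu)
      (S.exists_flip h crit hvP hvb hvnu hv2)
    exact graph_triality h crit S.two hord hcu (fun e => hnu (e ▸ mem_zpowers u)) S.fixa S.fixb (S.smul_a hc) hcb
      S.ne S.line Lf Lv S.maxClique hmf hmv S.hker hkf hkv

/-- THE CENTRALISER: `Q⟨u⟩` is a maximal 2-subgroup of the centraliser of `u` at `a` -/
theorem LineCase.cent_eq (C : LineCase α z u a A Q X q 3)
    (hker : ∀ g : G, IsPGroup 2 (zpowers g) → Commute g u → (∀ p : α, u • p = p → g • p = p) →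
      (∀ d ∈ A, Commute g d) → g ∈ zpowers u)
    {B : Subgroup G} (hB : IsPGroup 2 B) (hBa : ∀ x ∈ B, x • a = a) (hBu : ∀ x ∈ B, Commute x u)
    (hQB : Q ⊔ zpowers u ≤ B) : B = Q ⊔ zpowers u := by
  haveI := C.simple
  have h := C.crit
  have D := C.data
  have hu := C.chosen.rank.1
  have hua := C.fixa
  obtain ⟨b, hub, hba⟩ := exists_other_point D
  have hfus := fused_of_unitary C.nonab h C.below hu hua D hker
  have hinf : B ⊓ localGen z u = Q := D.Qmax _ (hB.to_le inf_le_left) inf_le_right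
    (fun _ hx => mem_stabilizer_iff.2 (hBa _ (mem_inf.1 hx).1)) (le_inf (le_sup_left.trans hQB) D.Qle)
  have hBA : ∀ x ∈ B, x ∈ normalizer (A : Set G) := fun x hx => mem_normalizer_of_maps fun d hd => by
    have hQ : x * d * x⁻¹ ∈ Q := by
      rw [← hinf]
      exact mem_inf.2 ⟨mul_mem (mul_mem hx (hQB (mem_sup_left (D.leQ hd)))) (inv_mem hx),
        conj_mem_localGen (hBu x hx) (D.Qle (D.leQ hd))⟩
    by_cases hd1 : d = 1
    · simp [hd1]
    · exact D.invA _ hQ (by
        rw [← MulAut.conj_apply, MulEquiv.orderOf_eq]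
        exact order_two_of_mul_self (D.elem d hd) hd1)
  -- the part centralising `A`
  set V := B ⊓ cliqueCent a u A with hV
  obtain ⟨Q', X', P, S, hVP⟩ := exists_graphSylow hu hua hub hba.symm D
    (cliqueNum_eq h hu hua D).le hker (hB.to_le (inf_le_left : V ≤ B)) (inf_le_right : V ≤ _)
  have hfixV : ∀ x ∈ V, x • b = b → x ∈ zpowers u := fun x hx hxb => S.fix_le C hfus (hVP hx) hxb
  have hfix : ∀ (n : ℕ) (c : G), c ∈ B → c • b = b → c ^ 2 ^ n = 1 → c ∈ V := by
    intro n
    induction n with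
    | zero =>
      intro c _ _ e
      rw [pow_zero, pow_one] at e
      rw [e]
      exact one_mem _
    | succ n ih =>
      intro c hc hcb e
      have hcc := ih (c * c) (mul_mem hc hc) (by rw [mul_smul, hcb, hcb])
        (by rw [← pow_two, ← pow_mul, ← pow_succ']; exact e)
      have hcu := hfixV _ hcc (by rw [mul_smul, hcb, hcb])
      refine mem_inf.2 ⟨hc, mem_cliqueCent.2 ⟨hBu c hc, fun d hd => (Commute.symm ?_), hBa c hc⟩⟩
      refine C.centA_of_unitary rfl hub hba (hB.to_le (zpowers_le.2 hc)) (hBa c hc) hcb (hBu c hc) (hBA c hc)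
        (fun p hp => ?_) d hd
      exact mem_stabilizer_iff.1 (zpowers_le.2 (mem_stabilizer_iff.2 hp) hcu)
  refine le_antisymm (fun g hg => ?_) hQB
  have hgb : u • g • b = g • b := by rw [smul_smul, ← (hBu g hg).eq, mul_smul, hub]
  obtain ⟨x, ⟨hx, hxb⟩, -⟩ := D.regQ b (mem_line.2 hub) (g • b) (mem_line.2 hgb) hba
    fun e => hba (smul_left_cancel g (e.trans (hBa g hg).symm))
  have hcB : x⁻¹ * g ∈ B := mul_mem (inv_mem (hQB (mem_sup_left hx))) hg
  have hcb : (x⁻¹ * g) • b = b := by rw [mul_smul, ← hxb, inv_smul_smul]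
  obtain ⟨n, hn⟩ := hB ⟨_, hcB⟩
  rw [← mul_inv_cancel_left x g]
  exact mul_mem_sup hx (hfixV _ (hfix n _ hcB hcb (congrArg Subtype.val hn)) hcb)

end Cfsg.Lib.BenderSE.Crit2
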