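/-
Aschbacher's criterion, RootProp: on a line of unitary type the kernel of the chosen involution has no root of it.
A root would give, through the fusion of `u` with `u d`, a central element of the root group with square `d`, and
then the torus makes the root group abelian.
-/
import Cfsg.Agent.BenderSE.Criterion2.GraphSquare
import Cfsg.Agent.BenderSE.Criterion2.LineFibres
import Cfsg.Agent.BenderSE.Criterion2.Assemble

set_option autoImplicit false
set_option linter.unusedSectionVars false
set_option linter.style.haveILetI false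

namespace Cfsg.Lib.BenderSE.Crit2

open Subgroup MulAction Cfsg.Lib.InvolCalc Cfsg.Lib.BenderSE.CritDep

universe u

variable {G α : Type u} [Group G] [Finite G] [MulAction G α] [Finite α] [FaithfulSMul G α] {z u : G} {a b : α}
  {A Q X P : Subgroup G} {q : ℕ}

/-- no central element of a root group of unitary type squares to a non-trivial element of the clique -/
theorem GraphPre.no_central_root (S : GraphPre z u a b A Q X q P) (h : Crit G α z)
    (crit : CriterionBelow.{u} (Nat.card G)) {x : G} (hx : x ∈ Q) (hc : ∀ y ∈ Q, Commute x y)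
    (hx1 : x * x ≠ 1) : False := by
  have L := S.line
  have hA1 : ∀ {y : G}, y ∈ Q → y * y = 1 → y ∈ A := fun {y} hy hy2 => by
    by_cases hy1 : y = 1
    · rw [hy1]; exact one_mem A
    · exact L.invA y hy (order_two_of_mul_self hy2 hy1)
  have hsq := fun {y : G} (hy : y ∈ Q) => S.sq_mem h crit hy
  have hall : ∀ {y w : G}, y ∈ Q → w ∈ Q → Commute y w := by
    intro y w hy hw
    rcases eq_or_ne (y * y) 1 with hy2 | hy2
    · exact L.centQ y (hA1 hy hy2) w hw
    obtain ⟨t, ht, hte⟩ := L.transA _ (hsq hx) _ (hsq hy) hx1 hy2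
    have htQ : ∀ {v : G}, v ∈ Q → t * v * t⁻¹ ∈ Q := fun hv => (mem_normalizer_iff.1 (L.normQ ht) _).1 hv
    have htc : ∀ v ∈ Q, Commute (t * x * t⁻¹) v := fun v hv => by
      have h1 := (hc (t⁻¹ * v * t) (by simpa using (mem_normalizer_iff.1 (inv_mem (L.normQ ht)) v).1 hv)).map
        (MulAut.conj t).toMonoidHom
      simpa [mul_assoc] using h1
    set c := t * x * t⁻¹ with hcdef
    have hc2 : c * c = y * y := by rw [← hte, hcdef]; group
    have hyc : Commute y c := (htc y hy).symm
    have h2 : (y * c⁻¹) * (y * c⁻¹) = 1 := by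
      rw [(hyc.inv_right).symm.mul_mul_mul_comm, ← mul_inv_rev, hc2, mul_inv_cancel]
    have h3 := hA1 (mul_mem hy (inv_mem (htQ hx))) h2
    have := (L.centQ _ h3 w hw).mul_left (htc w hw)
    rwa [inv_mul_cancel_right] at this
  let f : Q →* G :=
    { toFun := fun y => (y : G) * y
      map_one' := one_mul 1
      map_mul' := fun y w => (hall w.2 y.2).mul_mul_mul_comm _ _ }
  have h1 : Nat.card f.range * Nat.card f.ker = Nat.card Q := GraphSigma.card_range_ker f
  have h2 : Nat.card f.range ≤ q := by
    rw [← L.card]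
    refine card_le_of_le ?_
    rintro _ ⟨y, rfl⟩
    exact hsq y.2
  have h3 : Nat.card f.ker ≤ q := by
    rw [← card_map_of_injective Q.subtype_injective (K := f.ker), ← L.card]
    refine card_le_of_le ?_
    rintro _ ⟨y, hy, rfl⟩
    exact hA1 y.2 hy
  rw [L.cardQ] at h1
  have h4 := L.four
  have h5 : q ^ 3 ≤ q * q := h1 ▸ Nat.mul_le_mul h2 h3
  nlinarith

/-- THE KERNEL of the chosen involution on a line of unitary type is `⟨u⟩` -/
theorem LineCase.strong_kernel (C : LineCase α z u a A Q X q 3)
    (hone : ∀ t : G, orderOf t = 2 → Commute t u → (∀ p : α, u • p = p → t • p = p) →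
      (∀ d ∈ A, Commute t d) → t = u) :
    ∀ g : G, IsPGroup 2 (zpowers g) → Commute g u → (∀ p : α, u • p = p → g • p = p) →
      (∀ d ∈ A, Commute g d) → g ∈ zpowers u := by
  have h := C.crit
  have crit := C.below
  have L := C.data
  have hu := C.chosen.rank.1
  have hua := C.fixa
  haveI := C.simple
  have hu2 := sq_of_order_two hu
  obtain ⟨b, hub, hba⟩ := exists_other_point L
  have hAu : ∀ d ∈ A, Commute d u := fun d hd => commute_of_mem (L.Qle (L.leQ hd))
  -- no root in the kernel
  have hroot : ∀ k : G, IsPGroup 2 (zpowers k) → Commute k u → (∀ p : α, u • p = p → k • p = p) →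
      (∀ d ∈ A, Commute k d) → k * k ≠ u := by
    intro k hk2 hku hkf hkA hkk
    obtain ⟨Q', X', P, S, hkP⟩ := exists_graphPre hu hua hub hba.symm L (cliqueNum_eq h hu hua L).le
      (V := zpowers k) hk2 (zpowers_le.2 (mem_cliqueCent.2 ⟨hku, fun d hd => (hkA d hd).symm, hkf a hua⟩))
    have hkP' : k ∈ P := hkP (mem_zpowers k)
    obtain ⟨d, hd, hd1, n, hnu, hnA, hnP⟩ :=
      S.exists_fusing h (fused_of_one C.nonab h crit hu hua L hone)
    have hkind : ∀ {v : G}, v ∈ P → FixesLine α u v → v * v = 1 → v = 1 ∨ v = u := fun {v} hv hvf hv2 => by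
      rcases eq_or_ne v 1 with e | e
      · exact Or.inl e
      · exact Or.inr (hone v (order_two_of_mul_self hv2 e) (S.commute_t hv) hvf fun e he => (S.commute_A hv he).symm)
    have hk'P : n * k * n⁻¹ ∈ P := (mem_normalizer_iff.1 hnP k).1 hkP'
    obtain ⟨x, hx, c, hc, hcb, e⟩ := S.decomp hk'P
    have hsq : x * (c * x * c⁻¹) * (c * c) = d * u := by
      rw [show x * (c * x * c⁻¹) * (c * c) = (x * c) * (x * c) by group, ← e, (hAu d hd).eq, ← hnu, ← hkk]
      group
    obtain ⟨hxd, hc2⟩ := S.decomp_eq (mul_mem hx (S.conj_mem_Q hc hx)) (S.line.leQ hd)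
      (by rw [mul_smul, hcb, hcb]) hub hsq
    by_cases hcf : FixesLine α u c
    · have hcx : ∀ {y : G}, y ∈ Q' → Commute c y := fun hy => S.commute_fixes hc hcf hy
      rw [(hcx hx).eq, mul_inv_cancel_right] at hxd
      have hex : ∀ y : Q', ∃ p : Q' × G, p.2 ∈ P ∧ (p.2 = 1 ∨ p.2 = u) ∧ n * y * n⁻¹ = p.1 * p.2 := fun y => by
        obtain ⟨y', hy', v, hv, hvf, -, hv2, e'⟩ := S.map_line h crit hnP hnA y.2
        exact ⟨(⟨y', hy'⟩, v), hv, hkind hv hvf hv2, e'⟩
      choose p hpP hp1 hpe using hex
      have hinj : Function.Injective fun y => (p y).1 := by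
        intro y y' (e' : (p y).1 = (p y').1)
        have hv : (p y).2⁻¹ * (p y').2 = 1 ∨ (p y).2⁻¹ * (p y').2 = u := by
          rcases hp1 y with h1 | h1 <;> rcases hp1 y' with h2 | h2 <;>
            simp [h1, h2, inv_of_order_two hu, hu2]
        have e2 : n * ((y : G)⁻¹ * y') * n⁻¹ = (p y).2⁻¹ * (p y').2 := by
          calc n * ((y : G)⁻¹ * y') * n⁻¹ = (n * y * n⁻¹)⁻¹ * (n * y' * n⁻¹) := by group
            _ = _ := by rw [hpe, hpe, e']; group
        set w := (y : G)⁻¹ * y'
        have hwQ : w ∈ Q' := mul_mem (inv_mem y.2) y'.2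
        have hw2 : w * w = 1 := by
          rw [← conj_eq_one_iff (a := n), show n * (w * w) * n⁻¹ = (n * w * n⁻¹) * (n * w * n⁻¹) by group, e2]
          rcases hv with hv | hv <;> rw [hv]
          · exact one_mul 1
          · exact hu2
        have hwA : w ∈ A := by
          by_cases hw1 : w = 1
          · rw [hw1]; exact one_mem A
          · exact S.line.invA w hwQ (order_two_of_mul_self hw2 hw1)
        refine Subtype.ext (inv_mul_eq_one.1 ?_)
        rcases hv with hv | hv
        · exact conj_eq_one_iff.1 (e2.trans hv)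
        · exfalso
          have hmem : u ∈ A := by rw [← hv, ← e2]; exact hnA w hwA
          exact (fun e3 => hba (centre_unique h e3 hub hua) : ¬ IsConj z u)
            (L.memA u hmem (ne_one_of_order_two hu)).1
      haveI : Finite Q' := inferInstance
      refine S.no_central_root h crit hx (fun y hy => ?_) (hxd ▸ hd1)
      obtain ⟨y₀, hy₀⟩ := (Finite.injective_iff_bijective.1 hinj).2 ⟨y, hy⟩
      have hy₀' : ((p y₀).1 : G) = y := congrArg Subtype.val hy₀
      have h1 : Commute (x * c) (y * (p y₀).2) := by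
        rw [← hy₀', ← hpe y₀, ← e]
        exact (S.commute_fixes hkP' hkf y₀.2).map (MulAut.conj n).toMonoidHom
      have hxcu : Commute (x * c) (p y₀).2 := by
        rcases hp1 y₀ with h2 | h2 <;> rw [h2]
        · exact Commute.one_right _
        · exact S.commute_t (mul_mem (S.leQ hx) hc)
      have h3 := h1.mul_right hxcu.inv_right
      rw [mul_inv_cancel_right] at h3
      have h4 := h3.mul_left (hcx hy).inv_left
      rwa [mul_inv_cancel_right] at h4
    · have hflip := S.flip h crit hc hcb hcf (fun p hp => by rw [hc2, hp]) hx (hxd ▸ hd)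
      rw [hflip, mul_inv_cancel] at hxd
      exact hd1 hxd.symm
  intro g hg
  obtain ⟨m, hm⟩ : ∃ m, g ^ 2 ^ m = 1 := by
    obtain ⟨m, hm⟩ := hg ⟨g, mem_zpowers g⟩
    exact ⟨m, congrArg Subtype.val hm⟩
  induction m generalizing g with
  | zero => intro _ _ _; rw [show g = 1 by simpa using hm]; exact one_mem _
  | succ m ih =>
    intro hgu hgf hgA
    have hgg : g * g ∈ zpowers u := ih (g * g)
      (hg.to_le (zpowers_le.2 (mul_mem (mem_zpowers g) (mem_zpowers g))))
      (by rw [← pow_two, ← pow_mul, ← pow_succ']; exact hm) (hgu.mul_left hgu)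
      (fun p hp => by rw [mul_smul, hgf p hp, hgf p hp]) fun d hd => (hgA d hd).mul_left (hgA d hd)
    rcases mem_zpowers_involution hu2 hgg with e | e
    · rcases eq_or_ne g 1 with rfl | hg1
      · exact one_mem _
      · rw [hone g (order_two_of_mul_self e hg1) hgu hgf hgA]
        exact mem_zpowers u
    · exact absurd e (hroot g hg hgu hgf hgA)

end Cfsg.Lib.BenderSE.Crit2
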