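/-
The Singer lemma for a group `H` acting affinely on an elementary abelian 2-group `A` through a cocycle
whose zeros act semilinearly and with odd order: the elements centralising `A` translate, unless `|A| = 8`.
-/
import Cfsg.Agent.BenderSE.Criterion2.StepKernel

set_option autoImplicit false
set_option linter.unusedSectionVars false
set_option linter.style.haveILetI false

namespace Cfsg.Lib.BenderSE.Crit2

open Subgroup MulAction

variable {G : Type*} [Group G] [Finite G]

/-- `h • a = c h * (h a h⁻¹)` is an affine action of `H` on `A` with `X` semiregular in the stabiliser of `1`. -/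
structure Affine (H A X : Subgroup G) (c : G → G) : Prop where
  elem : ∀ a ∈ A, a * a = 1
  four : 4 ≤ Nat.card A
  norm : ∀ h ∈ H, ∀ a ∈ A, h * a * h⁻¹ ∈ A
  mem : ∀ h ∈ H, c h ∈ A
  mul : ∀ h ∈ H, ∀ k ∈ H, c (h * k) = c h * (h * c k * h⁻¹)
  surj : ∀ a ∈ A, ∃ h ∈ H, c h = a
  le : X ≤ H
  zeroX : ∀ x ∈ X, c x = 1
  comm : ∀ x ∈ X, ∀ y ∈ X, ∀ a ∈ A, x * y * a * (x * y)⁻¹ = y * x * a * (y * x)⁻¹
  trans : ∀ a ∈ A, ∀ b ∈ A, a ≠ 1 → b ≠ 1 → ∃ x ∈ X, x * a * x⁻¹ = b
  semilinear : ∀ h ∈ H, c h = 1 → ∀ x ∈ X, ∃ y ∈ X,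
    ∀ a ∈ A, h * x * h⁻¹ * a * (h * x * h⁻¹)⁻¹ = y * a * y⁻¹
  odd : ∀ h ∈ H, c h = 1 → ∃ m : ℕ, Odd m ∧ ∀ a ∈ A, Commute (h ^ m) a

/-- conjugation of `H` on `A` -/
def Affine.act {H A X : Subgroup G} {c : G → G} (hH : Affine H A X c) : H →* MulAut A where
  toFun h :=
    { toFun := fun a => ⟨h.1 * a.1 * h.1⁻¹, hH.norm _ h.2 _ a.2⟩
      invFun := fun a => ⟨h.1⁻¹ * a.1 * h.1⁻¹⁻¹, hH.norm _ (inv_mem h.2) _ a.2⟩
      left_inv := fun a => Subtype.ext (by
        show h.1⁻¹ * (h.1 * a.1 * h.1⁻¹) * h.1⁻¹⁻¹ = a.1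
        group)
      right_inv := fun a => Subtype.ext (by
        show h.1 * (h.1⁻¹ * a.1 * h.1⁻¹⁻¹) * h.1⁻¹ = a.1
        group)
      map_mul' := fun a b => Subtype.ext (by
        show h.1 * (a.1 * b.1) * h.1⁻¹ = h.1 * a.1 * h.1⁻¹ * (h.1 * b.1 * h.1⁻¹)
        group) }
  map_one' := by
    ext a
    show (1 : G) * a.1 * (1 : G)⁻¹ = a.1
    group
  map_mul' h k := by
    ext a
    show h.1 * k.1 * a.1 * (h.1 * k.1)⁻¹ = h.1 * (k.1 * a.1 * k.1⁻¹) * h.1⁻¹
    group

theorem Affine.act_eq_one {H A X : Subgroup G} {c : G → G} (hH : Affine H A X c) (h : H) :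
    hH.act h = 1 ↔ ∀ a ∈ A, Commute h.1 a := by
  constructor
  · intro e a ha
    exact mul_inv_eq_iff_eq_mul.1 (congrArg Subtype.val (DFunLike.congr_fun e (⟨a, ha⟩ : A)))
  · intro hc
    ext a
    show h.1 * a.1 * h.1⁻¹ = a.1
    rw [(hc a.1 a.2).eq, mul_inv_cancel_right]

theorem Affine.comm_A {H A X : Subgroup G} {c : G → G} (hH : Affine H A X c) {a b : G} (ha : a ∈ A)
    (hb : b ∈ A) : a * b = b * a := by
  have h := hH.elem _ (mul_mem ha hb)
  rw [eq_inv_of_mul_eq_one_left h, mul_inv_rev, inv_eq_of_mul_eq_one_right (hH.elem b hb),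
    inv_eq_of_mul_eq_one_right (hH.elem a ha)]

theorem Affine.c_one {H A X : Subgroup G} {c : G → G} (hH : Affine H A X c) : c 1 = 1 :=
  hH.zeroX 1 (one_mem X)

/-- the elements centralising `A` translate, unless the group on `A` is the one of order 168 -/
theorem Affine.translation_or {H A X : Subgroup G} {c : G → G} (hH : Affine H A X c) :
    (∃ k ∈ H, (∀ a ∈ A, Commute k a) ∧ c k ≠ 1) ∨ (Nat.card A = 8 ∧ Nat.card hH.act.range = 168 ∧
      ∀ g : hH.act.range, orderOf g = 2 → Nat.card (centralizer ({g} : Set hH.act.range)) = 8) := by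
  classical
  refine or_iff_not_imp_left.2 fun hall => ?_
  push Not at hall
  let f : H →* MulAut A := hH.act
  letI : CommGroup A :=
    { (inferInstance : Group A) with mul_comm := fun a b => Subtype.ext (hH.comm_A a.2 b.2) }
  have hcw : ∀ h k : H, f h = f k → c h.1 = c k.1 := fun h k e => by
    have h1 : ∀ a ∈ A, Commute (h⁻¹ * k).1 a := (hH.act_eq_one (h⁻¹ * k)).1 (by
      show f (h⁻¹ * k) = 1
      rw [map_mul, map_inv, e, inv_mul_cancel])
    have h2 := hH.mul h.1 h.2 _ (h⁻¹ * k).2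
    rw [hall _ (h⁻¹ * k).2 h1, mul_one, mul_inv_cancel, mul_one] at h2
    rw [← h2]
    simp
  let L := f.range
  letI : DistribMulAction L (Additive A) :=
    { smul := fun g v => Additive.ofMul (g.1 v.toMul)
      one_smul := fun v => rfl
      mul_smul := fun g g' v => rfl
      smul_zero := fun g => congrArg Additive.ofMul (map_one g.1)
      smul_add := fun g v w => congrArg Additive.ofMul (map_mul g.1 v.toMul w.toMul) }
  let lift : L → H := fun g => Classical.choose g.2
  have hlift : ∀ g : L, f (lift g) = g.1 := fun g => Classical.choose_spec g.2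
  let cL : L → A := fun g => ⟨c (lift g).1, hH.mem _ (lift g).2⟩
  have hcL : ∀ (g : L) (h : H), f h = g.1 → (cL g : G) = c h.1 := fun g h e =>
    hcw _ _ ((hlift g).trans e.symm)
  letI : MulAction L A :=
    { smul := fun g a => cL g * g.1 a
      one_smul := fun a => by
        show cL 1 * (1 : MulAut A) a = a
        have : cL 1 = 1 := Subtype.ext (by rw [hcL 1 1 (map_one f)]; exact hH.c_one)
        rw [this, one_mul]
        rfl
      mul_smul := fun g g' a => by
        show cL (g * g') * (g.1 * g'.1) a = cL g * g.1 (cL g' * g'.1 a)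
        rw [map_mul, ← mul_assoc]
        have : cL (g * g') = cL g * g.1 (cL g') := Subtype.ext (by
          rw [hcL (g * g') (lift g * lift g') (by rw [map_mul, hlift, hlift]; rfl), Subgroup.coe_mul,
            hH.mul _ (lift g).2 _ (lift g').2, Subgroup.coe_mul, ← hlift g]
          rfl)
        rw [this]
        rfl }
  let xH : X →* H := Subgroup.inclusion hH.le
  let xb : Subgroup L := (f.rangeRestrict.comp xH).range
  have hstab : ∀ g : L, g ∈ stabilizer L (1 : A) ↔ (cL g : G) = 1 := fun g => by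
    show cL g * g.1 1 = 1 ↔ _
    rw [map_one, mul_one]
    exact Subtype.ext_iff
  haveI : Nontrivial A := Finite.one_lt_card_iff_nontrivial.1 (by have := hH.four; omega)
  have hdata : Singer.Data (Additive A) xb (1 : A) :=
    { faithful := fun g hg => Subtype.ext (MulEquiv.ext fun a => Additive.ofMul.injective (hg (Additive.ofMul a)))
      two := fun v => congrArg Additive.ofMul (Subtype.ext (hH.elem _ v.toMul.2) : v.toMul * v.toMul = 1)
      pre := (isPretransitive_iff_base (1 : A)).2 fun a => by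
        obtain ⟨h, h1, h3⟩ := hH.surj a.1 a.2
        refine ⟨⟨f ⟨h, h1⟩, ⟨h, h1⟩, rfl⟩, ?_⟩
        show cL _ * f ⟨h, h1⟩ 1 = a
        rw [map_one, mul_one]
        exact Subtype.ext ((hcL _ _ rfl).trans h3)
      card := rfl
      nontriv := exists_ne (0 : Additive A)
      le := by
        rintro _ ⟨x, rfl⟩
        exact (hstab _).2 ((hcL _ (xH x) rfl).trans (hH.zeroX x.1 x.2))
      normal := by
        have key : ∀ g ∈ stabilizer L (1 : A), ∀ x ∈ xb, g * x * g⁻¹ ∈ xb := by
          rintro g hg _ ⟨x, rfl⟩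
          obtain ⟨y, hy, hxy⟩ := hH.semilinear (lift g).1 (lift g).2 ((hstab g).1 hg) x.1 x.2
          refine ⟨⟨y, hy⟩, Subtype.ext ?_⟩
          show f (xH ⟨y, hy⟩) = g.1 * f (xH x) * g.1⁻¹
          rw [← hlift g, ← map_inv, ← map_mul, ← map_mul]
          ext a
          exact (hxy a.1 a.2).symm
        intro g hg
        refine mem_normalizer_iff.2 fun x => ⟨key g hg x, fun hx => ?_⟩
        have := key g⁻¹ (inv_mem hg) _ hx
        rwa [show g⁻¹ * (g * x * g⁻¹) * g⁻¹⁻¹ = x by group] at this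
      comm := by
        rintro _ ⟨x, rfl⟩ _ ⟨y, rfl⟩
        refine Subtype.ext ?_
        show f (xH x) * f (xH y) = f (xH y) * f (xH x)
        rw [← map_mul f, ← map_mul f]
        exact MulEquiv.ext fun a => Subtype.ext (hH.comm x.1 x.2 y.1 y.2 a.1 a.2)
      trans := by
        intro v w hv hw
        obtain ⟨x, hx, e⟩ := hH.trans _ v.toMul.2 _ w.toMul.2
          (fun e => hv (congrArg Additive.ofMul (Subtype.ext e : v.toMul = 1)))
          (fun e => hw (congrArg Additive.ofMul (Subtype.ext e : w.toMul = 1)))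
        exact ⟨_, ⟨⟨x, hx⟩, rfl⟩, congrArg Additive.ofMul (Subtype.ext e : f (xH ⟨x, hx⟩) v.toMul = w.toMul)⟩
      semireg := by
        rintro _ ⟨x, rfl⟩ hne b hb hfix
        refine hne (Subtype.ext ((hH.act_eq_one _).2 fun a ha => mul_inv_eq_iff_eq_mul.1 ?_))
        have h1 : cL ⟨f (xH x), xH x, rfl⟩ = 1 := Subtype.ext ((hcL _ (xH x) rfl).trans (hH.zeroX x.1 x.2))
        change cL ⟨f (xH x), xH x, rfl⟩ * f (xH x) b = b at hfix
        rw [h1, one_mul] at hfix
        have hb' : x.1 * b.1 * x.1⁻¹ = b.1 := congrArg Subtype.val hfix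
        by_cases ha1 : a = 1
        · rw [ha1]; group
        obtain ⟨y, hy, rfl⟩ := hH.trans b.1 b.2 a ha (fun e => hb (Subtype.ext e)) ha1
        calc x.1 * (y * b.1 * y⁻¹) * x.1⁻¹ = x.1 * y * b.1 * (x.1 * y)⁻¹ := by group
          _ = y * x.1 * b.1 * (y * x.1)⁻¹ := hH.comm x.1 x.2 y hy b.1 b.2
          _ = y * (x.1 * b.1 * x.1⁻¹) * y⁻¹ := by group
          _ = y * b.1 * y⁻¹ := by rw [hb']
      odd := by
        rw [← Nat.not_even_iff_odd, even_iff_two_dvd]
        intro h2
        haveI : Fact (Nat.Prime 2) := ⟨Nat.prime_two⟩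
        obtain ⟨g, hg⟩ := exists_prime_orderOf_dvd_card' 2 h2
        obtain ⟨m, hm, hkm⟩ := hH.odd _ (lift g.1).2 ((hstab g.1).1 g.2)
        have h3 : g ^ m = 1 := Subtype.ext (Subtype.ext (by
          rw [Subgroup.coe_pow, Subgroup.coe_pow, ← hlift g.1, ← map_pow]
          exact (hH.act_eq_one _).2 hkm))
        have h4 := orderOf_dvd_of_pow_eq_one h3
        rw [hg] at h4
        exact Nat.not_even_iff_odd.2 hm (even_iff_two_dvd.2 h4) }
  exact ⟨(Nat.card_congr Additive.ofMul).trans (Singer.card_eq_eight hdata), Singer.card_group_eq hdata,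
    fun g hg => Climb.card_centralizer_involution hdata hg⟩

/-- elements centralising `A` translate if `|A| ≠ 8` -/
theorem Affine.exists_translation {H A X : Subgroup G} {c : G → G} (hH : Affine H A X c)
    (hne : Nat.card A ≠ 8) : ∃ k ∈ H, (∀ a ∈ A, Commute k a) ∧ c k ≠ 1 :=
  hH.translation_or.resolve_right fun h => hne h.1

end Cfsg.Lib.BenderSE.Crit2
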