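/-
The setting of a line of type U3 with kernel `⟨u⟩` in the criterion (notes/s1175_h1_szu3.md): elementary facts
on `P = Q⟨u⟩`, and the affine action of its normaliser on the coset `uA`.
-/
import Cfsg.Agent.BenderSE.Criterion2.AffineSinger
import Cfsg.Agent.BenderSE.Criterion2.StepExists
import Cfsg.Agent.TICount.Common

set_option autoImplicit false
set_option linter.unusedSectionVars false
set_option linter.style.haveILetI false

namespace Cfsg.Lib.BenderSE.Crit2

open Subgroup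
open scoped commutatorElement

variable {G : Type*} [Group G]

/-- The data at a point of a line of type U3: `Q` is the root group, `A` its centre, `X` the torus and `e` in
`X` a norm-one element. -/
structure Root (M : Subgroup G) (D : G → Prop) (u : G) (A Q X : Subgroup G) (e : G) (q : ℕ) : Prop where
  two : orderOf u = 2
  memM : u ∈ M
  leQM : Q ≤ M
  leA : A ≤ Q
  XleM : X ≤ M
  commX : ∀ x ∈ X, ∀ y ∈ X, ∀ a ∈ A, x * y * a * (x * y)⁻¹ = y * x * a * (y * x)⁻¹
  centX : ∀ x ∈ X, Commute x u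
  centQ : ∀ g ∈ Q, Commute g u
  notQ : u ∉ Q
  twoQ : IsPGroup 2 Q
  elem : ∀ a ∈ A, a * a = 1
  centA : ∀ a ∈ A, ∀ g ∈ Q, Commute a g
  invA : ∀ g ∈ Q, g * g = 1 → g ∈ A
  card : Nat.card A = q
  four : 4 ≤ q
  cardQ : Nat.card Q = q ^ 3
  normA : X ≤ normalizer (A : Set G)
  normQ : X ≤ normalizer (Q : Set G)
  transA : ∀ a ∈ A, ∀ b ∈ A, a ≠ 1 → b ≠ 1 → ∃ x ∈ X, x * a * x⁻¹ = b
  memA : ∀ a ∈ A, a ≠ 1 → D a
  conjD : ∀ g d : G, D d → D (g * d * g⁻¹)
  cosetA : ∀ a ∈ A, ¬ D (u * a)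
  semilinear : ∀ g ∈ M, Commute g u → g ∈ normalizer (A : Set G) → ∀ x ∈ X, ∃ y ∈ X,
    ∀ a ∈ A, g * x * g⁻¹ * a * (g * x * g⁻¹)⁻¹ = y * a * y⁻¹
  irrX : ∀ Y : Subgroup G, A ≤ Y → Y ≤ Q → X ≤ normalizer (Y : Set G) → Y = A ∨ Y = Q
  eX : e ∈ X
  eA : ∀ a ∈ A, Commute e a
  eQ : ∀ g ∈ Q, Commute e g → g ∈ A
  oddE : Odd (orderOf e)
  /-- the line is invariant under the centraliser of `u` -/
  lineQ : ∀ g ∈ M, Commute g u → g ∈ normalizer ((Q ⊔ zpowers u : Subgroup G) : Set G) →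
    g ∈ normalizer (Q : Set G)
  /-- the elements over the kernel on `A` are scalars on `Q / A`, commuting with the torus -/
  linA : ∀ g ∈ M, ∀ h ∈ M, Commute g u → Commute h u → g ∈ normalizer (Q : Set G) →
    h ∈ normalizer (Q : Set G) → (∀ a ∈ A, Commute g a) → (h ∈ X ∨ ∀ a ∈ A, Commute h a) →
      ∀ z ∈ Q, (g * h * z * (g * h)⁻¹)⁻¹ * (h * g * z * (h * g)⁻¹) ∈ A
  bound : ∀ w ∈ M, IsConj u w → ∀ B : Subgroup G, B ≤ M → IsPGroup 2 B → (∀ b ∈ B, Commute b w) →
    Nat.card B ≤ 2 * q ^ 3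
  abBound : ∀ w ∈ M, IsConj u w → ∀ B : Subgroup G, B ≤ M → IsPGroup 2 B →
    (∀ b ∈ B, ∀ b' ∈ B, Commute b b') → (∀ b ∈ B, Commute b w) → Nat.card B ≤ 2 * q ^ 2
  abQ : ∀ x ∈ Q, x ∉ A → ∃ B : Subgroup G, B ≤ Q ∧ x ∈ B ∧ (∀ b ∈ B, ∀ b' ∈ B, Commute b b') ∧
    4 * q ≤ Nat.card B

namespace Root

variable {M : Subgroup G} {D : G → Prop} {u : G} {A Q X : Subgroup G} {e : G} {q : ℕ}

theorem u_sq (r : Root M D u A Q X e q) : u * u = 1 := by rw [← pow_two, ← r.two, pow_orderOf_eq_one]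

theorem u_inv (r : Root M D u A Q X e q) : u⁻¹ = u := inv_eq_of_mul_eq_one_right r.u_sq

theorem mem_P (r : Root M D u A Q X e q) {g : G} : g ∈ Q ⊔ zpowers u ↔ g ∈ Q ∨ g * u ∈ Q := by
  let B : Subgroup G :=
    { carrier := {g | g ∈ Q ∨ g * u ∈ Q}
      one_mem' := Or.inl (one_mem Q)
      mul_mem' := fun {a b} ha hb => by
        rcases hb with hb | hb
        · rcases ha with ha | ha
          · exact Or.inl (mul_mem ha hb)
          · refine Or.inr ?_
            rw [mul_assoc, (r.centQ b hb).eq, ← mul_assoc]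
            exact mul_mem ha hb
        · rcases ha with ha | ha
          · refine Or.inr ?_
            rw [mul_assoc]
            exact mul_mem ha hb
          · refine Or.inl ?_
            have h1 : u * (b * u) = b * u * u := (r.centQ _ hb).symm.eq
            rw [mul_assoc b u u, r.u_sq, mul_one] at h1
            rw [show a * b = a * (u * (b * u)) by rw [h1], ← mul_assoc]
            exact mul_mem ha hb
      inv_mem' := fun {a} ha => by
        rcases ha with ha | ha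
        · exact Or.inl (inv_mem ha)
        · refine Or.inr ?_
          have h1 : u * (a * u)⁻¹ = (a * u)⁻¹ * u := (r.centQ _ (inv_mem ha)).symm.eq
          rw [mul_inv_rev, ← mul_assoc, r.u_inv, r.u_sq, one_mul] at h1
          have h2 : a⁻¹ * u = (a * u)⁻¹ := by
            calc a⁻¹ * u = u * a⁻¹ * u * u := by rw [← h1]
              _ = u * a⁻¹ := by rw [mul_assoc, r.u_sq, mul_one]
              _ = (a * u)⁻¹ := by rw [mul_inv_rev, r.u_inv]
          exact h2 ▸ inv_mem ha }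
  constructor
  · intro hg
    exact (show Q ⊔ zpowers u ≤ B from sup_le (fun a ha => Or.inl ha)
      (zpowers_le.2 (Or.inr (by rw [r.u_sq]; exact one_mem Q)))) hg
  · rintro (hg | hg)
    · exact mem_sup_left hg
    · rw [← mul_inv_cancel_right g u]
      exact mul_mem (mem_sup_left hg) (mem_sup_right (inv_mem (mem_zpowers u)))

theorem u_mem_P : u ∈ Q ⊔ zpowers u := mem_sup_right (mem_zpowers u)

theorem P_le (r : Root M D u A Q X e q) : Q ⊔ zpowers u ≤ M := sup_le r.leQM (zpowers_le.2 r.memM)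

theorem u_commute (r : Root M D u A Q X e q) {p : G} (hp : p ∈ Q ⊔ zpowers u) : Commute p u := by
  rcases r.mem_P.1 hp with h | h
  · exact r.centQ p h
  · have h1 := (r.centQ _ h).mul_left (Commute.refl u)
    rwa [mul_assoc, r.u_sq, mul_one] at h1

theorem commute_A (r : Root M D u A Q X e q) {a p : G} (ha : a ∈ A) (hp : p ∈ Q ⊔ zpowers u) :
    Commute a p := by
  rcases r.mem_P.1 hp with h | h
  · exact r.centA a ha p h
  · have h1 := (r.centA a ha _ h).mul_right (r.centQ a (r.leA ha))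
    rwa [mul_assoc, r.u_sq, mul_one] at h1

theorem sq_mem (r : Root M D u A Q X e q) {p : G} (hp : p ∈ Q ⊔ zpowers u) : p * p ∈ Q := by
  rcases r.mem_P.1 hp with h | h
  · exact mul_mem h h
  · rw [show p * p = p * u * (p * u) by
      rw [show p * u * (p * u) = p * (u * p) * u by group, ← (r.u_commute hp).eq]
      rw [show p * (p * u) * u = p * p * (u * u) by group, r.u_sq, mul_one]]
    exact mul_mem h h

/-- a conjugate of `u` in `P` lies in `uA` -/
theorem conj_mem (r : Root M D u A Q X e q) {w : G} (hw : w ∈ Q ⊔ zpowers u) (hc : IsConj u w) :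
    u * w ∈ A := by
  obtain ⟨g, rfl⟩ := isConj_iff.1 hc
  have h2 : g * u * g⁻¹ * (g * u * g⁻¹) = 1 := by
    rw [show g * u * g⁻¹ * (g * u * g⁻¹) = g * (u * u) * g⁻¹ by group, r.u_sq, mul_one, mul_inv_cancel]
  rcases r.mem_P.1 hw with h | h
  · have hA := r.invA _ h h2
    by_cases h1 : g * u * g⁻¹ = 1
    · have hu : u = 1 := by
        calc u = g⁻¹ * (g * u * g⁻¹) * g := by group
          _ = 1 := by rw [h1]; group
      exact absurd (hu ▸ one_mem Q) r.notQ
    have := r.conjD g⁻¹ _ (r.memA _ hA h1)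
    rw [show g⁻¹ * (g * u * g⁻¹) * g⁻¹⁻¹ = u * 1 by group] at this
    exact absurd this (r.cosetA 1 (one_mem A))
  · have hcu := r.u_commute hw
    rw [show u * (g * u * g⁻¹) = g * u * g⁻¹ * u from hcu.symm.eq]
    refine r.invA _ h ?_
    rw [show g * u * g⁻¹ * u * (g * u * g⁻¹ * u) = g * u * g⁻¹ * (u * (g * u * g⁻¹)) * u by group,
      show u * (g * u * g⁻¹) = g * u * g⁻¹ * u from hcu.symm.eq,
      show g * u * g⁻¹ * (g * u * g⁻¹ * u) * u = g * u * g⁻¹ * (g * u * g⁻¹) * (u * u) by group, h2, r.u_sq, one_mul]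

section Finite

variable [Finite G]

theorem P_two (r : Root M D u A Q X e q) : IsPGroup 2 (Q ⊔ zpowers u : Subgroup G) := by
  haveI : Fact (Nat.Prime 2) := ⟨Nat.prime_two⟩
  have hu : IsPGroup 2 (zpowers u) := IsPGroup.of_card (n := 1) (by rw [Nat.card_zpowers, r.two, pow_one])
  refine r.twoQ.to_sup_of_normal_left' hu (zpowers_le.2 (mem_normalizer_iff.2 fun g => ?_))
  constructor
  · intro hg
    rwa [(r.centQ g hg).symm.eq, mul_inv_cancel_right]
  · intro hg
    have h := (r.centQ _ hg).eq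
    have e1 : u * g * u⁻¹ = g := by
      calc u * g * u⁻¹ = u⁻¹ * (u * (u * g * u⁻¹)) := by group
        _ = u⁻¹ * (u * g * u⁻¹ * u) := by rw [h]
        _ = g := by group
    rwa [e1] at hg

theorem card_P (r : Root M D u A Q X e q) : Nat.card (Q ⊔ zpowers u : Subgroup G) = 2 * q ^ 3 := by
  have h : ((Q ⊔ zpowers u : Subgroup G) : Set G) = (Q : Set G) ∪ (fun a => a * u) '' (Q : Set G) := by
    ext g
    rw [SetLike.mem_coe, r.mem_P, Set.mem_union, SetLike.mem_coe, Set.mem_image]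
    refine or_congr Iff.rfl ⟨fun hg => ⟨g * u, hg, by rw [mul_assoc, r.u_sq, mul_one]⟩, ?_⟩
    rintro ⟨a, ha, rfl⟩
    rw [mul_assoc, r.u_sq, mul_one]
    exact ha
  have hd : Disjoint (Q : Set G) ((fun a => a * u) '' (Q : Set G)) := by
    rw [Set.disjoint_left]
    rintro _ ha ⟨b, hb, rfl⟩
    exact r.notQ (by simpa using mul_mem (inv_mem hb) ha)
  rw [← SetLike.coe_sort_coe, Nat.card_coe_set_eq, h, Set.ncard_union_eq hd,
    Set.ncard_image_of_injective _ (mul_left_injective u), ← Nat.card_coe_set_eq, SetLike.coe_sort_coe, r.cardQ]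
  ring

/-- `Q / A` is abelian -/
theorem comm_mem (r : Root M D u A Q X e q) {g h : G} (hg : g ∈ Q) (hh : h ∈ Q) :
    g * h * g⁻¹ * h⁻¹ ∈ A := by
  classical
  haveI : Fact (Nat.Prime 2) := ⟨Nat.prime_two⟩
  haveI := r.twoQ.isNilpotent
  let A' : Subgroup Q := A.subgroupOf Q
  haveI : A'.Normal := ⟨fun a ha g => by
    rw [mem_subgroupOf, Subgroup.coe_mul, Subgroup.coe_mul, ← (r.centA _ (mem_subgroupOf.1 ha) g.1 g.2).eq,
      Subgroup.coe_inv, mul_inv_cancel_right]
    exact mem_subgroupOf.1 ha⟩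
  haveI : (commutator Q).Normal := inferInstance
  set Y := (A' ⊔ commutator Q).map Q.subtype with hY
  have hAY : A ≤ Y := fun a ha => ⟨⟨a, r.leA ha⟩, mem_sup_left (mem_subgroupOf.2 ha), rfl⟩
  have hXY : X ≤ normalizer (Y : Set G) := by
    have key : ∀ x ∈ X, Y.map (MulAut.conj x).toMonoidHom ≤ Y := by
      intro x hx
      have hxQ : x ∈ normalizer (Q : Set G) := r.normQ hx
      rw [hY, map_map, map_le_iff_le_comap, sup_le_iff]
      constructor
      · intro a ha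
        exact hAY ((mem_normalizer_iff.1 (r.normA hx) _).1 (mem_subgroupOf.1 ha))
      · rw [commutator_eq_closure, closure_le]
        rintro _ ⟨y, z, rfl⟩
        have hy : x * y.1 * x⁻¹ ∈ Q := (mem_normalizer_iff.1 hxQ _).1 y.2
        have hz : x * z.1 * x⁻¹ ∈ Q := (mem_normalizer_iff.1 hxQ _).1 z.2
        refine ⟨⁅(⟨_, hy⟩ : Q), ⟨_, hz⟩⁆, mem_sup_right ?_, ?_⟩
        · exact subset_closure ⟨_, _, rfl⟩
        · show x * y.1 * x⁻¹ * (x * z.1 * x⁻¹) * (x * y.1 * x⁻¹)⁻¹ * (x * z.1 * x⁻¹)⁻¹ =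
            x * (y.1 * z.1 * y.1⁻¹ * z.1⁻¹) * x⁻¹
          group
    exact fun x hx => mem_normalizer_iff_map_conj_eq.2
      (Subgroup.eq_of_le_of_card_ge (key x hx) (le_of_eq (card_map_of_injective (MulEquiv.injective _)).symm))
  rcases r.irrX Y hAY (map_subtype_le _) hXY with e1 | e1
  · rw [← e1]
    refine ⟨⁅(⟨g, hg⟩ : Q), ⟨h, hh⟩⁆, mem_sup_right ?_, rfl⟩
    rw [commutator_eq_closure]
    exact subset_closure ⟨_, _, rfl⟩
  · exfalso
    have htop : A' ⊔ commutator Q = ⊤ := by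
      rw [eq_top_iff]
      intro z _
      obtain ⟨z', hz', e2⟩ : z.1 ∈ Y := le_of_eq e1.symm z.2
      exact Subtype.ext e2 ▸ hz'
    have hlow : ∀ n : ℕ, commutator Q ≤ (Subgroup.lowerCentralSeries (⊤ : Subgroup Q) n) := by
      intro n
      induction n with
      | zero => exact le_top
      | succ n ih =>
        rw [_root_.commutator_def, commutator_le]
        intro y _ z _
        obtain ⟨a, ha, k, hk, rfl⟩ := mem_sup_of_normal_left.1 (htop.symm ▸ mem_top y : y ∈ A' ⊔ commutator Q)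
        have hac : ∀ w : Q, a * w = w * a := fun w => Subtype.ext (r.centA _ (mem_subgroupOf.1 ha) w.1 w.2).eq
        have : ⁅a * k, z⁆ = ⁅k, z⁆ := by
          rw [commutatorElement_def, commutatorElement_def, show a * k * z * (a * k)⁻¹ * z⁻¹ =
            a * (k * z * k⁻¹) * a⁻¹ * z⁻¹ by group, hac, mul_inv_cancel_right]
        rw [this]
        exact commutator_mem_commutator (ih hk) (mem_top z)
    obtain ⟨n, hn⟩ := Subgroup.nilpotent_iff_lowerCentralSeries.1 (inferInstance : Group.IsNilpotent Q)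
    have hbot : commutator Q = ⊥ := le_bot_iff.1 (hn ▸ hlow n)
    rw [hbot, sup_bot_eq] at htop
    have hc : Nat.card A' = q := by rw [Nat.card_congr (subgroupOfEquivOfLe r.leA).toEquiv, r.card]
    rw [htop, card_top, r.cardQ] at hc
    have h4 := r.four
    nlinarith [hc, Nat.mul_le_mul h4 h4]

/-- a 2-element of `C_M(u)` normalising `P` lies in `P` -/
theorem cent_mem (r : Root M D u A Q X e q) {g : G} (hgM : g ∈ M)
    (hgP : g ∈ normalizer ((Q ⊔ zpowers u : Subgroup G) : Set G)) (hg2 : IsPGroup 2 (zpowers g))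
    (hgu : Commute g u) : g ∈ Q ⊔ zpowers u := by
  haveI : Fact (Nat.Prime 2) := ⟨Nat.prime_two⟩
  let B : Subgroup G := (Q ⊔ zpowers u) ⊔ zpowers g
  have hB : IsPGroup 2 B := r.P_two.to_sup_of_normal_left' hg2 (zpowers_le.2 hgP)
  have hBu : B ≤ M ⊓ centralizer {u} := sup_le
    (fun p hp => mem_inf.2 ⟨r.P_le hp, mem_centralizer_singleton_iff.2 (r.u_commute hp).eq⟩)
    (zpowers_le.2 (mem_inf.2 ⟨hgM, mem_centralizer_singleton_iff.2 hgu.eq⟩))
  have hc := r.bound u r.memM (IsConj.refl u) B (hBu.trans inf_le_left) hB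
    fun b hb => mem_centralizer_singleton_iff.1 (mem_inf.1 (hBu hb)).2
  have heq := Subgroup.eq_of_le_of_card_ge (le_sup_left : Q ⊔ zpowers u ≤ B) (hc.trans r.card_P.ge)
  rw [heq]
  exact mem_sup_right (mem_zpowers g)

/-- `N_M(P)` preserves `A` -/
theorem norm_A (r : Root M D u A Q X e q) {h : G}
    (hh : h ∈ normalizer ((Q ⊔ zpowers u : Subgroup G) : Set G)) {a : G} (ha : a ∈ A) : h * a * h⁻¹ ∈ A := by
  by_cases ha1 : a = 1
  · rw [ha1, mul_one, mul_inv_cancel]
    exact one_mem A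
  have hP := (mem_normalizer_iff.1 hh a).1 (mem_sup_left (r.leA ha))
  have h2 : h * a * h⁻¹ * (h * a * h⁻¹) = 1 := by
    rw [show h * a * h⁻¹ * (h * a * h⁻¹) = h * (a * a) * h⁻¹ by group, r.elem a ha, mul_one, mul_inv_cancel]
  rcases r.mem_P.1 hP with h1 | h1
  · exact r.invA _ h1 h2
  · have hcu := r.u_commute hP
    have hA : h * a * h⁻¹ * u ∈ A := r.invA _ h1 (by
      rw [show h * a * h⁻¹ * u * (h * a * h⁻¹ * u) = h * a * h⁻¹ * (u * (h * a * h⁻¹)) * u by group,
        show u * (h * a * h⁻¹) = h * a * h⁻¹ * u from hcu.symm.eq,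
        show h * a * h⁻¹ * (h * a * h⁻¹ * u) * u = h * a * h⁻¹ * (h * a * h⁻¹) * (u * u) by group, h2, r.u_sq,
        one_mul])
    refine absurd (r.conjD h a (r.memA a ha ha1)) ?_
    rw [show h * a * h⁻¹ = u * (h * a * h⁻¹ * u) by
      calc h * a * h⁻¹ = h * a * h⁻¹ * (u * u) := by rw [r.u_sq, mul_one]
        _ = h * a * h⁻¹ * u * u := by group
        _ = u * (h * a * h⁻¹) * u := by rw [hcu.eq]
        _ = u * (h * a * h⁻¹ * u) := by group]
    exact r.cosetA _ hA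

/-- the class of `h u h⁻¹` in `uA` -/
def cls (u h : G) : G := u * (h * u * h⁻¹)

theorem cls_mem (r : Root M D u A Q X e q) {h : G}
    (hh : h ∈ normalizer ((Q ⊔ zpowers u : Subgroup G) : Set G)) : cls u h ∈ A :=
  r.conj_mem ((mem_normalizer_iff.1 hh u).1 u_mem_P) (isConj_iff.2 ⟨h, rfl⟩)

theorem cls_mul (r : Root M D u A Q X e q) (h k : G) : cls u (h * k) = cls u h * (h * cls u k * h⁻¹) := by
  unfold cls
  calc u * (h * k * u * (h * k)⁻¹) = u * (h * (1 * (k * u * k⁻¹)) * h⁻¹) := by group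
    _ = u * (h * (u * u * (k * u * k⁻¹)) * h⁻¹) := by rw [r.u_sq]
    _ = u * (h * u * h⁻¹) * (h * (u * (k * u * k⁻¹)) * h⁻¹) := by group

theorem cls_eq_one (r : Root M D u A Q X e q) {h : G} : cls u h = 1 ↔ Commute h u := by
  constructor
  · intro e1
    have h1 := inv_eq_of_mul_eq_one_right e1
    rw [r.u_inv] at h1
    exact mul_inv_eq_iff_eq_mul.1 h1.symm
  · intro hc
    show u * (h * u * h⁻¹) = 1
    rw [hc.eq, mul_inv_cancel_right, r.u_sq]

theorem cls_conj (r : Root M D u A Q X e q) {h : G} (hh : Commute h u) (k : G) :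
    cls u (h * k * h⁻¹) = h * cls u k * h⁻¹ := by
  unfold cls
  have h1 : h⁻¹ * u * h = u := by rw [mul_assoc, ← hh.eq, inv_mul_cancel_left]
  have h2 : h * u * h⁻¹ = u := by rw [hh.eq, mul_inv_cancel_right]
  calc u * (h * k * h⁻¹ * u * (h * k * h⁻¹)⁻¹) = u * (h * k * (h⁻¹ * u * h) * k⁻¹ * h⁻¹) := by group
    _ = h * u * h⁻¹ * (h * k * u * k⁻¹ * h⁻¹) := by rw [h1, h2]
    _ = h * (u * (k * u * k⁻¹)) * h⁻¹ := by group

theorem X_norm_P (r : Root M D u A Q X e q) :
    X ≤ normalizer ((Q ⊔ zpowers u : Subgroup G) : Set G) := fun x hx => mem_normalizer_iff.2 fun g => by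
  rw [r.mem_P, r.mem_P, show x * g * x⁻¹ * u = x * (g * u) * x⁻¹ by
    rw [mul_assoc, (r.centX x hx).inv_left.eq]; group]
  exact or_congr (mem_normalizer_iff.1 (r.normQ hx) g) (mem_normalizer_iff.1 (r.normQ hx) (g * u))

/-- an element of `X` fixing a non-trivial element of `A` centralises `A` -/
theorem centA_of_fix (r : Root M D u A Q X e q) {x : G} (hx : x ∈ X) {a : G} (ha : a ∈ A) (ha1 : a ≠ 1)
    (hfix : x * a * x⁻¹ = a) : ∀ b ∈ A, x * b * x⁻¹ = b := by
  intro b hb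
  by_cases hb1 : b = 1
  · rw [hb1, mul_one, mul_inv_cancel]
  obtain ⟨y, hy, rfl⟩ := r.transA a ha b hb ha1 hb1
  calc x * (y * a * y⁻¹) * x⁻¹ = x * y * a * (x * y)⁻¹ := by group
    _ = y * x * a * (y * x)⁻¹ := r.commX x hx y hy a ha
    _ = y * (x * a * x⁻¹) * y⁻¹ := by group
    _ = y * a * y⁻¹ := by rw [hfix]

/-- a 2-element moving `u` makes `N_M(P)` transitive on `uA` -/
theorem cls_surj (r : Root M D u A Q X e q) (S : Sylow 2 G) (hSM : (S : Subgroup G) ≤ M)
    (hPS : Q ⊔ zpowers u ≤ S) (hne : Q ⊔ zpowers u ≠ S) {a : G} (ha : a ∈ A) :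
    ∃ h ∈ M ⊓ normalizer ((Q ⊔ zpowers u : Subgroup G) : Set G), cls u h = a := by
  haveI : Fact (Nat.Prime 2) := ⟨Nat.prime_two⟩
  set P := Q ⊔ zpowers u with hP
  by_cases ha1 : a = 1
  · exact ⟨1, one_mem _, by rw [ha1, r.cls_eq_one]; exact Commute.one_left u⟩
  haveI := S.2.isNilpotent
  have hlt : P.subgroupOf (S : Subgroup G) < ⊤ :=
    lt_of_le_of_ne le_top fun e => hne (le_antisymm hPS (subgroupOf_eq_top.1 e))
  obtain ⟨y, hy, hyP⟩ := SetLike.exists_of_lt (normalizerCondition_of_isNilpotent _ hlt)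
  have hyn : (y : G) ∈ normalizer (P : Set G) := mem_normalizer_iff.2 fun g => by
    constructor
    · intro hg
      exact mem_subgroupOf.1 ((mem_normalizer_iff.1 hy ⟨g, hPS hg⟩).1 (mem_subgroupOf.2 hg))
    · intro hg
      have hgS : g ∈ (S : Subgroup G) := by
        have := mul_mem (mul_mem (inv_mem y.2) (hPS hg)) y.2
        simpa [mul_assoc] using this
      exact mem_subgroupOf.1 ((mem_normalizer_iff.1 hy ⟨g, hgS⟩).2 (mem_subgroupOf.2 hg))
  have hy1 : cls u (y : G) ≠ 1 := fun e1 => hyP (mem_subgroupOf.2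
    (r.cent_mem (hSM y.2) hyn (S.2.to_le (zpowers_le.2 y.2)) (r.cls_eq_one.1 e1)))
  obtain ⟨x, hx, hxa⟩ := r.transA _ (r.cls_mem hyn) a ha hy1 ha1
  exact ⟨x * y, mem_inf.2 ⟨mul_mem (r.XleM hx) (hSM y.2), mul_mem (r.X_norm_P hx) hyn⟩, by
    rw [r.cls_mul, r.cls_eq_one.2 (r.centX x hx), one_mul, hxa]⟩

/-- an element of `C_M(u)` normalising `P` has an odd power centralising `A` -/
theorem odd_power (r : Root M D u A Q X e q) {g : G} (hgM : g ∈ M)
    (hgP : g ∈ normalizer ((Q ⊔ zpowers u : Subgroup G) : Set G)) (hgu : Commute g u) :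
    ∃ m : ℕ, Odd m ∧ g ^ m ∈ Q ⊔ zpowers u := by
  obtain ⟨k, m, hm, hkm⟩ := Nat.exists_eq_two_pow_mul_odd (orderOf_pos g).ne'
  refine ⟨m, hm, r.cent_mem (pow_mem hgM m) (pow_mem hgP m) (fun x => ⟨k, ?_⟩) (hgu.pow_left m)⟩
  obtain ⟨i, hi⟩ := mem_zpowers_iff.1 x.2
  refine Subtype.ext ?_
  rw [Subgroup.coe_pow, Subgroup.coe_one, ← hi, ← zpow_natCast, ← zpow_mul, mul_comm, zpow_mul,
    zpow_natCast, ← pow_mul, mul_comm, ← hkm, pow_orderOf_eq_one, one_zpow]

/-- `N_M(P)` acts affinely on `uA` -/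
theorem affine (r : Root M D u A Q X e q) (S : Sylow 2 G) (hSM : (S : Subgroup G) ≤ M)
    (hPS : Q ⊔ zpowers u ≤ S) (hne : Q ⊔ zpowers u ≠ S) :
    Affine (M ⊓ normalizer ((Q ⊔ zpowers u : Subgroup G) : Set G)) A X (cls u) where
  elem := r.elem
  four := r.card ▸ r.four
  norm h hh a ha := r.norm_A (mem_inf.1 hh).2 ha
  mem h hh := r.cls_mem (mem_inf.1 hh).2
  mul h _ k _ := r.cls_mul h k
  surj a ha := r.cls_surj S hSM hPS hne ha
  le x hx := mem_inf.2 ⟨r.XleM hx, r.X_norm_P hx⟩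
  zeroX x hx := r.cls_eq_one.2 (r.centX x hx)
  comm x hx y hy a ha := r.commX x hx y hy a ha
  trans := r.transA
  semilinear h hh hc x hx := r.semilinear h (mem_inf.1 hh).1 (r.cls_eq_one.1 hc)
    (mem_normalizer_iff.2 fun a => ⟨fun ha => r.norm_A (mem_inf.1 hh).2 ha, fun ha => by
      have := r.norm_A (inv_mem (mem_inf.1 hh).2) ha
      rwa [show h⁻¹ * (h * a * h⁻¹) * h⁻¹⁻¹ = a by group] at this⟩) x hx
  odd h hh hc := by
    obtain ⟨m, hm, hmem⟩ := r.odd_power (mem_inf.1 hh).1 (mem_inf.1 hh).2 (r.cls_eq_one.1 hc)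
    exact ⟨m, hm, fun a ha => (r.commute_A ha hmem).symm⟩

/-- one element of `X` gives the action of all of them on `A` -/
theorem exists_generator (r : Root M D u A Q X e q) :
    ∃ x ∈ X, ∀ y ∈ X, ∃ n : ℕ, Climb.Same A y (x ^ n) := by
  classical
  letI : CommGroup A :=
    { (inferInstance : Group A) with
      mul_comm := fun a b => Subtype.ext (r.centA a.1 a.2 b.1 (r.leA b.2)).eq }
  let conjA : X → MulAut A := fun x =>
    { toFun := fun a => ⟨x.1 * a.1 * x.1⁻¹, (mem_normalizer_iff.1 (r.normA x.2) _).1 a.2⟩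
      invFun := fun a => ⟨x.1⁻¹ * a.1 * x.1⁻¹⁻¹, (mem_normalizer_iff.1 (r.normA (inv_mem x.2)) _).1 a.2⟩
      left_inv := fun a => Subtype.ext (by
        show x.1⁻¹ * (x.1 * a.1 * x.1⁻¹) * x.1⁻¹⁻¹ = a.1
        group)
      right_inv := fun a => Subtype.ext (by
        show x.1 * (x.1⁻¹ * a.1 * x.1⁻¹⁻¹) * x.1⁻¹ = a.1
        group)
      map_mul' := fun a b => Subtype.ext (by
        show x.1 * (a.1 * b.1) * x.1⁻¹ = x.1 * a.1 * x.1⁻¹ * (x.1 * b.1 * x.1⁻¹)
        group) }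
  let φ : X →* MulAut A :=
    { toFun := conjA
      map_one' := by
        ext a
        show (1 : G) * a.1 * (1 : G)⁻¹ = a.1
        group
      map_mul' := fun x y => by
        ext a
        show x.1 * y.1 * a.1 * (x.1 * y.1)⁻¹ = x.1 * (y.1 * a.1 * y.1⁻¹) * x.1⁻¹
        group }
  letI : CommGroup φ.range :=
    { (inferInstance : Group φ.range) with
      mul_comm := by
        rintro ⟨_, x, rfl⟩ ⟨_, y, rfl⟩
        refine Subtype.ext ?_
        show φ x * φ y = φ y * φ x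
        rw [← map_mul, ← map_mul]
        ext a
        exact r.commX x.1 x.2 y.1 y.2 a.1 a.2 }
  letI : DistribMulAction φ.range (Additive A) :=
    { smul := fun g v => Additive.ofMul (g.1 v.toMul)
      one_smul := fun v => rfl
      mul_smul := fun g g' v => rfl
      smul_zero := fun g => congrArg Additive.ofMul (map_one g.1)
      smul_add := fun g v w => congrArg Additive.ofMul (map_mul g.1 v.toMul w.toMul) }
  haveI : Nontrivial A := Finite.one_lt_card_iff_nontrivial.1 (by rw [r.card]; have := r.four; omega)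
  haveI : IsCyclic φ.range := Cfsg.Lib.TICount.isCyclic_of_no_fixed (E := Additive A) fun g v hv => by
    obtain ⟨_, x, rfl⟩ := g
    refine or_iff_not_imp_right.2 fun hv0 => Subtype.ext (MulEquiv.ext fun a => Subtype.ext ?_)
    have h1 : x.1 * (v.toMul : A).1 * x.1⁻¹ = (v.toMul : A).1 := congrArg (fun w : Additive A => (w.toMul).1) hv
    exact r.centA_of_fix x.2 v.toMul.2 (fun e => hv0 (congrArg Additive.ofMul (Subtype.ext e : v.toMul = 1)))
      h1 a.1 a.2
  obtain ⟨⟨_, x, rfl⟩, hx⟩ := IsCyclic.exists_monoid_generator (α := φ.range)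
  refine ⟨x, x.2, fun y hy => ?_⟩
  obtain ⟨n, hn⟩ := hx ⟨φ ⟨y, hy⟩, ⟨y, hy⟩, rfl⟩
  refine ⟨n, fun b hb => ?_⟩
  have h1 : φ ⟨y, hy⟩ = φ (x ^ n) := by
    rw [map_pow]
    exact (congrArg Subtype.val hn).symm
  exact congrArg (fun w : MulAut A => (w ⟨b, hb⟩ : G)) h1

end Finite

end Root

end Cfsg.Lib.BenderSE.Crit2
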