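/-
Aschbacher's criterion, a line of type U3 seen in `G`: the coordinates of `Q / A`, the torus with the element
centralising `A`, and the setting `Root` of the U3 end, from the data of the chosen involution and the hypothesis
that `Q⟨u⟩` is a Sylow subgroup of the centraliser of `u` at `a`.
-/
import Cfsg.Agent.BenderSE.Criterion2.Assemble
import Cfsg.Agent.BenderSE.Criterion2.RootModel
import Cfsg.Agent.BenderSE.Criterion2.RootBasic
import Cfsg.Agent.BenderSE.Criterion2.Lines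

set_option autoImplicit false
set_option linter.unusedSectionVars false
set_option linter.style.haveILetI false

namespace Cfsg.Lib.BenderSE.Crit2

open Subgroup MulAction Cfsg.Lib.InvolCalc Cfsg.Lib.BenderSE.CritDep

universe u

variable {G α : Type u} [Group G] [Finite G] [MulAction G α] [Finite α] [IsPretransitive G α]
  [FaithfulSMul G α] {z v : G} {a : α} {A Q X : Subgroup G} {q : ℕ}

/-- coordinates on `Q` with the torus `T` of a line of type U3 -/
structure RootCoords (α : Type u) [MulAction G α] (v : G) (a : α) (A Q T : Subgroup G) (e : G) (E : Type)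
    [Field E] (c : G → E) : Prop where
  mul : ∀ g ∈ Q, ∀ g' ∈ Q, c (g * g') = c g + c g'
  zero : ∀ g ∈ Q, (c g = 0 ↔ g ∈ A)
  sq : ∀ g ∈ Q, g * g ∈ A
  fixT : T ≤ stabilizer G a
  centT : ∀ x ∈ T, Commute x v
  normQ : T ≤ normalizer (Q : Set G)
  commT : ∀ x ∈ T, ∀ y ∈ T, ∀ d ∈ A, x * y * d * (x * y)⁻¹ = y * x * d * (y * x)⁻¹
  scalT : ∀ x ∈ T, ∃ k : E, ∀ p ∈ Q, c (x * p * x⁻¹) = k * c p
  transA : ∀ d ∈ A, ∀ d' ∈ A, d ≠ 1 → d' ≠ 1 → ∃ x ∈ T, x * d * x⁻¹ = d'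
  irr : ∀ Y : Subgroup G, A ≤ Y → Y ≤ Q → T ≤ normalizer (Y : Set G) → Y = A ∨ Y = Q
  eT : e ∈ T
  eA : ∀ d ∈ A, Commute e d
  eQ : ∀ g ∈ Q, Commute e g → g ∈ A
  oddE : Odd (orderOf e)
  semilinear : ∀ g : G, g • a = a → Commute g v → g ∈ normalizer (A : Set G) → ∀ x ∈ T, ∃ y ∈ T,
    ∀ d ∈ A, g * x * g⁻¹ * d * (g * x * g⁻¹)⁻¹ = y * d * y⁻¹
  scal : ∀ g : G, g • a = a → Commute g v → g ∈ normalizer (Q : Set G) → (∀ d ∈ A, Commute g d) →
    ∀ m : ℕ, Odd m → (∀ p ∈ Q, c (g ^ m * p * (g ^ m)⁻¹) = c p) →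
      ∃ k : E, ∀ p ∈ Q, c (g * p * g⁻¹) = k * c p

/-- the coordinates of the line of the chosen involution -/
theorem exists_coords (C : LineCase α z v a A Q X q 3) :
    ∃ (T : Subgroup G) (e : G) (E : Type) (_ : Field E) (c : G → E), RootCoords α v a A Q T e E c := by
  classical
  haveI : Fact (Nat.Prime 2) := ⟨Nat.prime_two⟩
  have h := C.crit
  have D := C.data
  have hv := C.chosen.rank.1
  have hva := C.fixa
  set W := zpowers v with hWdef
  have hW : IsPGroup 2 W := isPGroup_zpowers_of_two hv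
  have ha : a ∈ fixSet α W := mem_line.2 hva
  have hfix : (fixSet α W).Nontrivial := by
    rw [← Set.one_lt_ncard_iff_nontrivial, ← Nat.card_coe_set_eq, D.fixed]
    have := D.four
    have : 0 < q ^ 3 := pow_pos (by omega) 3
    omega
  have hn : Nat.card (lineImage α z W) < Nat.card G := by
    refine lt_of_le_of_lt (Nat.card_le_card_of_surjective _ (lineHom α z W).rangeRestrict_surjective) ?_
    refine lt_of_le_of_ne (card_le_card_group _) fun heq => ?_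
    have htop := eq_top_iff.1 ((Subgroup.card_eq_iff_eq_top _).1 heq)
    refine ne_one_of_order_two hv (eq_of_smul_eq_smul fun p : α => ?_)
    obtain ⟨g, rfl⟩ := h.transitive a p
    rw [one_smul, smul_smul, mem_centralizer_iff.1 (lineGen_le z W (htop (Subgroup.mem_top g))) v (mem_zpowers v),
      mul_smul, hva]
  have hloc : localGen z v = lineGen z W := localGen_eq_lineGen z v
  have hQY : Q ≤ lineGen z W := hloc ▸ D.Qle
  -- two commuting members
  obtain ⟨d₁, hd₁A, hd₁, d₂, hd₂A, hd₂, hne⟩ : ∃ d₁ ∈ A, d₁ ≠ 1 ∧ ∃ d₂ ∈ A, d₂ ≠ 1 ∧ d₁ ≠ d₂ := by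
    obtain ⟨d₁, hd₁, hd₁'⟩ := A.bot_or_exists_ne_one.resolve_left fun e => by
      have := D.four; rw [← D.card, e, Subgroup.card_bot] at this; omega
    by_contra hno
    push Not at hno
    have hsub : (A : Set G) ⊆ {1, d₁} := fun x hx => (eq_or_ne x 1).imp id fun hx1 => (hno d₁ hd₁ hd₁' x hx hx1).symm
    have h1 := Set.ncard_le_ncard hsub (Set.toFinite _)
    rw [← Nat.card_coe_set_eq, SetLike.coe_sort_coe, D.card, Set.ncard_pair hd₁'.symm] at h1
    have := D.four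
    omega
  have hmemA : ∀ d ∈ A, d ≠ 1 → IsConj z d ∧ (∀ w ∈ W, Commute d w) ∧ d • a = a := fun d hd hd1 => by
    obtain ⟨h1, h2, h3⟩ := D.memA d hd hd1
    exact ⟨h1, fun w hw => by obtain ⟨k, rfl⟩ := mem_zpowers_iff.1 hw; exact h2.symm.zpow_right k, h3⟩
  set a₀ : fixSet α W := ⟨a, ha⟩ with ha₀
  have cov := line_cover h hW hfix C.below hn (hmemA d₁ hd₁A hd₁).1 (hmemA d₂ hd₂A hd₂).1
    (D.centQ d₁ hd₁A d₂ (D.leQ hd₂A)) hne (hmemA d₁ hd₁A hd₁).2.1 (hmemA d₂ hd₂A hd₂).2.1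
    (a := a₀) (hmemA d₁ hd₁A hd₁).2.2
  set π : lineGen z W →* lineImage α z W := (lineHom α z W).rangeRestrict with hπdef
  haveI := cov.simple
  haveI := cov.trans
  have hπs : Function.Surjective π := cov.surj
  have hker : Odd (Nat.card π.ker) := cov.ker_odd
  have hsm : ∀ (y : lineGen z W) (p : fixSet α W), ((π y • p : fixSet α W) : α) = (y : G) • (p : α) :=
    fun y p => rfl
  have hstab : ∀ y : lineGen z W, π y ∈ stabilizer (lineImage α z W) a₀ ↔ (y : G) • a = a := fun y =>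
    ⟨fun h1 => congrArg Subtype.val (mem_stabilizer_iff.1 h1), fun h1 => mem_stabilizer_iff.2 (Subtype.ext h1)⟩
  obtain ⟨Qm, Cm, kk, ee, M⟩ := exists_modelData cov.setting
  obtain ⟨t, hs, hqk⟩ := RootModel.exists_simple cov.setting M
  have hR := hs.setup
  -- `Q` maps isomorphically onto the regular subgroup
  set Qy : Subgroup (lineGen z W) := Q.subgroupOf (lineGen z W) with hQy
  have hb₀ : ((t • a₀ : fixSet α W) : α) ≠ a := fun e => RankOne.ta_ne hR (Subtype.ext e)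
  set b : α := ((t • a₀ : fixSet α W) : α) with hbdef
  have hb : b ∈ fixSet α W := (t • a₀ : fixSet α W).2
  have hinj : ∀ y ∈ Qy, π y = 1 → y = 1 := by
    intro y hy hy1
    have h1 : (y : G) • b = b := by
      have := hsm y (t • a₀)
      rwa [hy1, one_smul, eq_comm] at this
    exact Subtype.ext ((D.regQ b hb b hb hb₀ hb₀).unique ⟨mem_subgroupOf.1 hy, h1⟩ ⟨one_mem Q, one_smul G b⟩)
  have hinj' : ∀ y ∈ Qy, ∀ y' ∈ Qy, π y = π y' → y = y' := fun y hy y' hy' e =>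
    inv_mul_eq_one.1 (hinj _ (mul_mem (inv_mem hy) hy') (by rw [map_mul, map_inv, e, inv_mul_cancel]))
  have hQyQ : Qy.map π ≤ Qm := by
    refine M.qmax _ (D.twoQ.comap_subtype.map π) ?_
    rintro _ ⟨y, hy, rfl⟩
    exact (hstab y).2 (mem_stabilizer_iff.1 (D.Qfix (mem_subgroupOf.1 hy)))
  have hcQy : Nat.card Qy = q ^ 3 := by
    rw [hQy, Nat.card_congr (subgroupOfEquivOfLe hQY).toEquiv, D.cardQ]
  have hcQm : Nat.card Qm = q ^ 3 := by
    have h1 := RankOne.card_pts hR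
    rw [show Nat.card (fixSet α W) = q ^ 3 + 1 from D.fixed] at h1
    omega
  have hcmap : ∀ K : Subgroup (lineGen z W), K ≤ Qy → Nat.card (K.map π) = Nat.card K := fun K hK => by
    refine (Nat.card_congr (Equiv.ofBijective (fun y : K => (⟨π y.1, y.1, y.2, rfl⟩ : K.map π)) ⟨?_, ?_⟩)).symm
    · exact fun y y' e => Subtype.ext (hinj' _ (hK y.2) _ (hK y'.2) (congrArg Subtype.val e))
    · rintro ⟨_, y, hy, rfl⟩
      exact ⟨⟨y, hy⟩, rfl⟩
  have hQmap : Qy.map π = Qm :=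
    Subgroup.eq_of_le_of_card_ge hQyQ (by rw [hcmap Qy le_rfl, hcQy, hcQm])
  -- the involutions at `a` are the images of `A`
  set Ay : Subgroup (lineGen z W) := A.subgroupOf (lineGen z W) with hAy
  have hAQy : Ay ≤ Qy := fun y hy => mem_subgroupOf.2 (D.leQ (mem_subgroupOf.1 hy))
  have hlift : ∀ i : lineImage α z W, i ∈ Qm → ∃ y ∈ Qy, π y = i := fun i hi => by
    rw [← hQmap] at hi
    exact hi
  have hAy2 : ∀ y ∈ Qy, (π y * π y = 1 ↔ (y : G) ∈ A) := by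
    intro y hy
    constructor
    · intro h1
      have h2 : (y : G) * y = 1 := congrArg Subtype.val (hinj (y * y) (mul_mem hy hy) (by rw [map_mul, h1]))
      by_cases h3 : (y : G) = 1
      · rw [h3]; exact one_mem A
      exact D.invA _ (mem_subgroupOf.1 hy) (order_two_of_mul_self h2 h3)
    · intro h1
      rw [← map_mul, show y * y = 1 from Subtype.ext (D.elem _ h1), map_one]
  have hZ : BenderSuzuki.zGroup hs = Ay.map π := by
    ext i
    constructor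
    · intro hi
      obtain ⟨y, hy, rfl⟩ := hlift i (BenderSuzuki.zGroup_le hs hi)
      exact ⟨y, mem_subgroupOf.2 ((hAy2 y hy).1 (RankOne.involGroup_sq hR hs.two hi)), rfl⟩
    · rintro ⟨y, hy, rfl⟩
      exact BenderSuzuki.mem_zGroup_of_sq hs (hQyQ ⟨y, hAQy hy, rfl⟩) ((hAy2 y (hAQy hy)).2 (mem_subgroupOf.1 hy))
  have hqNum : BenderSuzuki.qNum (lineImage α z W) a₀ = q := by
    rw [← BenderSuzuki.card_zGroup hs, hZ, hcmap Ay hAQy, hAy,
      Nat.card_congr (subgroupOfEquivOfLe (D.leQ.trans hQY)).toEquiv, D.card]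
  obtain ⟨F, E, _, _, _, _, _, _, ⟨Fr⟩⟩ := RootModel.exists_frame hs (by rw [hcQm, hqNum])
  have hinvA : ∀ i ∈ BenderSuzuki.invl (lineImage α z W) a₀, ∃ y ∈ Qy, (y : G) ∈ A ∧ π y = i := fun i hi => by
    have : i ∈ BenderSuzuki.zGroup hs := (BenderSuzuki.mem_zGroup hs).2 (Or.inr hi)
    rw [hZ] at this
    obtain ⟨y, hy, rfl⟩ := this
    exact ⟨y, hAQy hy, mem_subgroupOf.1 hy, rfl⟩
  have hAinv : ∀ y ∈ Ay, π y ≠ 1 → π y ∈ BenderSuzuki.invl (lineImage α z W) a₀ := fun y hy hy1 =>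
    ⟨M.qle (hQyQ ⟨y, hAQy hy, rfl⟩), hy1, (hAy2 y (hAQy hy)).2 (mem_subgroupOf.1 hy)⟩
  -- elements of the torus lift to the normaliser of `Q`
  set U : Subgroup (lineGen z W) := Qm.comap π with hU
  have hQU : Qy ≤ U := fun y hy => hQyQ ⟨y, hy, rfl⟩
  have hTlift : ∀ τ ∈ RootModel.torus Fr, ∃ y : lineGen z W, π y = τ ∧ y ∈ normalizer (Qy : Set (lineGen z W)) := by
    intro τ hτ
    obtain ⟨y₀, rfl⟩ := hπs τ
    have hτa : π y₀ ∈ stabilizer (lineImage α z W) a₀ := (mem_inf.1 (RootModel.torus_le Fr hτ)).1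
    let S : Sylow 2 U :=
      { toSubgroup := Qy.subgroupOf U
        isPGroup' := IsPGroup.comap_subtype (IsPGroup.comap_subtype D.twoQ : IsPGroup 2 Qy)
        is_maximal' := fun {P} hP hle => by
          have h1 := D.Qmax ((P.map U.subtype).map (lineGen z W).subtype) ((hP.map _).map _)
            (by rw [hloc]; exact map_subtype_le _) (by
              rintro _ ⟨_, ⟨⟨y, hyU⟩, -, rfl⟩, rfl⟩
              exact mem_stabilizer_iff.2 ((hstab y).1 (M.qle hyU)))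
            (fun g hg => ⟨⟨g, hQY hg⟩, ⟨⟨_, hQU (show (⟨g, hQY hg⟩ : lineGen z W) ∈ Qy from hg)⟩,
              hle (mem_subgroupOf.2 (show (⟨g, hQY hg⟩ : lineGen z W) ∈ Qy from hg)), rfl⟩, rfl⟩)
          refine le_antisymm (fun x hx => mem_subgroupOf.2 (mem_subgroupOf.2 ?_)) hle
          exact h1.le ⟨_, ⟨x, hx, rfl⟩, rfl⟩ }
    have hconjU : ∀ x ∈ Qy, y₀ * x * y₀⁻¹ ∈ U := fun x hx => by
      rw [hU, mem_comap, map_mul, map_mul, map_inv]
      exact (mem_normalizer_iff.1 (M.qn hτa) _).1 (hQyQ ⟨x, hx, rfl⟩)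
    obtain ⟨S', hS'⟩ := (IsPGroup.comap_subtype (K := U) ((IsPGroup.comap_subtype D.twoQ : IsPGroup 2 Qy).map
      (MulAut.conj y₀).toMonoidHom)).exists_le_sylow
    obtain ⟨k, hk⟩ := MulAction.exists_smul_eq U S S'
    obtain ⟨x, hx, hxk⟩ := hlift (π (k : lineGen z W)) k.2
    refine ⟨x * (k : lineGen z W)⁻¹ * y₀, by rw [map_mul, map_mul, map_inv, hxk, mul_inv_cancel, one_mul],
      mem_normalizer_of_maps fun p hp => ?_⟩
    have h1 : (⟨y₀ * p * y₀⁻¹, hconjU p hp⟩ : U) ∈ (S' : Subgroup U) :=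
      hS' (mem_subgroupOf.2 ⟨p, hp, rfl⟩)
    rw [← hk, Sylow.coe_subgroup_smul] at h1
    obtain ⟨s, hs', hsk⟩ := h1
    have h2 : (k : lineGen z W) * (s : lineGen z W) * (k : lineGen z W)⁻¹ = y₀ * p * y₀⁻¹ :=
      congrArg Subtype.val hsk
    rw [show x * (k : lineGen z W)⁻¹ * y₀ * p * (x * (k : lineGen z W)⁻¹ * y₀)⁻¹ =
      x * ((k : lineGen z W)⁻¹ * (y₀ * p * y₀⁻¹) * k) * x⁻¹ by group, ← h2,
      show (k : lineGen z W)⁻¹ * (k * s * (k : lineGen z W)⁻¹) * k = (s : lineGen z W) by group]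
    exact mul_mem (mul_mem hx (mem_subgroupOf.1 hs')) (inv_mem hx)
  set Ty : Subgroup (lineGen z W) := (RootModel.torus Fr).comap π ⊓ normalizer (Qy : Set (lineGen z W)) with hTy
  set T : Subgroup G := Ty.map (lineGen z W).subtype with hT
  obtain ⟨ey, hey, heyN⟩ := hTlift Fr.v (RootModel.v_mem_torus Fr)
  let c : G → E := fun g => if hg : g ∈ lineGen z W then Fr.ca (π ⟨g, hg⟩) else 0
  have hc : ∀ y : lineGen z W, c (y : G) = Fr.ca (π y) := fun y => dif_pos y.2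
  have hcQ : ∀ g (hg : g ∈ Q), c g = Fr.ca (π ⟨g, hQY hg⟩) := fun g hg => hc ⟨g, hQY hg⟩
  have hπQ : ∀ g (hg : g ∈ Q), π ⟨g, hQY hg⟩ ∈ Qm := fun g hg => hQyQ ⟨_, mem_subgroupOf.2 hg, rfl⟩
  have hnormA : ∀ y ∈ Ty, ∀ d ∈ A, (y : G) * d * (y : G)⁻¹ ∈ A := fun y hy d hd => by
    by_cases hd1 : d = 1
    · rw [hd1, mul_one, mul_inv_cancel]; exact one_mem A
    refine D.invA _ (mem_subgroupOf.1 ((mem_normalizer_iff.1 (mem_inf.1 hy).2
      ⟨d, hQY (D.leQ hd)⟩).1 (mem_subgroupOf.2 (D.leQ hd)))) ?_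
    show orderOf (MulAut.conj (y : G) d) = 2
    rw [MulEquiv.orderOf_eq]
    exact order_two_of_mul_self (D.elem d hd) hd1
  have hπA : ∀ d (hd : d ∈ A), d ≠ 1 →
      π ⟨d, hQY (D.leQ hd)⟩ ∈ BenderSuzuki.invl (lineImage α z W) a₀ := fun d hd hd1 =>
    hAinv _ (mem_subgroupOf.2 hd) fun e => hd1 (congrArg Subtype.val
      (hinj _ (mem_subgroupOf.2 (D.leQ hd)) e))
  have hAQ' : ∀ {g g' : G} (hg : g ∈ Q) (hg' : g' ∈ Q), π ⟨g, hQY hg⟩ = π ⟨g', hQY hg'⟩ → g = g' :=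
    fun hg hg' e => congrArg Subtype.val (hinj' _ (mem_subgroupOf.2 hg) _ (mem_subgroupOf.2 hg') e)
  have hconjA : ∀ y y' : lineGen z W, ∀ d (hd : d ∈ A), (y : G) * d * (y : G)⁻¹ ∈ A →
      (y' : G) * d * (y' : G)⁻¹ ∈ A →
      π y * π ⟨d, hQY (D.leQ hd)⟩ * (π y)⁻¹ = π y' * π ⟨d, hQY (D.leQ hd)⟩ * (π y')⁻¹ →
        (y : G) * d * (y : G)⁻¹ = (y' : G) * d * (y' : G)⁻¹ := fun y y' d hd h1 h2 e =>
    hAQ' (D.leQ h1) (D.leQ h2) (by
      rw [← map_inv, ← map_inv, ← map_mul, ← map_mul, ← map_mul, ← map_mul] at e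
      exact e)
  -- automorphisms induced by elements fixing `a`
  have hline : ∀ g : G, Commute g v → ∀ p ∈ fixSet α W, g • p ∈ fixSet α W := fun g hg p hp =>
    mem_line.2 (by rw [smul_smul, ← hg.eq, mul_smul, mem_line.1 hp])
  have hgen : ∀ g : G, Commute g v → ∀ y : lineGen z W, g * (y : G) * g⁻¹ ∈ lineGen z W := fun g hg y => by
    have := conj_mem_localGen (z := z) hg (x := (y : G)) (hloc.symm ▸ y.2)
    rwa [hloc] at this
  have hauto : ∀ g : G, g • a = a → Commute g v → g • b = b →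
      ∃ (φ : MulAut (lineImage α z W)) (σ : fixSet α W ≃ fixSet α W),
        RootModel.PairAut (a := a₀) (t := t) (Q := Qm) φ σ ∧
          ∀ y y' : lineGen z W, (y' : G) = g * y * g⁻¹ → φ (π y) = π y' := by
    intro g hga hgv hgb
    have hgi : Commute g⁻¹ v := hgv.inv_left
    let σ : fixSet α W ≃ fixSet α W :=
      { toFun := fun p => ⟨g • (p : α), hline g hgv p p.2⟩
        invFun := fun p => ⟨g⁻¹ • (p : α), hline _ hgi p p.2⟩
        left_inv := fun p => Subtype.ext (inv_smul_smul g (p : α))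
        right_inv := fun p => Subtype.ext (smul_inv_smul g (p : α)) }
    have himg : ∀ (k : G), Commute k v → ∀ (s : fixSet α W ≃ fixSet α W),
        (∀ p : fixSet α W, ((s p : fixSet α W) : α) = k • (p : α)) → ∀ y y' : lineGen z W,
        (y' : G) = k * y * k⁻¹ → (π y' : Equiv.Perm (fixSet α W)) = s * (π y : Equiv.Perm (fixSet α W)) * s⁻¹ := by
      intro k hk s hsp y y' e
      refine Equiv.ext fun p => Subtype.ext ?_
      show (y' : G) • (p : α) = ((s ((π y : Equiv.Perm (fixSet α W)) (s.symm p)) : fixSet α W) : α)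
      rw [hsp]
      have h1 : ((s.symm p : fixSet α W) : α) = k⁻¹ • (p : α) := by
        have := hsp (s.symm p)
        rw [s.apply_symm_apply] at this
        rw [this, inv_smul_smul]
      show _ = k • ((y : G) • ((s.symm p : fixSet α W) : α))
      rw [h1, e, mul_smul, mul_smul]
    let φ : MulAut (lineImage α z W) :=
      { toFun := fun l => ⟨σ * (l : Equiv.Perm (fixSet α W)) * σ⁻¹, by
          obtain ⟨y, rfl⟩ := hπs l
          rw [← himg g hgv σ (fun p => rfl) y ⟨_, hgen g hgv y⟩ rfl]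
          exact SetLike.coe_mem _⟩
        invFun := fun l => ⟨σ⁻¹ * (l : Equiv.Perm (fixSet α W)) * σ, by
          obtain ⟨y, rfl⟩ := hπs l
          have h1 := himg g⁻¹ hgi σ⁻¹ (fun p => rfl) y ⟨_, hgen _ hgi y⟩ rfl
          have h2 : σ⁻¹ * (π y : Equiv.Perm (fixSet α W)) * σ = σ⁻¹ * (π y : Equiv.Perm (fixSet α W)) * σ⁻¹⁻¹ := by
            rw [inv_inv]
          rw [h2, ← h1]
          exact SetLike.coe_mem _⟩
        left_inv := fun l => Subtype.ext (show σ⁻¹ * (σ * _ * σ⁻¹) * σ = _ by group)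
        right_inv := fun l => Subtype.ext (show σ * (σ⁻¹ * _ * σ) * σ⁻¹ = _ by group)
        map_mul' := fun l l' => Subtype.ext
          (show σ * ((l : Equiv.Perm (fixSet α W)) * l') * σ⁻¹ = σ * _ * σ⁻¹ * (σ * _ * σ⁻¹) by group) }
    have hφ : ∀ y y' : lineGen z W, (y' : G) = g * y * g⁻¹ → φ (π y) = π y' := fun y y' e =>
      Subtype.ext (himg g hgv σ (fun p => rfl) y y' e).symm
    have hmap : ∀ (l : lineImage α z W) (p : fixSet α W), φ l • σ p = σ (l • p) := fun l p => by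
      show (σ * (l : Equiv.Perm (fixSet α W)) * σ⁻¹) (σ p) = σ ((l : Equiv.Perm (fixSet α W)) p)
      simp
    have hfixa : σ a₀ = a₀ := Subtype.ext hga
    refine ⟨φ, σ, ⟨hmap, hfixa, Subtype.ext hgb, fun p hp => ?_⟩, hφ⟩
    refine M.qmax (Qm.map φ.toMonoidHom) (M.q2.map _) ?_ ⟨p, hp, rfl⟩
    rintro _ ⟨l, hl, rfl⟩
    rw [mem_stabilizer_iff]
    show φ l • a₀ = a₀
    conv_lhs => rw [← hfixa]
    rw [hmap, mem_stabilizer_iff.1 (M.qle hl), hfixa]
  have hadj : ∀ g : G, g • a = a → Commute g v →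
      ∃ x ∈ Q, (x * g) • a = a ∧ Commute (x * g) v ∧ (x * g) • b = b := by
    intro g hga hgv
    have hgb : g • b ≠ a := fun e => hb₀ (smul_left_cancel g (e.trans hga.symm))
    obtain ⟨x, ⟨hx, hxb⟩, -⟩ := D.regQ (g • b) (hline g hgv b hb) b hb hgb hb₀
    exact ⟨x, hx, by rw [mul_smul, hga, mem_stabilizer_iff.1 (D.Qfix hx)],
      (commute_of_mem (D.Qle hx)).mul_left hgv, by rw [mul_smul, hxb]⟩
  have hcmul : ∀ g ∈ Q, ∀ g' ∈ Q, c (g * g') = c g + c g' := fun g hg g' hg' => by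
    rw [hcQ _ (mul_mem hg hg'), hcQ g hg, hcQ g' hg',
      show (⟨g * g', hQY (mul_mem hg hg')⟩ : lineGen z W) = ⟨g, hQY hg⟩ * ⟨g', hQY hg'⟩ from rfl, map_mul,
      Fr.ca_mul _ (hπQ g hg) _ (hπQ g' hg')]
  have hczero : ∀ g ∈ Q, (c g = 0 ↔ g ∈ A) := fun g hg => by
    rw [hcQ g hg, Fr.ca_zero_iff _ (hπQ g hg)]
    exact hAy2 _ (mem_subgroupOf.2 hg)
  have hTfix : ∀ y ∈ Ty, (y : G) • a = a := fun y hy =>
    (hstab y).1 (mem_inf.1 (RootModel.torus_le Fr (mem_inf.1 hy).1)).1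
  have hTQ : ∀ y ∈ Ty, ∀ g ∈ Q, (y : G) * g * (y : G)⁻¹ ∈ Q := fun y hy g hg =>
    mem_subgroupOf.1 ((mem_normalizer_iff.1 (mem_inf.1 hy).2 ⟨g, hQY hg⟩).1 (mem_subgroupOf.2 hg))
  have heT : (ey : G) ∈ T := ⟨ey, mem_inf.2 ⟨show π ey ∈ _ from hey.symm ▸ RootModel.v_mem_torus Fr, heyN⟩, rfl⟩
  refine ⟨T, ey, E, inferInstance, c,
    { mul := hcmul
      zero := hczero
      sq := fun g hg => (hczero _ (mul_mem hg hg)).1 (by rw [hcmul g hg g hg, CharTwo.add_self_eq_zero])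
      fixT := by
        rintro _ ⟨y, hy, rfl⟩
        exact mem_stabilizer_iff.2 (hTfix y hy)
      centT := by
        rintro _ ⟨y, -, rfl⟩
        exact commute_of_mem (show (y : G) ∈ localGen z v from hloc.symm ▸ y.2)
      normQ := by
        rintro _ ⟨y, hy, rfl⟩
        exact mem_normalizer_of_maps fun g hg => hTQ y hy g hg
      commT := by
        rintro _ ⟨y, hy, rfl⟩ _ ⟨y', hy', rfl⟩ d hd
        refine hconjA (y * y') (y' * y) d hd (hnormA _ (mul_mem hy hy') d hd) (hnormA _ (mul_mem hy' hy) d hd) ?_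
        rw [map_mul, map_mul, (RootModel.torus_comm Fr (mem_inf.1 hy).1 (mem_inf.1 hy').1).eq]
      scalT := by
        rintro _ ⟨y, hy, rfl⟩
        obtain ⟨k, hk⟩ := RootModel.scalar_torus Fr (mem_inf.1 hy).1
        refine ⟨k, fun p hp => ?_⟩
        rw [hcQ p hp, ← hk _ (hπQ p hp), ← map_inv π, ← map_mul π, ← map_mul π]
        exact hc (y * ⟨p, hQY hp⟩ * y⁻¹)
      transA := by
        intro d hd d' hd' hd1 hd1'
        obtain ⟨k, hk, e⟩ := RankOne.conj_surj hR (hπA d hd hd1) (hπA d' hd' hd1')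
        obtain ⟨l, rfl⟩ := Fr.coord.kl_surj k hk
        obtain ⟨y, hy, hyN⟩ := hTlift _ (inv_mem (RootModel.kl_mem_torus Fr l))
        have hyT : y ∈ Ty := mem_inf.2 ⟨show π y ∈ _ from hy.symm ▸ inv_mem (RootModel.kl_mem_torus Fr l), hyN⟩
        refine ⟨y, ⟨y, hyT, rfl⟩, hAQ' (D.leQ (hnormA y hyT d hd)) (D.leQ hd') ?_⟩
        rw [show (⟨(y : G) * d * (y : G)⁻¹, hQY (D.leQ (hnormA y hyT d hd))⟩ : lineGen z W) =
          y * ⟨d, hQY (D.leQ hd)⟩ * y⁻¹ from rfl, map_mul, map_mul, map_inv, hy, inv_inv]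
        exact e
      irr := by
        intro Y hAY hYQ hTY
        by_cases hYA : Y ≤ A
        · exact Or.inl (le_antisymm hYA hAY)
        obtain ⟨p, hp, hpA⟩ := SetLike.not_le_iff_exists.1 hYA
        refine Or.inr (le_antisymm hYQ fun g hg => ?_)
        have h1 := RootModel.irreducible Fr (Y := (Y.subgroupOf (lineGen z W)).map π)
          (by rintro _ ⟨y, hy, rfl⟩; exact hQyQ ⟨y, hYQ hy, rfl⟩)
          (by
            rintro x hx _ ⟨y, hy, rfl⟩
            obtain ⟨w, rfl, hwN⟩ := hTlift x hx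
            refine ⟨w * y * w⁻¹, ?_, by rw [map_mul, map_mul, map_inv]⟩
            exact (mem_normalizer_iff.1 (hTY ⟨w, mem_inf.2 ⟨hx, hwN⟩, rfl⟩) _).1 hy)
          (p := π ⟨p, hQY (hYQ hp)⟩) ⟨_, hp, rfl⟩
          (by rw [← hcQ p (hYQ hp)]; exact fun e => hpA ((hczero p (hYQ hp)).1 e))
          (fun i hi hi2 => by
            obtain ⟨y, hy, rfl⟩ := hlift i hi
            exact ⟨y, hAY ((hAy2 y hy).1 hi2), rfl⟩)
        obtain ⟨y, hy, e⟩ : π ⟨g, hQY hg⟩ ∈ (Y.subgroupOf (lineGen z W)).map π := h1 ▸ hπQ g hg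
        exact hAQ' (hYQ hy) hg e ▸ hy
      eT := heT
      eA := by
        intro d hd
        by_cases hd1 : d = 1
        · rw [hd1]; exact Commute.one_right _
        have hy : ey ∈ Ty := mem_inf.2 ⟨show π ey ∈ _ from hey.symm ▸ RootModel.v_mem_torus Fr, heyN⟩
        refine mul_inv_eq_iff_eq_mul.1 (hAQ' (D.leQ (hnormA ey hy d hd)) (D.leQ hd) ?_)
        rw [show (⟨(ey : G) * d * (ey : G)⁻¹, hQY (D.leQ (hnormA ey hy d hd))⟩ : lineGen z W) =
          ey * ⟨d, hQY (D.leQ hd)⟩ * ey⁻¹ from rfl, map_mul, map_mul, map_inv, hey,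
          ← mem_centralizer_iff.1 (Subgroup.mem_inf.1 Fr.v_mem).2 _ (hπA d hd hd1), mul_inv_cancel_right]
      eQ := by
        intro g hg he
        refine (hczero g hg).1 ?_
        have h1 : π ey * π ⟨g, hQY hg⟩ * (π ey)⁻¹ = π ⟨g, hQY hg⟩ := by
          rw [← map_inv, ← map_mul, ← map_mul]
          exact congrArg π (Subtype.ext (mul_inv_eq_iff_eq_mul.2 he.eq))
        have h2 := Fr.ca_v _ (hπQ g hg)
        rw [← hey, h1, ← hcQ g hg] at h2
        by_contra hne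
        exact Fr.ε_ne (mul_right_cancel₀ hne (by rw [← h2, one_mul]))
      oddE := by
        have hvo : Odd (orderOf Fr.v) :=
          hR.odd_card.of_dvd_nat (Subgroup.orderOf_dvd_natCard _ (Subgroup.mem_inf.1 Fr.v_mem).1)
        have h1 : ey ^ orderOf Fr.v ∈ π.ker := by
          rw [MonoidHom.mem_ker, map_pow, hey, pow_orderOf_eq_one]
        have h2 : ey ^ (orderOf Fr.v * Nat.card π.ker) = 1 := by
          rw [pow_mul]
          exact orderOf_dvd_iff_pow_eq_one.1 (Subgroup.orderOf_dvd_natCard _ h1)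
        rw [Subgroup.orderOf_coe]
        exact (hvo.mul hker).of_dvd_nat (orderOf_dvd_of_pow_eq_one h2)
      semilinear := by
        rintro g hga hgv hgA _ ⟨x, hx, rfl⟩
        obtain ⟨x', hx', hga', hgv', hgb'⟩ := hadj g hga hgv
        obtain ⟨φ, σ, P, hφ⟩ := hauto _ hga' hgv' hgb'
        obtain ⟨l, w, hw, hl⟩ := P.map_torus Fr (mem_inf.1 hx).1
        obtain ⟨y, hy, hyN⟩ := hTlift _ (RootModel.kl_mem_torus Fr l)
        have hyT : y ∈ Ty := mem_inf.2 ⟨show π y ∈ _ from hy.symm ▸ RootModel.kl_mem_torus Fr l, hyN⟩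
        refine ⟨y, ⟨y, hyT, rfl⟩, fun d hd => ?_⟩
        have hgxA : g * (x : G) * g⁻¹ * d * (g * (x : G) * g⁻¹)⁻¹ ∈ A := by
          rw [show g * (x : G) * g⁻¹ * d * (g * (x : G) * g⁻¹)⁻¹ =
            g * ((x : G) * (g⁻¹ * d * g⁻¹⁻¹) * (x : G)⁻¹) * g⁻¹ by group]
          exact (mem_normalizer_iff.1 hgA _).1 (hnormA x hx _ ((mem_normalizer_iff.1 (inv_mem hgA) d).1 hd))
        set w' : lineGen z W := ⟨_, hgen g hgv x⟩ with hw'
        refine hconjA w' y d hd hgxA (hnormA y hyT d hd) ?_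
        by_cases hd1 : d = 1
        · subst hd1
          rw [show (⟨(1 : G), hQY (D.leQ hd)⟩ : lineGen z W) = 1 from rfl, map_one]
          group
        have h1 : φ (π x) = π (⟨x', hQY hx'⟩ * w' * ⟨x', hQY hx'⟩⁻¹) :=
          hφ x _ (show x' * (g * (x : G) * g⁻¹) * x'⁻¹ = x' * g * (x : G) * (x' * g)⁻¹ by group)
        rw [hl, map_mul, map_mul, map_inv] at h1
        set i := π ⟨d, hQY (D.leQ hd)⟩
        have hxi : ∀ p ∈ Qm, i * p = p * i := (M.qinvol i (order_two_of_mul_self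
          ((hπA d hd hd1)).2.2 (hπA d hd hd1).2.1) (hπA d hd hd1).1).2
        set p := π ⟨x', hQY hx'⟩
        have hp : p ∈ Qm := hπQ x' hx'
        have hpi : p⁻¹ * i = i * p⁻¹ := (hxi _ (inv_mem hp)).symm
        have hi' : Fr.kl l * i * (Fr.kl l)⁻¹ ∈ stabilizer (lineImage α z W) a₀ := (RankOne.conj_invol hR
          (mem_stabilizer_iff.1 (Subgroup.mem_inf.1 (Fr.coord.kl_D l)).1) (hπA d hd hd1)).1
        have hki : orderOf (Fr.kl l * i * (Fr.kl l)⁻¹) = 2 := by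
          show orderOf (MulAut.conj (Fr.kl l) i) = 2
          rw [MulEquiv.orderOf_eq]
          exact order_two_of_mul_self (hπA d hd hd1).2.2 (hπA d hd hd1).2.1
        have hkp := ((M.qinvol _ hki hi').2 _ hp)
        rw [show π w' = p⁻¹ * (Fr.kl l * w) * p by rw [h1]; group, hy]
        calc p⁻¹ * (Fr.kl l * w) * p * i * (p⁻¹ * (Fr.kl l * w) * p)⁻¹
            = p⁻¹ * (Fr.kl l * w) * (p * i) * p⁻¹ * (Fr.kl l * w)⁻¹ * p := by group
          _ = p⁻¹ * (Fr.kl l * (w * i * w⁻¹) * (Fr.kl l)⁻¹) * p := by rw [← hxi p hp]; group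
          _ = p⁻¹ * (Fr.kl l * i * (Fr.kl l)⁻¹ * p) := by
            rw [← mem_centralizer_iff.1 (Subgroup.mem_inf.1 hw).2 i (hπA d hd hd1), mul_inv_cancel_right,
              mul_assoc]
          _ = _ := by rw [hkp, inv_mul_cancel_left]
      scal := ?_ }⟩
  intro g hga hgv hgQ hgA m hm hpow
  obtain ⟨x', hx', hga', hgv', hgb'⟩ := hadj g hga hgv
  set g' := x' * g with hg'
  have hgQ' : ∀ p ∈ Q, g' * p * g'⁻¹ ∈ Q := fun p hp => by
    rw [hg', show x' * g * p * (x' * g)⁻¹ = x' * (g * p * g⁻¹) * x'⁻¹ by group]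
    exact mul_mem (mul_mem hx' ((mem_normalizer_iff.1 hgQ p).1 hp)) (inv_mem hx')
  obtain ⟨φ, σ, P, hφ⟩ := hauto g' hga' hgv' hgb'
  have hφQ : ∀ (p) (hp : p ∈ Q), φ (π ⟨p, hQY hp⟩) = π ⟨_, hQY (hgQ' p hp)⟩ := fun p hp => hφ _ _ rfl
  have hcx : c x'⁻¹ + c x' = 0 := by
    rw [← hcmul _ (inv_mem hx') _ hx', inv_mul_cancel]
    exact (hczero 1 (one_mem Q)).2 (one_mem A)
  have hsame : ∀ p ∈ Q, c (g' * p * g'⁻¹) = c (g * p * g⁻¹) := fun p hp => by
    have hp' := (mem_normalizer_iff.1 hgQ p).1 hp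
    rw [hg', show x' * g * p * (x' * g)⁻¹ = x' * (g * p * g⁻¹) * x'⁻¹ by group,
      hcmul _ (mul_mem hx' hp') _ (inv_mem hx'), hcmul _ hx' _ hp']
    linear_combination hcx
  have hinv : ∀ s ∈ BenderSuzuki.invl (lineImage α z W) a₀, φ s = s := fun s hs' => by
    obtain ⟨y, hy, hyA, rfl⟩ := hinvA s hs'
    have : g' * (y : G) * g'⁻¹ = y := by
      rw [hg', show x' * g * (y : G) * (x' * g)⁻¹ = x' * (g * y * g⁻¹) * x'⁻¹ by group, (hgA _ hyA).eq,
        mul_inv_cancel_right, ← (D.centQ _ hyA x' hx').eq, mul_inv_cancel_right]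
    exact hφ y y this.symm
  have hit : ∀ n : ℕ, ∀ p, ∀ hp : p ∈ Q, ∃ p' ∈ Q, ∃ hY : p' ∈ lineGen z W,
      (φ ^ n) (π ⟨p, hQY hp⟩) = π ⟨p', hY⟩ ∧ c p' = c (g ^ n * p * (g ^ n)⁻¹) := by
    intro n
    induction n with
    | zero => exact fun p hp => ⟨p, hp, hQY hp, rfl, by simp⟩
    | succ n ih =>
      intro p hp
      obtain ⟨p', hp', hY, e1, e2⟩ := ih p hp
      refine ⟨g' * p' * g'⁻¹, hgQ' p' hp', hQY (hgQ' p' hp'), ?_, ?_⟩
      · rw [pow_succ']
        show φ ((φ ^ n) _) = _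
        rw [e1, ← hφQ p' hp']
      · rw [hsame p' hp']
        have hw : g ^ n * p * (g ^ n)⁻¹ ∈ Q := (mem_normalizer_iff.1 (pow_mem hgQ n) p).1 hp
        set w := g ^ n * p * (g ^ n)⁻¹ with hwdef
        have hd : w⁻¹ * p' ∈ A := by
          refine (hczero _ (mul_mem (inv_mem hw) hp')).1 ?_
          rw [hcmul _ (inv_mem hw) _ hp', e2, ← hcmul _ (inv_mem hw) _ hw, inv_mul_cancel]
          exact (hczero 1 (one_mem Q)).2 (one_mem A)
        rw [show g * p' * g⁻¹ = g * w * g⁻¹ * (g * (w⁻¹ * p') * g⁻¹) by group,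
          hcmul _ ((mem_normalizer_iff.1 hgQ w).1 hw) _ (by rw [(hgA _ hd).eq, mul_inv_cancel_right]; exact D.leQ hd),
          (hgA _ hd).eq, mul_inv_cancel_right, (hczero _ (D.leQ hd)).2 hd, add_zero, hwdef, pow_succ']
        congr 1
        group
  have hgm : ∀ r ∈ Qm, Fr.ca ((φ ^ m) r) = Fr.ca r := fun r hr => by
    obtain ⟨y, hy, rfl⟩ := hlift r hr
    obtain ⟨p', hp', hY, e1, e2⟩ := hit m (y : G) (mem_subgroupOf.1 hy)
    rw [show (⟨(y : G), hQY (mem_subgroupOf.1 hy)⟩ : lineGen z W) = y from rfl] at e1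
    rw [e1, ← hc ⟨p', hY⟩, ← hc y]
    show c p' = _
    rw [e2, hpow _ (mem_subgroupOf.1 hy)]
  obtain ⟨k, hk⟩ := P.scalar_of_odd Fr hinv hm hgm
  refine ⟨k, fun p hp => ?_⟩
  rw [← hsame p hp, hcQ _ (hgQ' p hp), hcQ p hp, ← hk _ (hπQ p hp), hφQ p hp]

end Cfsg.Lib.BenderSE.Crit2
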