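/-
Aschbacher's criterion: a line of type U3 whose involution has `Q⟨v⟩` as Sylow subgroup of its centraliser at
`a` is in the setting `Root` of the U3 end.
-/
import Cfsg.Agent.BenderSE.Criterion2.RootLine

set_option autoImplicit false
set_option linter.unusedSectionVars false
set_option linter.style.haveILetI false

namespace Cfsg.Lib.BenderSE.Crit2

open Subgroup MulAction Cfsg.Lib.InvolCalc Cfsg.Lib.BenderSE.CritDep

universe u

variable {G α : Type u} [Group G] [Finite G] [MulAction G α] [Finite α] [IsPretransitive G α]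
  [FaithfulSMul G α] {z v : G} {a : α} {A Q X : Subgroup G} {q : ℕ}

/-- the involution of a line lies outside the group of its members -/
theorem notMem_lineGen (C : LineCase α z v a A Q X q 3) : v ∉ lineGen z (zpowers v) := by
  have h := C.crit
  have hv := C.chosen.rank.1
  intro hvY
  have hfix : (fixSet α (zpowers v)).Nontrivial := by
    rw [← Set.one_lt_ncard_iff_nontrivial, ← Nat.card_coe_set_eq, C.data.fixed]
    have := C.data.four
    have : 0 < q ^ 3 := pow_pos (by omega) 3
    omega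
  have hn : Nat.card (lineImage α z (zpowers v)) < Nat.card G := by
    refine lt_of_le_of_lt (Nat.card_le_card_of_surjective _
      (lineHom α z (zpowers v)).rangeRestrict_surjective) ?_
    refine lt_of_le_of_ne (card_le_card_group _) fun heq => ?_
    have htop := eq_top_iff.1 ((Subgroup.card_eq_iff_eq_top _).1 heq)
    refine ne_one_of_order_two hv (eq_of_smul_eq_smul fun p : α => ?_)
    obtain ⟨g, rfl⟩ := h.transitive a p
    rw [one_smul, smul_smul, mem_centralizer_iff.1 (lineGen_le z _ (htop (Subgroup.mem_top g))) v (mem_zpowers v),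
      mul_smul, C.fixa]
  have hk := line_ker_odd h (isPGroup_zpowers_of_two hv) hfix C.below hn
  have hmem : (⟨v, hvY⟩ : lineGen z (zpowers v)) ∈ (lineHom α z (zpowers v)).ker := by
    rw [MonoidHom.mem_ker]
    refine Equiv.ext fun p => Subtype.ext ?_
    rw [lineHom_apply]
    exact mem_line.1 p.2
  have h1 := Subgroup.orderOf_dvd_natCard _ hmem
  rw [Subgroup.orderOf_mk, hv] at h1
  exact Nat.not_even_iff_odd.2 hk (even_iff_two_dvd.2 h1)

/-- the setting of the U3 end -/
theorem exists_root (C : LineCase α z v a A Q X q 3)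
    (hC : ∀ B : Subgroup G, IsPGroup 2 B → (∀ b ∈ B, b • a = a) → (∀ b ∈ B, Commute b v) →
      Q ⊔ zpowers v ≤ B → B = Q ⊔ zpowers v) :
    ∃ (T : Subgroup G) (e : G), Root (stabilizer G a) (fun d => IsConj z d) v A Q T e q := by
  classical
  haveI : Fact (Nat.Prime 2) := ⟨Nat.prime_two⟩
  obtain ⟨T, e, E, iE, c, K⟩ := exists_coords C
  have h := C.crit
  have D := C.data
  have hv := C.chosen.rank.1
  have hvv : v * v = 1 := sq_of_order_two hv
  have hvY := notMem_lineGen C
  have hloc : localGen z v = lineGen z (zpowers v) := localGen_eq_lineGen z v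
  have hQv : ∀ g ∈ Q, Commute g v := fun g hg => commute_of_mem (D.Qle hg)
  have hnotQ : v ∉ Q := fun e => hvY (hloc ▸ D.Qle e)
  have hinvA : ∀ g ∈ Q, g * g = 1 → g ∈ A := fun g hg h2 => by
    by_cases h1 : g = 1
    · rw [h1]; exact one_mem A
    · exact D.invA g hg (order_two_of_mul_self h2 h1)
  set P := Q ⊔ zpowers v with hP
  have hvn : zpowers v ≤ normalizer (Q : Set G) := zpowers_le.2 (centralizer_le_normalizer _
    (mem_centralizer_iff.2 fun x hx => (hQv x hx).eq))
  have hPdec : ∀ g ∈ P, ∃ x ∈ Q, g = x ∨ g = x * v := by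
    intro g hg
    rw [hP, ← SetLike.mem_coe, coe_mul_of_right_le_normalizer_left _ _ hvn] at hg
    obtain ⟨x, hx, _, ⟨i, rfl⟩, rfl⟩ := hg
    refine ⟨x, hx, ?_⟩
    obtain ⟨j, rfl⟩ | ⟨j, rfl⟩ := Int.even_or_odd i
    · exact Or.inl (by simp [← two_mul, zpow_mul, pow_two, hvv])
    · exact Or.inr (by simp [zpow_add, zpow_mul, pow_two, hvv])
  have hPv : ∀ g ∈ P, Commute g v := fun g hg => by
    obtain ⟨x, hx, rfl | rfl⟩ := hPdec g hg
    · exact hQv _ hx
    · exact (hQv x hx).mul_left (Commute.refl v)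
  have hP2 : IsPGroup 2 P := D.twoQ.to_sup_of_normal_left' (isPGroup_zpowers_of_two hv) hvn
  have hPa : P ≤ stabilizer G a := sup_le D.Qfix (zpowers_le.2 (mem_stabilizer_iff.2 C.fixa))
  have hPcard : Nat.card P ≤ 2 * q ^ 3 := by
    have hsub : (P : Set G) ⊆ (Q : Set G) ∪ (fun x => x * v) '' (Q : Set G) := fun g hg => by
      obtain ⟨x, hx, rfl | rfl⟩ := hPdec g hg
      · exact Or.inl hx
      · exact Or.inr ⟨x, hx, rfl⟩
    refine (Nat.card_coe_set_eq _).le.trans ((Set.ncard_le_ncard hsub (Set.toFinite _)).trans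
      ((Set.ncard_union_le _ _).trans ?_))
    rw [two_mul]
    refine add_le_add ?_ ((Set.ncard_image_le (Set.toFinite _)).trans ?_) <;>
      rw [← Nat.card_coe_set_eq, SetLike.coe_sort_coe, D.cardQ]
  have hfix : (fixSet α (zpowers v)).Nontrivial := by
    rw [← Set.one_lt_ncard_iff_nontrivial, ← Nat.card_coe_set_eq, D.fixed]
    have := D.four
    have : 0 < q ^ 3 := pow_pos (by omega) 3
    omega
  -- a conjugate at `a` is conjugate under the stabiliser
  have hconjM : ∀ w ∈ stabilizer G a, IsConj v w → ∃ k : G, k • a = a ∧ k * v * k⁻¹ = w := by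
    intro w hw hvw
    obtain ⟨g, rfl⟩ := isConj_iff.1 hvw
    have hga : g⁻¹ • a ∈ fixSet α (zpowers v) := by
      refine mem_line.2 (MulAction.injective g ?_)
      show g • v • g⁻¹ • a = g • g⁻¹ • a
      rw [smul_inv_smul, smul_smul, smul_smul]
      exact mem_stabilizer_iff.1 hw
    haveI := line_transitive h (isPGroup_zpowers_of_two hv) hfix
    obtain ⟨y, hy⟩ := exists_smul_eq (lineGen z (zpowers v))
      (⟨a, mem_line.2 C.fixa⟩ : fixSet α (zpowers v)) ⟨g⁻¹ • a, hga⟩
    have hy' : (y : G) • a = g⁻¹ • a := congrArg Subtype.val hy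
    have hyv : Commute (y : G) v := commute_of_mem (hloc.symm ▸ y.2 : (y : G) ∈ localGen z v)
    refine ⟨g * y, by rw [mul_smul, hy', smul_inv_smul], ?_⟩
    rw [show g * (y : G) * v * (g * y)⁻¹ = g * ((y : G) * v * (y : G)⁻¹) * g⁻¹ by group, hyv.eq,
      mul_inv_cancel_right]
  -- a 2-group at `a` centralising a conjugate maps into `P`
  have hinto : ∀ w ∈ stabilizer G a, IsConj v w → ∀ B : Subgroup G, B ≤ stabilizer G a → IsPGroup 2 B →
      (∀ b ∈ B, Commute b w) → ∃ k : G, ∀ b ∈ B, k * b * k⁻¹ ∈ P := by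
    intro w hw hvw B hBa hB hBw
    obtain ⟨k, hka, rfl⟩ := hconjM w hw hvw
    set K := centralizer ({v} : Set G) ⊓ stabilizer G a with hK
    have hmemK : ∀ g, g ∈ K ↔ Commute g v ∧ g • a = a := fun g => by
      rw [hK, mem_inf, mem_centralizer_singleton_iff, mem_stabilizer_iff]; rfl
    let S : Sylow 2 K :=
      { toSubgroup := P.subgroupOf K
        isPGroup' := hP2.comap_subtype
        is_maximal' := fun {R} hR hle => by
          have h1 := hC (R.map K.subtype) (hR.map _) (by
            rintro _ ⟨r, -, rfl⟩; exact ((hmemK _).1 r.2).2) (by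
            rintro _ ⟨r, -, rfl⟩; exact ((hmemK _).1 r.2).1)
            (fun g hg => ⟨⟨g, (hmemK g).2 ⟨hPv g hg, mem_stabilizer_iff.1 (hPa hg)⟩⟩,
              hle (mem_subgroupOf.2 hg), rfl⟩)
          exact le_antisymm (fun r hr => mem_subgroupOf.2 (h1.le ⟨r, hr, rfl⟩)) hle }
    have hBK : ∀ b ∈ B, k⁻¹ * b * k⁻¹⁻¹ ∈ K := fun b hb => (hmemK _).2 ⟨by
      have := (hBw b hb).map (MulAut.conj k⁻¹).toMonoidHom
      simpa [mul_assoc] using this, by
      rw [inv_inv, mul_smul, mul_smul, hka, mem_stabilizer_iff.1 (hBa hb), inv_smul_eq_iff, hka]⟩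
    obtain ⟨S', hS'⟩ := (IsPGroup.comap_subtype (K := K)
      (hB.map (MulAut.conj k⁻¹).toMonoidHom)).exists_le_sylow
    obtain ⟨c', hc'⟩ := MulAction.exists_smul_eq K S' S
    refine ⟨(c' : G) * k⁻¹, fun b hb => ?_⟩
    have h1 : c' * (⟨_, hBK b hb⟩ : K) * c'⁻¹ ∈ (S : Subgroup K) := by
      rw [← hc', Sylow.coe_subgroup_smul]
      exact ⟨_, hS' (mem_subgroupOf.2 ⟨b, hb, rfl⟩), rfl⟩
    have h2 : (c' : G) * (k⁻¹ * b * k⁻¹⁻¹) * (c' : G)⁻¹ ∈ P := mem_subgroupOf.1 h1
    rwa [show (c' : G) * k⁻¹ * b * ((c' : G) * k⁻¹)⁻¹ = (c' : G) * (k⁻¹ * b * k⁻¹⁻¹) * (c' : G)⁻¹ by group]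
  have hcomm : ∀ x ∈ Q, ∀ y ∈ Q, x * y * x⁻¹ * y⁻¹ ∈ A := fun x hx y hy => by
    have hxi := inv_mem hx
    have hyi := inv_mem hy
    refine (K.zero _ (mul_mem (mul_mem (mul_mem hx hy) hxi) hyi)).1 ?_
    have h0 : ∀ g ∈ Q, c g + c g⁻¹ = 0 := fun g hg => by
      rw [← K.mul g hg _ (inv_mem hg), mul_inv_cancel]
      exact (K.zero 1 (one_mem Q)).2 (one_mem A)
    rw [K.mul _ (mul_mem (mul_mem hx hy) hxi) _ hyi, K.mul _ (mul_mem hx hy) _ hxi, K.mul _ hx _ hy]
    linear_combination h0 x hx + h0 y hy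
  have hTA : T ≤ normalizer (A : Set G) := fun x hx => mem_normalizer_of_maps fun d hd => by
    have h1 : x * d * x⁻¹ ∈ Q := (mem_normalizer_iff.1 (K.normQ hx) d).1 (D.leQ hd)
    refine hinvA _ h1 ?_
    rw [show x * d * x⁻¹ * (x * d * x⁻¹) = x * (d * d) * x⁻¹ by group, D.elem d hd, mul_one, mul_inv_cancel]
  refine ⟨T, e,
    { two := hv
      memM := mem_stabilizer_iff.2 C.fixa
      leQM := D.Qfix
      leA := D.leQ
      XleM := K.fixT
      commX := K.commT
      centX := K.centT
      centQ := hQv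
      notQ := hnotQ
      twoQ := D.twoQ
      elem := D.elem
      centA := D.centQ
      invA := hinvA
      card := D.card
      four := D.four
      cardQ := D.cardQ
      normA := hTA
      normQ := K.normQ
      transA := K.transA
      memA := fun d hd hd1 => (D.memA d hd hd1).1
      conjD := fun g d hd => hd.trans (isConj_iff.2 ⟨g, rfl⟩)
      cosetA := fun d hd hvd => hvY ?_
      semilinear := fun g hg hgv hgA => K.semilinear g (mem_stabilizer_iff.1 hg) hgv hgA
      irrX := K.irr
      eX := K.eT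
      eA := K.eA
      eQ := K.eQ
      oddE := K.oddE
      lineQ := fun g hg hgv hgP => mem_normalizer_of_maps fun x hx => ?_
      linA := ?_
      bound := fun w hw hvw B hBa hB hBw => ?_
      abBound := fun w hw hvw B hBa hB hab hBw => ?_
      abQ := fun x hx hxA => ?_ }⟩
  · have h1 : v * d ∈ lineGen z (zpowers v) := mem_lineGen hvd fun w hw => by
      obtain ⟨i, rfl⟩ := mem_zpowers_iff.1 hw
      exact ((Commute.refl v).mul_left (hQv d (D.leQ hd))).zpow_right i
    have h2 := mul_mem h1 (inv_mem (hloc ▸ D.Qle (D.leQ hd) : d ∈ lineGen z (zpowers v)))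
    rwa [mul_inv_cancel_right] at h2
  · -- `Q = P ∩ localGen`
    have h1 : g * x * g⁻¹ ∈ P := (mem_normalizer_iff.1 hgP x).1 (mem_sup_left hx)
    have h2 : g * x * g⁻¹ ∈ localGen z v := conj_mem_localGen hgv (D.Qle hx)
    obtain ⟨y, hy, e1 | e1⟩ := hPdec _ h1
    · exact e1 ▸ hy
    · exfalso
      refine hvY (hloc ▸ ?_)
      have := mul_mem (inv_mem (D.Qle hy)) h2
      rwa [e1, inv_mul_cancel_left] at this
  · -- the elements over the kernel are scalars
    intro g hg h' hh' hgv hhv hgQ hhQ hgA hhA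
    have hscal : ∀ g : G, g ∈ stabilizer G a → Commute g v → g ∈ normalizer (Q : Set G) →
        (∀ d ∈ A, Commute g d) → ∃ k : E, ∀ p ∈ Q, c (g * p * g⁻¹) = k * c p := by
      intro g hg hgv hgQ hgA
      obtain ⟨i, m, hm, him⟩ := Nat.exists_eq_two_pow_mul_odd (orderOf_pos g).ne'
      refine K.scal g (mem_stabilizer_iff.1 hg) hgv hgQ hgA m hm fun p hp => ?_
      have hgm2 : IsPGroup 2 (zpowers (g ^ m)) := fun x => ⟨i, Subtype.ext (by
        obtain ⟨j, hj⟩ := mem_zpowers_iff.1 x.2
        rw [Subgroup.coe_pow, Subgroup.coe_one, ← hj, ← zpow_natCast, ← zpow_mul, mul_comm, zpow_mul,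
          zpow_natCast, ← pow_mul, mul_comm, ← him, pow_orderOf_eq_one, one_zpow])⟩
      have hgmP : g ^ m ∈ normalizer (P : Set G) := mem_normalizer_of_maps fun x hx => by
        obtain ⟨y, hy, rfl | rfl⟩ := hPdec x hx
        · exact mem_sup_left ((mem_normalizer_iff.1 (pow_mem hgQ m) _).1 hy)
        · rw [show g ^ m * (y * v) * (g ^ m)⁻¹ = g ^ m * y * (v * (g ^ m)⁻¹) by group,
            ← ((hgv.pow_left m).inv_left).eq, ← mul_assoc]
          exact mul_mem (mem_sup_left ((mem_normalizer_iff.1 (pow_mem hgQ m) _).1 hy))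
            (mem_sup_right (mem_zpowers v))
      have hB := hC (P ⊔ zpowers (g ^ m)) (hP2.to_sup_of_normal_left' hgm2 (zpowers_le.2 hgmP))
        (fun b hb => mem_stabilizer_iff.1 ((sup_le hPa (zpowers_le.2 (pow_mem hg m))) hb))
        (fun b hb => mem_centralizer_singleton_iff.1 ((sup_le (fun p hp =>
          mem_centralizer_singleton_iff.2 (hPv p hp).eq) (zpowers_le.2
            (mem_centralizer_singleton_iff.2 (hgv.pow_left m).eq))) hb)) le_sup_left
      obtain ⟨y, hy, e1⟩ := hPdec _ (hB.le (mem_sup_right (mem_zpowers (g ^ m))))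
      have hgy : g ^ m * p * (g ^ m)⁻¹ = y * p * y⁻¹ := by
        rcases e1 with e1 | e1 <;> rw [e1]
        rw [show y * v * p * (y * v)⁻¹ = y * (v * p * v⁻¹) * y⁻¹ by group, (hQv p hp).symm.eq,
          mul_inv_cancel_right]
      rw [hgy, show y * p * y⁻¹ = y * p * y⁻¹ * p⁻¹ * p by group,
        K.mul _ (D.leQ (hcomm y hy p hp)) _ hp, (K.zero _ (D.leQ (hcomm y hy p hp))).2 (hcomm y hy p hp),
        zero_add]
    obtain ⟨k, hk⟩ := hscal g hg hgv hgQ hgA
    obtain ⟨l, hl⟩ : ∃ l : E, ∀ p ∈ Q, c (h' * p * h'⁻¹) = l * c p :=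
      hhA.elim (fun hT => K.scalT h' hT) (fun hA => hscal h' hh' hhv hhQ hA)
    intro p hp
    have hp1 := (mem_normalizer_iff.1 hgQ p).1 hp
    have hp2 := (mem_normalizer_iff.1 hhQ p).1 hp
    have q1 := (mem_normalizer_iff.1 hgQ _).1 hp2
    have q2 := (mem_normalizer_iff.1 hhQ _).1 hp1
    rw [show g * h' * p * (g * h')⁻¹ = g * (h' * p * h'⁻¹) * g⁻¹ by group,
      show h' * g * p * (h' * g)⁻¹ = h' * (g * p * g⁻¹) * h'⁻¹ by group]
    refine (K.zero _ (mul_mem (inv_mem q1) q2)).1 ?_
    have e3 : c (g * (h' * p * h'⁻¹) * g⁻¹) = c (h' * (g * p * g⁻¹) * h'⁻¹) := by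
      rw [hk _ hp2, hl p hp, hl _ hp1, hk p hp]
      ring
    rw [K.mul _ (inv_mem q1) _ q2, ← e3, ← K.mul _ (inv_mem q1) _ q1, inv_mul_cancel]
    exact (K.zero 1 (one_mem Q)).2 (one_mem A)
  · obtain ⟨k, hk⟩ := hinto w hw hvw B hBa hB hBw
    refine le_trans ?_ hPcard
    exact Nat.card_le_card_of_injective (fun b : B => (⟨k * b * k⁻¹, hk b b.2⟩ : P))
      fun b b' e1 => Subtype.ext (mul_left_cancel (mul_right_cancel (congrArg Subtype.val e1)))
  · obtain ⟨k, hk⟩ := hinto w hw hvw B hBa hB hBw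
    let f : B →* B :=
      { toFun := fun b => b * b
        map_one' := one_mul 1
        map_mul' := fun b b' => (show Commute b' b from Subtype.ext (hab b' b'.2 b b.2).eq).mul_mul_mul_comm b b' }
    have hsqA : ∀ g ∈ P, g * g ∈ A := fun g hg => by
      obtain ⟨x, hx, rfl | rfl⟩ := hPdec g hg
      · exact K.sq _ hx
      · rw [((hQv x hx).symm).mul_mul_mul_comm, hvv, mul_one]
        exact K.sq _ hx
    have hker : Nat.card f.ker ≤ 2 * q := by
      have hsub : ∀ b : f.ker, k * ((b : B) : G) * k⁻¹ ∈ (A : Set G) ∪ (fun x => x * v) '' (A : Set G) := by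
        intro b
        have hb2 : ((b : B) : G) * (b : B) = 1 := congrArg Subtype.val (MonoidHom.mem_ker.1 b.2)
        have hg2 : k * ((b : B) : G) * k⁻¹ * (k * ((b : B) : G) * k⁻¹) = 1 := by
          rw [show k * ((b : B) : G) * k⁻¹ * (k * ((b : B) : G) * k⁻¹) =
            k * (((b : B) : G) * (b : B)) * k⁻¹ by group, hb2, mul_one, mul_inv_cancel]
        obtain ⟨x, hx, e1 | e1⟩ := hPdec _ (hk _ (b : B).2)
        · rw [e1] at hg2 ⊢
          exact Or.inl (hinvA x hx hg2)
        · rw [e1] at hg2 ⊢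
          rw [((hQv x hx).symm).mul_mul_mul_comm, hvv, mul_one] at hg2
          exact Or.inr ⟨x, hinvA x hx hg2, rfl⟩
      refine (Nat.card_le_card_of_injective (fun b : f.ker => (⟨_, hsub b⟩ :
        ((A : Set G) ∪ (fun x => x * v) '' (A : Set G) : Set G))) fun b b' e1 =>
          Subtype.ext (Subtype.ext (mul_left_cancel (mul_right_cancel (congrArg Subtype.val e1))))).trans ?_
      rw [Nat.card_coe_set_eq]
      refine (Set.ncard_union_le _ _).trans ?_
      rw [two_mul]
      refine add_le_add ?_ ((Set.ncard_image_le (Set.toFinite _)).trans ?_) <;>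
        rw [← Nat.card_coe_set_eq, SetLike.coe_sort_coe, D.card]
    have hran : Nat.card f.range ≤ q := by
      rw [← D.card]
      refine Nat.card_le_card_of_injective (fun b : f.range => (⟨k * ((b : B) : G) * k⁻¹, ?_⟩ : A))
        fun b b' e1 => Subtype.ext (Subtype.ext (mul_left_cancel (mul_right_cancel (congrArg Subtype.val e1))))
      obtain ⟨_, b, rfl⟩ := b
      show k * ((b : G) * b) * k⁻¹ ∈ A
      rw [show k * ((b : G) * b) * k⁻¹ = k * b * k⁻¹ * (k * b * k⁻¹) by group]
      exact hsqA _ (hk b b.2)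
    rw [← f.ker.card_mul_index, Subgroup.index_ker]
    calc Nat.card f.ker * Nat.card f.range ≤ 2 * q * q := Nat.mul_le_mul hker hran
      _ = _ := by ring
  · let f : Q →* A :=
      { toFun := fun y => ⟨x * y * x⁻¹ * (y : G)⁻¹, hcomm x hx y y.2⟩
        map_one' := Subtype.ext (by simp)
        map_mul' := fun y y' => Subtype.ext (by
          show x * ((y : G) * y') * x⁻¹ * ((y : G) * y')⁻¹ = _
          rw [show x * ((y : G) * y') * x⁻¹ * ((y : G) * y')⁻¹ =
            x * y * x⁻¹ * (y : G)⁻¹ * ((y : G) * (x * y' * x⁻¹ * (y' : G)⁻¹) * (y : G)⁻¹) by group,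
            ← (D.centQ _ (hcomm x hx y' y'.2) y y.2).eq, mul_inv_cancel_right]
          rfl) }
    have hKbig : q ^ 2 ≤ Nat.card f.ker := by
      have h1 := f.ker.card_mul_index
      rw [Subgroup.index_ker, D.cardQ] at h1
      have h2 : Nat.card f.range ≤ q := by rw [← D.card]; exact Subgroup.card_le_card_group _
      have h4 := D.four
      by_contra hlt
      push Not at hlt
      have h5 : Nat.card f.ker * Nat.card f.range < q ^ 2 * q :=
        lt_of_le_of_lt (Nat.mul_le_mul_left _ h2) (Nat.mul_lt_mul_of_pos_right hlt (by omega))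
      rw [h1, ← pow_succ] at h5
      exact lt_irrefl _ h5
    obtain ⟨y, hyx, hyA, hyxA⟩ : ∃ y : f.ker, True ∧ ((y : Q) : G) ∉ A ∧ x⁻¹ * ((y : Q) : G) ∉ A := by
      by_contra hno
      push Not at hno
      have hsub : ∀ y : f.ker, ((y : Q) : G) ∈ (A : Set G) ∪ (fun d => x * d) '' (A : Set G) := fun y =>
        (em (((y : Q) : G) ∈ A)).imp id fun h1 => ⟨_, hno y trivial h1, by group⟩
      have h1 := Nat.card_le_card_of_injective (fun y : f.ker => (⟨_, hsub y⟩ :
        ((A : Set G) ∪ (fun d => x * d) '' (A : Set G) : Set G))) fun y y' e1 =>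
          Subtype.ext (Subtype.ext (congrArg Subtype.val e1 :))
      rw [Nat.card_coe_set_eq] at h1
      have h2 := (Set.ncard_union_le (A : Set G) _).trans
        (add_le_add le_rfl (Set.ncard_image_le (f := fun d => x * d) (s := (A : Set G)) (Set.toFinite _)))
      simp only [← Nat.card_coe_set_eq, SetLike.coe_sort_coe, D.card] at h1 h2
      have h4 := D.four
      have h6 : q ^ 2 ≤ q + q := hKbig.trans (h1.trans h2)
      nlinarith [h6, Nat.mul_le_mul_right q h4]
    have hy : ((y : Q) : G) ∈ Q := (y : Q).2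
    set y' := ((y : Q) : G) with hy'
    have hxy : Commute x y' := commutatorElement_eq_one_iff_commute.1
      (congrArg Subtype.val (MonoidHom.mem_ker.1 y.2))
    set gens : Set G := (A : Set G) ∪ {x, y'}
    set B := Subgroup.closure gens with hB
    have hgQ : gens ⊆ (Q : Set G) := Set.union_subset D.leQ (Set.insert_subset hx (Set.singleton_subset_iff.2 hy))
    have hgc : ∀ g ∈ gens, ∀ g' ∈ gens, Commute g g' := by
      intro g hg g' hg'
      rcases hg with hg | hg
      · exact D.centQ g hg g' (hgQ hg')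
      rcases hg' with hg' | hg'
      · exact (D.centQ g' hg' g (hgQ (Or.inr hg))).symm
      rcases hg with rfl | rfl <;> rcases hg' with rfl | rfl
      · exact Commute.refl _
      · exact hxy
      · exact hxy.symm
      · exact Commute.refl _
    have hBc : B ≤ centralizer (B : Set G) := by
      have h1 : B ≤ centralizer gens := (closure_le _).2 fun g hg =>
        mem_centralizer_iff.2 fun g' hg' => (hgc g' hg' g hg).eq
      rw [hB, centralizer_closure]
      exact hB ▸ h1
    refine ⟨B, (closure_le _).2 hgQ, subset_closure (Or.inr (Or.inl rfl)),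
      fun b hb b' hb' => mem_centralizer_iff.1 (hBc hb') b hb, ?_⟩
    let F : A × Bool × Bool → B := fun p => ⟨p.1 * (if p.2.1 then x else 1) * (if p.2.2 then y' else 1), by
      refine mul_mem (mul_mem (subset_closure (Or.inl p.1.2)) ?_) ?_
      · split
        · exact subset_closure (Or.inr (Or.inl rfl))
        · exact one_mem _
      · split
        · exact subset_closure (Or.inr (Or.inr rfl))
        · exact one_mem _⟩
    have hF : Function.Injective F := by
      have hc0 : ∀ d ∈ A, c d = 0 := fun d hd => (K.zero d (D.leQ hd)).2 hd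
      have hcF : ∀ p, c (F p) = (if p.2.1 then c x else 0) + (if p.2.2 then c y' else 0) := by
        rintro ⟨d, i, j⟩
        show c (d * (if i then x else 1) * (if j then y' else 1)) = _
        have hiQ : (if i then x else 1) ∈ Q := by split; exacts [hx, one_mem Q]
        have hjQ : (if j then y' else 1) ∈ Q := by split; exacts [hy, one_mem Q]
        rw [K.mul _ (mul_mem (D.leQ d.2) hiQ) _ hjQ, K.mul _ (D.leQ d.2) _ hiQ, hc0 d d.2, zero_add]
        cases i <;> cases j <;> simp [hc0 1 (one_mem A)]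
      have hxc : c x ≠ 0 := fun e1 => hxA ((K.zero x hx).1 e1)
      have hyc : c y' ≠ 0 := fun e1 => hyA ((K.zero y' hy).1 e1)
      have hne : c x ≠ c y' := fun e1 => hyxA ((K.zero _ (mul_mem (inv_mem hx) hy)).1 (by
        rw [K.mul _ (inv_mem hx) _ hy, ← e1, ← K.mul _ (inv_mem hx) _ hx, inv_mul_cancel]
        exact hc0 1 (one_mem A)))
      have h2 : ∀ g ∈ Q, c g + c g = 0 := fun g hg => by
        rw [← K.mul g hg g hg]; exact hc0 _ (K.sq g hg)
      have hxyc : c x + c y' ≠ 0 := fun e1 => hne (add_left_cancel (a := c x) ((h2 x hx).trans e1.symm))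
      rintro ⟨d, i, j⟩ ⟨d', i', j'⟩ e1
      have e2 := congrArg (fun b : B => c (b : G)) e1
      simp only [hcF] at e2
      have hij : i = i' ∧ j = j' := by
        cases i <;> cases j <;> cases i' <;> cases j' <;>
          simp [hxc, hyc, hxc.symm, hyc.symm, hne, hne.symm, hxyc, hxyc.symm, left_eq_add, right_eq_add, add_eq_left,
            add_eq_right] at e2 ⊢
      obtain ⟨rfl, rfl⟩ := hij
      have e3 : (d : G) * (if i then x else 1) * (if j then y' else 1) =
          (d' : G) * (if i then x else 1) * (if j then y' else 1) := congrArg Subtype.val e1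
      rw [Subtype.ext (mul_right_cancel (mul_right_cancel e3))]
    have h1 := Nat.card_le_card_of_injective F hF
    rw [Nat.card_prod, Nat.card_prod, D.card, Nat.card_eq_fintype_card, Fintype.card_bool] at h1
    omega

end Cfsg.Lib.BenderSE.Crit2
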