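/-
A quadratic map without zero from a group of order 64 to one of order 8 with fibres of order 9 is not equivariant
for an involution commuting with a fixed-point-free automorphism of the fibres: the exception `q = 8` for a line
of type U3 in the criterion.
-/
import Mathlib

set_option autoImplicit false
set_option linter.style.haveILetI false
set_option linter.unusedSectionVars false

namespace Cfsg.Lib.BenderSE.Crit2.RootEightMap

open Subgroup

variable {V B : Type*} [CommGroup V] [CommGroup B]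

/-- a permutation of prime period without fixed point on an invariant set has period dividing its order -/
theorem dvd_card {α : Type*} [Finite α] {p : ℕ} [hp : Fact p.Prime] (σ : Equiv.Perm α) (hσ : σ ^ p = 1)
    (hfix : ∀ x, σ x ≠ x) : p ∣ Nat.card α := by
  letI : MulAction (zpowers σ) α := MulAction.compHom α (zpowers σ).subtype
  have hP : IsPGroup p (zpowers σ) := fun x => ⟨1, by
    obtain ⟨i, hi⟩ := mem_zpowers_iff.1 x.2
    refine Subtype.ext ?_
    rw [pow_one, Subgroup.coe_pow, Subgroup.coe_one, ← hi, ← zpow_natCast, ← zpow_mul, mul_comm, zpow_mul,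
      zpow_natCast, hσ, one_zpow]⟩
  have h := hP.card_modEq_card_fixedPoints α
  have h0 : MulAction.fixedPoints (zpowers σ) α = ∅ :=
    Set.eq_empty_iff_forall_notMem.2 fun x hx => hfix x (hx ⟨σ, mem_zpowers σ⟩)
  rw [h0, Nat.card_coe_set_eq, Set.ncard_empty] at h
  exact Nat.modEq_zero_iff_dvd.1 h

/-- the period of a fixed-point-free automorphism of odd prime period preserving fibres of order 9 is 3 -/
theorem period_three [Finite V] {p : ℕ} [hp : Fact p.Prime] (f : V → B) {b : B}
    (hb : Nat.card {x // f x = b} = 9) (h1 : f 1 ≠ b) (η : MulAut V) (hfη : ∀ x, f (η x) = f x)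
    (hη : η ^ p = 1) (hfpf : ∀ x, η x = x → x = 1) : p = 3 := by
  let σ : Equiv.Perm {x // f x = b} := Equiv.Perm.subtypePerm η.toEquiv fun x => by
    show f (η x) = b ↔ f x = b
    rw [hfη]
  have hσ : ∀ n : ℕ, ∀ x, ((σ ^ n) x : V) = (η ^ n) x := fun n => by
    induction n with
    | zero => intro x; rfl
    | succ n ih => intro x; rw [pow_succ, pow_succ, Equiv.Perm.mul_apply, ih]; rfl
  have h := dvd_card (p := p) σ (Equiv.ext fun x => Subtype.ext (by rw [hσ, hη]; rfl)) fun x hx =>
    h1 (by rw [← hfpf x.1 (congrArg Subtype.val hx)]; exact x.2)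
  rw [hb] at h
  exact (Nat.prime_dvd_prime_iff_eq hp.out Nat.prime_three).1 (hp.out.dvd_of_dvd_pow (m := 3) (n := 2) h)

/-- two commuting automorphisms of period 3 generating a semiregular group generate the same group -/
theorem same_group (h2 : ∀ x : V, x * x = 1) (η θ : MulAut V) (hη : η ^ 3 = 1) (hθ : θ ^ 3 = 1)
    (hfη : ∀ x, η x = x → x = 1) (hfθ : ∀ x, θ x = x → x = 1) (hc : θ * η = η * θ)
    (h : θ * η = 1 ∨ ∀ x, (θ * η) x = x → x = 1) : θ * η = 1 ∨ θ = η := by
  refine h.imp_right fun hfix => ?_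
  have hinv : ∀ x : V, x⁻¹ = x := fun x => inv_eq_of_mul_eq_one_right (h2 x)
  have hsum : ∀ ρ : MulAut V, ρ ^ 3 = 1 → (∀ x, ρ x = x → x = 1) → ∀ x, ρ (ρ x) = ρ x * x := by
    intro ρ hρ hf x
    have h3 : ρ (ρ (ρ x)) = x := by
      have := DFunLike.congr_fun hρ x
      rw [pow_succ, pow_two] at this
      exact this
    have h4 : x * ρ x * ρ (ρ x) = 1 := hf _ (by
      rw [map_mul, map_mul, h3]
      exact (mul_comm _ _).trans (mul_assoc _ _ _).symm)
    rw [eq_inv_of_mul_eq_one_right h4, hinv, mul_comm]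
  refine MulEquiv.ext fun x => ?_
  have hη3 : η (η (η x)) = x := by
    have := DFunLike.congr_fun hη x
    rw [pow_succ, pow_two] at this
    exact this
  have hcx : ∀ y, θ (η y) = η (θ y) := fun y => DFunLike.congr_fun hc y
  set y := θ x * η x with hy
  have h5 : θ y = η (η y) := by
    rw [hy, map_mul, map_mul, map_mul, hsum θ hθ hfθ x, hη3, ← hcx x, ← hcx (η x), hsum η hη hfη x, map_mul]
    calc θ x * x * θ (η x) = θ (η x) * (θ x * x) := mul_comm _ _
      _ = θ (η x) * θ x * x := (mul_assoc _ _ _).symm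
  have h6 : (θ * η) y = y := by
    show θ (η y) = y
    rw [hcx, h5]
    have := DFunLike.congr_fun hη y
    rw [pow_succ, pow_two] at this
    exact this
  exact (mul_inv_eq_one.1 (show θ x * (η x)⁻¹ = 1 by rw [hinv]; exact hfix _ h6))

/-- **no such map**: an involution on the values, lifting to an involution commuting with an automorphism of
period 3 of the fibres, contradicts the count of the zeros over its fixed hyperplane -/
theorem false_of_involution [Finite V] [Finite B] (f : V → B) (hV : Nat.card V = 64) (hB : Nat.card B = 8)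
    (hV2 : ∀ x : V, x * x = 1) (hB2 : ∀ b : B, b * b = 1)
    (hadd : ∀ x, ∃ χ : V →* B, ∀ c, f (x * c) = f x * f c * χ c) (hf : ∀ x, f x = 1 ↔ x = 1)
    (hfib : ∀ b : B, b ≠ 1 → Nat.card {x // f x = b} = 9)
    (η : MulAut V) (hη : η ^ 3 = 1) (hfpf : ∀ x, η x = x → x = 1)
    (t : MulAut V) (htt : t * t = 1) (hc : η * t = t * η)
    (T : MulAut B) (hTT : T * T = 1) (hT : T ≠ 1) (hft : ∀ x, f (t x) = T (f x)) : False := by
  classical
  haveI : Fact (Nat.Prime 3) := ⟨Nat.prime_three⟩
  let W : Subgroup B := MonoidHom.eqLocus T.toMonoidHom (MonoidHom.id B)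
  have hW : ∀ b, b ∈ W ↔ T b = b := fun b => Iff.rfl
  let C : Subgroup V := MonoidHom.eqLocus t.toMonoidHom (MonoidHom.id V)
  have hC : ∀ x, x ∈ C ↔ t x = x := fun x => Iff.rfl
  have hWc : Nat.card W = 4 := by
    let φ : B →* B := MonoidHom.mk' (fun b => b * T b) fun a b => by rw [map_mul, mul_mul_mul_comm]
    have hk : φ.ker = W := by
      ext b
      rw [MonoidHom.mem_ker, hW]
      show b * T b = 1 ↔ _
      rw [mul_eq_one_iff_eq_inv', inv_eq_of_mul_eq_one_right (hB2 b)]
    have hr : φ.range ≤ W := by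
      rintro _ ⟨b, rfl⟩
      show T (b * T b) = b * T b
      rw [map_mul, show T (T b) = b from DFunLike.congr_fun hTT b, mul_comm]
    have h1 := φ.ker.card_mul_index
    rw [index_ker, hk, hB] at h1
    have h2 : Nat.card W * Nat.card φ.range ≤ Nat.card W * Nat.card W :=
      Nat.mul_le_mul_left _ (Subgroup.card_le_of_le hr)
    rw [h1] at h2
    have h3 : Nat.card W ≠ 8 := fun e => hT (MulEquiv.ext fun b => (hW b).1 (by
      rw [(Subgroup.card_eq_iff_eq_top W).1 (e.trans hB.symm)]
      exact mem_top b))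
    obtain ⟨i, hi, e⟩ := (Nat.dvd_prime_pow Nat.prime_two).1
      (show Nat.card W ∣ 2 ^ 3 from (Dvd.intro _ h1 : Nat.card W ∣ 8))
    interval_cases i <;> rw [e] at h2 h3 ⊢ <;> omega
  -- the preimage of `W` has 28 elements
  let S0 := {x : V // f x ∈ W}
  have hS0 : Nat.card S0 = 28 := by
    letI := Fintype.ofFinite W
    let g : S0 → W := fun x => ⟨f x.1, x.2⟩
    have hg : ∀ w : W, Nat.card {x : S0 // g x = w} = Nat.card {x : V // f x = w} := fun w =>
      Nat.card_congr
        { toFun := fun x => ⟨x.1.1, congrArg Subtype.val x.2⟩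
          invFun := fun x => ⟨⟨x.1, x.2.symm ▸ w.2⟩, Subtype.ext x.2⟩
          left_inv := fun x => rfl
          right_inv := fun x => rfl }
    rw [Nat.card_congr (Equiv.sigmaFiberEquiv g).symm, Nat.card_sigma, Finset.sum_congr rfl fun w _ => hg w,
      ← Finset.add_sum_erase _ _ (Finset.mem_univ (1 : W)),
      Finset.sum_congr rfl fun w hw => hfib w.1 fun e => (Finset.mem_erase.1 hw).1 (Subtype.ext e),
      Finset.sum_const, Finset.card_erase_of_mem (Finset.mem_univ _), Finset.card_univ, ← Nat.card_eq_fintype_card,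
      hWc, smul_eq_mul]
    haveI : Unique {x : V // f x = ((1 : W) : B)} :=
      { default := ⟨1, (hf 1).2 rfl⟩
        uniq := fun x => Subtype.ext ((hf x.1).1 x.2) }
    rw [Nat.card_unique]
  have hCW : ∀ c ∈ C, f c ∈ W := fun c hc' => by rw [hW, ← hft, (hC c).1 hc']
  -- `C` has order 16
  have hCc : Nat.card C = 16 := by
    have hηC : ∀ x, η x ∈ C ↔ x ∈ C := fun x => by
      rw [hC, hC, show t (η x) = η (t x) from (DFunLike.congr_fun hc x).symm, η.injective.eq_iff]
    let σ : Equiv.Perm {x : V // x ∈ C ∧ x ≠ 1} := Equiv.Perm.subtypePerm η.toEquiv fun x => by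
      show η x ∈ C ∧ η x ≠ 1 ↔ x ∈ C ∧ x ≠ 1
      rw [hηC, Ne, map_eq_one_iff η η.injective]
    have h1 := dvd_card (p := 3) σ (Equiv.ext fun x => Subtype.ext (by
      rw [pow_succ, pow_two]
      have := DFunLike.congr_fun hη x.1
      rw [pow_succ, pow_two] at this
      exact this)) fun x hx => x.2.2 (hfpf x.1 (congrArg Subtype.val hx))
    have h2 : Nat.card {x : V // x ∈ C ∧ x ≠ 1} + 1 = Nat.card C := by
      have hs : {x : V | x ∈ C ∧ x ≠ 1} = (C : Set V) \ {1} := by ext x; simp
      rw [show Nat.card {x : V // x ∈ C ∧ x ≠ 1} = {x : V | x ∈ C ∧ x ≠ 1}.ncard from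
        Nat.card_coe_set_eq _, hs, Set.ncard_sdiff_singleton_add_one (one_mem C) (Set.toFinite _),
        ← Nat.card_coe_set_eq]
      rfl
    let φ : V →* V := MonoidHom.mk' (fun b => b * t b) fun a b => by rw [map_mul, mul_mul_mul_comm]
    have hk : φ.ker = C := by
      ext b
      rw [MonoidHom.mem_ker, hC]
      show b * t b = 1 ↔ _
      rw [mul_eq_one_iff_eq_inv', inv_eq_of_mul_eq_one_right (hV2 b)]
    have hr : φ.range ≤ C := by
      rintro _ ⟨b, rfl⟩
      show t (b * t b) = b * t b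
      rw [map_mul, show t (t b) = b from DFunLike.congr_fun htt b, mul_comm]
    have h3 := φ.ker.card_mul_index
    rw [index_ker, hk, hV] at h3
    have h4 : Nat.card C * Nat.card φ.range ≤ Nat.card C * Nat.card C :=
      Nat.mul_le_mul_left _ (Subgroup.card_le_of_le hr)
    rw [h3] at h4
    have h5 : Nat.card C ≤ 28 :=
      hS0 ▸ Nat.card_le_card_of_injective (fun c : C => (⟨c.1, hCW c.1 c.2⟩ : S0))
        fun a b e => Subtype.ext (congrArg Subtype.val e :)
    obtain ⟨i, hi, e⟩ := (Nat.dvd_prime_pow Nat.prime_two).1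
      (show Nat.card C ∣ 2 ^ 6 from (Dvd.intro _ h3 : Nat.card C ∣ 64))
    obtain ⟨k, hk3⟩ := h1
    interval_cases i <;> rw [e] at h2 h4 h5 ⊢ <;> omega
  -- every coset of `C` meets the preimage in a multiple of 8
  have hdvd : 8 ∣ Nat.card S0 := by
    letI := Fintype.ofFinite (V ⧸ C)
    let g : S0 → V ⧸ C := fun x => (x.1 : V ⧸ C)
    rw [Nat.card_congr (Equiv.sigmaFiberEquiv g).symm, Nat.card_sigma]
    refine Finset.dvd_sum fun ξ _ => ?_
    obtain ⟨x, rfl⟩ := QuotientGroup.mk_surjective ξ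
    obtain ⟨χ, hχ⟩ := hadd x
    let ψ : C →* B ⧸ W := (QuotientGroup.mk' W).comp (χ.comp C.subtype)
    have hiff : ∀ c : C, f (x * c.1) ∈ W ↔ ψ c = (((f x)⁻¹ : B) : B ⧸ W) := fun c => by
      show _ ↔ ((χ c.1 : B) : B ⧸ W) = _
      rw [hχ, QuotientGroup.eq, mul_assoc, mul_left_comm (f x) (f c.1), mul_mem_cancel_left (hCW c.1 c.2),
        inv_eq_of_mul_eq_one_right (hB2 (f x)), inv_eq_of_mul_eq_one_right (hB2 (χ c.1)), mul_comm]
    have e : Nat.card {s : S0 // g s = (x : V ⧸ C)} = Nat.card {c : C // ψ c = (((f x)⁻¹ : B) : B ⧸ W)} :=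
      Nat.card_congr
        { toFun := fun s => ⟨⟨x⁻¹ * s.1.1, QuotientGroup.eq.1 s.2.symm⟩,
            (hiff _).1 (by rw [mul_inv_cancel_left]; exact s.1.2)⟩
          invFun := fun c => ⟨⟨x * c.1.1, (hiff c.1).2 c.2⟩, (QuotientGroup.eq.2 (by
            rw [inv_mul_cancel_left]
            exact c.1.2)).symm⟩
          left_inv := fun s => Subtype.ext (Subtype.ext (mul_inv_cancel_left _ _))
          right_inv := fun c => Subtype.ext (Subtype.ext (inv_mul_cancel_left _ _)) }
    rw [e]
    rcases isEmpty_or_nonempty {c : C // ψ c = (((f x)⁻¹ : B) : B ⧸ W)} with hE | ⟨⟨c₀, hc₀⟩⟩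
    · rw [Nat.card_of_isEmpty]; exact dvd_zero 8
    have e2 : Nat.card {c : C // ψ c = (((f x)⁻¹ : B) : B ⧸ W)} = Nat.card ψ.ker :=
      Nat.card_congr
        { toFun := fun c => ⟨c₀⁻¹ * c.1, MonoidHom.mem_ker.2 (by
            rw [map_mul, map_inv, c.2, hc₀, inv_mul_cancel])⟩
          invFun := fun k => ⟨c₀ * k.1, by rw [map_mul, MonoidHom.mem_ker.1 k.2, mul_one, hc₀]⟩
          left_inv := fun c => Subtype.ext (mul_inv_cancel_left _ _)
          right_inv := fun k => Subtype.ext (inv_mul_cancel_left _ _) }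
    rw [e2]
    have h1 := ψ.ker.card_mul_index
    rw [index_ker, hCc] at h1
    have h2 : Nat.card ψ.range ≤ 2 := by
      refine (Subgroup.card_le_card_group _).trans (le_of_eq ?_)
      rw [← Subgroup.index_eq_card]
      have := W.card_mul_index
      rw [hWc, hB] at this
      omega
    have h3 : 1 ≤ Nat.card ψ.range := Nat.card_pos
    interval_cases hr : Nat.card ψ.range <;> omega
  rw [hS0] at hdvd
  norm_num at hdvd

end Cfsg.Lib.BenderSE.Crit2.RootEightMap
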