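/-
The translations at a point of a line of type U3 in the criterion, for every `q`: with no translation the group
on `A` has an involution commuting with a norm-one element on `Q / A`, which the squaring map `Q / A → A` forbids.
-/
import Cfsg.Agent.BenderSE.Criterion2.RootBasic
import Cfsg.Agent.BenderSE.Criterion2.RootEightMap

set_option autoImplicit false
set_option linter.unusedSectionVars false
set_option linter.style.haveILetI false

namespace Cfsg.Lib.BenderSE.Crit2.Root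

open Subgroup

universe uG

variable {G : Type uG} [Group G] [Finite G] {M : Subgroup G} {D : G → Prop} {u : G} {A Q X : Subgroup G}
  {e : G} {q : ℕ}

/-- the squares of `Q` lie in `A` -/
theorem sq_Q (r : Root M D u A Q X e q) {z : G} (hz : z ∈ Q) : z * z ∈ A := by
  classical
  let Y : Subgroup G :=
    { carrier := {z | z ∈ Q ∧ z * z ∈ A}
      one_mem' := ⟨one_mem Q, by rw [one_mul]; exact one_mem A⟩
      mul_mem' := fun {a b} ha hb => ⟨mul_mem ha.1 hb.1, by
        rw [show a * b * (a * b) = a * a * (a⁻¹ * b * a⁻¹⁻¹ * b⁻¹) * (b * b) by group]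
        exact mul_mem (mul_mem ha.2 (r.comm_mem (inv_mem ha.1) hb.1)) hb.2⟩
      inv_mem' := fun {a} ha => ⟨inv_mem ha.1, by rw [← mul_inv_rev]; exact inv_mem ha.2⟩ }
  have key : ∀ x ∈ X, ∀ y ∈ Y, x * y * x⁻¹ ∈ Y := fun x hx y hy =>
    ⟨(mem_normalizer_iff.1 (r.normQ hx) y).1 hy.1, by
      rw [show x * y * x⁻¹ * (x * y * x⁻¹) = x * (y * y) * x⁻¹ by group]
      exact (mem_normalizer_iff.1 (r.normA hx) _).1 hy.2⟩
  rcases r.irrX Y (fun a ha => ⟨r.leA ha, mul_mem ha ha⟩) (fun y hy => hy.1)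
    (fun x hx => mem_normalizer_iff.2 fun y => ⟨key x hx y, fun h => by
      have := key x⁻¹ (inv_mem hx) _ h
      rwa [show x⁻¹ * (x * y * x⁻¹) * x⁻¹⁻¹ = y by group] at this⟩) with h | h
  · exfalso
    obtain ⟨x, hx, hxA⟩ : ∃ x ∈ Q, x ∉ A := by
      by_contra hno
      push Not at hno
      have h1 := Subgroup.card_le_of_le (fun g hg => hno g hg : Q ≤ A)
      rw [r.cardQ, r.card] at h1
      have := r.four
      nlinarith [h1, Nat.mul_le_mul this this]
    have hex : ∃ n, ∃ y ∈ Q, y ∉ A ∧ orderOf y = n := ⟨_, x, hx, hxA, rfl⟩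
    obtain ⟨y, hy, hyA, hn⟩ := Nat.find_spec hex
    refine hyA (h.le ⟨hy, ?_⟩)
    by_contra hyy
    obtain ⟨k, hk⟩ := r.twoQ ⟨y, hy⟩
    have hyk : y ^ 2 ^ k = 1 := congrArg Subtype.val hk
    have h2 : 2 ∣ orderOf y := by
      obtain ⟨i, hi, hi'⟩ := (Nat.dvd_prime_pow Nat.prime_two).1 (orderOf_dvd_of_pow_eq_one hyk)
      rw [hi']
      rcases i with - | i
      · exact absurd (orderOf_eq_one_iff.1 hi') fun e => hyA (e ▸ one_mem A)
      · exact dvd_pow_self 2 (by omega)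
    have h3 : orderOf (y * y) = orderOf y / 2 := by
      rw [← pow_two, orderOf_pow' y two_ne_zero, Nat.gcd_eq_right h2]
    have h4 : Nat.find hex ≤ orderOf (y * y) := Nat.find_le ⟨y * y, mul_mem hy hy, hyy, rfl⟩
    rw [h3, ← hn] at h4
    have := orderOf_pos y
    omega
  · exact (h.symm ▸ hz : z ∈ Y).2

/-- the exception `q = 8` does not occur -/
theorem translation_eight (r : Root M D u A Q X e q) (S : Sylow 2 G) (hSM : (S : Subgroup G) ≤ M)
    (hPS : Q ⊔ zpowers u ≤ S) (hne : Q ⊔ zpowers u ≠ S) (hq : q = 8) :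
    ∃ k ∈ M ⊓ normalizer ((Q ⊔ zpowers u : Subgroup G) : Set G), (∀ a ∈ A, Commute k a) ∧ cls u k ≠ 1 := by
  classical
  by_contra hno
  push Not at hno
  haveI : Fact (Nat.Prime 2) := ⟨Nat.prime_two⟩
  set P := Q ⊔ zpowers u with hP
  set H := M ⊓ normalizer (P : Set G) with hH
  have hu := r.u_sq
  have hallc : ∀ k ∈ H, (∀ a ∈ A, Commute k a) → Commute k u := fun k hk hkA => r.cls_eq_one.1 (hno k hk hkA)
  -- `B = A⟨u⟩`
  let B : Subgroup G :=
    { carrier := {g | g ∈ A ∨ g * u ∈ A}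
      one_mem' := Or.inl (one_mem A)
      mul_mem' := fun {a b} ha hb => by
        rcases hb with hb | hb
        · rcases ha with ha | ha
          · exact Or.inl (mul_mem ha hb)
          · refine Or.inr ?_
            rw [mul_assoc, (r.centQ b (r.leA hb)).eq, ← mul_assoc]
            exact mul_mem ha hb
        · rcases ha with ha | ha
          · exact Or.inr (by rw [mul_assoc]; exact mul_mem ha hb)
          · refine Or.inl ?_
            have hbu : Commute b u := by
              have h1 := (r.centQ _ (r.leA hb)).mul_left (Commute.refl u)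
              rwa [mul_assoc, hu, mul_one] at h1
            have h2 := mul_mem ha hb
            rwa [show a * u * (b * u) = a * (u * b) * u by group, ← hbu.eq,
              show a * (b * u) * u = a * b * (u * u) by group, hu, mul_one] at h2
      inv_mem' := fun {a} ha => by
        rcases ha with ha | ha
        · exact Or.inl (inv_mem ha)
        · refine Or.inr ?_
          have hau : Commute a u := by
            have h1 := (r.centQ _ (r.leA ha)).mul_left (Commute.refl u)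
            rwa [mul_assoc, hu, mul_one] at h1
          have h2 := inv_mem ha
          rwa [mul_inv_rev, r.u_inv, ← hau.inv_left.eq] at h2 }
  have hBP : B ≤ P := fun g hg => r.mem_P.2 (hg.imp (fun h => r.leA h) fun h => r.leA h)
  have hBc : ∀ b ∈ B, ∀ p ∈ P, Commute b p := fun b hb p hp => by
    rcases hb with h | h
    · exact r.commute_A h hp
    · have h1 := (r.commute_A h hp).mul_left (r.u_commute hp).symm
      rwa [mul_assoc, hu, mul_one] at h1
  have hBsq : ∀ b ∈ B, b * b = 1 := fun b hb => by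
    rcases hb with h | h
    · exact r.elem b h
    · have h1 := r.elem _ h
      rwa [show b * u * (b * u) = b * (u * b) * u by group, ← (r.u_commute (hBP (Or.inr h))).eq,
        show b * (b * u) * u = b * b * (u * u) by group, hu, mul_one] at h1
  have hBQ : ∀ b ∈ B, b ∈ Q → b ∈ A := fun b hb hbQ => hb.elim id fun h =>
    absurd (by simpa using mul_mem (inv_mem hbQ) (r.leA h)) r.notQ
  have hsqA : ∀ p ∈ P, p * p ∈ A := fun p hp => by
    rcases r.mem_P.1 hp with h | h
    · exact r.sq_Q h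
    · have h1 := r.sq_Q h
      rwa [show p * u * (p * u) = p * (u * p) * u by group, ← (r.u_commute hp).eq,
        show p * (p * u) * u = p * p * (u * u) by group, hu, mul_one] at h1
  -- `V = P / B`
  let B' : Subgroup P := B.subgroupOf P
  haveI : B'.Normal := ⟨fun b hb g => by
    rw [mem_subgroupOf, Subgroup.coe_mul, Subgroup.coe_mul, ← (hBc _ (mem_subgroupOf.1 hb) _ g.2).eq,
      Subgroup.coe_inv, mul_inv_cancel_right]
    exact mem_subgroupOf.1 hb⟩
  have hV2 : ∀ x : P ⧸ B', x * x = 1 := fun x => QuotientGroup.induction_on x fun p =>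
    (QuotientGroup.eq_one_iff _).2 (mem_subgroupOf.2 (Or.inl (hsqA p p.2)))
  letI : CommGroup (P ⧸ B') :=
    { (inferInstance : Group (P ⧸ B')) with
      mul_comm := fun a b => by
        have h := hV2 (a * b)
        rw [eq_inv_of_mul_eq_one_left h, mul_inv_rev, inv_eq_of_mul_eq_one_right (hV2 b),
          inv_eq_of_mul_eq_one_right (hV2 a)] }
  letI : CommGroup A :=
    { (inferInstance : Group A) with
      mul_comm := fun a b => Subtype.ext (r.centA a.1 a.2 b.1 (r.leA b.2)).eq }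
  -- the squaring map
  let f : P ⧸ B' → A := fun x => Quotient.liftOn' x (fun p => ⟨p.1 * p.1, hsqA p p.2⟩) fun p p' h => by
    have hb : p.1⁻¹ * p'.1 ∈ B := mem_subgroupOf.1 (QuotientGroup.leftRel_apply.1 h)
    refine Subtype.ext ?_
    show p.1 * p.1 = p'.1 * p'.1
    set b := p.1⁻¹ * p'.1 with hbdef
    rw [show p'.1 = p.1 * b by rw [hbdef, mul_inv_cancel_left],
      show p.1 * b * (p.1 * b) = p.1 * (b * p.1) * b by group, (hBc b hb p.1 p.2).eq,
      show p.1 * (p.1 * b) * b = p.1 * p.1 * (b * b) by group, hBsq b hb, mul_one]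
  have hfmk : ∀ p : P, (f (p : P ⧸ B') : G) = p * p := fun p => rfl
  have hf1 : ∀ x, f x = 1 ↔ x = 1 := fun x => QuotientGroup.induction_on x fun p => by
    rw [QuotientGroup.eq_one_iff, mem_subgroupOf, Subtype.ext_iff, hfmk, Subgroup.coe_one]
    refine ⟨fun h => ?_, hBsq _⟩
    rcases r.mem_P.1 p.2 with h1 | h1
    · exact Or.inl (r.invA _ h1 h)
    · refine Or.inr (r.invA _ h1 ?_)
      rw [show (p : G) * u * (p * u) = p * (u * p) * u by group, ← (r.u_commute p.2).eq,
        show (p : G) * (p * u) * u = p * p * (u * u) by group, h, hu, mul_one]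
  have hadd : ∀ x : P ⧸ B', ∃ χ : (P ⧸ B') →* A, ∀ c, f (x * c) = f x * f c * χ c := fun x =>
    QuotientGroup.induction_on x fun p => by
      have hm : ∀ c : P, (p : G)⁻¹ * c * p * (c : G)⁻¹ ∈ A := fun c => by
        rw [show (p : G)⁻¹ * c * p * (c : G)⁻¹ = (p : G)⁻¹ * (p : G)⁻¹ * (p * c * (p * c)) * ((c : G)⁻¹ * (c : G)⁻¹) by
          group]
        exact mul_mem (mul_mem (hsqA _ (inv_mem p.2)) (hsqA _ (mul_mem p.2 c.2))) (hsqA _ (inv_mem c.2))
      let χ : P →* A := MonoidHom.mk' (fun c => ⟨(p : G)⁻¹ * c * p * (c : G)⁻¹, hm c⟩) fun c c' => Subtype.ext (by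
        show (p : G)⁻¹ * ((c : G) * c') * p * ((c : G) * c')⁻¹ =
          (p : G)⁻¹ * c * p * (c : G)⁻¹ * ((p : G)⁻¹ * c' * p * (c' : G)⁻¹)
        rw [show (p : G)⁻¹ * c * p * (c : G)⁻¹ * ((p : G)⁻¹ * c' * p * (c' : G)⁻¹) =
          (p : G)⁻¹ * c * p * ((c : G)⁻¹ * ((p : G)⁻¹ * c' * p * (c' : G)⁻¹)) by group,
          ((r.commute_A (hm c') (inv_mem c.2)).symm).eq]
        group)
      refine ⟨QuotientGroup.lift B' χ fun b hb => Subtype.ext ?_, fun c => QuotientGroup.induction_on c fun c =>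
        Subtype.ext ?_⟩
      · show (p : G)⁻¹ * b * p * (b : G)⁻¹ = 1
        rw [mul_assoc (p : G)⁻¹, (hBc _ (mem_subgroupOf.1 hb) _ p.2).eq, ← mul_assoc, inv_mul_cancel, one_mul,
          mul_inv_cancel]
      · show (p : G) * c * (p * c) = p * p * (c * c) * ((p : G)⁻¹ * c * p * (c : G)⁻¹)
        rw [mul_assoc ((p : G) * p) ((c : G) * c), (r.commute_A (hm c) (mul_mem c.2 c.2)).symm.eq]
        group
  -- the conjugation
  have hcls : ∀ h ∈ H, ∀ b ∈ B, h * b * h⁻¹ ∈ B := by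
    intro h hh b hb
    rcases hb with hb | hb
    · exact Or.inl (r.norm_A (mem_inf.1 hh).2 hb)
    · have h1 := r.norm_A (mem_inf.1 hh).2 hb
      have h3 : h * u * h⁻¹ * u ∈ A := by
        rw [show h * u * h⁻¹ * u = u * (h * u * h⁻¹) from
          r.u_commute ((mem_normalizer_iff.1 (mem_inf.1 hh).2 u).1 u_mem_P)]
        exact r.cls_mem (mem_inf.1 hh).2
      refine Or.inr ?_
      rw [show h * b * h⁻¹ * u = h * (b * u) * h⁻¹ * (h * u⁻¹ * h⁻¹ * u) by group, r.u_inv]
      exact mul_mem h1 h3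
  let cj : H →* MulAut P :=
    { toFun := fun h =>
        { toFun := fun p => ⟨h.1 * p.1 * h.1⁻¹, (mem_normalizer_iff.1 (mem_inf.1 h.2).2 _).1 p.2⟩
          invFun := fun p => ⟨h.1⁻¹ * p.1 * h.1⁻¹⁻¹,
            (mem_normalizer_iff.1 (inv_mem (mem_inf.1 h.2).2) _).1 p.2⟩
          left_inv := fun p => Subtype.ext (by
            show h.1⁻¹ * (h.1 * p.1 * h.1⁻¹) * h.1⁻¹⁻¹ = p.1
            group)
          right_inv := fun p => Subtype.ext (by
            show h.1 * (h.1⁻¹ * p.1 * h.1⁻¹⁻¹) * h.1⁻¹ = p.1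
            group)
          map_mul' := fun a b => Subtype.ext (by
            show h.1 * (a.1 * b.1) * h.1⁻¹ = h.1 * a.1 * h.1⁻¹ * (h.1 * b.1 * h.1⁻¹)
            group) }
      map_one' := by
        ext a
        show (1 : G) * a.1 * (1 : G)⁻¹ = a.1
        group
      map_mul' := fun g h => by
        ext a
        show g.1 * h.1 * a.1 * (g.1 * h.1)⁻¹ = g.1 * (h.1 * a.1 * h.1⁻¹) * g.1⁻¹
        group }
  have hcjB : ∀ h : H, B'.map (cj h : P →* P) = B' := fun h => by
    refine Subgroup.eq_of_le_of_card_ge ?_ (le_of_eq (card_map_of_injective (cj h).injective).symm)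
    rintro _ ⟨b, hb, rfl⟩
    exact mem_subgroupOf.2 (hcls h.1 h.2 b.1 (mem_subgroupOf.1 hb))
  let π : H →* MulAut (P ⧸ B') :=
    { toFun := fun h => QuotientGroup.congr B' B' (cj h) (hcjB h)
      map_one' := MulEquiv.ext fun x => QuotientGroup.induction_on x fun p => by
        show ((cj 1 p : P) : P ⧸ B') = p
        rw [map_one]
        rfl
      map_mul' := fun g h => MulEquiv.ext fun x => QuotientGroup.induction_on x fun p => by
        show ((cj (g * h) p : P) : P ⧸ B') = (cj g (cj h p) : P)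
        rw [map_mul]
        rfl }
  have hπmk : ∀ (h : H) (p : P), π h (p : P ⧸ B') = ((cj h p : P) : P ⧸ B') := fun h p => rfl
  have aff := r.affine S hSM hPS hne
  have hfπ : ∀ (h : H) (x : P ⧸ B'), f (π h x) = aff.act h (f x) := fun h x =>
    QuotientGroup.induction_on x fun p => Subtype.ext (by
      show h.1 * p.1 * h.1⁻¹ * (h.1 * p.1 * h.1⁻¹) = h.1 * (p.1 * p.1) * h.1⁻¹
      group)
  have hrep : ∀ x : P ⧸ B', ∃ p : P, (p : G) ∈ Q ∧ (p : P ⧸ B') = x := fun x =>
    QuotientGroup.induction_on x fun p => by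
      rcases r.mem_P.1 p.2 with h | h
      · exact ⟨p, h, rfl⟩
      · refine ⟨⟨p.1 * u, mul_mem p.2 u_mem_P⟩, h, QuotientGroup.eq.2 (mem_subgroupOf.2 ?_)⟩
        show (p.1 * u)⁻¹ * p.1 ∈ B
        rw [mul_inv_rev, inv_mul_cancel_right, r.u_inv]
        exact Or.inr (by rw [hu]; exact one_mem A)
  -- the elements over the kernel
  have hXH : X ≤ H := fun x hx => mem_inf.2 ⟨r.XleM hx, r.X_norm_P hx⟩
  have hker : ∀ k : H, aff.act k = 1 → Commute (k : G) u ∧ k.1 ∈ normalizer (Q : Set G) ∧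
      ∀ a ∈ A, Commute k.1 a := fun k hk => by
    have h1 := (aff.act_eq_one k).1 hk
    have h2 := hallc k.1 k.2 h1
    exact ⟨h2, r.lineQ k.1 (mem_inf.1 k.2).1 h2 (mem_inf.1 k.2).2, h1⟩
  have hlin : ∀ k h : H, aff.act k = 1 → (h.1 ∈ X ∨ aff.act h = 1) → π k * π h = π h * π k := by
    intro k h hk hh
    obtain ⟨hku, hkQ, hkA⟩ := hker k hk
    have hh' : Commute h.1 u ∧ h.1 ∈ normalizer (Q : Set G) ∧ (h.1 ∈ X ∨ ∀ a ∈ A, Commute h.1 a) :=
      hh.elim (fun hX => ⟨r.centX _ hX, r.normQ hX, Or.inl hX⟩)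
        fun hK => ⟨(hker h hK).1, (hker h hK).2.1, Or.inr (hker h hK).2.2⟩
    refine MulEquiv.ext fun x => ?_
    obtain ⟨p, hp, rfl⟩ := hrep x
    rw [← map_mul, ← map_mul, hπmk, hπmk, QuotientGroup.eq]
    exact mem_subgroupOf.2 (Or.inl (r.linA k.1 (mem_inf.1 k.2).1 h.1 (mem_inf.1 h.2).1 hku hh'.1 hkQ hh'.2.1 hkA
      hh'.2.2 p.1 hp))
  have hsemi : ∀ k : H, aff.act k = 1 → π k = 1 ∨ ∀ x, π k x = x → x = 1 := by
    intro k hk
    let F : Subgroup (P ⧸ B') := MonoidHom.eqLocus (π k).toMonoidHom (MonoidHom.id _)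
    let Y : Subgroup G := (F.comap (QuotientGroup.mk' B')).map P.subtype ⊓ Q
    have hY : ∀ p : P, (p : G) ∈ Y ↔ (p : G) ∈ Q ∧ π k (p : P ⧸ B') = p := fun p => by
      show p.1 ∈ (F.comap (QuotientGroup.mk' B')).map P.subtype ∧ p.1 ∈ Q ↔ _
      constructor
      · rintro ⟨⟨p', h1, h2⟩, h3⟩
        obtain rfl : p' = p := Subtype.ext h2
        exact ⟨h3, h1⟩
      · exact fun h => ⟨⟨p, h.2, rfl⟩, h.1⟩
    have hAY : A ≤ Y := fun a ha => (hY ⟨a, mem_sup_left (r.leA ha)⟩).2 ⟨r.leA ha, by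
      rw [(QuotientGroup.eq_one_iff _).2 (mem_subgroupOf.2 (Or.inl ha)), map_one]⟩
    have key : ∀ x ∈ X, ∀ y ∈ Y, x * y * x⁻¹ ∈ Y := by
      intro x hx y hy
      have hyP : y ∈ P := mem_sup_left (mem_inf.1 hy).2
      have h1 := (hY ⟨y, hyP⟩).1 hy
      refine (hY (cj ⟨x, hXH hx⟩ ⟨y, hyP⟩)).2 ⟨(mem_normalizer_iff.1 (r.normQ hx) y).1 h1.1, ?_⟩
      rw [← hπmk]
      have h2 := DFunLike.congr_fun (hlin k ⟨x, hXH hx⟩ hk (Or.inl hx)) ((⟨y, hyP⟩ : P) : P ⧸ B')
      exact h2.trans (congrArg (π ⟨x, hXH hx⟩) h1.2)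
    rcases r.irrX Y hAY inf_le_right (fun x hx => mem_normalizer_iff.2 fun y => ⟨key x hx y, fun h => by
      have := key x⁻¹ (inv_mem hx) _ h
      rwa [show x⁻¹ * (x * y * x⁻¹) * x⁻¹⁻¹ = y by group] at this⟩) with h | h
    · refine Or.inr fun x hx => ?_
      obtain ⟨p, hp, rfl⟩ := hrep x
      exact (QuotientGroup.eq_one_iff _).2 (mem_subgroupOf.2 (Or.inl (h.le ((hY p).2 ⟨hp, hx⟩))))
    · refine Or.inl (MulEquiv.ext fun x => ?_)
      obtain ⟨p, hp, rfl⟩ := hrep x
      exact ((hY p).1 (h.ge hp)).2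
  -- the orders
  haveI : Finite (P ⧸ B') := inferInstance
  have hB16 : Nat.card B = 16 := by
    have h : (B : Set G) = (A : Set G) ∪ (fun a => a * u) '' (A : Set G) := by
      ext g
      show g ∈ A ∨ g * u ∈ A ↔ _
      refine or_congr Iff.rfl ⟨fun hg => ⟨g * u, hg, by show g * u * u = g; rw [mul_assoc, hu, mul_one]⟩, ?_⟩
      rintro ⟨a, ha, rfl⟩
      show a * u * u ∈ A
      rw [mul_assoc, hu, mul_one]
      exact ha
    have hd : Disjoint (A : Set G) ((fun a => a * u) '' (A : Set G)) := by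
      rw [Set.disjoint_left]
      rintro _ ha ⟨b, hb, rfl⟩
      exact r.notQ (r.leA (by simpa using mul_mem (inv_mem hb) ha))
    rw [← SetLike.coe_sort_coe, Nat.card_coe_set_eq, h, Set.ncard_union_eq hd,
      Set.ncard_image_of_injective _ (mul_left_injective u), ← Nat.card_coe_set_eq, SetLike.coe_sort_coe, r.card, hq]
  have hV : Nat.card (P ⧸ B') = 64 := by
    have h1 := B'.card_mul_index
    rw [Nat.card_congr (subgroupOfEquivOfLe hBP).toEquiv, hB16, r.card_P, hq, index_eq_card] at h1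
    omega
  have hA8 : Nat.card A = 8 := r.card.trans hq
  have hfib : ∀ b : A, b ≠ 1 → Nat.card {x // f x = b} = 9 := by
    have hconst : ∀ b c : A, b ≠ 1 → c ≠ 1 → Nat.card {x // f x = b} = Nat.card {x // f x = c} := by
      intro b c hb hc
      obtain ⟨x, hx, hxb⟩ := r.transA b.1 b.2 c.1 c.2 (fun e1 => hb (Subtype.ext e1)) fun e1 => hc (Subtype.ext e1)
      have hact : aff.act ⟨x, hXH hx⟩ b = c := Subtype.ext hxb
      exact Nat.card_congr
        { toFun := fun y => ⟨π ⟨x, hXH hx⟩ y.1, by rw [hfπ, y.2, hact]⟩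
          invFun := fun y => ⟨(π ⟨x, hXH hx⟩).symm y.1, by
            have h1 := hfπ ⟨x, hXH hx⟩ ((π ⟨x, hXH hx⟩).symm y.1)
            rw [MulEquiv.apply_symm_apply] at h1
            have h1 := (h1.symm.trans y.2).trans hact.symm
            exact (aff.act ⟨x, hXH hx⟩).injective h1⟩
          left_inv := fun y => Subtype.ext ((π ⟨x, hXH hx⟩).symm_apply_apply _)
          right_inv := fun y => Subtype.ext ((π ⟨x, hXH hx⟩).apply_symm_apply _) }
    letI := Fintype.ofFinite A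
    intro b hb
    have h1 : Nat.card (P ⧸ B') = 1 + 7 * Nat.card {x // f x = b} := by
      rw [Nat.card_congr (Equiv.sigmaFiberEquiv f).symm, Nat.card_sigma,
        ← Finset.add_sum_erase _ _ (Finset.mem_univ (1 : A)),
        Finset.sum_congr rfl fun c hc => hconst c b (fun e1 => (Finset.mem_erase.1 hc).1 e1) hb,
        Finset.sum_const, Finset.card_erase_of_mem (Finset.mem_univ _), Finset.card_univ,
        ← Nat.card_eq_fintype_card, hA8, smul_eq_mul]
      haveI : Unique {x : P ⧸ B' // f x = (1 : A)} :=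
        { default := ⟨1, (hf1 1).2 rfl⟩
          uniq := fun x => Subtype.ext ((hf1 x.1).1 x.2) }
      rw [Nat.card_unique]
    rw [hV] at h1
    omega
  -- the norm-one element
  let eH : H := ⟨e, hXH r.eX⟩
  have heA : aff.act eH = 1 := (aff.act_eq_one eH).2 r.eA
  obtain ⟨z, hz, hzA⟩ : ∃ z ∈ Q, z ∉ A := by
    by_contra hno'
    push Not at hno'
    have h1 := Subgroup.card_le_of_le (fun g hg => hno' g hg : Q ≤ A)
    rw [r.cardQ, r.card, hq] at h1
    omega
  have he1 : π eH ≠ 1 := by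
    intro h1
    refine hzA (r.eQ z hz ?_)
    have h2 : ((cj eH ⟨z, mem_sup_left hz⟩ : P) : P ⧸ B') = ((⟨z, mem_sup_left hz⟩ : P) : P ⧸ B') := by
      rw [← hπmk, h1]
      rfl
    have hb : (e * z * e⁻¹)⁻¹ * z ∈ A := hBQ _ (mem_subgroupOf.1 (QuotientGroup.eq.1 h2))
      (mul_mem (inv_mem ((mem_normalizer_iff.1 (r.normQ r.eX) z).1 hz)) hz)
    set b := (e * z * e⁻¹)⁻¹ * z
    have h3 : ∀ n : ℕ, e ^ n * z * (e ^ n)⁻¹ = z * b ^ n := fun n => by
      induction n with
      | zero => simp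
      | succ n ih =>
        have h4 : e * z * e⁻¹ = z * b := by
          rw [← inv_eq_of_mul_eq_one_right (r.elem b hb)]
          simp only [b]
          group
        rw [pow_succ, show e ^ n * e * z * (e ^ n * e)⁻¹ = e ^ n * (e * z * e⁻¹) * (e ^ n)⁻¹ by group, h4,
          show e ^ n * (z * b) * (e ^ n)⁻¹ = e ^ n * z * (e ^ n)⁻¹ * (e ^ n * b * (e ^ n)⁻¹) by group, ih,
          ((r.eA b hb).pow_left n).eq, mul_inv_cancel_right, mul_assoc, ← pow_succ]
    have h5 := h3 (orderOf e)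
    obtain ⟨i, hi⟩ := r.oddE
    rw [pow_orderOf_eq_one, inv_one, one_mul, mul_one, hi, pow_succ, pow_mul, pow_two, r.elem b hb, one_pow,
      one_mul, left_eq_mul] at h5
    refine (mul_inv_eq_iff_eq_mul.1 ?_ : e * z = z * e)
    rw [show e * z * e⁻¹ = z * b from by
      rw [← inv_eq_of_mul_eq_one_right (r.elem b hb)]
      simp only [b]
      group, h5, mul_one]
  set n := orderOf (π eH) with hn
  have hn1 : n ≠ 1 := fun h => he1 (orderOf_eq_one_iff.1 h)
  have hnodd : Odd n := r.oddE.of_dvd_nat ((orderOf_map_dvd π eH).trans (Subgroup.orderOf_coe eH).symm.dvd)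
  haveI hp : Fact n.minFac.Prime := ⟨Nat.minFac_prime hn1⟩
  set p := n.minFac with hpdef
  set k0 := eH ^ (n / p) with hk0
  have hk0A : aff.act k0 = 1 := by rw [hk0, map_pow, heA, one_pow]
  have hηp : (π k0) ^ p = 1 := by
    rw [hk0, map_pow, ← pow_mul, Nat.div_mul_cancel n.minFac_dvd, hn, pow_orderOf_eq_one]
  have hη1 : π k0 ≠ 1 := fun h => by
    rw [hk0, map_pow] at h
    have h1 := Nat.le_of_dvd (Nat.div_pos (Nat.minFac_le (orderOf_pos _)) hp.out.pos) (orderOf_dvd_of_pow_eq_one h)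
    exact absurd h1 (not_le.2 (Nat.div_lt_self (orderOf_pos _) hp.out.one_lt))
  have hfpf := (hsemi k0 hk0A).resolve_left hη1
  obtain ⟨b₀, hb₀⟩ : ∃ b : A, b ≠ 1 := by
    haveI : Nontrivial A := Finite.one_lt_card_iff_nontrivial.1 (by omega)
    exact exists_ne 1
  have hf11 : f 1 ≠ b₀ := fun h => hb₀ (h ▸ (hf1 1).2 rfl)
  have hp3 : p = 3 := RootEightMap.period_three f (hfib b₀ hb₀) hf11 (π k0)
    (fun x => by rw [hfπ, hk0A]; rfl) hηp hfpf
  rw [hp3] at hηp
  -- conjugates of the automorphism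
  have hdich : ∀ h : H, π h * π k0 * (π h)⁻¹ = π k0 ∨ π h * π k0 * (π h)⁻¹ * π k0 = 1 := by
    intro h
    have hθA : aff.act (h * k0 * h⁻¹) = 1 := by rw [map_mul, map_mul, hk0A, mul_one, map_inv, mul_inv_cancel]
    have hθ3 : π (h * k0 * h⁻¹) ^ 3 = 1 := by
      rw [← map_pow, conj_pow, map_mul, map_mul, map_pow, hηp, mul_one, map_inv, mul_inv_cancel]
    have hθ1 : π (h * k0 * h⁻¹) ≠ 1 := fun h1 => hη1 (by
      rwa [map_mul, map_mul, map_inv, mul_inv_eq_one, mul_eq_left] at h1)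
    have h1 := RootEightMap.same_group hV2 (π k0) (π (h * k0 * h⁻¹)) hηp hθ3 hfpf
      ((hsemi _ hθA).resolve_left hθ1) (hlin _ _ hθA (Or.inr hk0A)) (by
        rw [← map_mul]
        exact hsemi _ (by rw [map_mul, hθA, hk0A, one_mul]))
    rw [map_mul, map_mul, map_inv] at h1
    exact h1.symm
  let H1 : Subgroup H := (centralizer {π k0}).comap π
  have hH1 : ∀ h, h ∈ H1 ↔ π h * π k0 * (π h)⁻¹ = π k0 := fun h => by
    rw [mul_inv_eq_iff_eq_mul]
    exact mem_centralizer_singleton_iff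
  have hH1i : H1.index ∣ 2 := by
    by_cases hall : ∀ h : H, h ∈ H1
    · rw [index_eq_one.2 (eq_top_iff.2 fun h _ => hall h)]
      exact one_dvd 2
    push Not at hall
    obtain ⟨g, hg⟩ := hall
    refine dvd_of_eq (index_eq_two_iff.2 ⟨g, fun b => ?_⟩)
    by_cases hb : b ∈ H1
    · exact Or.inr ⟨hb, fun h => hg (by simpa using mul_mem (inv_mem hb) h)⟩
    · refine Or.inl ⟨(hH1 _).2 ?_, hb⟩
      have h1 : π g * π k0 * (π g)⁻¹ = (π k0)⁻¹ :=
        eq_inv_of_mul_eq_one_left ((hdich g).resolve_left fun h => hg ((hH1 g).2 h))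
      have h2 : π b * π k0 * (π b)⁻¹ = (π k0)⁻¹ :=
        eq_inv_of_mul_eq_one_left ((hdich b).resolve_left fun h => hb ((hH1 b).2 h))
      rw [map_mul, show π b * π g * π k0 * (π b * π g)⁻¹ = π b * (π g * π k0 * (π g)⁻¹) * (π b)⁻¹ by group, h1,
        ← conj_inv, h2, inv_inv]
  -- `8` divides the index of the kernel
  let K' : Subgroup H := aff.act.ker
  let Cu : Subgroup H := (centralizer {u}).subgroupOf H
  have hK'C : K' ≤ Cu := fun k hk => mem_subgroupOf.2 (mem_centralizer_singleton_iff.2 (hker k hk).1.eq)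
  have hCu : Cu.index = 8 := by
    have hcls_eq : ∀ g h : H, cls u g.1 = cls u h.1 ↔ g⁻¹ * h ∈ Cu := fun g h => by
      rw [mem_subgroupOf, mem_centralizer_singleton_iff]
      have hm := r.cls_mul g.1 (g⁻¹ * h).1
      rw [← Subgroup.coe_mul, mul_inv_cancel_left] at hm
      rw [hm, left_eq_mul, mul_inv_eq_one, mul_eq_left, r.cls_eq_one]
      exact Iff.rfl
    rw [← hA8, index_eq_card]
    refine Nat.card_congr (Equiv.ofBijective
      (fun x : H ⧸ Cu => Quotient.liftOn' x (fun h : H => (⟨cls u h.1, r.cls_mem (mem_inf.1 h.2).2⟩ : A))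
        fun g h hgh => Subtype.ext ((hcls_eq g h).2 (QuotientGroup.leftRel_apply.1 hgh))) ⟨?_, ?_⟩)
    · intro x y
      refine QuotientGroup.induction_on x fun g => QuotientGroup.induction_on y fun h e1 => ?_
      exact QuotientGroup.eq.2 ((hcls_eq g h).1 (congrArg Subtype.val e1))
    · intro a
      obtain ⟨h, hh, e1⟩ := r.cls_surj S hSM hPS hne a.2
      exact ⟨((⟨h, hh⟩ : H) : H ⧸ Cu), Subtype.ext e1⟩
  have h8 : 8 ∣ K'.index := hCu ▸ index_dvd_of_le hK'C
  have hK'1 : K' ≤ H1 := fun k hk => (hH1 k).2 (by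
    rw [hlin k k0 hk (Or.inr hk0A), mul_inv_cancel_right])
  have h2 : 2 ∣ (K'.subgroupOf H1).index := by
    have h3 := relIndex_mul_index hK'1
    obtain ⟨m, hm⟩ := h8
    obtain h4 | h4 := (Nat.dvd_prime Nat.prime_two).1 hH1i <;> rw [h4, hm] at h3 <;>
      · rw [relIndex] at h3; omega
  rw [index_eq_card] at h2
  haveI : (K'.subgroupOf H1).Normal := inferInstance
  obtain ⟨ξ, hξ⟩ := exists_prime_orderOf_dvd_card' 2 h2
  obtain ⟨g0, rfl⟩ := QuotientGroup.mk_surjective ξ
  have hg0 : aff.act g0.1 ≠ 1 := fun h => by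
    have h1 : (g0 : H1 ⧸ K'.subgroupOf H1) = 1 := (QuotientGroup.eq_one_iff _).2 (mem_subgroupOf.2 h)
    rw [h1, orderOf_one] at hξ
    omega
  have hg02 : aff.act g0.1 * aff.act g0.1 = 1 := by
    have h1 : ((g0 * g0 : H1) : H1 ⧸ K'.subgroupOf H1) = 1 := by
      rw [QuotientGroup.mk_mul, ← pow_two, ← hξ, pow_orderOf_eq_one]
    have h2 : aff.act (g0 * g0).1 = 1 := mem_subgroupOf.1 ((QuotientGroup.eq_one_iff _).1 h1)
    rwa [Subgroup.coe_mul, map_mul] at h2
  obtain ⟨i, m, hm, him⟩ := Nat.exists_eq_two_pow_mul_odd (orderOf_pos g0.1).ne'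
  set g1 := g0.1 ^ m with hg1
  have hact1 : aff.act g1 = aff.act g0.1 := by
    obtain ⟨l, hl⟩ := hm
    rw [hg1, map_pow, hl, pow_succ, pow_mul, pow_two, hg02, one_pow, one_mul]
  have hg1P : (g1 * g1).1 ∈ P := by
    refine r.cent_mem (mem_inf.1 (g1 * g1).2).1 (mem_inf.1 (g1 * g1).2).2 (fun x => ⟨i, Subtype.ext ?_⟩)
      (hker _ (by rw [map_mul, hact1, hg02])).1
    obtain ⟨j, hj⟩ := mem_zpowers_iff.1 x.2
    rw [Subgroup.coe_pow, Subgroup.coe_one, ← hj, ← zpow_natCast, ← zpow_mul, mul_comm, zpow_mul, zpow_natCast,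
      ← Subgroup.coe_pow, ← pow_two, ← pow_mul, hg1, ← pow_mul, show m * (2 * 2 ^ i) = 2 ^ i * m * 2 by ring, pow_mul,
      ← him, pow_orderOf_eq_one, one_pow, Subgroup.coe_one, one_zpow]
  have ht : π g1 * π g1 = 1 := by
    rw [← map_mul]
    refine MulEquiv.ext fun x => QuotientGroup.induction_on x fun p => ?_
    have hcj : cj (g1 * g1) p = ⟨(g1 * g1).1, hg1P⟩ * p * ⟨(g1 * g1).1, hg1P⟩⁻¹ := Subtype.ext rfl
    rw [hπmk, hcj, QuotientGroup.mk_mul, QuotientGroup.mk_mul, QuotientGroup.mk_inv, mul_comm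
      ((⟨(g1 * g1).1, hg1P⟩ : P) : P ⧸ B'), mul_inv_cancel_right]
    rfl
  refine RootEightMap.false_of_involution f hV hA8 hV2 (fun b => Subtype.ext (r.elem b.1 b.2)) hadd hf1 hfib
    (π k0) hηp hfpf (π g1) ht ?_ (aff.act g1) (by rw [hact1, hg02]) (hact1 ▸ hg0) (hfπ g1)
  exact (mul_inv_eq_iff_eq_mul.1 ((hH1 g1).1 (pow_mem g0.2 m))).symm

/-- elements centralising `A` translate -/
theorem exists_translation (r : Root M D u A Q X e q) (S : Sylow 2 G) (hSM : (S : Subgroup G) ≤ M)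
    (hPS : Q ⊔ zpowers u ≤ S) (hne : Q ⊔ zpowers u ≠ S) :
    ∃ k ∈ M ⊓ normalizer ((Q ⊔ zpowers u : Subgroup G) : Set G), (∀ a ∈ A, Commute k a) ∧ cls u k ≠ 1 := by
  by_cases hq : q = 8
  · exact r.translation_eight S hSM hPS hne hq
  · exact (r.affine S hSM hPS hne).exists_translation (by rw [r.card]; exact hq)

end Cfsg.Lib.BenderSE.Crit2.Root
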