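/-
The translations of `uA` at a point of a line of type U3 in the criterion (notes/s1175_h1_szu3.md, step 1):
a 2-group `R₁` over `P = Q⟨u⟩` with `R₁ / P` regular on `uA` which centralises `P / A`, and whose part
centralising `Q` supplements `Q`.
-/
import Cfsg.Agent.BenderSE.Criterion2.RootEight
import Cfsg.Agent.PGroups.Bounds

set_option autoImplicit false
set_option linter.unusedSectionVars false
set_option linter.style.haveILetI false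

namespace Cfsg.Lib.BenderSE.Crit2.Root

open Subgroup

universe uG

variable {G : Type uG} [Group G] [Finite G] {M : Subgroup G} {D : G → Prop} {u : G} {A Q X : Subgroup G}
  {e : G} {q : ℕ}

/-- the translations above `P`, with the lift `x'` of a generator of the torus -/
structure Trans (M : Subgroup G) (u : G) (A Q X R : Subgroup G) (x' : G) : Prop where
  le : Q ⊔ zpowers u ≤ R
  leK : R ≤ Climb.ker M A (Q ⊔ zpowers u)
  two : IsPGroup 2 R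
  surj : ∀ a ∈ A, ∃ p ∈ R, cls u p = a
  kerR : ∀ p ∈ R, cls u p = 1 → p ∈ Q ⊔ zpowers u
  memM : x' ∈ M
  normP : x' ∈ normalizer ((Q ⊔ zpowers u : Subgroup G) : Set G)
  normR : x' ∈ normalizer (R : Set G)
  cent : Commute x' u
  gen : ∀ y ∈ X, ∃ n : ℕ, Climb.Same A y (x' ^ n)
  act : ∃ x ∈ X, Climb.Same A x x'

theorem le_ker (r : Root M D u A Q X e q) : Q ⊔ zpowers u ≤ Climb.ker M A (Q ⊔ zpowers u) :=
  fun p hp => Climb.mem_ker.2 ⟨r.P_le hp, le_normalizer hp, fun a ha => (r.commute_A ha hp).symm⟩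

theorem cls_hom (r : Root M D u A Q X e q) {k l : G} (hk : k ∈ Climb.ker M A (Q ⊔ zpowers u))
    (hl : l ∈ Climb.ker M A (Q ⊔ zpowers u)) : cls u (k * l) = cls u k * cls u l := by
  rw [r.cls_mul, ((Climb.mem_ker.1 hk).2.2 _ (r.cls_mem (Climb.mem_ker.1 hl).2.1)).eq, mul_inv_cancel_right]

theorem same_pow {B : Subgroup G} {g h : G} (hg : ∀ b ∈ B, g * b * g⁻¹ ∈ B) (e1 : Climb.Same B g h) (n : ℕ) :
    Climb.Same B (g ^ n) (h ^ n) := by
  induction n with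
  | zero => intro b _; simp
  | succ n ih =>
    intro b hb
    rw [pow_succ, pow_succ, show g ^ n * g * b * (g ^ n * g)⁻¹ = g ^ n * (g * b * g⁻¹) * (g ^ n)⁻¹ by group,
      show h ^ n * h * b * (h ^ n * h)⁻¹ = h ^ n * (h * b * h⁻¹) * (h ^ n)⁻¹ by group, ← e1 b hb,
      ih _ (hg b hb)]

theorem exists_trans (r : Root M D u A Q X e q) (S : Sylow 2 G) (hSM : (S : Subgroup G) ≤ M)
    (hPS : Q ⊔ zpowers u ≤ S) (hne : Q ⊔ zpowers u ≠ S) :
    ∃ (R : Subgroup G) (x' : G), Trans M u A Q X R x' := by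
  classical
  haveI : Fact (Nat.Prime 2) := ⟨Nat.prime_two⟩
  set P := Q ⊔ zpowers u with hP
  obtain ⟨k₀, hk₀H, hk₀A, hck₀⟩ := r.exists_translation S hSM hPS hne
  set K := Climb.ker M A P with hK
  have hk₀ : k₀ ∈ K := Climb.mem_ker.2 ⟨(mem_inf.1 hk₀H).1, (mem_inf.1 hk₀H).2, hk₀A⟩
  let χ : K →* A :=
    { toFun := fun k => ⟨cls u k.1, r.cls_mem (Climb.mem_ker.1 k.2).2.1⟩
      map_one' := Subtype.ext ((r.cls_eq_one).2 (Commute.one_left u))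
      map_mul' := fun k l => Subtype.ext (r.cls_hom k.2 l.2) }
  have hconjK : ∀ h ∈ M, h ∈ normalizer (P : Set G) → ∀ k ∈ K, h * k * h⁻¹ ∈ K := fun h hM hR k hk => by
    obtain ⟨h1, h2, h3⟩ := Climb.mem_ker.1 hk
    refine Climb.mem_ker.2 ⟨mul_mem (mul_mem hM h1) (inv_mem hM), mul_mem (mul_mem hR h2) (inv_mem hR),
      fun a ha => ?_⟩
    have h4 := (h3 _ (r.norm_A (inv_mem hR) ha)).eq
    calc h * k * h⁻¹ * a = h * (k * (h⁻¹ * a * h⁻¹⁻¹)) * h⁻¹ := by group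
      _ = h * (h⁻¹ * a * h⁻¹⁻¹ * k) * h⁻¹ := by rw [h4]
      _ = a * (h * k * h⁻¹) := by group
  have hχ : Function.Surjective χ := fun a => by
    by_cases ha : (a : G) = 1
    · exact ⟨1, by rw [map_one]; exact Subtype.ext ha.symm⟩
    obtain ⟨x, hx, e1⟩ := r.transA _ (r.cls_mem (Climb.mem_ker.1 hk₀).2.1) a.1 a.2 hck₀ ha
    refine ⟨⟨x * k₀ * x⁻¹, hconjK x (r.XleM hx) (r.X_norm_P hx) k₀ hk₀⟩, Subtype.ext ?_⟩
    exact (r.cls_conj (r.centX x hx) k₀).trans e1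
  obtain ⟨Sy, hSy⟩ := (r.P_two.comap_of_injective K.subtype K.subtype_injective).exists_le_sylow
  set R : Subgroup G := (Sy : Subgroup K).map K.subtype with hR
  have hRK : R ≤ K := map_subtype_le _
  have hPR : P ≤ R := fun p hp => ⟨⟨p, le_ker r hp⟩, hSy hp, rfl⟩
  have hR2 : IsPGroup 2 R := Sy.2.map K.subtype
  have hA2 : IsPGroup 2 A := r.twoQ.to_le r.leA
  have hsurj : ∀ a ∈ A, ∃ p ∈ R, cls u p = a := by
    intro a ha
    have h1 : ((Sy : Subgroup K).map χ).index ∣ (Sy : Subgroup K).index := index_map_dvd _ hχ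
    obtain ⟨j, hj⟩ := hA2.index ((Sy : Subgroup K).map χ)
    have h2 : ((Sy : Subgroup K).map χ) = ⊤ := by
      rw [← index_eq_one, hj]
      rcases j with - | j
      · rfl
      · exact absurd ((dvd_pow_self 2 (by omega)).trans (hj ▸ h1)) Sy.not_dvd_index
    obtain ⟨p, hp, e1⟩ : (⟨a, ha⟩ : A) ∈ (Sy : Subgroup K).map χ := h2 ▸ mem_top _
    exact ⟨p, ⟨p, hp, rfl⟩, congrArg Subtype.val e1⟩
  have hkerR : ∀ p ∈ R, cls u p = 1 → p ∈ P := fun p hp hc => by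
    obtain ⟨h1, h2, -⟩ := Climb.mem_ker.1 (hRK hp)
    exact r.cent_mem h1 h2 (hR2.to_le (zpowers_le.2 hp)) (r.cls_eq_one.1 hc)
  -- the lift of a generator
  obtain ⟨x, hx, hgen⟩ := r.exists_generator
  have hxM := r.XleM hx
  have hxP := r.X_norm_P hx
  let ex : K →* K :=
    { toFun := fun k => ⟨x * k.1 * x⁻¹, hconjK x hxM hxP k.1 k.2⟩
      map_one' := Subtype.ext (show x * 1 * x⁻¹ = (1 : G) by group)
      map_mul' := fun k l => Subtype.ext (show x * (k.1 * l.1) * x⁻¹ = x * k.1 * x⁻¹ * (x * l.1 * x⁻¹) by group) }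
  have hexb : Function.Surjective ex := fun k => by
    refine ⟨⟨x⁻¹ * k.1 * x⁻¹⁻¹, hconjK _ (inv_mem hxM) (inv_mem hxP) k.1 k.2⟩, Subtype.ext ?_⟩
    show x * (x⁻¹ * k.1 * x⁻¹⁻¹) * x⁻¹ = k.1
    group
  obtain ⟨k, hk⟩ := MulAction.exists_smul_eq K (Sy.mapSurjective hexb) Sy
  have hkx : k.1 * x ∈ normalizer (R : Set G) := by
    rw [mem_normalizer_iff_map_conj_eq]
    refine Subgroup.eq_of_le_of_card_ge ?_ (le_of_eq (card_map_of_injective (MulEquiv.injective _)).symm)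
    rintro _ ⟨_, ⟨p, hp, rfl⟩, rfl⟩
    refine ⟨k * ex p * k⁻¹, ?_, ?_⟩
    · have h1 : (k • Sy.mapSurjective hexb : Sylow 2 K) = Sy := hk
      rw [← h1, Sylow.coe_subgroup_smul]
      exact ⟨ex p, ⟨p, hp, rfl⟩, rfl⟩
    · show k.1 * (x * p.1 * x⁻¹) * k.1⁻¹ = k.1 * x * p.1 * (k.1 * x)⁻¹
      group
  have hkK := Climb.mem_ker.1 k.2
  have hcg1 : cls u (k.1 * x) = cls u k.1 := by
    rw [r.cls_mul, r.cls_eq_one.2 (r.centX x hx), mul_one, mul_inv_cancel, mul_one]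
  obtain ⟨p, hp, hcp⟩ := hsurj (cls u k.1)⁻¹ (inv_mem (r.cls_mem hkK.2.1))
  have hpK := Climb.mem_ker.1 (hRK hp)
  have hcpg : cls u (p * (k.1 * x)) = 1 := by
    rw [r.cls_mul, hcg1, (hpK.2.2 _ (r.cls_mem hkK.2.1)).eq, mul_inv_cancel_right, hcp, inv_mul_cancel]
  set g₀ := p * (k.1 * x) with hg₀
  have hsameX : Climb.Same A x g₀ := fun b hb => by
    have hkA : p * k.1 ∈ K := mul_mem (hRK hp) k.2
    symm
    calc g₀ * b * g₀⁻¹ = p * k.1 * (x * b * x⁻¹) * (p * k.1)⁻¹ := by rw [hg₀]; group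
      _ = x * b * x⁻¹ := by
        rw [((Climb.mem_ker.1 hkA).2.2 _ (r.norm_A hxP hb)).eq, mul_inv_cancel_right]
  refine ⟨R, g₀, hPR, hRK, hR2, hsurj, hkerR, mul_mem hpK.1 (mul_mem hkK.1 hxM),
    mul_mem hpK.2.1 (mul_mem hkK.2.1 hxP), mul_mem (le_normalizer hp) hkx, r.cls_eq_one.1 hcpg,
    fun y hy => ?_, x, hx, hsameX⟩
  obtain ⟨n, hn⟩ := hgen y hy
  exact ⟨n, fun b hb => (hn b hb).trans (same_pow (fun b hb => r.norm_A hxP hb) hsameX n b hb)⟩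

theorem Trans.norm_Q_pow {R : Subgroup G} {x' : G} (r : Root M D u A Q X e q) (t : Trans M u A Q X R x')
    (n : ℕ) : x' ^ n ∈ normalizer (Q : Set G) :=
  pow_mem (r.lineQ x' t.memM t.cent t.normP) n

/-- conjugation on `P / A` -/
theorem exists_section_action (r : Root M D u A Q X e q) :
    ∃ (B : Type uG) (_ : CommGroup B) (π : (M ⊓ normalizer ((Q ⊔ zpowers u : Subgroup G) : Set G) : Subgroup G) →*
      MulAut B), ∀ g h, π g = π h ↔
        ∀ z ∈ Q ⊔ zpowers u, (g.1 * z * g.1⁻¹)⁻¹ * (h.1 * z * h.1⁻¹) ∈ A := by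
  classical
  set P := Q ⊔ zpowers u with hP
  let A' : Subgroup P := A.subgroupOf P
  haveI : A'.Normal := ⟨fun a ha g => by
    rw [mem_subgroupOf, Subgroup.coe_mul, Subgroup.coe_mul, ← (r.commute_A (mem_subgroupOf.1 ha) g.2).eq,
      Subgroup.coe_inv, mul_inv_cancel_right]
    exact mem_subgroupOf.1 ha⟩
  have hPcomm : ∀ y ∈ P, ∀ z ∈ P, y * z * y⁻¹ * z⁻¹ ∈ A := by
    have key : ∀ y ∈ P, ∀ z ∈ Q, y * z * y⁻¹ * z⁻¹ ∈ A := fun y hy z hz => by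
      rcases r.mem_P.1 hy with h | h
      · exact r.comm_mem h hz
      · have h1 := r.comm_mem h hz
        rwa [show y * u * z * (y * u)⁻¹ * z⁻¹ = y * (u * z * u⁻¹) * y⁻¹ * z⁻¹ by group,
          (r.centQ z hz).symm.eq, mul_inv_cancel_right] at h1
    intro y hy z hz
    rcases r.mem_P.1 hz with h | h
    · exact key y hy z h
    · have h1 := key y hy _ h
      rwa [show y * (z * u) * y⁻¹ * (z * u)⁻¹ = y * z * (u * y⁻¹) * u⁻¹ * z⁻¹ by group,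
        ((r.u_commute hy).inv_left).symm.eq,
        show y * z * (y⁻¹ * u) * u⁻¹ * z⁻¹ = y * z * y⁻¹ * z⁻¹ by group] at h1
  letI : CommGroup (P ⧸ A') :=
    { (inferInstance : Group (P ⧸ A')) with
      mul_comm := by
        intro a b
        refine QuotientGroup.induction_on a fun a => QuotientGroup.induction_on b fun b => ?_
        refine (QuotientGroup.eq).2 (mem_subgroupOf.2 ?_)
        show (a.1 * b.1)⁻¹ * (b.1 * a.1) ∈ A
        rw [show (a.1 * b.1)⁻¹ * (b.1 * a.1) = b.1⁻¹ * a.1⁻¹ * b.1⁻¹⁻¹ * a.1⁻¹⁻¹ by group]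
        exact hPcomm _ (inv_mem b.2) _ (inv_mem a.2) }
  let H : Subgroup G := M ⊓ normalizer (P : Set G)
  let cj : H →* MulAut P :=
    { toFun := fun h =>
        { toFun := fun p => ⟨h.1 * p.1 * h.1⁻¹, (mem_normalizer_iff.1 (mem_inf.1 h.2).2 _).1 p.2⟩
          invFun := fun p => ⟨h.1⁻¹ * p.1 * h.1⁻¹⁻¹,
            (mem_normalizer_iff.1 (inv_mem (mem_inf.1 h.2).2) _).1 p.2⟩
          left_inv := fun p => Subtype.ext (by
            show h.1⁻¹ * (h.1 * p.1 * h.1⁻¹) * h.1⁻¹⁻¹ = p.1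
            group)
          right_inv := fun p => Subtype.ext (by
            show h.1 * (h.1⁻¹ * p.1 * h.1⁻¹⁻¹) * h.1⁻¹ = p.1
            group)
          map_mul' := fun a b => Subtype.ext (by
            show h.1 * (a.1 * b.1) * h.1⁻¹ = h.1 * a.1 * h.1⁻¹ * (h.1 * b.1 * h.1⁻¹)
            group) }
      map_one' := by
        ext a
        show (1 : G) * a.1 * (1 : G)⁻¹ = a.1
        group
      map_mul' := fun h k => by
        ext a
        show h.1 * k.1 * a.1 * (h.1 * k.1)⁻¹ = h.1 * (k.1 * a.1 * k.1⁻¹) * h.1⁻¹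
        group }
  have hmap : ∀ h : H, A'.map (cj h).toMonoidHom = A' := fun h => by
    refine Subgroup.eq_of_le_of_card_ge ?_ (le_of_eq (card_map_of_injective (MulEquiv.injective _)).symm)
    rintro _ ⟨a, ha, rfl⟩
    exact mem_subgroupOf.2 (r.norm_A (mem_inf.1 h.2).2 (mem_subgroupOf.1 ha))
  let π : H →* MulAut (P ⧸ A') :=
    { toFun := fun h => QuotientGroup.congr A' A' (cj h) (hmap h)
      map_one' := MulEquiv.ext fun b => QuotientGroup.induction_on b fun z => by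
        show QuotientGroup.mk (cj 1 z) = _
        rw [map_one]
        rfl
      map_mul' := fun g h => MulEquiv.ext fun b => QuotientGroup.induction_on b fun z => by
        show QuotientGroup.mk (cj (g * h) z) = QuotientGroup.mk (cj g (cj h z))
        rw [map_mul]
        rfl }
  refine ⟨P ⧸ A', inferInstance, π, fun g h => ⟨fun e1 z hz => ?_, fun e1 => ?_⟩⟩
  · have h1 := DFunLike.congr_fun e1 (QuotientGroup.mk (⟨z, hz⟩ : P))
    exact mem_subgroupOf.1 (QuotientGroup.eq.1 h1)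
  · exact MulEquiv.ext fun b => QuotientGroup.induction_on b fun z =>
      QuotientGroup.eq.2 (mem_subgroupOf.2 (e1 z.1 z.2))

/-- every element of `Q` is, modulo `A`, a commutator with `e` -/
theorem comm_e_surj (r : Root M D u A Q X e q) {g : G} (hg : g ∈ Q) :
    ∃ z ∈ Q, g⁻¹ * (z⁻¹ * (e * z * e⁻¹)) ∈ A := by
  classical
  let A' : Subgroup Q := A.subgroupOf Q
  have hfix : ∀ a ∈ A, e * a * e⁻¹ = a := fun a ha => by rw [(r.eA a ha).eq, mul_inv_cancel_right]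
  have heQ : ∀ z ∈ Q, e * z * e⁻¹ ∈ Q := fun z hz => (mem_normalizer_iff.1 (r.normQ r.eX) z).1 hz
  let F : Q ⧸ A' → Q ⧸ A' := Quotient.lift
    (fun z : Q => QuotientGroup.mk (⟨z.1⁻¹ * (e * z.1 * e⁻¹), mul_mem (inv_mem z.2) (heQ _ z.2)⟩ : Q))
    (fun z z' hzz => by
      have ha : z.1⁻¹ * z'.1 ∈ A := mem_subgroupOf.1 (QuotientGroup.leftRel_apply.1 hzz)
      refine congrArg QuotientGroup.mk (Subtype.ext ?_)
      show z.1⁻¹ * (e * z.1 * e⁻¹) = z'.1⁻¹ * (e * z'.1 * e⁻¹)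
      obtain ⟨a, ha', e2⟩ : ∃ a ∈ A, z'.1 = z.1 * a := ⟨_, ha, by group⟩
      rw [e2, show (z.1 * a)⁻¹ * (e * (z.1 * a) * e⁻¹) = a⁻¹ * (z.1⁻¹ * (e * z.1 * e⁻¹)) * (e * a * e⁻¹) by group,
        hfix a ha', (r.centA _ (inv_mem ha') _ (mul_mem (inv_mem z.2) (heQ _ z.2))).eq, inv_mul_cancel_right])
  have hinj : Function.Injective F := fun b b' => by
    refine QuotientGroup.induction_on b fun z => QuotientGroup.induction_on b' fun z' hzz => ?_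
    have h1 : (z.1⁻¹ * (e * z.1 * e⁻¹))⁻¹ * (z'.1⁻¹ * (e * z'.1 * e⁻¹)) ∈ A :=
      mem_subgroupOf.1 (QuotientGroup.eq.1 hzz)
    set a := (z.1⁻¹ * (e * z.1 * e⁻¹))⁻¹ * (z'.1⁻¹ * (e * z'.1 * e⁻¹)) with ha
    set d := z'.1 * z.1⁻¹ with hd
    have hdQ : d ∈ Q := mul_mem z'.2 (inv_mem z.2)
    have hde : e * d * e⁻¹ = d * a := by
      have e1 : z'.1⁻¹ * (e * z'.1 * e⁻¹) = z.1⁻¹ * (e * z.1 * e⁻¹) * a := by rw [ha]; group
      calc e * d * e⁻¹ = z'.1 * (z'.1⁻¹ * (e * z'.1 * e⁻¹)) * (e * z.1⁻¹ * e⁻¹) := by rw [hd]; group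
        _ = z'.1 * (z.1⁻¹ * (e * z.1 * e⁻¹) * a) * (e * z.1⁻¹ * e⁻¹) := by rw [e1]
        _ = z'.1 * z.1⁻¹ * (e * z.1 * e⁻¹ * (a * (e * z.1⁻¹ * e⁻¹))) := by group
        _ = z'.1 * z.1⁻¹ * (e * z.1 * e⁻¹ * (e * z.1⁻¹ * e⁻¹ * a)) := by
          rw [(r.centA a h1 _ (heQ _ (inv_mem z.2))).eq]
        _ = d * a := by rw [hd]; group
    have hit : ∀ n : ℕ, e ^ n * d * (e ^ n)⁻¹ = d * a ^ n := fun n => by
      induction n with
      | zero => simp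
      | succ n ih =>
        rw [pow_succ' e, show e * e ^ n * d * (e * e ^ n)⁻¹ = e * (e ^ n * d * (e ^ n)⁻¹) * e⁻¹ by group, ih,
          show e * (d * a ^ n) * e⁻¹ = e * d * e⁻¹ * (e * a ^ n * e⁻¹) by group,
          hfix _ (pow_mem h1 n), hde, mul_assoc, ← pow_succ']
    have h2 := hit (orderOf e)
    rw [pow_orderOf_eq_one, one_mul, inv_one, mul_one, eq_comm, mul_eq_left] at h2
    have ha1 : a = 1 := by
      obtain ⟨j, hj⟩ := r.oddE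
      rw [hj, pow_succ, pow_mul, pow_two, r.elem a h1, one_pow, one_mul] at h2
      exact h2
    rw [ha1, mul_one] at hde
    have hdA := r.eQ d hdQ (mul_inv_eq_iff_eq_mul.1 hde)
    refine QuotientGroup.eq.2 (mem_subgroupOf.2 ?_)
    show z.1⁻¹ * z'.1 ∈ A
    rw [show z.1⁻¹ * z'.1 = z.1⁻¹ * d * z.1 by rw [hd]; group, mul_assoc, (r.centA d hdA z.1 z.2).eq,
      inv_mul_cancel_left]
    exact hdA
  obtain ⟨b, hb⟩ := (Finite.injective_iff_surjective.1 hinj) (QuotientGroup.mk (⟨g, hg⟩ : Q))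
  revert hb
  refine QuotientGroup.induction_on b fun z hz => ⟨z.1, z.2, ?_⟩
  have h1 : (z.1⁻¹ * (e * z.1 * e⁻¹))⁻¹ * g ∈ A := mem_subgroupOf.1 (QuotientGroup.eq.1 hz)
  have := inv_mem h1
  rwa [mul_inv_rev, inv_inv] at this

/-- the translations normalise `Q` and centralise `P / A`, and those centralising `Q` supplement `Q` -/
theorem Trans.supplement (r : Root M D u A Q X e q) {R : Subgroup G} {x' : G} (t : Trans M u A Q X R x') :
    (∀ y ∈ R, y ∈ normalizer (Q : Set G)) ∧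
      ∀ y ∈ R, ∃ g ∈ Q, y * g ∈ R ⊓ centralizer (Q : Set G) := by
  classical
  haveI : Fact (Nat.Prime 2) := ⟨Nat.prime_two⟩
  set P := Q ⊔ zpowers u with hP
  obtain ⟨B, _, π, hπ⟩ := exists_section_action r
  let H : Subgroup G := M ⊓ normalizer (P : Set G)
  have hK : ∀ {y : G}, y ∈ R → y ∈ H := fun hy =>
    mem_inf.2 ⟨(Climb.mem_ker.1 (t.leK hy)).1, (Climb.mem_ker.1 (t.leK hy)).2.1⟩
  have hC0 : ∀ {m : G}, m ∈ Climb.ker M A P → Commute m u → m ∈ normalizer (Q : Set G) := fun hm hmu =>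
    r.lineQ _ (Climb.mem_ker.1 hm).1 hmu (Climb.mem_ker.1 hm).2.1
  have hconjK : ∀ {h : G}, h ∈ M → h ∈ normalizer (P : Set G) → ∀ k ∈ Climb.ker M A P,
      h * k * h⁻¹ ∈ Climb.ker M A P := fun {h} hM hR k hk => by
    obtain ⟨h1, h2, h3⟩ := Climb.mem_ker.1 hk
    refine Climb.mem_ker.2 ⟨mul_mem (mul_mem hM h1) (inv_mem hM), mul_mem (mul_mem hR h2) (inv_mem hR),
      fun a ha => ?_⟩
    have h4 := (h3 _ (r.norm_A (inv_mem hR) ha)).eq
    calc h * k * h⁻¹ * a = h * (k * (h⁻¹ * a * h⁻¹⁻¹)) * h⁻¹ := by group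
      _ = h * (h⁻¹ * a * h⁻¹⁻¹ * k) * h⁻¹ := by rw [h4]
      _ = a * (h * k * h⁻¹) := by group
  have he : e ∈ Climb.ker M A P := Climb.mem_ker.2 ⟨r.XleM r.eX, r.X_norm_P r.eX, r.eA⟩
  -- the kernel centralising `u` is abelian on `P / A` and commutes with the torus there
  have hlin : ∀ g h : H, g.1 ∈ Climb.ker M A P → Commute g.1 u → Commute h.1 u →
      (h.1 ∈ X ∨ ∀ a ∈ A, Commute h.1 a) → π g * π h = π h * π g := by
    intro g h hg hgu hhu hh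
    rw [← map_mul, ← map_mul, hπ]
    have hhQ : h.1 ∈ normalizer (Q : Set G) := by
      rcases hh with h1 | h1
      · exact r.normQ h1
      · exact r.lineQ _ (mem_inf.1 h.2).1 hhu (mem_inf.1 h.2).2
    have key : ∀ z ∈ Q, (g.1 * h.1 * z * (g.1 * h.1)⁻¹)⁻¹ * (h.1 * g.1 * z * (h.1 * g.1)⁻¹) ∈ A :=
      r.linA g.1 (mem_inf.1 g.2).1 h.1 (mem_inf.1 h.2).1 hgu hhu (hC0 hg hgu) hhQ
        (Climb.mem_ker.1 hg).2.2 hh
    intro z hz
    show (g.1 * h.1 * z * (g.1 * h.1)⁻¹)⁻¹ * (h.1 * g.1 * z * (h.1 * g.1)⁻¹) ∈ A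
    rcases r.mem_P.1 hz with h1 | h1
    · exact key z h1
    · have h2 := key _ h1
      have hu1 : ∀ k : G, Commute k u → k * (z * u) * k⁻¹ = k * z * k⁻¹ * u := fun k hk => by
        rw [show k * (z * u) * k⁻¹ = k * z * (u * k⁻¹) by group, ← hk.inv_left.eq]
        group
      rw [hu1 _ (hgu.mul_left hhu), hu1 _ (hhu.mul_left hgu)] at h2
      rw [show (g.1 * h.1 * z * (g.1 * h.1)⁻¹ * u)⁻¹ * (h.1 * g.1 * z * (h.1 * g.1)⁻¹ * u) =
        u⁻¹ * ((g.1 * h.1 * z * (g.1 * h.1)⁻¹)⁻¹ * (h.1 * g.1 * z * (h.1 * g.1)⁻¹)) * u⁻¹⁻¹ by group] at h2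
      have h3 := r.norm_A (le_normalizer u_mem_P) h2
      rwa [show u * (u⁻¹ * ((g.1 * h.1 * z * (g.1 * h.1)⁻¹)⁻¹ * (h.1 * g.1 * z * (h.1 * g.1)⁻¹)) * u⁻¹⁻¹) * u⁻¹ =
        (g.1 * h.1 * z * (g.1 * h.1)⁻¹)⁻¹ * (h.1 * g.1 * z * (h.1 * g.1)⁻¹) by group] at h3
  have hπP : ∀ p : H, p.1 ∈ P → π p = 1 := fun p hp => by
    rw [← map_one π, hπ]
    intro z hz
    show (p.1 * z * p.1⁻¹)⁻¹ * (1 * z * (1 : G)⁻¹) ∈ A
    have h1 : p.1 * z * p.1⁻¹ * z⁻¹ ∈ A := by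
      rcases r.mem_P.1 hp with h | h <;> rcases r.mem_P.1 hz with h' | h'
      · exact r.comm_mem h h'
      · have h2 := r.comm_mem h h'
        rwa [show p.1 * (z * u) * p.1⁻¹ * (z * u)⁻¹ = p.1 * z * (u * p.1⁻¹) * u⁻¹ * z⁻¹ by group,
          ((r.centQ _ h).inv_left).symm.eq, show p.1 * z * (p.1⁻¹ * u) * u⁻¹ * z⁻¹ = p.1 * z * p.1⁻¹ * z⁻¹ by group]
          at h2
      · have h2 := r.comm_mem h h'
        rwa [show p.1 * u * z * (p.1 * u)⁻¹ * z⁻¹ = p.1 * (u * z * u⁻¹) * p.1⁻¹ * z⁻¹ by group,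
          (r.centQ z h').symm.eq, mul_inv_cancel_right] at h2
      · have h2 := r.comm_mem h h'
        have hzu := (r.u_commute hz).eq
        rwa [show p.1 * u * (z * u) * (p.1 * u)⁻¹ * (z * u)⁻¹ = p.1 * (u * z) * p.1⁻¹ * u⁻¹ * z⁻¹ by group,
          ← hzu, show p.1 * (z * u) * p.1⁻¹ * u⁻¹ * z⁻¹ = p.1 * z * (u * p.1⁻¹) * u⁻¹ * z⁻¹ by group,
          ((r.u_commute hp).inv_left).symm.eq,
          show p.1 * z * (p.1⁻¹ * u) * u⁻¹ * z⁻¹ = p.1 * z * p.1⁻¹ * z⁻¹ by group] at h2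
    have h3 := r.norm_A (le_normalizer (inv_mem hz)) (inv_mem h1)
    rwa [show z⁻¹ * (p.1 * z * p.1⁻¹ * z⁻¹)⁻¹ * z⁻¹⁻¹ = z⁻¹ * (z * (p.1 * z * p.1⁻¹)⁻¹) * z by group,
      inv_mul_cancel_left, show (p.1 * z * p.1⁻¹)⁻¹ * z = (p.1 * z * p.1⁻¹)⁻¹ * (1 * z * (1 : G)⁻¹) by group] at h3
  let xH : H := ⟨x', mem_inf.2 ⟨t.memM, t.normP⟩⟩
  have hxA : ∀ a ∈ A, x' * a * x'⁻¹ ∈ A := fun a ha => r.norm_A t.normP ha
  have hback : ∀ y ∈ X, ∃ n : ℕ, x' ^ n * y⁻¹ ∈ Climb.ker M A P := fun y hy => by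
    obtain ⟨n, hn⟩ := t.gen y hy
    refine ⟨n, Climb.mem_ker.2 ⟨mul_mem (pow_mem t.memM n) (inv_mem (r.XleM hy)),
      mul_mem (pow_mem t.normP n) (inv_mem (r.X_norm_P hy)), fun a ha => mul_inv_eq_iff_eq_mul.1 ?_⟩⟩
    rw [show x' ^ n * y⁻¹ * a * (x' ^ n * y⁻¹)⁻¹ = x' ^ n * (y⁻¹ * a * y⁻¹⁻¹) * (x' ^ n)⁻¹ by group,
      ← hn _ ((mem_normalizer_iff.1 (r.normA (inv_mem hy)) a).1 ha)]
    group
  -- powers of the lift commute with the kernel on `P / A`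
  have hxcomm : ∀ (n : ℕ) (m : H), m.1 ∈ Climb.ker M A P → Commute m.1 u →
      π (xH ^ n) * π m = π m * π (xH ^ n) := by
    intro n m hm hmu
    obtain ⟨x, hx, hsame⟩ := t.act
    let x₁ : H := ⟨x, mem_inf.2 ⟨r.XleM hx, r.X_norm_P hx⟩⟩
    have hεA : ∀ a ∈ A, Commute (x' * x⁻¹) a := fun a ha => mul_inv_eq_iff_eq_mul.1 (by
      rw [show x' * x⁻¹ * a * (x' * x⁻¹)⁻¹ = x' * (x⁻¹ * a * x⁻¹⁻¹) * x'⁻¹ by group,
        ← hsame _ ((mem_normalizer_iff.1 (r.normA (inv_mem hx)) a).1 ha)]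
      group)
    have h1 : π m * π x₁ = π x₁ * π m := hlin m x₁ hm hmu (r.centX x hx) (Or.inl hx)
    have h2 : π m * π (xH * x₁⁻¹) = π (xH * x₁⁻¹) * π m :=
      hlin m _ hm hmu (t.cent.mul_left (r.centX x hx).inv_left) (Or.inr hεA)
    have h3 : π xH * π m = π m * π xH := by
      rw [show π xH = π (xH * x₁⁻¹) * π x₁ by rw [← map_mul, inv_mul_cancel_right], mul_assoc, ← h1, ← mul_assoc,
        ← h2, mul_assoc]
    rw [map_pow]
    exact ((show Commute (π xH) (π m) from h3).pow_left n).eq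
  have hclsP : ∀ {z : G}, z ∈ P → cls u z = 1 := fun hz => r.cls_eq_one.2 (r.u_commute hz)
  have hdiff : ∀ {y y₂ : G}, y ∈ R → y₂ ∈ R → cls u y = cls u y₂ → y⁻¹ * y₂ ∈ P := by
    intro y y₂ hy hy2 e1
    refine t.kerR _ (mul_mem (inv_mem hy) hy2) ?_
    rw [r.cls_hom (inv_mem (t.leK hy)) (t.leK hy2), ← e1, ← r.cls_hom (inv_mem (t.leK hy)) (t.leK hy),
      inv_mul_cancel, hclsP (one_mem P)]
  -- the translations commute with the kernel on `P / A`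
  have hRcomm : ∀ y m : H, y.1 ∈ R → m.1 ∈ Climb.ker M A P → Commute m.1 u → π y * π m = π m * π y := by
    intro y m hy hm hmu
    by_cases hy1 : cls u y.1 = 1
    · rw [hπP y (t.kerR _ hy hy1), one_mul, mul_one]
    have hm' : ∀ y : H, y.1 ∈ R →
        (y * m * y⁻¹).1 ∈ Climb.ker M A P ∧ Commute (y * m * y⁻¹).1 u := fun y hy => by
      have hk := t.leK hy
      refine ⟨mul_mem (mul_mem hk hm) (inv_mem hk), r.cls_eq_one.1 ?_⟩
      show cls u (y.1 * m.1 * y.1⁻¹) = 1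
      rw [r.cls_hom (mul_mem hk hm) (inv_mem hk), r.cls_hom hk hm, r.cls_eq_one.2 hmu, mul_one,
        ← r.cls_hom hk (inv_mem hk), mul_inv_cancel, hclsP (one_mem P)]
    set v := π y * π m * (π y)⁻¹ with hv
    -- the image does not depend on the translation
    have hconst : ∀ y₂ : H, y₂.1 ∈ R → cls u y₂.1 ≠ 1 → π y₂ * π m * (π y₂)⁻¹ = v := by
      intro y₂ hy2 hy21
      obtain ⟨x, hx, hxa⟩ := r.transA _ (r.cls_mem (mem_inf.1 y.2).2) _ (r.cls_mem (mem_inf.1 y₂.2).2) hy1 hy21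
      obtain ⟨n, hn⟩ := t.gen x hx
      let xn : H := xH ^ n
      have hxn : xn.1 = x' ^ n := Subgroup.coe_pow _ _ _
      set y₃ : H := xn * y * xn⁻¹ with hy3
      have hy3v : y₃.1 = x' ^ n * y.1 * (x' ^ n)⁻¹ := by rw [← hxn]; rfl
      have hy3R : y₃.1 ∈ R := hy3v ▸ (mem_normalizer_iff.1 (pow_mem t.normR n) _).1 hy
      have hy3c : cls u y₃.1 = cls u y₂.1 := by
        rw [hy3v, r.cls_conj (t.cent.pow_left n), ← hn _ (r.cls_mem (mem_inf.1 y.2).2), hxa]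
      have h1 : π (y₃⁻¹ * y₂) = 1 := hπP _ (hdiff hy3R hy2 hy3c)
      have h2 : π y₂ = π y₃ := by
        rw [map_mul, map_inv, inv_mul_eq_one] at h1
        exact h1.symm
      have h3 := hxcomm n m hm hmu
      have h4 := hxcomm n _ (hm' y hy).1 (hm' y hy).2
      rw [map_mul, map_mul, map_inv, ← hv] at h4
      have h3' : (π xn)⁻¹ * π m * π xn = π m := by
        rw [mul_assoc, ← h3, inv_mul_cancel_left]
      calc π y₂ * π m * (π y₂)⁻¹ = π y₃ * π m * (π y₃)⁻¹ := by rw [h2]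
        _ = π xn * (π y * ((π xn)⁻¹ * π m * π xn) * (π y)⁻¹) * (π xn)⁻¹ := by
          rw [hy3, map_mul, map_mul, map_inv]; group
        _ = π xn * v * (π xn)⁻¹ := by rw [h3']
        _ = v := by rw [h4, mul_inv_cancel_right]
    -- a third translation
    obtain ⟨b, hb, hb1, hba⟩ : ∃ b ∈ A, b ≠ 1 ∧ cls u y.1 * b ≠ 1 := by
      by_contra hno
      push Not at hno
      let f : A → Bool := fun b => decide ((b : G) = 1)
      have hf : Function.Injective f := fun b b' e1 => by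
        have e' := decide_eq_decide.1 e1
        by_cases h : (b : G) = 1
        · exact Subtype.ext (h.trans (e'.1 h).symm)
        · have h' : (b' : G) ≠ 1 := fun k => h (e'.2 k)
          exact Subtype.ext (mul_left_cancel ((hno b b.2 h).trans (hno b' b'.2 h').symm))
      have := Nat.card_le_card_of_injective f hf
      rw [r.card, Nat.card_eq_fintype_card, Fintype.card_bool] at this
      have := r.four
      omega
    obtain ⟨y', hy', rfl⟩ := t.surj b hb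
    let y2 : H := ⟨y', hK hy'⟩
    have h1 := hconst y2 hy' hb1
    have h2 := hconst (y * y2) (mul_mem hy hy') (by
      show cls u (y.1 * y') ≠ 1
      rw [r.cls_hom (t.leK hy) (t.leK hy')]
      exact hba)
    rw [map_mul, show π y * π y2 * π m * (π y * π y2)⁻¹ = π y * (π y2 * π m * (π y2)⁻¹) * (π y)⁻¹ by group, h1,
      hv] at h2
    exact mul_inv_eq_iff_eq_mul.1 (mul_left_cancel (mul_right_cancel h2))
  let eH : H := ⟨e, mem_inf.2 ⟨r.XleM r.eX, r.X_norm_P r.eX⟩⟩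
  have hfix : ∀ a ∈ A, e * a * e⁻¹ = a := fun a ha => by rw [(r.eA a ha).eq, mul_inv_cancel_right]
  have hnA : ∀ {y : G}, y ∈ R → ∀ a ∈ A, y * a * y⁻¹ = a := fun hy a ha => by
    rw [((Climb.mem_ker.1 (t.leK hy)).2.2 a ha).eq, mul_inv_cancel_right]
  have hcommE : ∀ {z : G}, z ∈ P → z⁻¹ * (e * z * e⁻¹) ∈ Q := fun {z} hz => by
    rcases r.mem_P.1 hz with h | h
    · exact mul_mem (inv_mem h) ((mem_normalizer_iff.1 (r.normQ r.eX) z).1 h)
    · have h2 := mul_mem (inv_mem h) ((mem_normalizer_iff.1 (r.normQ r.eX) _).1 h)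
      have h3 : z⁻¹ * (e * z * e⁻¹) = u * ((z * u)⁻¹ * (e * (z * u) * e⁻¹)) * u⁻¹ := by
        rw [show e * (z * u) * e⁻¹ = e * z * (u * e⁻¹) by group, ((r.centX e r.eX).inv_left).symm.eq]
        group
      rw [h3, (r.centQ _ h2).symm.eq, mul_inv_cancel_right]
      exact h2
  have hQn : ∀ y ∈ R, ∀ z ∈ Q, y * z * y⁻¹ ∈ Q := by
    intro y hy z hz
    obtain ⟨z₀, hz₀, ha⟩ := comm_e_surj r hz
    have hyP := (Climb.mem_ker.1 (t.leK hy)).2.1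
    set z₁ := y * z₀ * y⁻¹ with hz1
    have hz1P : z₁ ∈ P := (mem_normalizer_iff.1 hyP z₀).1 (mem_sup_left hz₀)
    have h1 := hRcomm ⟨y, hK hy⟩ eH hy he (r.centX e r.eX)
    rw [← map_mul, ← map_mul, hπ] at h1
    have h2 : (y * e * z₀ * (y * e)⁻¹)⁻¹ * (e * y * z₀ * (e * y)⁻¹) ∈ A := h1 z₀ (mem_sup_left hz₀)
    set a := z⁻¹ * (z₀⁻¹ * (e * z₀ * e⁻¹)) with ha'
    set a' := (y * e * z₀ * (y * e)⁻¹)⁻¹ * (e * y * z₀ * (e * y)⁻¹) with ha2
    have h3 : y * z * y⁻¹ = z₁⁻¹ * (e * z₁ * e⁻¹) * a'⁻¹ * (y * a⁻¹ * y⁻¹) := by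
      rw [ha', ha2, hz1]; group
    rw [h3]
    exact mul_mem (mul_mem (hcommE hz1P) (r.leA (inv_mem h2))) (r.leA (by rw [hnA hy _ (inv_mem ha)]; exact inv_mem ha))
  have hQn' : ∀ y ∈ R, y ∈ normalizer (Q : Set G) := fun y hy => mem_normalizer_iff.2 fun z =>
    ⟨hQn y hy z, fun h => by
      have := hQn y⁻¹ (inv_mem hy) _ h
      rwa [show y⁻¹ * (y * z * y⁻¹) * y⁻¹⁻¹ = z by group] at this⟩
  refine ⟨hQn', ?_⟩
  -- the translations centralise `Q / A`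
  let Y : Subgroup G :=
    { carrier := {z | z ∈ Q ∧ ∀ y ∈ R, y * z * y⁻¹ * z⁻¹ ∈ A}
      one_mem' := ⟨one_mem Q, fun y _ => by simp⟩
      mul_mem' := fun {z z'} h h' => ⟨mul_mem h.1 h'.1, fun y hy => by
        have ha := h'.2 y hy
        rw [show y * (z * z') * y⁻¹ * (z * z')⁻¹ = y * z * y⁻¹ * (y * z' * y⁻¹ * z'⁻¹) * z⁻¹ by group,
          mul_assoc, (r.centA _ ha _ (inv_mem h.1)).eq, ← mul_assoc]
        exact mul_mem (h.2 y hy) ha⟩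
      inv_mem' := fun {z} h => ⟨inv_mem h.1, fun y hy => by
        rw [show y * z⁻¹ * y⁻¹ * z⁻¹⁻¹ = z⁻¹ * (y * z * y⁻¹ * z⁻¹)⁻¹ * z by group, mul_assoc,
          (r.centA _ (inv_mem (h.2 y hy)) z h.1).eq, inv_mul_cancel_left]
        exact inv_mem (h.2 y hy)⟩ }
  have hY_C0 : ∀ m ∈ Climb.ker M A P, Commute m u → ∀ z ∈ Y, m * z * m⁻¹ ∈ Y := by
    intro m hm hmu z hz
    have hmQ := hC0 hm hmu
    refine ⟨(mem_normalizer_iff.1 hmQ z).1 hz.1, fun y hy => ?_⟩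
    obtain ⟨hm1, hm2, hm3⟩ := Climb.mem_ker.1 hm
    have h1 := hRcomm ⟨y, hK hy⟩ ⟨m, mem_inf.2 ⟨hm1, hm2⟩⟩ hy hm hmu
    rw [← map_mul, ← map_mul, hπ] at h1
    have h2 : (y * m * z * (y * m)⁻¹)⁻¹ * (m * y * z * (m * y)⁻¹) ∈ A := h1 z (mem_sup_left hz.1)
    have h3 := hz.2 y hy
    set a := (y * m * z * (y * m)⁻¹)⁻¹ * (m * y * z * (m * y)⁻¹) with ha
    set b := y * z * y⁻¹ * z⁻¹ with hb
    have h4 : y * (m * z * m⁻¹) * y⁻¹ * (m * z * m⁻¹)⁻¹ = m * b * z * m⁻¹ * a⁻¹ * (m * z * m⁻¹)⁻¹ := by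
      rw [ha, hb]; group
    have h5 : m * b * m⁻¹ = b := by rw [(hm3 b h3).eq, mul_inv_cancel_right]
    rw [h4, show m * b * z * m⁻¹ * a⁻¹ * (m * z * m⁻¹)⁻¹ =
      m * b * m⁻¹ * (m * z * m⁻¹) * a⁻¹ * (m * z * m⁻¹)⁻¹ by group, h5, mul_assoc b,
      ← (r.centA _ (inv_mem h2) _ ((mem_normalizer_iff.1 hmQ z).1 hz.1)).eq, mul_assoc b, mul_inv_cancel_right]
    exact mul_mem h3 (inv_mem h2)
  have hYx : ∀ n : ℕ, ∀ z ∈ Y, x' ^ n * z * (x' ^ n)⁻¹ ∈ Y := by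
    intro n z hz
    have hA' : ∀ a ∈ A, x' ^ n * a * (x' ^ n)⁻¹ ∈ A := fun a ha => r.norm_A (pow_mem t.normP n) ha
    refine ⟨(mem_normalizer_iff.1 (t.norm_Q_pow r n) z).1 hz.1, fun y hy => ?_⟩
    have hy' : (x' ^ n)⁻¹ * y * x' ^ n ∈ R := by
      have := (mem_normalizer_iff.1 (inv_mem (pow_mem t.normR n)) y).1 hy
      rwa [inv_inv] at this
    have := hA' _ (hz.2 _ hy')
    rwa [show x' ^ n * ((x' ^ n)⁻¹ * y * x' ^ n * z * ((x' ^ n)⁻¹ * y * x' ^ n)⁻¹ * z⁻¹) * (x' ^ n)⁻¹ =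
      y * (x' ^ n * z * (x' ^ n)⁻¹) * y⁻¹ * (x' ^ n * z * (x' ^ n)⁻¹)⁻¹ by group] at this
  have hXY : ∀ x ∈ X, ∀ z ∈ Y, x * z * x⁻¹ ∈ Y := by
    intro x hx z hz
    obtain ⟨n, hn⟩ := hback x hx
    have h1 := hY_C0 _ (inv_mem hn) (((t.cent.pow_left n).mul_left (r.centX x hx).inv_left).inv_left) _ (hYx n z hz)
    rwa [show (x' ^ n * x⁻¹)⁻¹ * (x' ^ n * z * (x' ^ n)⁻¹) * (x' ^ n * x⁻¹)⁻¹⁻¹ = x * z * x⁻¹ by group] at h1
  have hAY : A ≤ Y := fun a ha => ⟨r.leA ha, fun y hy => by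
    rw [hnA hy a ha, mul_inv_cancel]
    exact one_mem A⟩
  have hYQ : Y = Q := by
    refine (r.irrX Y hAY (fun z hz => hz.1) fun x hx => mem_normalizer_iff.2 fun z => ⟨hXY x hx z, fun h => ?_⟩)
      |>.resolve_left ?_
    · have := hXY x⁻¹ (inv_mem hx) _ h
      rwa [show x⁻¹ * (x * z * x⁻¹) * x⁻¹⁻¹ = z by group] at this
    -- a 2-group fixes something in `Q / A`
    intro hYA
    let A1 : Subgroup R := A.subgroupOf R
    let Q1 : Subgroup R := Q.subgroupOf R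
    have hQR : Q ≤ R := le_trans le_sup_left t.le
    haveI hA1 : A1.Normal := ⟨fun a ha y => by
      rw [mem_subgroupOf, Subgroup.coe_mul, Subgroup.coe_mul, Subgroup.coe_inv, hnA y.2 _ (mem_subgroupOf.1 ha)]
      exact mem_subgroupOf.1 ha⟩
    haveI hQ1 : Q1.Normal := ⟨fun a ha y => mem_subgroupOf.2 (hQn y.1 y.2 _ (mem_subgroupOf.1 ha))⟩
    have hlt : A1 < Q1 := by
      refine lt_of_le_of_ne (fun a ha => r.leA ha) fun e1 => ?_
      have h1 : Nat.card A1 = Nat.card Q1 := by rw [e1]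
      rw [Nat.card_congr (subgroupOfEquivOfLe (r.leA.trans hQR)).toEquiv,
        Nat.card_congr (subgroupOfEquivOfLe hQR).toEquiv, r.card, r.cardQ] at h1
      have h4 := r.four
      nlinarith [h1, Nat.mul_le_mul h4 h4]
    obtain ⟨U, hUn, hAU, hUQ, hUi⟩ := PGroups.exists_normal_relIndex_prime t.two hlt
    obtain ⟨w, hwU, hwA⟩ : ∃ w ∈ U, w ∉ A1 := SetLike.exists_of_lt (lt_of_le_of_ne hAU fun e1 => by
      rw [← e1, relIndex_self] at hUi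
      omega)
    refine hwA (mem_subgroupOf.2 (hYA ▸ (⟨mem_subgroupOf.1 (hUQ hwU), fun y hy => ?_⟩ : w.1 ∈ Y)))
    let yR : R := ⟨y, hy⟩
    have hi : (A1.subgroupOf U).index = 2 := hUi
    have h1 := (mul_mem_iff_of_index_two hi (a := (⟨_, hUn.conj_mem w hwU yR⟩ : U))
      (b := (⟨w, hwU⟩ : U)⁻¹)).2 ?_
    · exact mem_subgroupOf.1 (mem_subgroupOf.1 h1)
    constructor
    · intro h
      refine absurd ?_ hwA
      have := hA1.conj_mem _ (mem_subgroupOf.1 h) yR⁻¹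
      rwa [show yR⁻¹ * (yR * w * yR⁻¹) * yR⁻¹⁻¹ = w by group] at this
    · exact fun h => absurd (mem_subgroupOf.1 ((Subgroup.inv_mem_iff _).1 h)) hwA
  have hcQ : ∀ y ∈ R, ∀ z ∈ Q, y * z * y⁻¹ * z⁻¹ ∈ A := fun y hy z hz => (hYQ.symm ▸ hz : z ∈ Y).2 y hy
  -- the supplement
  intro y hy
  have hyH := hK hy
  obtain ⟨hy1, hy2, hy3⟩ := Climb.mem_ker.1 (t.leK hy)
  set d := y⁻¹ * (e * y * e⁻¹) with hd
  have hdK : d ∈ Climb.ker M A P :=
    mul_mem (inv_mem (t.leK hy)) (hconjK (r.XleM r.eX) (r.X_norm_P r.eX) _ (t.leK hy))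
  have hdu : Commute d u := by
    refine r.cls_eq_one.1 ?_
    rw [hd, r.cls_hom (inv_mem (t.leK hy)) (hconjK (r.XleM r.eX) (r.X_norm_P r.eX) _ (t.leK hy)),
      r.cls_conj (r.centX e r.eX), hfix _ (r.cls_mem hy2), ← r.cls_hom (inv_mem (t.leK hy)) (t.leK hy),
      inv_mul_cancel, hclsP (one_mem P)]
  obtain ⟨hd1, hd2, hd3⟩ := Climb.mem_ker.1 hdK
  have hdQ : ∀ z ∈ Q, d * z * d⁻¹ * z⁻¹ ∈ A := by
    have h1 := hRcomm ⟨y, hyH⟩ eH hy he (r.centX e r.eX)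
    have h2 : π ⟨d, mem_inf.2 ⟨hd1, hd2⟩⟩ = 1 := by
      rw [show (⟨d, mem_inf.2 ⟨hd1, hd2⟩⟩ : H) = (⟨y, hyH⟩ : H)⁻¹ * (eH * ⟨y, hyH⟩ * eH⁻¹) from rfl, map_mul,
        map_inv, map_mul, map_mul, map_inv, ← h1, mul_inv_cancel_right, inv_mul_cancel]
    intro z hz
    rw [← map_one π, hπ] at h2
    have h3 : (d * z * d⁻¹)⁻¹ * (1 * z * (1 : G)⁻¹) ∈ A := h2 z (mem_sup_left hz)
    have hzd : d * z * d⁻¹ ∈ Q := (mem_normalizer_iff.1 (hC0 hdK hdu) z).1 hz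
    have h4 := (r.centA _ (inv_mem h3) (d * z * d⁻¹) hzd).eq
    rw [show d * z * d⁻¹ * z⁻¹ = d * z * d⁻¹ * ((d * z * d⁻¹)⁻¹ * (1 * z * (1 : G)⁻¹))⁻¹ * (d * z * d⁻¹)⁻¹ by group,
      ← h4, mul_inv_cancel_right]
    exact inv_mem h3
  -- split `d` into its 2-part, in `P`, and an odd part centralising `Q`
  obtain ⟨d₂, d₁, hd₂P, hd₁Q, hdd⟩ : ∃ d₂ d₁, d₂ ∈ P ∧ (∀ z ∈ Q, Commute d₁ z) ∧ d = d₂ * d₁ := by
    obtain ⟨m, hm, hmP⟩ := r.odd_power hd1 hd2 hdu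
    obtain ⟨k, hk⟩ := IsPGroup.iff_orderOf.1 r.P_two (⟨d ^ m, hmP⟩ : (P : Subgroup G))
    have hk' : (d ^ m) ^ 2 ^ k = 1 := by
      have := congrArg Subtype.val (pow_orderOf_eq_one (⟨d ^ m, hmP⟩ : (P : Subgroup G)))
      rwa [hk, Subgroup.coe_pow] at this
    obtain ⟨i, j, hij⟩ := Nat.isCoprime_iff_coprime.2 ((Nat.coprime_two_left.2 hm).pow_left k).symm
    refine ⟨(d ^ m) ^ i, (d ^ 2 ^ k) ^ j, zpow_mem hmP i, fun z hz => Commute.zpow_left ?_ j, ?_⟩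
    · set g := d ^ 2 ^ k with hg
      have hgA : ∀ a ∈ A, g * a * g⁻¹ = a := fun a ha => by
        rw [((hd3 a ha).pow_left _).eq, mul_inv_cancel_right]
      have hgQ : ∀ n : ℕ, ∀ z ∈ Q, d ^ n * z * (d ^ n)⁻¹ * z⁻¹ ∈ A := fun n => by
        induction n with
        | zero => intro z _; simp
        | succ n ih =>
          intro z hz
          rw [pow_succ' d, show d * d ^ n * z * (d * d ^ n)⁻¹ * z⁻¹ =
            d * (d ^ n * z * (d ^ n)⁻¹ * z⁻¹) * d⁻¹ * (d * z * d⁻¹ * z⁻¹) by group,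
            (hd3 _ (ih z hz)).eq, mul_inv_cancel_right]
          exact mul_mem (ih z hz) (hdQ z hz)
      obtain ⟨a, ha, e1⟩ : ∃ a ∈ A, g * z * g⁻¹ = a * z := ⟨_, hgQ (2 ^ k) z hz, by rw [hg]; group⟩
      have hit : ∀ n : ℕ, g ^ n * z * (g ^ n)⁻¹ = a ^ n * z := fun n => by
        induction n with
        | zero => simp
        | succ n ih =>
          rw [pow_succ' g, show g * g ^ n * z * (g * g ^ n)⁻¹ = g * (g ^ n * z * (g ^ n)⁻¹) * g⁻¹ by group, ih,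
            show g * (a ^ n * z) * g⁻¹ = g * a ^ n * g⁻¹ * (g * z * g⁻¹) by group, hgA _ (pow_mem ha n), e1,
            ← mul_assoc, ← pow_succ]
      have h1 := hit m
      have h2 : g ^ m = 1 := by rw [hg, ← pow_mul, mul_comm, pow_mul, hk']
      rw [h2, one_mul, inv_one, mul_one, eq_comm, mul_eq_right] at h1
      obtain ⟨l, rfl⟩ := hm
      rw [pow_succ, pow_mul, pow_two, r.elem a ha, one_pow, one_mul] at h1
      rw [h1, one_mul] at e1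
      exact mul_inv_eq_iff_eq_mul.1 e1
    · rw [← zpow_natCast d m, ← zpow_natCast d (2 ^ k), ← zpow_mul, ← zpow_mul, ← zpow_add, mul_comm (m : ℤ),
        mul_comm ((2 ^ k : ℕ) : ℤ), hij, zpow_one]
  -- adjust `y`
  obtain ⟨g, hg, g₀, hg₀, hdg⟩ : ∃ g ∈ Q, ∃ g₀, g₀ ∈ A ⊔ zpowers u ∧ g⁻¹ * d₂ * (e * g * e⁻¹) = g₀ := by
    obtain ⟨q₀, hq₀, i, hi, he2⟩ : ∃ q₀ ∈ Q, ∃ i ∈ zpowers u, d₂ = q₀ * i := by
      rcases r.mem_P.1 hd₂P with h | h
      · exact ⟨d₂, h, 1, one_mem _, (mul_one _).symm⟩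
      · exact ⟨d₂ * u, h, u, mem_zpowers u, by rw [mul_assoc, r.u_sq, mul_one]⟩
    obtain ⟨g, hg, ha⟩ := comm_e_surj r (inv_mem hq₀)
    refine ⟨g, hg, _, ?_, rfl⟩
    have hiu : ∀ z ∈ Q, i * z = z * i := fun z hz => by
      obtain ⟨n, rfl⟩ := mem_zpowers_iff.1 hi
      exact ((r.centQ z hz).zpow_right n).symm.eq
    have heg : e * g * e⁻¹ ∈ Q := (mem_normalizer_iff.1 (r.normQ r.eX) g).1 hg
    have h1 := r.comm_mem (inv_mem hg) hq₀
    rw [he2, ← mul_assoc g⁻¹, mul_assoc _ i, hiu _ heg, ← mul_assoc,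
      show g⁻¹ * q₀ * (e * g * e⁻¹) * i =
      g⁻¹ * q₀ * g⁻¹⁻¹ * q₀⁻¹ * (q₀⁻¹⁻¹ * (g⁻¹ * (e * g * e⁻¹))) * i by group]
    exact mul_mem (mem_sup_left (mul_mem h1 ha)) (mem_sup_right hi)
  refine ⟨g, hg, mem_inf.2 ⟨mul_mem hy (t.le (mem_sup_left hg)), ?_⟩⟩
  set y' := y * g with hy'
  have hy'R : y' ∈ R := mul_mem hy (t.le (mem_sup_left hg))
  -- `y'` is moved by `e` only by an element centralising `Q`
  set d' := y'⁻¹ * (e * y' * e⁻¹) with hd'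
  have heg : e * g * e⁻¹ ∈ Q := (mem_normalizer_iff.1 (r.normQ r.eX) g).1 hg
  have hd'Q : ∀ z ∈ Q, Commute d' z := fun z hz => by
    have e1 : d' = g₀ * d₁ := by
      rw [← hdg, mul_assoc, ← (hd₁Q _ heg).eq, ← mul_assoc, mul_assoc g⁻¹, ← hdd, hd', hd, hy']
      group
    rw [e1]
    refine (show Commute g₀ z from ?_).mul_left (hd₁Q z hz)
    obtain ⟨a, ha, i, hi, rfl⟩ : ∃ a ∈ A, ∃ i ∈ zpowers u, g₀ = a * i := by
      have hn : zpowers u ≤ normalizer (A : Set G) := zpowers_le.2 (mem_normalizer_iff.2 fun w =>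
        ⟨fun hw => r.norm_A (le_normalizer u_mem_P) hw, fun hw => by
          have := r.norm_A (le_normalizer (inv_mem u_mem_P)) hw
          rwa [show u⁻¹ * (u * w * u⁻¹) * u⁻¹⁻¹ = w by group] at this⟩)
      rw [← SetLike.mem_coe, coe_mul_of_right_le_normalizer_left A (zpowers u) hn] at hg₀
      obtain ⟨a, ha, i, hi, rfl⟩ := Set.mem_mul.1 hg₀
      exact ⟨a, ha, i, hi, rfl⟩
    refine (r.centA a ha z hz).mul_left ?_
    obtain ⟨n, rfl⟩ := mem_zpowers_iff.1 hi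
    exact ((r.centQ z hz).zpow_right n).symm
  -- so `z ↦ [y', z]` is invariant under `e`, hence trivial
  have hδe : ∀ z ∈ Q, y' * (e * z * e⁻¹) * y'⁻¹ * (e * z * e⁻¹)⁻¹ = y' * z * y'⁻¹ * z⁻¹ := by
    intro z hz
    have hz' : e * z * e⁻¹ ∈ Q := (mem_normalizer_iff.1 (r.normQ r.eX) z).1 hz
    have h1 := (hd'Q _ hz').eq
    calc y' * (e * z * e⁻¹) * y'⁻¹ * (e * z * e⁻¹)⁻¹
        = y' * (e * z * e⁻¹ * d') * d'⁻¹ * y'⁻¹ * (e * z * e⁻¹)⁻¹ := by group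
      _ = y' * (d' * (e * z * e⁻¹)) * d'⁻¹ * y'⁻¹ * (e * z * e⁻¹)⁻¹ := by rw [h1]
      _ = e * (y' * z * y'⁻¹ * z⁻¹) * e⁻¹ := by rw [hd']; group
      _ = y' * z * y'⁻¹ * z⁻¹ := hfix _ (hcQ y' hy'R z hz)
  have hhom : ∀ z ∈ Q, ∀ w ∈ Q,
      y' * (z * w) * y'⁻¹ * (z * w)⁻¹ = y' * z * y'⁻¹ * z⁻¹ * (y' * w * y'⁻¹ * w⁻¹) := fun z hz w hw => by
    rw [show y' * (z * w) * y'⁻¹ * (z * w)⁻¹ = y' * z * y'⁻¹ * ((y' * w * y'⁻¹ * w⁻¹) * z⁻¹) by group,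
      (r.centA _ (hcQ y' hy'R w hw) _ (inv_mem hz)).eq]
    group
  rw [mem_centralizer_iff]
  intro z hz
  obtain ⟨z₀, hz₀, ha⟩ := comm_e_surj r hz
  have h1 : y' * z * y'⁻¹ * z⁻¹ = 1 := by
    have hz' : e * z₀ * e⁻¹ ∈ Q := (mem_normalizer_iff.1 (r.normQ r.eX) z₀).1 hz₀
    set a := z⁻¹ * (z₀⁻¹ * (e * z₀ * e⁻¹)) with ha'
    have hone : y' * (1 : G) * y'⁻¹ * (1 : G)⁻¹ = 1 := by group
    have h2 := hhom z hz a (r.leA ha)
    rw [show z * a = z₀⁻¹ * (e * z₀ * e⁻¹) by rw [ha']; group, hhom _ (inv_mem hz₀) _ hz', hδe z₀ hz₀,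
      ← hhom _ (inv_mem hz₀) _ hz₀, inv_mul_cancel, hone, hnA hy'R a ha, mul_inv_cancel, mul_one] at h2
    exact h2.symm
  rw [mul_inv_eq_one, mul_inv_eq_iff_eq_mul] at h1
  exact h1.symm

end Cfsg.Lib.BenderSE.Crit2.Root
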