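/-
The setting of a line of type Sz with kernel `⟨u⟩` in the criterion: squaring maps the classes of `Q` modulo
`A` one to one to `A`, a Sylow 2-subgroup of the centraliser of `u` is `P = Q⟨u⟩`, and the translations give a
2-group above `P` centralising `A`.
-/
import Cfsg.Agent.BenderSE.Criterion2.RootBasic
import Cfsg.Agent.BenderSE.Criterion2.RootTranslate

set_option autoImplicit false
set_option linter.unusedSectionVars false
set_option linter.style.haveILetI false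

namespace Cfsg.Lib.BenderSE.Crit2

open Subgroup
open scoped commutatorElement

variable {G : Type*} [Group G]

/-- The data at a point of a line of type Sz: `Q` is the root group, `A` its centre, `X` the torus. -/
structure Suz (M : Subgroup G) (D : G → Prop) (u : G) (A Q X : Subgroup G) (q : ℕ) : Prop where
  two : orderOf u = 2
  memM : u ∈ M
  leQM : Q ≤ M
  leA : A ≤ Q
  XleM : X ≤ M
  commX : ∀ x ∈ X, ∀ y ∈ X, Commute x y
  centX : ∀ x ∈ X, Commute x u
  centQ : ∀ g ∈ Q, Commute g u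
  notQ : u ∉ Q
  twoQ : IsPGroup 2 Q
  elem : ∀ a ∈ A, a * a = 1
  centA : ∀ a ∈ A, ∀ g ∈ Q, Commute a g
  invA : ∀ g ∈ Q, g * g = 1 → g ∈ A
  card : Nat.card A = q
  four : 4 ≤ q
  cardQ : Nat.card Q = q ^ 2
  nonab : ∃ x ∈ Q, ∃ y ∈ Q, ¬ Commute x y
  normA : X ≤ normalizer (A : Set G)
  normQ : X ≤ normalizer (Q : Set G)
  transA : ∀ a ∈ A, ∀ b ∈ A, a ≠ 1 → b ≠ 1 → ∃ x ∈ X, x * a * x⁻¹ = b
  memA : ∀ a ∈ A, a ≠ 1 → D a
  conjD : ∀ g d : G, D d → D (g * d * g⁻¹)
  cosetA : ∀ a ∈ A, ¬ D (u * a)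
  semilinear : ∀ g ∈ M, Commute g u → g ∈ normalizer (A : Set G) → ∀ x ∈ X, ∃ y ∈ X,
    ∀ a ∈ A, g * x * g⁻¹ * a * (g * x * g⁻¹)⁻¹ = y * a * y⁻¹
  normAM : ∀ g : G, g ∈ normalizer (A : Set G) → g ∈ M
  bound : ∀ B : Subgroup G, B ≤ M → IsPGroup 2 B → (∀ b ∈ B, Commute b u) → Nat.card B ≤ 2 * q ^ 2

namespace Suz

variable {M : Subgroup G} {D : G → Prop} {u : G} {A Q X : Subgroup G} {q : ℕ}

theorem u_sq (r : Suz M D u A Q X q) : u * u = 1 := by rw [← pow_two, ← r.two, pow_orderOf_eq_one]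

theorem u_inv (r : Suz M D u A Q X q) : u⁻¹ = u := inv_eq_of_mul_eq_one_right r.u_sq

theorem mem_P (r : Suz M D u A Q X q) {g : G} : g ∈ Q ⊔ zpowers u ↔ g ∈ Q ∨ g * u ∈ Q := by
  let B : Subgroup G :=
    { carrier := {g | g ∈ Q ∨ g * u ∈ Q}
      one_mem' := Or.inl (one_mem Q)
      mul_mem' := fun {a b} ha hb => by
        rcases hb with hb | hb
        · rcases ha with ha | ha
          · exact Or.inl (mul_mem ha hb)
          · refine Or.inr ?_
            rw [mul_assoc, (r.centQ b hb).eq, ← mul_assoc]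
            exact mul_mem ha hb
        · rcases ha with ha | ha
          · refine Or.inr ?_
            rw [mul_assoc]
            exact mul_mem ha hb
          · refine Or.inl ?_
            have h1 : u * (b * u) = b * u * u := (r.centQ _ hb).symm.eq
            rw [mul_assoc b u u, r.u_sq, mul_one] at h1
            rw [show a * b = a * (u * (b * u)) by rw [h1], ← mul_assoc]
            exact mul_mem ha hb
      inv_mem' := fun {a} ha => by
        rcases ha with ha | ha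
        · exact Or.inl (inv_mem ha)
        · refine Or.inr ?_
          have h1 : u * (a * u)⁻¹ = (a * u)⁻¹ * u := (r.centQ _ (inv_mem ha)).symm.eq
          rw [mul_inv_rev, ← mul_assoc, r.u_inv, r.u_sq, one_mul] at h1
          have h2 : a⁻¹ * u = (a * u)⁻¹ := by
            calc a⁻¹ * u = u * a⁻¹ * u * u := by rw [← h1]
              _ = u * a⁻¹ := by rw [mul_assoc, r.u_sq, mul_one]
              _ = (a * u)⁻¹ := by rw [mul_inv_rev, r.u_inv]
          exact h2 ▸ inv_mem ha }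
  constructor
  · intro hg
    exact (show Q ⊔ zpowers u ≤ B from sup_le (fun a ha => Or.inl ha)
      (zpowers_le.2 (Or.inr (by rw [r.u_sq]; exact one_mem Q)))) hg
  · rintro (hg | hg)
    · exact mem_sup_left hg
    · rw [← mul_inv_cancel_right g u]
      exact mul_mem (mem_sup_left hg) (mem_sup_right (inv_mem (mem_zpowers u)))

theorem u_mem_P : u ∈ Q ⊔ zpowers u := mem_sup_right (mem_zpowers u)

theorem P_le (r : Suz M D u A Q X q) : Q ⊔ zpowers u ≤ M := sup_le r.leQM (zpowers_le.2 r.memM)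

theorem u_commute (r : Suz M D u A Q X q) {p : G} (hp : p ∈ Q ⊔ zpowers u) : Commute p u := by
  rcases r.mem_P.1 hp with h | h
  · exact r.centQ p h
  · have h1 := (r.centQ _ h).mul_left (Commute.refl u)
    rwa [mul_assoc, r.u_sq, mul_one] at h1

theorem commute_A (r : Suz M D u A Q X q) {a p : G} (ha : a ∈ A) (hp : p ∈ Q ⊔ zpowers u) :
    Commute a p := by
  rcases r.mem_P.1 hp with h | h
  · exact r.centA a ha p h
  · have h1 := (r.centA a ha _ h).mul_right (r.centQ a (r.leA ha))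
    rwa [mul_assoc, r.u_sq, mul_one] at h1

/-- a conjugate of `u` in `P` lies in `uA` -/
theorem conj_mem (r : Suz M D u A Q X q) {w : G} (hw : w ∈ Q ⊔ zpowers u) (hc : IsConj u w) :
    u * w ∈ A := by
  obtain ⟨g, rfl⟩ := isConj_iff.1 hc
  have h2 : g * u * g⁻¹ * (g * u * g⁻¹) = 1 := by
    rw [show g * u * g⁻¹ * (g * u * g⁻¹) = g * (u * u) * g⁻¹ by group, r.u_sq, mul_one, mul_inv_cancel]
  rcases r.mem_P.1 hw with h | h
  · have hA := r.invA _ h h2
    by_cases h1 : g * u * g⁻¹ = 1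
    · have hu : u = 1 := by
        calc u = g⁻¹ * (g * u * g⁻¹) * g := by group
          _ = 1 := by rw [h1]; group
      exact absurd (hu ▸ one_mem Q) r.notQ
    have := r.conjD g⁻¹ _ (r.memA _ hA h1)
    rw [show g⁻¹ * (g * u * g⁻¹) * g⁻¹⁻¹ = u * 1 by group] at this
    exact absurd this (r.cosetA 1 (one_mem A))
  · have hcu := r.u_commute hw
    rw [show u * (g * u * g⁻¹) = g * u * g⁻¹ * u from hcu.symm.eq]
    refine r.invA _ h ?_
    rw [show g * u * g⁻¹ * u * (g * u * g⁻¹ * u) = g * u * g⁻¹ * (u * (g * u * g⁻¹)) * u by group,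
      show u * (g * u * g⁻¹) = g * u * g⁻¹ * u from hcu.symm.eq,
      show g * u * g⁻¹ * (g * u * g⁻¹ * u) * u = g * u * g⁻¹ * (g * u * g⁻¹) * (u * u) by group, h2, r.u_sq, one_mul]

section Finite

variable [Finite G]

theorem P_two (r : Suz M D u A Q X q) : IsPGroup 2 (Q ⊔ zpowers u : Subgroup G) := by
  haveI : Fact (Nat.Prime 2) := ⟨Nat.prime_two⟩
  have hu : IsPGroup 2 (zpowers u) := IsPGroup.of_card (n := 1) (by rw [Nat.card_zpowers, r.two, pow_one])
  refine r.twoQ.to_sup_of_normal_left' hu (zpowers_le.2 (mem_normalizer_iff.2 fun g => ?_))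
  constructor
  · intro hg
    rwa [(r.centQ g hg).symm.eq, mul_inv_cancel_right]
  · intro hg
    have h := (r.centQ _ hg).eq
    have e1 : u * g * u⁻¹ = g := by
      calc u * g * u⁻¹ = u⁻¹ * (u * (u * g * u⁻¹)) := by group
        _ = u⁻¹ * (u * g * u⁻¹ * u) := by rw [h]
        _ = g := by group
    rwa [e1] at hg

theorem card_P (r : Suz M D u A Q X q) : Nat.card (Q ⊔ zpowers u : Subgroup G) = 2 * q ^ 2 := by
  have h : ((Q ⊔ zpowers u : Subgroup G) : Set G) = (Q : Set G) ∪ (fun a => a * u) '' (Q : Set G) := by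
    ext g
    rw [SetLike.mem_coe, r.mem_P, Set.mem_union, SetLike.mem_coe, Set.mem_image]
    refine or_congr Iff.rfl ⟨fun hg => ⟨g * u, hg, by rw [mul_assoc, r.u_sq, mul_one]⟩, ?_⟩
    rintro ⟨a, ha, rfl⟩
    rw [mul_assoc, r.u_sq, mul_one]
    exact ha
  have hd : Disjoint (Q : Set G) ((fun a => a * u) '' (Q : Set G)) := by
    rw [Set.disjoint_left]
    rintro _ ha ⟨b, hb, rfl⟩
    exact r.notQ (by simpa using mul_mem (inv_mem hb) ha)
  rw [← SetLike.coe_sort_coe, Nat.card_coe_set_eq, h, Set.ncard_union_eq hd,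
    Set.ncard_image_of_injective _ (mul_left_injective u), ← Nat.card_coe_set_eq, SetLike.coe_sort_coe, r.cardQ]
  ring

/-- a 2-element of `C_M(u)` normalising `P` lies in `P` -/
theorem cent_mem (r : Suz M D u A Q X q) {g : G} (hgM : g ∈ M)
    (hgP : g ∈ normalizer ((Q ⊔ zpowers u : Subgroup G) : Set G)) (hg2 : IsPGroup 2 (zpowers g))
    (hgu : Commute g u) : g ∈ Q ⊔ zpowers u := by
  haveI : Fact (Nat.Prime 2) := ⟨Nat.prime_two⟩
  let B : Subgroup G := (Q ⊔ zpowers u) ⊔ zpowers g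
  have hB : IsPGroup 2 B := r.P_two.to_sup_of_normal_left' hg2 (zpowers_le.2 hgP)
  have hBu : B ≤ M ⊓ centralizer {u} := sup_le
    (fun p hp => mem_inf.2 ⟨r.P_le hp, mem_centralizer_singleton_iff.2 (r.u_commute hp).eq⟩)
    (zpowers_le.2 (mem_inf.2 ⟨hgM, mem_centralizer_singleton_iff.2 hgu.eq⟩))
  have hc := r.bound B (hBu.trans inf_le_left) hB
    fun b hb => mem_centralizer_singleton_iff.1 (mem_inf.1 (hBu hb)).2
  have heq := Subgroup.eq_of_le_of_card_ge (le_sup_left : Q ⊔ zpowers u ≤ B) (hc.trans r.card_P.ge)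
  rw [heq]
  exact mem_sup_right (mem_zpowers g)

/-- `N_M(P)` preserves `A` -/
theorem norm_A (r : Suz M D u A Q X q) {h : G}
    (hh : h ∈ normalizer ((Q ⊔ zpowers u : Subgroup G) : Set G)) {a : G} (ha : a ∈ A) : h * a * h⁻¹ ∈ A := by
  by_cases ha1 : a = 1
  · rw [ha1, mul_one, mul_inv_cancel]
    exact one_mem A
  have hP := (mem_normalizer_iff.1 hh a).1 (mem_sup_left (r.leA ha))
  have h2 : h * a * h⁻¹ * (h * a * h⁻¹) = 1 := by
    rw [show h * a * h⁻¹ * (h * a * h⁻¹) = h * (a * a) * h⁻¹ by group, r.elem a ha, mul_one, mul_inv_cancel]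
  rcases r.mem_P.1 hP with h1 | h1
  · exact r.invA _ h1 h2
  · have hcu := r.u_commute hP
    have hA : h * a * h⁻¹ * u ∈ A := r.invA _ h1 (by
      rw [show h * a * h⁻¹ * u * (h * a * h⁻¹ * u) = h * a * h⁻¹ * (u * (h * a * h⁻¹)) * u by group,
        show u * (h * a * h⁻¹) = h * a * h⁻¹ * u from hcu.symm.eq,
        show h * a * h⁻¹ * (h * a * h⁻¹ * u) * u = h * a * h⁻¹ * (h * a * h⁻¹) * (u * u) by group, h2, r.u_sq,
        one_mul])
    refine absurd (r.conjD h a (r.memA a ha ha1)) ?_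
    rw [show h * a * h⁻¹ = u * (h * a * h⁻¹ * u) by
      calc h * a * h⁻¹ = h * a * h⁻¹ * (u * u) := by rw [r.u_sq, mul_one]
        _ = h * a * h⁻¹ * u * u := by group
        _ = u * (h * a * h⁻¹) * u := by rw [hcu.eq]
        _ = u * (h * a * h⁻¹ * u) := by group]
    exact r.cosetA _ hA

theorem cls_mem (r : Suz M D u A Q X q) {h : G}
    (hh : h ∈ normalizer ((Q ⊔ zpowers u : Subgroup G) : Set G)) : Root.cls u h ∈ A :=
  r.conj_mem ((mem_normalizer_iff.1 hh u).1 u_mem_P) (isConj_iff.2 ⟨h, rfl⟩)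

theorem cls_mul (r : Suz M D u A Q X q) (h k : G) : Root.cls u (h * k) = Root.cls u h * (h * Root.cls u k * h⁻¹) := by
  unfold Root.cls
  calc u * (h * k * u * (h * k)⁻¹) = u * (h * (1 * (k * u * k⁻¹)) * h⁻¹) := by group
    _ = u * (h * (u * u * (k * u * k⁻¹)) * h⁻¹) := by rw [r.u_sq]
    _ = u * (h * u * h⁻¹) * (h * (u * (k * u * k⁻¹)) * h⁻¹) := by group

theorem cls_eq_one (r : Suz M D u A Q X q) {h : G} : Root.cls u h = 1 ↔ Commute h u := by
  constructor
  · intro e1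
    have h1 := inv_eq_of_mul_eq_one_right e1
    rw [r.u_inv] at h1
    exact mul_inv_eq_iff_eq_mul.1 h1.symm
  · intro hc
    show u * (h * u * h⁻¹) = 1
    rw [hc.eq, mul_inv_cancel_right, r.u_sq]

theorem cls_conj (r : Suz M D u A Q X q) {h : G} (hh : Commute h u) (k : G) :
    Root.cls u (h * k * h⁻¹) = h * Root.cls u k * h⁻¹ := by
  unfold Root.cls
  have h1 : h⁻¹ * u * h = u := by rw [mul_assoc, ← hh.eq, inv_mul_cancel_left]
  have h2 : h * u * h⁻¹ = u := by rw [hh.eq, mul_inv_cancel_right]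
  calc u * (h * k * h⁻¹ * u * (h * k * h⁻¹)⁻¹) = u * (h * k * (h⁻¹ * u * h) * k⁻¹ * h⁻¹) := by group
    _ = h * u * h⁻¹ * (h * k * u * k⁻¹ * h⁻¹) := by rw [h1, h2]
    _ = h * (u * (k * u * k⁻¹)) * h⁻¹ := by group

theorem X_norm_P (r : Suz M D u A Q X q) :
    X ≤ normalizer ((Q ⊔ zpowers u : Subgroup G) : Set G) := fun x hx => mem_normalizer_iff.2 fun g => by
  rw [r.mem_P, r.mem_P, show x * g * x⁻¹ * u = x * (g * u) * x⁻¹ by
    rw [mul_assoc, (r.centX x hx).inv_left.eq]; group]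
  exact or_congr (mem_normalizer_iff.1 (r.normQ hx) g) (mem_normalizer_iff.1 (r.normQ hx) (g * u))

/-- an element of `X` fixing a non-trivial element of `A` centralises `A` -/
theorem centA_of_fix (r : Suz M D u A Q X q) {x : G} (hx : x ∈ X) {a : G} (ha : a ∈ A) (ha1 : a ≠ 1)
    (hfix : x * a * x⁻¹ = a) : ∀ b ∈ A, x * b * x⁻¹ = b := by
  intro b hb
  by_cases hb1 : b = 1
  · rw [hb1, mul_one, mul_inv_cancel]
  obtain ⟨y, hy, rfl⟩ := r.transA a ha b hb ha1 hb1
  have h := (r.commX x hx y hy).eq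
  calc x * (y * a * y⁻¹) * x⁻¹ = x * y * a * (x * y)⁻¹ := by group
    _ = y * x * a * (y * x)⁻¹ := by rw [h]
    _ = y * (x * a * x⁻¹) * y⁻¹ := by group
    _ = y * a * y⁻¹ := by rw [hfix]

/-- a 2-element moving `u` makes `N_M(P)` transitive on `uA` -/
theorem cls_surj (r : Suz M D u A Q X q) (S : Sylow 2 G) (hSM : (S : Subgroup G) ≤ M)
    (hPS : Q ⊔ zpowers u ≤ S) (hne : Q ⊔ zpowers u ≠ S) {a : G} (ha : a ∈ A) :
    ∃ h ∈ M ⊓ normalizer ((Q ⊔ zpowers u : Subgroup G) : Set G), Root.cls u h = a := by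
  haveI : Fact (Nat.Prime 2) := ⟨Nat.prime_two⟩
  set P := Q ⊔ zpowers u with hP
  by_cases ha1 : a = 1
  · exact ⟨1, one_mem _, by rw [ha1, r.cls_eq_one]; exact Commute.one_left u⟩
  haveI := S.2.isNilpotent
  have hlt : P.subgroupOf (S : Subgroup G) < ⊤ :=
    lt_of_le_of_ne le_top fun e => hne (le_antisymm hPS (subgroupOf_eq_top.1 e))
  obtain ⟨y, hy, hyP⟩ := SetLike.exists_of_lt (normalizerCondition_of_isNilpotent _ hlt)
  have hyn : (y : G) ∈ normalizer (P : Set G) := mem_normalizer_iff.2 fun g => by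
    constructor
    · intro hg
      exact mem_subgroupOf.1 ((mem_normalizer_iff.1 hy ⟨g, hPS hg⟩).1 (mem_subgroupOf.2 hg))
    · intro hg
      have hgS : g ∈ (S : Subgroup G) := by
        have := mul_mem (mul_mem (inv_mem y.2) (hPS hg)) y.2
        simpa [mul_assoc] using this
      exact mem_subgroupOf.1 ((mem_normalizer_iff.1 hy ⟨g, hgS⟩).2 (mem_subgroupOf.2 hg))
  have hy1 : Root.cls u (y : G) ≠ 1 := fun e1 => hyP (mem_subgroupOf.2
    (r.cent_mem (hSM y.2) hyn (S.2.to_le (zpowers_le.2 y.2)) (r.cls_eq_one.1 e1)))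
  obtain ⟨x, hx, hxa⟩ := r.transA _ (r.cls_mem hyn) a ha hy1 ha1
  exact ⟨x * y, mem_inf.2 ⟨mul_mem (r.XleM hx) (hSM y.2), mul_mem (r.X_norm_P hx) hyn⟩, by
    rw [r.cls_mul, r.cls_eq_one.2 (r.centX x hx), one_mul, hxa]⟩

/-- an element of `C_M(u)` normalising `P` has an odd power centralising `A` -/
theorem odd_power (r : Suz M D u A Q X q) {g : G} (hgM : g ∈ M)
    (hgP : g ∈ normalizer ((Q ⊔ zpowers u : Subgroup G) : Set G)) (hgu : Commute g u) :
    ∃ m : ℕ, Odd m ∧ g ^ m ∈ Q ⊔ zpowers u := by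
  obtain ⟨k, m, hm, hkm⟩ := Nat.exists_eq_two_pow_mul_odd (orderOf_pos g).ne'
  refine ⟨m, hm, r.cent_mem (pow_mem hgM m) (pow_mem hgP m) (fun x => ⟨k, ?_⟩) (hgu.pow_left m)⟩
  obtain ⟨i, hi⟩ := mem_zpowers_iff.1 x.2
  refine Subtype.ext ?_
  rw [Subgroup.coe_pow, Subgroup.coe_one, ← hi, ← zpow_natCast, ← zpow_mul, mul_comm, zpow_mul,
    zpow_natCast, ← pow_mul, mul_comm, ← hkm, pow_orderOf_eq_one, one_zpow]

/-- `N_M(P)` acts affinely on `uA` -/
theorem affine (r : Suz M D u A Q X q) (S : Sylow 2 G) (hSM : (S : Subgroup G) ≤ M)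
    (hPS : Q ⊔ zpowers u ≤ S) (hne : Q ⊔ zpowers u ≠ S) :
    Affine (M ⊓ normalizer ((Q ⊔ zpowers u : Subgroup G) : Set G)) A X (Root.cls u) where
  elem := r.elem
  four := r.card ▸ r.four
  norm h hh a ha := r.norm_A (mem_inf.1 hh).2 ha
  mem h hh := r.cls_mem (mem_inf.1 hh).2
  mul h _ k _ := r.cls_mul h k
  surj a ha := r.cls_surj S hSM hPS hne ha
  le x hx := mem_inf.2 ⟨r.XleM hx, r.X_norm_P hx⟩
  zeroX x hx := r.cls_eq_one.2 (r.centX x hx)
  comm x hx y hy a _ := by rw [(r.commX x hx y hy).eq]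
  trans := r.transA
  semilinear h hh hc x hx := r.semilinear h (mem_inf.1 hh).1 (r.cls_eq_one.1 hc)
    (mem_normalizer_iff.2 fun a => ⟨fun ha => r.norm_A (mem_inf.1 hh).2 ha, fun ha => by
      have := r.norm_A (inv_mem (mem_inf.1 hh).2) ha
      rwa [show h⁻¹ * (h * a * h⁻¹) * h⁻¹⁻¹ = a by group] at this⟩) x hx
  odd h hh hc := by
    obtain ⟨m, hm, hmem⟩ := r.odd_power (mem_inf.1 hh).1 (mem_inf.1 hh).2 (r.cls_eq_one.1 hc)
    exact ⟨m, hm, fun a ha => (r.commute_A ha hmem).symm⟩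

/-- one element of `X` gives the action of all of them on `A` -/
theorem exists_generator (r : Suz M D u A Q X q) :
    ∃ x ∈ X, ∀ y ∈ X, ∃ n : ℕ, Climb.Same A y (x ^ n) := by
  classical
  letI : CommGroup A :=
    { (inferInstance : Group A) with
      mul_comm := fun a b => Subtype.ext (r.centA a.1 a.2 b.1 (r.leA b.2)).eq }
  let conjA : X → MulAut A := fun x =>
    { toFun := fun a => ⟨x.1 * a.1 * x.1⁻¹, (mem_normalizer_iff.1 (r.normA x.2) _).1 a.2⟩
      invFun := fun a => ⟨x.1⁻¹ * a.1 * x.1⁻¹⁻¹, (mem_normalizer_iff.1 (r.normA (inv_mem x.2)) _).1 a.2⟩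
      left_inv := fun a => Subtype.ext (by
        show x.1⁻¹ * (x.1 * a.1 * x.1⁻¹) * x.1⁻¹⁻¹ = a.1
        group)
      right_inv := fun a => Subtype.ext (by
        show x.1 * (x.1⁻¹ * a.1 * x.1⁻¹⁻¹) * x.1⁻¹ = a.1
        group)
      map_mul' := fun a b => Subtype.ext (by
        show x.1 * (a.1 * b.1) * x.1⁻¹ = x.1 * a.1 * x.1⁻¹ * (x.1 * b.1 * x.1⁻¹)
        group) }
  let φ : X →* MulAut A :=
    { toFun := conjA
      map_one' := by
        ext a
        show (1 : G) * a.1 * (1 : G)⁻¹ = a.1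
        group
      map_mul' := fun x y => by
        ext a
        show x.1 * y.1 * a.1 * (x.1 * y.1)⁻¹ = x.1 * (y.1 * a.1 * y.1⁻¹) * x.1⁻¹
        group }
  letI : CommGroup φ.range :=
    { (inferInstance : Group φ.range) with
      mul_comm := by
        rintro ⟨_, x, rfl⟩ ⟨_, y, rfl⟩
        refine Subtype.ext ?_
        show φ x * φ y = φ y * φ x
        rw [← map_mul, ← map_mul, show x * y = y * x from Subtype.ext (r.commX x.1 x.2 y.1 y.2).eq] }
  letI : DistribMulAction φ.range (Additive A) :=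
    { smul := fun g v => Additive.ofMul (g.1 v.toMul)
      one_smul := fun v => rfl
      mul_smul := fun g g' v => rfl
      smul_zero := fun g => congrArg Additive.ofMul (map_one g.1)
      smul_add := fun g v w => congrArg Additive.ofMul (map_mul g.1 v.toMul w.toMul) }
  haveI : Nontrivial A := Finite.one_lt_card_iff_nontrivial.1 (by rw [r.card]; have := r.four; omega)
  haveI : IsCyclic φ.range := Cfsg.Lib.TICount.isCyclic_of_no_fixed (E := Additive A) fun g v hv => by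
    obtain ⟨_, x, rfl⟩ := g
    refine or_iff_not_imp_right.2 fun hv0 => Subtype.ext (MulEquiv.ext fun a => Subtype.ext ?_)
    have h1 : x.1 * (v.toMul : A).1 * x.1⁻¹ = (v.toMul : A).1 := congrArg (fun w : Additive A => (w.toMul).1) hv
    exact r.centA_of_fix x.2 v.toMul.2 (fun e => hv0 (congrArg Additive.ofMul (Subtype.ext e : v.toMul = 1)))
      h1 a.1 a.2
  obtain ⟨⟨_, x, rfl⟩, hx⟩ := IsCyclic.exists_monoid_generator (α := φ.range)
  refine ⟨x, x.2, fun y hy => ?_⟩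
  obtain ⟨n, hn⟩ := hx ⟨φ ⟨y, hy⟩, ⟨y, hy⟩, rfl⟩
  refine ⟨n, fun b hb => ?_⟩
  have h1 : φ ⟨y, hy⟩ = φ (x ^ n) := by
    rw [map_pow]
    exact (congrArg Subtype.val hn).symm
  exact congrArg (fun w : MulAut A => (w ⟨b, hb⟩ : G)) h1

theorem le_ker (r : Suz M D u A Q X q) : Q ⊔ zpowers u ≤ Climb.ker M A (Q ⊔ zpowers u) :=
  fun p hp => Climb.mem_ker.2 ⟨r.P_le hp, le_normalizer hp, fun a ha => (r.commute_A ha hp).symm⟩

theorem cls_hom (r : Suz M D u A Q X q) {k l : G} (hk : k ∈ Climb.ker M A (Q ⊔ zpowers u))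
    (hl : l ∈ Climb.ker M A (Q ⊔ zpowers u)) : Root.cls u (k * l) = Root.cls u k * Root.cls u l := by
  rw [r.cls_mul, ((Climb.mem_ker.1 hk).2.2 _ (r.cls_mem (Climb.mem_ker.1 hl).2.1)).eq, mul_inv_cancel_right]

/-- a conjugate of `P`'s part of `A` is mapped back: an element preserving `A` one way normalises it -/
theorem norm_of_maps (r : Suz M D u A Q X q) {g : G} (h : ∀ a ∈ A, g * a * g⁻¹ ∈ A) :
    g ∈ normalizer (A : Set G) := mem_normalizer_iff_map_conj_eq.2
  (Subgroup.eq_of_le_of_card_ge (by rintro _ ⟨a, ha, rfl⟩; exact h a ha)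
    (le_of_eq (card_map_of_injective (MulEquiv.injective _)).symm))

/-- squaring maps `Q \ A` onto `A#`, and its fibres are the classes modulo `A` -/
theorem sq_facts (r : Suz M D u A Q X q) :
    (∀ g ∈ Q, g * g ∈ A) ∧ ∀ g ∈ Q, ∀ h ∈ Q, g * g = h * h → g⁻¹ * h ∈ A := by
  classical
  haveI : Fact (Nat.Prime 2) := ⟨Nat.prime_two⟩
  obtain ⟨g₀, hg₀, hg₀A⟩ : ∃ g ∈ Q, g ∉ A := by
    by_contra h
    push Not at h
    have h1 := Subgroup.card_le_of_le (show Q ≤ A from h)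
    rw [r.card, r.cardQ] at h1
    nlinarith [r.four]
  obtain ⟨y₀, hy₀, hy₀A, hy₀1⟩ : ∃ y ∈ Q, y * y ∈ A ∧ y * y ≠ 1 := by
    obtain ⟨m, hm⟩ := r.twoQ ⟨g₀, hg₀⟩
    have hm' : g₀ ^ 2 ^ m = 1 := congrArg Subtype.val hm
    clear hm
    induction m generalizing g₀ with
    | zero => exact absurd (by simpa using hm') (fun e : g₀ = 1 => hg₀A (e ▸ one_mem A))
    | succ m ih =>
      by_cases h2 : g₀ * g₀ ∈ A
      · exact ⟨g₀, hg₀, h2, fun e => hg₀A (r.invA g₀ hg₀ e)⟩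
      · exact ih (g₀ * g₀) (mul_mem hg₀ hg₀) h2 (by rw [← pow_two, ← pow_mul, ← pow_succ', hm'])
  have hroot : ∀ a : A, ∃ y ∈ Q, y * y = a.1 := by
    intro a
    by_cases ha : a.1 = 1
    · exact ⟨1, one_mem Q, by rw [one_mul, ha]⟩
    obtain ⟨x, hx, hxa⟩ := r.transA _ hy₀A a.1 a.2 hy₀1 ha
    exact ⟨x * y₀ * x⁻¹, (mem_normalizer_iff.1 (r.normQ hx) _).1 hy₀, by rw [← hxa]; group⟩
  choose y hy hy2 using hroot
  have hsq : ∀ a b : A, y a * b.1 * (y a * b.1) = a.1 := fun a b => by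
    have hc := (r.centA b.1 b.2 _ (hy a)).eq
    calc y a * b.1 * (y a * b.1) = y a * (b.1 * y a) * b.1 := by group
      _ = y a * y a * (b.1 * b.1) := by rw [hc]; group
      _ = a.1 := by rw [r.elem _ b.2, mul_one, hy2]
  let f : A × A → Q := fun p => ⟨y p.1 * p.2.1, mul_mem (hy p.1) (r.leA p.2.2)⟩
  have hf : Function.Bijective f := by
    haveI : Fintype A := Fintype.ofFinite A
    haveI : Fintype Q := Fintype.ofFinite Q
    refine (Nat.bijective_iff_injective_and_card f).2 ⟨fun p p' e => ?_, ?_⟩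
    · have e' : y p.1 * p.2.1 = y p'.1 * p'.2.1 := congrArg Subtype.val e
      have h1 : p.1 = p'.1 := Subtype.ext ((hsq p.1 p.2).symm.trans (by rw [e']; exact hsq p'.1 p'.2))
      rw [h1] at e'
      exact Prod.ext h1 (Subtype.ext (mul_left_cancel e'))
    · rw [Nat.card_prod, r.card, r.cardQ, pow_two]
  refine ⟨fun g hg => ?_, fun g hg h hh e => ?_⟩
  · obtain ⟨⟨a, b⟩, e⟩ := hf.2 ⟨g, hg⟩
    have e' : y a * b.1 = g := congrArg Subtype.val e
    rw [← e', hsq]
    exact a.2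
  · obtain ⟨⟨a, b⟩, e1⟩ := hf.2 ⟨g, hg⟩
    obtain ⟨⟨a', b'⟩, e2⟩ := hf.2 ⟨h, hh⟩
    have e1' : y a * b.1 = g := congrArg Subtype.val e1
    have e2' : y a' * b'.1 = h := congrArg Subtype.val e2
    rw [← e1', ← e2', hsq, hsq] at e
    obtain rfl : a = a' := Subtype.ext e
    rw [← e1', ← e2', show (y a * b.1)⁻¹ * (y a * b'.1) = b.1⁻¹ * b'.1 by group]
    exact mul_mem (inv_mem b.2) b'.2

/-- the centre of `Q` is `A` -/
theorem centre_Q (r : Suz M D u A Q X q) {z : G} (hz : z ∈ Q) (hc : ∀ g ∈ Q, Commute z g) : z ∈ A := by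
  by_contra hzA
  obtain ⟨hsq, huniq⟩ := r.sq_facts
  have hall : ∀ g ∈ Q, ∀ h ∈ Q, Commute g h := by
    intro g hg
    by_cases hgA : g ∈ A
    · exact fun h hh => r.centA g hgA h hh
    obtain ⟨x, hx, hxz⟩ := r.transA _ (hsq z hz) _ (hsq g hg) (fun e => hzA (r.invA z hz e))
      (fun e => hgA (r.invA g hg e))
    have hxz' : x * z * x⁻¹ ∈ Q := (mem_normalizer_iff.1 (r.normQ hx) _).1 hz
    have h1 := huniq _ hxz' g hg (by rw [← hxz]; group)
    have hzc : ∀ h ∈ Q, Commute (x * z * x⁻¹) h := fun h hh => by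
      have h2 : x⁻¹ * h * x⁻¹⁻¹ ∈ Q := (mem_normalizer_iff.1 (r.normQ (inv_mem hx)) _).1 hh
      have h3 := (hc _ h2).map (MulAut.conj x).toMonoidHom
      rwa [show (MulAut.conj x).toMonoidHom (x⁻¹ * h * x⁻¹⁻¹) = h by
        show x * (x⁻¹ * h * x⁻¹⁻¹) * x⁻¹ = h
        group] at h3
    intro h hh
    have h4 := (hzc h hh).mul_left (r.centA _ h1 h hh)
    rwa [mul_inv_cancel_left] at h4
  obtain ⟨x, hx, y, hy, hne⟩ := r.nonab
  exact hne (hall x hx y hy)

/-- squaring on `P` -/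
theorem sq_P (r : Suz M D u A Q X q) :
    (∀ p ∈ Q ⊔ zpowers u, p * p ∈ A) ∧ ∀ p ∈ Q ⊔ zpowers u, ∀ p' ∈ Q ⊔ zpowers u, p * p = p' * p' →
      p⁻¹ * p' ∈ A ∨ p⁻¹ * p' * u ∈ A := by
  obtain ⟨hsq, huniq⟩ := r.sq_facts
  have hsplit : ∀ p ∈ Q ⊔ zpowers u, ∃ g ∈ Q, ∃ w : G, (w = 1 ∨ w = u) ∧ p = g * w ∧ p * p = g * g := by
    intro p hp
    rcases r.mem_P.1 hp with h | h
    · exact ⟨p, h, 1, Or.inl rfl, (mul_one p).symm, rfl⟩
    · refine ⟨p * u, h, u, Or.inr rfl, by rw [mul_assoc, r.u_sq, mul_one], ?_⟩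
      rw [(r.u_commute hp).symm.mul_mul_mul_comm, r.u_sq, mul_one]
  refine ⟨fun p hp => ?_, fun p hp p' hp' e => ?_⟩
  · obtain ⟨g, hg, w, -, -, e⟩ := hsplit p hp
    rw [e]
    exact hsq g hg
  · obtain ⟨g, hg, w, hw, rfl, e1⟩ := hsplit p hp
    obtain ⟨g', hg', w', hw', rfl, e2⟩ := hsplit p' hp'
    rw [e1, e2] at e
    have h1 := huniq g hg g' hg' e
    have hgu : Commute (g⁻¹ * g') u := r.centQ _ (mul_mem (inv_mem hg) hg')
    have hwc : ∀ {w : G}, (w = 1 ∨ w = u) → Commute (g⁻¹ * g') w ∧ w⁻¹ = w ∧ w * w = 1 := by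
      rintro w (rfl | rfl)
      · exact ⟨Commute.one_right _, inv_one, one_mul 1⟩
      · exact ⟨hgu, r.u_inv, r.u_sq⟩
    obtain ⟨hc, hwi, hw2⟩ := hwc hw
    rw [show (g * w)⁻¹ * (g' * w') = w⁻¹ * (g⁻¹ * g') * w' by group, hwi, ← hc.eq, mul_assoc (g⁻¹ * g')]
    rcases hw with rfl | rfl <;> rcases hw' with rfl | rfl
    · left; simpa using h1
    · right; rw [one_mul, mul_assoc, r.u_sq, mul_one]; exact h1
    · right; rw [mul_one, mul_assoc, r.u_sq, mul_one]; exact h1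
    · left; rw [r.u_sq, mul_one]; exact h1

/-- the centre of `P` is `A⟨u⟩` -/
theorem centre_P (r : Suz M D u A Q X q) {z : G} (hz : z ∈ Q ⊔ zpowers u) (hc : ∀ g ∈ Q, Commute z g) :
    z ∈ A ∨ z * u ∈ A := by
  rcases r.mem_P.1 hz with h | h
  · exact Or.inl (r.centre_Q h hc)
  · exact Or.inr (r.centre_Q h fun g hg => (hc g hg).mul_left (r.centQ g hg).symm)

/-- roots of two different involutions of `A` commute for no `q = 8` -/
theorem not_commute_eight (r : Suz M D u A Q X q) (hq : q = 8) {y₁ y₂ : G} (h1 : y₁ ∈ Q) (h2 : y₂ ∈ Q)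
    (hc : Commute y₁ y₂) (hs1 : y₁ * y₁ ≠ 1) (hs2 : y₂ * y₂ ≠ 1) (hne : y₁ * y₁ ≠ y₂ * y₂) : False := by
  classical
  obtain ⟨hsq, huniq⟩ := r.sq_facts
  let C : G → Subgroup G := fun y => Q ⊓ centralizer {y}
  have hmemC : ∀ {y g : G}, g ∈ C y ↔ g ∈ Q ∧ Commute g y := fun {y g} => by
    rw [mem_inf, mem_centralizer_singleton_iff]; rfl
  have hnA : ∀ {y : G}, y * y ≠ 1 → y ∉ A := fun h hA => h (r.elem _ hA)
  have hA2 : IsPGroup 2 Q := r.twoQ
  haveI : Fact (Nat.Prime 2) := ⟨Nat.prime_two⟩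
  have hQ64 : Nat.card Q = 64 := by rw [r.cardQ, hq]; norm_num
  have hpow : ∀ y : G, ∃ k, k ≤ 6 ∧ Nat.card (C y) = 2 ^ k := fun y => by
    obtain ⟨k, hk, e⟩ := (Nat.dvd_prime_pow Nat.prime_two).1 (show Nat.card (C y) ∣ 2 ^ 6 by
      rw [show (2 : ℕ) ^ 6 = 64 by norm_num, ← hQ64]; exact card_dvd_of_le inf_le_left)
    exact ⟨k, hk, e⟩
  -- the four classes inside the centraliser of two commuting roots
  have hbig : ∀ {y z : G}, y ∈ Q → z ∈ Q → y * y ≠ 1 → z * z ≠ 1 → y * y ≠ z * z → Commute y z →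
      32 ≤ Nat.card (C y) := by
    intro y z hy hz hy1 hz1 hyz hyc
    have hpz : y * z * (y * z) = y * y * (z * z) := hyc.symm.mul_mul_mul_comm y z
    let f : A × Fin 4 → C y := fun p => ⟨![1, y, z, y * z] p.2 * p.1.1, by
      refine hmemC.2 ⟨mul_mem ?_ (r.leA p.1.2), Commute.mul_left ?_ (r.centA _ p.1.2 y hy)⟩
      · generalize p.2 = i
        fin_cases i
        all_goals first | exact one_mem Q | exact hy | exact hz | exact mul_mem hy hz
      · generalize p.2 = i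
        fin_cases i
        all_goals first | exact Commute.one_left y | exact Commute.refl y | exact hyc.symm |
          exact (Commute.refl y).mul_left hyc.symm⟩
    have hfsq : ∀ p : A × Fin 4, (f p : G) * f p = ![1, y * y, z * z, y * y * (z * z)] p.2 := by
      rintro ⟨a, i⟩
      have hw : ![1, y, z, y * z] i ∈ Q := by
        fin_cases i
        all_goals first | exact one_mem Q | exact hy | exact hz | exact mul_mem hy hz
      show ![1, y, z, y * z] i * a.1 * (![1, y, z, y * z] i * a.1) = _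
      rw [(r.centA _ a.2 _ hw).mul_mul_mul_comm, r.elem _ a.2, mul_one]
      fin_cases i
      all_goals first | exact one_mul 1 | rfl | exact hpz
    have hinj : Function.Injective f := by
      rintro ⟨a, i⟩ ⟨b, k⟩ e
      have e2 : ![1, y * y, z * z, y * y * (z * z)] i = ![1, y * y, z * z, y * y * (z * z)] k :=
        (hfsq (a, i)).symm.trans ((congrArg (fun w : C y => (w : G) * w) e).trans (hfsq (b, k)))
      have hyA := hsq y hy
      have hzA := hsq z hz
      have h3 : y * y * (z * z) ≠ 1 := fun e => hyz ((eq_inv_of_mul_eq_one_left e).trans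
        (inv_eq_of_mul_eq_one_right (r.elem _ hzA)))
      have h4 : y * y * (z * z) ≠ y * y := fun e => hz1 (by simpa using e)
      have h5 : y * y * (z * z) ≠ z * z := fun e => hy1 (by simpa using e)
      have hik : i = k := by
        fin_cases i <;> fin_cases k <;> simp at e2 ⊢
        all_goals first
          | exact hy1 e2 | exact hy1 e2.symm | exact hz1 e2 | exact hz1 e2.symm | exact hyz e2
          | exact hyz e2.symm | exact h3 e2 | exact h3 e2.symm | exact h4 e2 | exact h4 e2.symm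
          | exact h5 e2 | exact h5 e2.symm
      subst hik
      exact Prod.ext (Subtype.ext (mul_left_cancel (congrArg Subtype.val e))) rfl
    have := Nat.card_le_card_of_injective f hinj
    rw [Nat.card_prod, Nat.card_eq_fintype_card (α := Fin 4), Fintype.card_fin, r.card, hq] at this
    exact this
  have hlt : ∀ {y : G}, y ∈ Q → y * y ≠ 1 → Nat.card (C y) ≤ 32 := by
    intro y hy hy1
    obtain ⟨k, hk, e⟩ := hpow y
    rcases Nat.lt_or_ge k 6 with h | h
    · rw [e]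
      exact le_trans (Nat.pow_le_pow_right two_pos (by omega : k ≤ 5)) (by norm_num)
    · refine absurd (r.centre_Q hy fun g hg => ?_) (hnA hy1)
      have hQC : C y = Q := Subgroup.eq_of_le_of_card_ge inf_le_left
        (by rw [hQ64, e, show k = 6 by omega]; norm_num)
      exact (hmemC.1 (hQC.symm ▸ hg)).2.symm
  -- the centraliser of every root is abelian of order 32
  have hfirst : Nat.card (C y₁) = 32 := le_antisymm (hlt h1 hs1) (hbig h1 h2 hs1 hs2 hne hc)
  have hroot : ∀ y ∈ Q, y * y ≠ 1 → Nat.card (C y) = 32 ∧ ∃ z ∈ Q, z * z ≠ 1 ∧ y * y ≠ z * z ∧ Commute y z := by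
    intro y hy hy1
    obtain ⟨x, hx, hxe⟩ := r.transA _ (hsq _ h1) _ (hsq y hy) hs1 hy1
    have hc1 : x * y₁ * x⁻¹ ∈ Q := (mem_normalizer_iff.1 (r.normQ hx) _).1 h1
    have hc2 : x * y₂ * x⁻¹ ∈ Q := (mem_normalizer_iff.1 (r.normQ hx) _).1 h2
    have ha := huniq _ hc1 y hy (by rw [← hxe]; group)
    have hz : Commute y (x * y₂ * x⁻¹) := by
      have h := ((hc.map (MulAut.conj x).toMonoidHom)).mul_left (r.centA _ ha _ hc2)
      rwa [show (MulAut.conj x).toMonoidHom y₁ * ((x * y₁ * x⁻¹)⁻¹ * y) = y by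
        show x * y₁ * x⁻¹ * ((x * y₁ * x⁻¹)⁻¹ * y) = y
        group] at h
    have hz1 : x * y₂ * x⁻¹ * (x * y₂ * x⁻¹) ≠ 1 := fun e => hs2 (by
      calc y₂ * y₂ = x⁻¹ * (x * y₂ * x⁻¹ * (x * y₂ * x⁻¹)) * x := by group
        _ = 1 := by rw [e]; group)
    have hz2 : y * y ≠ x * y₂ * x⁻¹ * (x * y₂ * x⁻¹) := fun e => hne (by
      rw [← hxe] at e
      calc y₁ * y₁ = x⁻¹ * (x * (y₁ * y₁) * x⁻¹) * x := by group
        _ = y₂ * y₂ := by rw [e]; group)
    exact ⟨le_antisymm (hlt hy hy1) (hbig hy hc2 hy1 hz1 hz2 hz), _, hc2, hz1, hz2, hz⟩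
  have habel : ∀ y ∈ Q, y * y ≠ 1 → ∀ g ∈ C y, g * g ≠ 1 → C g = C y := by
    intro y hy hy1
    obtain ⟨hcy, z, hz, hz1, hyz, hyc⟩ := hroot y hy hy1
    obtain ⟨hcz, -⟩ := hroot z hz hz1
    -- `C y` is generated by `A`, `y` and `z`
    set W := A ⊔ closure {y, z} with hW
    have hWy : W ≤ C y := sup_le (fun a ha => hmemC.2 ⟨r.leA ha, r.centA a ha y hy⟩) ((closure_le _).2 (by
      rintro g (rfl | rfl)
      · exact hmemC.2 ⟨hy, Commute.refl g⟩
      · exact hmemC.2 ⟨hz, hyc.symm⟩))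
    have hWz : W ≤ C z := sup_le (fun a ha => hmemC.2 ⟨r.leA ha, r.centA a ha z hz⟩) ((closure_le _).2 (by
      rintro g (rfl | rfl)
      · exact hmemC.2 ⟨hy, hyc⟩
      · exact hmemC.2 ⟨hz, Commute.refl g⟩))
    have hy' : y ∈ W := mem_sup_right (subset_closure (Set.mem_insert y _))
    have hz' : z ∈ W := mem_sup_right (subset_closure (Set.mem_insert_of_mem _ rfl))
    have hcomm : IsMulCommutative W := by
      refine ⟨⟨fun a b => Subtype.ext ?_⟩⟩
      have hle : W ≤ centralizer (W : Set G) := sup_le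
        (fun a ha => mem_centralizer_iff.2 fun g hg => ((r.centA a ha g (hmemC.1 (hWy hg)).1).symm).eq)
        ((closure_le _).2 (by
          rintro g (rfl | rfl)
          · exact mem_centralizer_iff.2 fun k hk => ((hmemC.1 (hWy hk)).2).eq
          · exact mem_centralizer_iff.2 fun k hk => ((hmemC.1 (hWz hk)).2).eq))
      exact mem_centralizer_iff.1 (hle b.2) a.1 a.2
    have hWfull : W = C y := by
      refine Subgroup.eq_of_le_of_card_ge hWy (hcy.trans_le ?_)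
      have hzy : z * z ≠ y * y := fun e => hyz e.symm
      let f : A × Fin 4 → W := fun p => ⟨![1, y, z, y * z] p.2 * p.1.1, mul_mem (by
        generalize p.2 = i
        fin_cases i
        all_goals first | exact one_mem W | exact hy' | exact hz' | exact mul_mem hy' hz') (mem_sup_left p.1.2)⟩
      have hinj : Function.Injective f := by
        rintro ⟨a, i⟩ ⟨b, k⟩ e
        have e1 : ![1, y, z, y * z] i * a.1 = ![1, y, z, y * z] k * b.1 := congrArg Subtype.val e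
        have hsqc : ∀ (i : Fin 4) (a : A), ![1, y, z, y * z] i * a.1 * (![1, y, z, y * z] i * a.1) =
            ![1, y * y, z * z, y * y * (z * z)] i := fun i a => by
          have hw : ![1, y, z, y * z] i ∈ Q := by
            fin_cases i
            all_goals first | exact one_mem Q | exact hy | exact hz | exact mul_mem hy hz
          rw [(r.centA _ a.2 _ hw).mul_mul_mul_comm, r.elem _ a.2, mul_one]
          fin_cases i
          all_goals first | exact one_mul 1 | rfl | exact hyc.symm.mul_mul_mul_comm y z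
        have e2 : ![1, y * y, z * z, y * y * (z * z)] i = ![1, y * y, z * z, y * y * (z * z)] k := by
          rw [← hsqc i a, e1, hsqc k b]
        have h3 : y * y * (z * z) ≠ 1 := fun e => hyz ((eq_inv_of_mul_eq_one_left e).trans
          (inv_eq_of_mul_eq_one_right (r.elem _ (hsq z hz))))
        have h4 : y * y * (z * z) ≠ y * y := fun e => hz1 (by simpa using e)
        have h5 : y * y * (z * z) ≠ z * z := fun e => hy1 (by simpa using e)
        have hik : i = k := by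
          fin_cases i <;> fin_cases k <;> simp at e2 ⊢
          all_goals first
            | exact hy1 e2 | exact hy1 e2.symm | exact hz1 e2 | exact hz1 e2.symm | exact hyz e2
            | exact hzy e2 | exact h3 e2 | exact h3 e2.symm | exact h4 e2 | exact h4 e2.symm
            | exact h5 e2 | exact h5 e2.symm
        subst hik
        exact Prod.ext (Subtype.ext (mul_left_cancel e1)) rfl
      have := Nat.card_le_card_of_injective f hinj
      rw [Nat.card_prod, Nat.card_eq_fintype_card (α := Fin 4), Fintype.card_fin, r.card, hq] at this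
      exact this
    intro g hg hg1
    have hgQ := (hmemC.1 hg).1
    refine (Subgroup.eq_of_le_of_card_ge (fun k hk => hmemC.2 ⟨(hmemC.1 hk).1, ?_⟩)
      (by rw [hcy, (hroot g hgQ hg1).1])).symm
    have := hcomm.is_comm.comm (⟨k, hWfull.symm ▸ hk⟩ : W) ⟨g, hWfull.symm ▸ hg⟩
    exact congrArg Subtype.val this
  -- the classes partition the 56 roots into sets of 24
  haveI : Fintype G := Fintype.ofFinite G
  let R := Finset.univ.filter fun y : G => y ∈ Q ∧ y * y ≠ 1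
  have hcardset : ∀ P : Subgroup G, A ≤ P → P ≤ Q →
      (Finset.univ.filter fun y : G => y ∈ P ∧ y * y ≠ 1).card = Nat.card P - 8 := by
    intro P hAP hPQ
    have e : (Finset.univ.filter fun y : G => y ∈ P ∧ y * y ≠ 1) =
        (Finset.univ.filter fun y : G => y ∈ P) \ (Finset.univ.filter fun y : G => y ∈ A) := by
      ext y
      simp only [Finset.mem_filter, Finset.mem_univ, true_and, Finset.mem_sdiff]
      exact ⟨fun h => ⟨h.1, hnA h.2⟩, fun h => ⟨h.1, fun e => h.2 (r.invA y (hPQ h.1) e)⟩⟩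
    rw [e, Finset.card_sdiff_of_subset fun y hy => by simpa using hAP (Finset.mem_filter.1 hy).2,
      ← Fintype.card_subtype, ← Fintype.card_subtype, ← Nat.card_eq_fintype_card, ← Nat.card_eq_fintype_card,
      ← hq, ← r.card]
  have hR : R.card = 56 := by rw [hcardset Q r.leA le_rfl, hQ64]
  have hfib : ∀ P ∈ R.image C, (R.filter fun y => C y = P).card = 24 := by
    intro P hP
    obtain ⟨y, hy, rfl⟩ := Finset.mem_image.1 hP
    simp only [R, Finset.mem_filter, Finset.mem_univ, true_and] at hy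
    obtain ⟨hcy, -⟩ := hroot y hy.1 hy.2
    have e : (R.filter fun g => C g = C y) = Finset.univ.filter fun g : G => g ∈ C y ∧ g * g ≠ 1 := by
      ext g
      simp only [R, Finset.mem_filter, Finset.mem_univ, true_and]
      exact ⟨fun h => ⟨h.2 ▸ hmemC.2 ⟨h.1.1, Commute.refl g⟩, h.1.2⟩,
        fun h => ⟨⟨(hmemC.1 h.1).1, h.2⟩, habel y hy.1 hy.2 g h.1 h.2⟩⟩
    rw [e, hcardset _ (fun a ha => hmemC.2 ⟨r.leA ha, r.centA a ha y hy.1⟩) inf_le_left, hcy]
  have h := Finset.card_eq_sum_card_image C R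
  rw [hR, Finset.sum_congr rfl hfib, Finset.sum_const, smul_eq_mul] at h
  omega

/-- some element centralising `A` moves `u` -/
theorem exists_translation (r : Suz M D u A Q X q) (S : Sylow 2 G) (hSM : (S : Subgroup G) ≤ M)
    (hPS : Q ⊔ zpowers u ≤ S) (hne : Q ⊔ zpowers u ≠ S) :
    ∃ k ∈ M ⊓ normalizer ((Q ⊔ zpowers u : Subgroup G) : Set G), (∀ a ∈ A, Commute k a) ∧ Root.cls u k ≠ 1 := by
  classical
  haveI : Fact (Nat.Prime 2) := ⟨Nat.prime_two⟩
  have hH := r.affine S hSM hPS hne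
  refine hH.translation_or.resolve_right ?_
  rintro ⟨h8, h168, -⟩
  have hq : q = 8 := r.card.symm.trans h8
  obtain ⟨g, hg⟩ := exists_prime_orderOf_dvd_card' (G := hH.act.range) 2 (by rw [h168]; norm_num)
  obtain ⟨⟨τ, h, rfl⟩, hg⟩ : ∃ g : hH.act.range, orderOf g = 2 := ⟨g, hg⟩
  set f := hH.act h with hf
  have hf2 : ∀ a, f (f a) = a := fun a => by
    have e : (⟨f, h, rfl⟩ : hH.act.range) ^ 2 = 1 := hg ▸ pow_orderOf_eq_one _
    have e' : f * f = 1 := by rw [← pow_two]; exact congrArg Subtype.val e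
    exact congrArg (fun w : MulAut A => w a) e'
  letI : CommGroup A :=
    { (inferInstance : Group A) with mul_comm := fun a b => Subtype.ext (hH.comm_A a.2 b.2) }
  let δ : A →* A :=
    { toFun := fun a => a * f a
      map_one' := by rw [map_one, mul_one]
      map_mul' := fun a b => by rw [map_mul, mul_mul_mul_comm] }
  have hle : δ.range ≤ δ.ker := by
    rintro _ ⟨a, rfl⟩
    show a * f a * f (a * f a) = 1
    rw [map_mul, hf2, mul_comm (f a) a]
    exact Subtype.ext (r.elem _ (a * f a).2)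
  have hker : ∀ a : A, a ∈ δ.ker ↔ f a = a := fun a => by
    show a * f a = 1 ↔ _
    rw [mul_eq_one_iff_inv_eq, show a⁻¹ = a from Subtype.ext (inv_eq_of_mul_eq_one_right (r.elem _ a.2)), eq_comm]
  have hprod := δ.ker.card_mul_index
  rw [index_ker, h8] at hprod
  have hkle : Nat.card δ.range ≤ Nat.card δ.ker := Subgroup.card_le_of_le hle
  have h4 : 4 ≤ Nat.card δ.ker := by
    by_contra hlt
    have hb : Nat.card δ.ker * Nat.card δ.range ≤ Nat.card δ.ker * Nat.card δ.ker := Nat.mul_le_mul_left _ hkle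
    have h3 : Nat.card δ.ker ≤ 3 := by omega
    have hk3 := Nat.mul_le_mul h3 h3
    have hr3 : Nat.card δ.range ≤ 3 := hkle.trans h3
    interval_cases hk : Nat.card δ.ker <;> interval_cases hr : Nat.card δ.range <;> omega
  obtain ⟨a₁, ha₁, a₂, ha₂, ha12⟩ : ∃ a₁ : A, (a₁ ∈ δ.ker ∧ a₁ ≠ 1) ∧ ∃ a₂ : A, (a₂ ∈ δ.ker ∧ a₂ ≠ 1) ∧ a₁ ≠ a₂ := by
    haveI : Fintype A := Fintype.ofFinite A
    have h2 : 1 < ((Finset.univ.filter fun a : A => a ∈ δ.ker).erase 1).card := by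
      rw [Finset.card_erase_of_mem (by simp), ← Fintype.card_subtype, ← Nat.card_eq_fintype_card]
      omega
    obtain ⟨a₁, h1, a₂, h2, hne⟩ := Finset.one_lt_card.1 h2
    simp only [Finset.mem_erase, Finset.mem_filter, Finset.mem_univ, true_and] at h1 h2
    exact ⟨a₁, ⟨h1.2, h1.1⟩, a₂, ⟨h2.2, h2.1⟩, hne⟩
  -- the fixed elements of `A` are three
  have hfix : ∀ b : A, f b = b → b = 1 ∨ b = a₁ ∨ b = a₂ ∨ b = a₁ * a₂ := by
    intro b hb
    haveI : Fintype A := Fintype.ofFinite A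
    by_contra hno
    push Not at hno
    obtain ⟨hb1, hb2, hb3, hb4⟩ := hno
    have hlt : Nat.card δ.ker < 8 := by
      rcases lt_or_ge (Nat.card δ.ker) 8 with hlt | hge
      · exact hlt
      · exfalso
        have htop : δ.ker = ⊤ := Subgroup.eq_top_of_le_card _ (by omega)
        have hf1 : f = 1 := MulEquiv.ext fun a => (hker a).1 (htop ▸ mem_top a)
        have : (⟨f, h, rfl⟩ : hH.act.range) = 1 := Subtype.ext hf1
        rw [show (⟨hH.act h, h, rfl⟩ : hH.act.range) = 1 from this, orderOf_one] at hg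
        omega
    have h5 : 5 ≤ Nat.card δ.ker := by
      have hsub : ({1, a₁, a₂, a₁ * a₂, b} : Finset A) ⊆ Finset.univ.filter fun a : A => a ∈ δ.ker := by
        intro c hc
        simp only [Finset.mem_insert, Finset.mem_singleton] at hc
        simp only [Finset.mem_filter, Finset.mem_univ, true_and]
        rcases hc with rfl | rfl | rfl | rfl | rfl
        · exact one_mem _
        · exact ha₁.1
        · exact ha₂.1
        · exact mul_mem ha₁.1 ha₂.1
        · exact (hker _).2 hb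
      have hinv : ∀ a : A, a⁻¹ = a := fun a => Subtype.ext (inv_eq_of_mul_eq_one_right (r.elem _ a.2))
      have h12 : a₁ * a₂ ≠ 1 := fun e => ha12 ((eq_inv_of_mul_eq_one_left e).trans (hinv a₂))
      have h1' : a₁ ≠ a₁ * a₂ := fun e => ha₂.2 (by simpa using e.symm)
      have h2' : a₂ ≠ a₁ * a₂ := fun e => ha₁.2 (by simpa using e.symm)
      have := Finset.card_le_card hsub
      rw [Finset.card_insert_of_notMem (by simp [ha₁.2.symm, ha₂.2.symm, Ne.symm h12, Ne.symm hb1]),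
        Finset.card_insert_of_notMem (by simp [ha12, h1', Ne.symm hb2]),
        Finset.card_insert_of_notMem (by simp [h2', Ne.symm hb3]),
        Finset.card_insert_of_notMem (by simp [Ne.symm hb4]), Finset.card_singleton,
        ← Fintype.card_subtype, ← Nat.card_eq_fintype_card] at this
      exact this
    obtain ⟨k, -, hk⟩ := (Nat.dvd_prime_pow Nat.prime_two).1
      (show Nat.card δ.ker ∣ 2 ^ 3 by rw [show (2 : ℕ) ^ 3 = 8 by norm_num, ← h8]; exact card_subgroup_dvd_card _)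
    rcases Nat.lt_or_ge k 3 with hk' | hk'
    · have := Nat.pow_le_pow_right (show 0 < 2 by norm_num) (show k ≤ 2 by omega)
      omega
    · have := Nat.pow_le_pow_right (show 0 < 2 by norm_num) hk'
      omega
  -- their roots commute
  obtain ⟨hsq, huniq⟩ := r.sq_facts
  have hroot : ∀ a ∈ A, ∃ y ∈ Q, y * y = a := by
    intro a ha
    obtain ⟨g₀, hg₀, hg₀A⟩ : ∃ g ∈ Q, g ∉ A := by
      by_contra h
      push Not at h
      have h1 := Subgroup.card_le_of_le (show Q ≤ A from h)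
      rw [r.card, r.cardQ, hq] at h1
      omega
    by_cases ha1 : a = 1
    · exact ⟨1, one_mem Q, by rw [one_mul, ha1]⟩
    obtain ⟨x, hx, hxa⟩ := r.transA _ (hsq _ hg₀) a ha (fun e => hg₀A (r.invA _ hg₀ e)) ha1
    exact ⟨x * g₀ * x⁻¹, (mem_normalizer_iff.1 (r.normQ hx) _).1 hg₀, by rw [← hxa]; group⟩
  obtain ⟨y₁, hy₁, hy1⟩ := hroot a₁.1 a₁.2
  obtain ⟨y₂, hy₂, hy2⟩ := hroot a₂.1 a₂.2
  have hhP : (h : G) ∈ normalizer ((Q ⊔ zpowers u : Subgroup G) : Set G) := (mem_inf.1 h.2).2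
  have hmove : ∀ {y : G}, y ∈ Q → ∀ b : A, y * y = b.1 → f b = b →
      ∃ w, (w ∈ A ∨ w * u ∈ A) ∧ (h : G) * y * (h : G)⁻¹ = y * w := by
    intro y hy b hyb hb
    refine ⟨y⁻¹ * ((h : G) * y * (h : G)⁻¹), ?_, (mul_inv_cancel_left _ _).symm⟩
    refine r.sq_P.2 y (mem_sup_left hy) _ ((mem_normalizer_iff.1 hhP y).1 (mem_sup_left hy)) ?_
    rw [show (h : G) * y * (h : G)⁻¹ * ((h : G) * y * (h : G)⁻¹) = (h : G) * (y * y) * (h : G)⁻¹ by group, hyb]
    exact (congrArg Subtype.val hb).symm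
  obtain ⟨w₁, hw₁, e₁⟩ := hmove hy₁ a₁ hy1 ((hker _).1 ha₁.1)
  obtain ⟨w₂, hw₂, e₂⟩ := hmove hy₂ a₂ hy2 ((hker _).1 ha₂.1)
  have hcent : ∀ {w : G}, (w ∈ A ∨ w * u ∈ A) → w * w = 1 ∧ ∀ g ∈ Q, Commute w g := by
    rintro w (hw | hw)
    · exact ⟨r.elem w hw, r.centA w hw⟩
    · have hwP : w ∈ Q ⊔ zpowers u := r.mem_P.2 (Or.inr (r.leA hw))
      refine ⟨?_, fun g hg => ?_⟩
      · have h1 := r.elem _ hw
        rwa [(r.u_commute hwP).symm.mul_mul_mul_comm, r.u_sq, mul_one] at h1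
      · have h1 := (r.centA _ hw g hg).mul_left (r.centQ g hg).symm
        rwa [mul_assoc, r.u_sq, mul_one] at h1
  obtain ⟨hw₁2, hw₁c⟩ := hcent hw₁
  obtain ⟨hw₂2, hw₂c⟩ := hcent hw₂
  have hp : y₁ * y₂ * (y₁ * y₂) ∈ A := hsq _ (mul_mem hy₁ hy₂)
  have hfp : f ⟨_, hp⟩ = ⟨_, hp⟩ := Subtype.ext (by
    show (h : G) * (y₁ * y₂ * (y₁ * y₂)) * (h : G)⁻¹ = y₁ * y₂ * (y₁ * y₂)
    have hww : Commute (w₁ * w₂) (y₁ * y₂) :=
      ((hw₁c _ (mul_mem hy₁ hy₂)).mul_left (hw₂c _ (mul_mem hy₁ hy₂)))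
    have e : (h : G) * (y₁ * y₂) * (h : G)⁻¹ = y₁ * y₂ * (w₁ * w₂) := by
      calc (h : G) * (y₁ * y₂) * (h : G)⁻¹ = (y₁ * w₁) * (y₂ * w₂) := by rw [← e₁, ← e₂]; group
        _ = _ := by rw [(hw₁c y₂ hy₂).mul_mul_mul_comm]
    have hw12 : w₁ * w₂ * (w₁ * w₂) = 1 := by
      have hc : Commute w₂ w₁ := by
        rcases hw₁ with hw | hw
        · exact (r.commute_A hw (r.mem_P.2 (hw₂.imp (fun h => r.leA h) fun h => r.leA h))).symm
        · have hwP2 : w₂ ∈ Q ⊔ zpowers u := r.mem_P.2 (hw₂.imp (fun h => r.leA h) fun h => r.leA h)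
          have h1 := (r.commute_A hw hwP2).mul_left (r.u_commute hwP2).symm
          rw [mul_assoc, r.u_sq, mul_one] at h1
          exact h1.symm
      rw [hc.mul_mul_mul_comm, hw₁2, hw₂2, one_mul]
    calc (h : G) * (y₁ * y₂ * (y₁ * y₂)) * (h : G)⁻¹ =
          (h : G) * (y₁ * y₂) * (h : G)⁻¹ * ((h : G) * (y₁ * y₂) * (h : G)⁻¹) := by group
      _ = y₁ * y₂ * (y₁ * y₂) * (w₁ * w₂ * (w₁ * w₂)) := by rw [e, hww.mul_mul_mul_comm]
      _ = _ := by rw [hw12, mul_one])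
  have hs1 : y₁ * y₁ ≠ 1 := fun e => ha₁.2 (Subtype.ext (hy1.symm.trans e))
  have hs2 : y₂ * y₂ ≠ 1 := fun e => ha₂.2 (Subtype.ext (hy2.symm.trans e))
  have hs12 : y₁ * y₁ ≠ y₂ * y₂ := fun e => ha12 (Subtype.ext (by rw [← hy1, ← hy2, e]))
  have hnotA : ∀ {y : G}, y * y ≠ 1 → y ∉ A := fun h hA => h (r.elem _ hA)
  rcases hfix _ hfp with e | e | e | e
  · have hA12 := r.invA _ (mul_mem hy₁ hy₂) (congrArg Subtype.val e)
    -- `y₂` would lie in `y₁ A`
    refine hs12 ?_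
    have e2 : y₂ = y₁⁻¹ * (y₁ * y₂) := (inv_mul_cancel_left _ _).symm
    have h1 : y₁⁻¹ * y₁⁻¹ ∈ A := hsq _ (inv_mem hy₁)
    have hy1A : y₁ * y₁ ∈ A := hsq _ hy₁
    rw [e2, (r.centA _ hA12 _ (inv_mem hy₁)).mul_mul_mul_comm, r.elem _ hA12, mul_one,
      ← mul_inv_rev]
    exact (inv_eq_of_mul_eq_one_right (r.elem _ hy1A)).symm
  · have h1 := huniq y₁ hy₁ _ (mul_mem hy₁ hy₂) (hy1.trans (congrArg Subtype.val e).symm)
    rw [inv_mul_cancel_left] at h1
    exact hnotA hs2 h1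
  · have h1 := huniq _ (mul_mem hy₁ hy₂) y₂ hy₂ ((congrArg Subtype.val e).trans hy2.symm)
    rw [show (y₁ * y₂)⁻¹ * y₂ = y₂⁻¹ * y₁⁻¹ * y₂ by group] at h1
    refine hnotA hs1 (inv_mem_iff.1 ?_)
    have h2 := (r.centA _ h1 y₂ hy₂).eq
    rw [show y₂⁻¹ * y₁⁻¹ * y₂ * y₂ = y₂⁻¹ * y₁⁻¹ * y₂ * y₂ from rfl,
      show y₂ * (y₂⁻¹ * y₁⁻¹ * y₂) = y₁⁻¹ * y₂ by group] at h2
    rw [mul_right_cancel h2] at h1
    exact h1
  · refine r.not_commute_eight hq hy₁ hy₂ ?_ hs1 hs2 hs12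
    have e' : y₁ * y₂ * (y₁ * y₂) = y₁ * y₁ * (y₂ * y₂) := by
      rw [show y₁ * y₂ * (y₁ * y₂) = (a₁ * a₂ : A).1 from congrArg Subtype.val e, Subgroup.coe_mul, hy1, hy2]
    have e'' : y₂ * y₁ = y₁ * y₂ := by
      calc y₂ * y₁ = y₁⁻¹ * (y₁ * y₂ * (y₁ * y₂)) * y₂⁻¹ := by group
        _ = y₁ * y₂ := by rw [e']; group
    exact e''.symm

theorem exists_trans (r : Suz M D u A Q X q) (S : Sylow 2 G) (hSM : (S : Subgroup G) ≤ M)
    (hPS : Q ⊔ zpowers u ≤ S) (hne : Q ⊔ zpowers u ≠ S) :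
    ∃ (R : Subgroup G) (x' : G), Root.Trans M u A Q X R x' := by
  classical
  haveI : Fact (Nat.Prime 2) := ⟨Nat.prime_two⟩
  set P := Q ⊔ zpowers u with hP
  obtain ⟨k₀, hk₀H, hk₀A, hck₀⟩ := r.exists_translation S hSM hPS hne
  set K := Climb.ker M A P with hK
  have hk₀ : k₀ ∈ K := Climb.mem_ker.2 ⟨(mem_inf.1 hk₀H).1, (mem_inf.1 hk₀H).2, hk₀A⟩
  let χ : K →* A :=
    { toFun := fun k => ⟨Root.cls u k.1, r.cls_mem (Climb.mem_ker.1 k.2).2.1⟩
      map_one' := Subtype.ext ((r.cls_eq_one).2 (Commute.one_left u))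
      map_mul' := fun k l => Subtype.ext (r.cls_hom k.2 l.2) }
  have hconjK : ∀ h ∈ M, h ∈ normalizer (P : Set G) → ∀ k ∈ K, h * k * h⁻¹ ∈ K := fun h hM hR k hk => by
    obtain ⟨h1, h2, h3⟩ := Climb.mem_ker.1 hk
    refine Climb.mem_ker.2 ⟨mul_mem (mul_mem hM h1) (inv_mem hM), mul_mem (mul_mem hR h2) (inv_mem hR),
      fun a ha => ?_⟩
    have h4 := (h3 _ (r.norm_A (inv_mem hR) ha)).eq
    calc h * k * h⁻¹ * a = h * (k * (h⁻¹ * a * h⁻¹⁻¹)) * h⁻¹ := by group
      _ = h * (h⁻¹ * a * h⁻¹⁻¹ * k) * h⁻¹ := by rw [h4]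
      _ = a * (h * k * h⁻¹) := by group
  have hχ : Function.Surjective χ := fun a => by
    by_cases ha : (a : G) = 1
    · exact ⟨1, by rw [map_one]; exact Subtype.ext ha.symm⟩
    obtain ⟨x, hx, e1⟩ := r.transA _ (r.cls_mem (Climb.mem_ker.1 hk₀).2.1) a.1 a.2 hck₀ ha
    refine ⟨⟨x * k₀ * x⁻¹, hconjK x (r.XleM hx) (r.X_norm_P hx) k₀ hk₀⟩, Subtype.ext ?_⟩
    exact (r.cls_conj (r.centX x hx) k₀).trans e1
  obtain ⟨Sy, hSy⟩ := (r.P_two.comap_of_injective K.subtype K.subtype_injective).exists_le_sylow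
  set R : Subgroup G := (Sy : Subgroup K).map K.subtype with hR
  have hRK : R ≤ K := map_subtype_le _
  have hPR : P ≤ R := fun p hp => ⟨⟨p, le_ker r hp⟩, hSy hp, rfl⟩
  have hR2 : IsPGroup 2 R := Sy.2.map K.subtype
  have hA2 : IsPGroup 2 A := r.twoQ.to_le r.leA
  have hsurj : ∀ a ∈ A, ∃ p ∈ R, Root.cls u p = a := by
    intro a ha
    have h1 : ((Sy : Subgroup K).map χ).index ∣ (Sy : Subgroup K).index := index_map_dvd _ hχ
    obtain ⟨j, hj⟩ := hA2.index ((Sy : Subgroup K).map χ)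
    have h2 : ((Sy : Subgroup K).map χ) = ⊤ := by
      rw [← index_eq_one, hj]
      rcases j with - | j
      · rfl
      · exact absurd ((dvd_pow_self 2 (by omega)).trans (hj ▸ h1)) Sy.not_dvd_index
    obtain ⟨p, hp, e1⟩ : (⟨a, ha⟩ : A) ∈ (Sy : Subgroup K).map χ := h2 ▸ mem_top _
    exact ⟨p, ⟨p, hp, rfl⟩, congrArg Subtype.val e1⟩
  have hkerR : ∀ p ∈ R, Root.cls u p = 1 → p ∈ P := fun p hp hc => by
    obtain ⟨h1, h2, -⟩ := Climb.mem_ker.1 (hRK hp)
    exact r.cent_mem h1 h2 (hR2.to_le (zpowers_le.2 hp)) (r.cls_eq_one.1 hc)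
  -- the lift of a generator
  obtain ⟨x, hx, hgen⟩ := r.exists_generator
  have hxM := r.XleM hx
  have hxP := r.X_norm_P hx
  let ex : K →* K :=
    { toFun := fun k => ⟨x * k.1 * x⁻¹, hconjK x hxM hxP k.1 k.2⟩
      map_one' := Subtype.ext (show x * 1 * x⁻¹ = (1 : G) by group)
      map_mul' := fun k l => Subtype.ext (show x * (k.1 * l.1) * x⁻¹ = x * k.1 * x⁻¹ * (x * l.1 * x⁻¹) by group) }
  have hexb : Function.Surjective ex := fun k => by
    refine ⟨⟨x⁻¹ * k.1 * x⁻¹⁻¹, hconjK _ (inv_mem hxM) (inv_mem hxP) k.1 k.2⟩, Subtype.ext ?_⟩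
    show x * (x⁻¹ * k.1 * x⁻¹⁻¹) * x⁻¹ = k.1
    group
  obtain ⟨k, hk⟩ := MulAction.exists_smul_eq K (Sy.mapSurjective hexb) Sy
  have hkx : k.1 * x ∈ normalizer (R : Set G) := by
    rw [mem_normalizer_iff_map_conj_eq]
    refine Subgroup.eq_of_le_of_card_ge ?_ (le_of_eq (card_map_of_injective (MulEquiv.injective _)).symm)
    rintro _ ⟨_, ⟨p, hp, rfl⟩, rfl⟩
    refine ⟨k * ex p * k⁻¹, ?_, ?_⟩
    · have h1 : (k • Sy.mapSurjective hexb : Sylow 2 K) = Sy := hk
      rw [← h1, Sylow.coe_subgroup_smul]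
      exact ⟨ex p, ⟨p, hp, rfl⟩, rfl⟩
    · show k.1 * (x * p.1 * x⁻¹) * k.1⁻¹ = k.1 * x * p.1 * (k.1 * x)⁻¹
      group
  have hkK := Climb.mem_ker.1 k.2
  have hcg1 : Root.cls u (k.1 * x) = Root.cls u k.1 := by
    rw [r.cls_mul, r.cls_eq_one.2 (r.centX x hx), mul_one, mul_inv_cancel, mul_one]
  obtain ⟨p, hp, hcp⟩ := hsurj (Root.cls u k.1)⁻¹ (inv_mem (r.cls_mem hkK.2.1))
  have hpK := Climb.mem_ker.1 (hRK hp)
  have hcpg : Root.cls u (p * (k.1 * x)) = 1 := by
    rw [r.cls_mul, hcg1, (hpK.2.2 _ (r.cls_mem hkK.2.1)).eq, mul_inv_cancel_right, hcp, inv_mul_cancel]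
  set g₀ := p * (k.1 * x) with hg₀
  have hsameX : Climb.Same A x g₀ := fun b hb => by
    have hkA : p * k.1 ∈ K := mul_mem (hRK hp) k.2
    symm
    calc g₀ * b * g₀⁻¹ = p * k.1 * (x * b * x⁻¹) * (p * k.1)⁻¹ := by rw [hg₀]; group
      _ = x * b * x⁻¹ := by
        rw [((Climb.mem_ker.1 hkA).2.2 _ (r.norm_A hxP hb)).eq, mul_inv_cancel_right]
  refine ⟨R, g₀, hPR, hRK, hR2, hsurj, hkerR, mul_mem hpK.1 (mul_mem hkK.1 hxM),
    mul_mem hpK.2.1 (mul_mem hkK.2.1 hxP), mul_mem (le_normalizer hp) hkx, r.cls_eq_one.1 hcpg,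
    fun y hy => ?_, x, hx, hsameX⟩
  obtain ⟨n, hn⟩ := hgen y hy
  exact ⟨n, fun b hb => (hn b hb).trans (Root.same_pow (fun b hb => r.norm_A hxP hb) hsameX n b hb)⟩



/-- `P` is a Sylow 2-subgroup of the centraliser of `u` in `G` -/
theorem sylow_cent (r : Suz M D u A Q X q) :
    ∃ Sy : Sylow 2 (centralizer ({u} : Set G)),
      ((Sy : Subgroup (centralizer ({u} : Set G))).map (centralizer ({u} : Set G)).subtype) = Q ⊔ zpowers u := by
  classical
  haveI : Fact (Nat.Prime 2) := ⟨Nat.prime_two⟩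
  set C := centralizer ({u} : Set G) with hC
  set P := Q ⊔ zpowers u with hP
  have hPC : P ≤ C := fun p hp => mem_centralizer_singleton_iff.2 (r.u_commute hp).eq
  obtain ⟨Sy, hSy⟩ := (r.P_two.comap_of_injective C.subtype C.subtype_injective).exists_le_sylow
  refine ⟨Sy, ?_⟩
  set R := (Sy : Subgroup C).map C.subtype with hR
  have hPR : P ≤ R := fun p hp => ⟨⟨p, hPC hp⟩, hSy hp, rfl⟩
  have hR2 : IsPGroup 2 R := Sy.2.map _
  have hRu : ∀ b ∈ R, Commute b u := by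
    rintro _ ⟨b, -, rfl⟩
    exact mem_centralizer_singleton_iff.1 b.2
  by_contra hne
  haveI := hR2.isNilpotent
  have hlt : P.subgroupOf R < ⊤ :=
    lt_of_le_of_ne le_top fun e => hne (le_antisymm (subgroupOf_eq_top.1 e) hPR)
  obtain ⟨y, hy, hyP⟩ := SetLike.exists_of_lt (normalizerCondition_of_isNilpotent _ hlt)
  have hyn : (y : G) ∈ normalizer (P : Set G) := mem_normalizer_iff.2 fun g => by
    constructor
    · intro hg
      exact mem_subgroupOf.1 ((mem_normalizer_iff.1 hy ⟨g, hPR hg⟩).1 (mem_subgroupOf.2 hg))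
    · intro hg
      have hgS : g ∈ R := by
        have := mul_mem (mul_mem (inv_mem y.2) (hPR hg)) y.2
        simpa [mul_assoc] using this
      exact mem_subgroupOf.1 ((mem_normalizer_iff.1 hy ⟨g, hgS⟩).2 (mem_subgroupOf.2 hg))
  exact hyP (mem_subgroupOf.2 (r.cent_mem (r.normAM _ (r.norm_of_maps fun a ha => r.norm_A hyn ha)) hyn
    (hR2.to_le (zpowers_le.2 y.2)) (hRu _ y.2)))


end Finite

end Suz

end Cfsg.Lib.BenderSE.Crit2
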