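/-
The translations at a point of a line of type Sz with kernel `⟨u⟩` in the criterion: they centralise
`P / A` (otherwise the commutator of two translations would move `P` by a plane of `A`, the square of one by
a line, against the transitivity of the torus), and then modulo `A` the translations form an elementary abelian group.
-/
import Cfsg.Agent.BenderSE.Criterion2.SuzukiBasic

set_option autoImplicit false
set_option linter.unusedSectionVars false
set_option linter.style.haveILetI false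

namespace Cfsg.Lib.BenderSE.Crit2.Suz

open Subgroup

variable {G : Type*} [Group G] [Finite G] {M : Subgroup G} {D : G → Prop} {u : G} {A Q X R : Subgroup G}
  {x' : G} {q : ℕ}

/-- the translations have order `2 q ^ 3` -/
theorem card_trans (r : Suz M D u A Q X q) (t : Root.Trans M u A Q X R x') :
    Nat.card R = q * (2 * q ^ 2) := by
  let χ : R →* A :=
    { toFun := fun k => ⟨Root.cls u k.1, r.cls_mem (Climb.mem_ker.1 (t.leK k.2)).2.1⟩
      map_one' := Subtype.ext ((r.cls_eq_one).2 (Commute.one_left u))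
      map_mul' := fun k l => Subtype.ext (r.cls_hom (t.leK k.2) (t.leK l.2)) }
  have hr : χ.range = ⊤ := MonoidHom.range_eq_top.2 fun a => by
    obtain ⟨p, hp, h⟩ := t.surj a.1 a.2
    exact ⟨⟨p, hp⟩, Subtype.ext h⟩
  have hk : χ.ker = (Q ⊔ zpowers u).subgroupOf R := by
    ext p
    rw [MonoidHom.mem_ker, mem_subgroupOf]
    exact ⟨fun h => t.kerR p.1 p.2 (congrArg Subtype.val h),
      fun h => Subtype.ext (r.cls_eq_one.2 (r.u_commute h))⟩
  rw [← χ.ker.card_mul_index, index_ker, hr, card_top, hk, Nat.card_congr (subgroupOfEquivOfLe t.le).toEquiv,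
    r.card_P, r.card, mul_comm]

/-- an element of `P` lies in `A⟨u⟩` -/
def InZ (u : G) (A : Subgroup G) (w : G) : Prop := w ∈ A ∨ w * u ∈ A

theorem InZ.mem_P (r : Suz M D u A Q X q) {w : G} (hw : InZ u A w) : w ∈ Q ⊔ zpowers u :=
  r.mem_P.2 (hw.imp (fun h => r.leA h) (fun h => r.leA h))

theorem InZ.commute (r : Suz M D u A Q X q) {w : G} (hw : InZ u A w) {p : G} (hp : p ∈ Q ⊔ zpowers u) :
    Commute w p := by
  rcases hw with h | h
  · exact r.commute_A h hp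
  · have h1 := (r.commute_A h hp).mul_left (r.u_commute hp).symm
    rwa [mul_assoc, r.u_sq, mul_one] at h1

theorem InZ.mul (r : Suz M D u A Q X q) {v w : G} (hv : InZ u A v) (hw : InZ u A w) : InZ u A (v * w) := by
  have hcu : ∀ {z : G}, InZ u A z → Commute z u := fun hz => r.u_commute (InZ.mem_P r hz)
  rcases hv with hv | hv <;> rcases hw with hw | hw
  · exact Or.inl (mul_mem hv hw)
  · exact Or.inr (by rw [mul_assoc]; exact mul_mem hv hw)
  · exact Or.inr (by rw [mul_assoc, (hcu (Or.inl hw)).eq, ← mul_assoc]; exact mul_mem hv hw)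
  · left
    have h := mul_mem hv hw
    rw [show v * u * (w * u) = v * (u * w * u) by group, ← (hcu (Or.inr hw)).eq, mul_assoc w, r.u_sq, mul_one] at h
    exact h

/-- `P / A` is abelian -/
theorem comm_P (r : Suz M D u A Q X q) {g h : G} (hg : g ∈ Q ⊔ zpowers u) (hh : h ∈ Q ⊔ zpowers u) :
    g * h * g⁻¹ * h⁻¹ ∈ A := by
  have hsq := r.sq_P.1
  have h1 : g⁻¹ * g⁻¹ ∈ A := hsq _ (inv_mem hg)
  have h2 : h⁻¹ * h⁻¹ ∈ A := hsq _ (inv_mem hh)
  have e : g * h * g⁻¹ * h⁻¹ = g * h * (g * h) * (h⁻¹ * (g⁻¹ * g⁻¹) * h) * (h⁻¹ * h⁻¹) := by group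
  rw [e]
  refine mul_mem (mul_mem (hsq _ (mul_mem hg hh)) ?_) h2
  rw [mul_assoc, (r.commute_A h1 hh).eq, inv_mul_cancel_left]
  exact h1

/-- an element centralising `A` and normalising `P` moves the classes modulo `A` inside `A⟨u⟩` -/
theorem shift_mem (r : Suz M D u A Q X q) {g : G} (hg : g ∈ Climb.ker M A (Q ⊔ zpowers u)) {p : G}
    (hp : p ∈ Q ⊔ zpowers u) : InZ u A (p⁻¹ * (g * p * g⁻¹)) := by
  obtain ⟨-, hgP, hgA⟩ := Climb.mem_ker.1 hg
  refine r.sq_P.2 p hp _ ((mem_normalizer_iff.1 hgP p).1 hp) ?_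
  rw [show g * p * g⁻¹ * (g * p * g⁻¹) = g * (p * p) * g⁻¹ by group, (hgA _ (r.sq_P.1 p hp)).eq,
    mul_inv_cancel_right]

/-- a translation moves the elements of `A⟨u⟩` outside `A` by its class -/
theorem shift_Z (r : Suz M D u A Q X q) {g : G} (hg : g ∈ Climb.ker M A (Q ⊔ zpowers u)) {w : G} :
    (w ∈ A → w⁻¹ * (g * w * g⁻¹) = 1) ∧ (w * u ∈ A → w⁻¹ * (g * w * g⁻¹) = Root.cls u g) := by
  obtain ⟨-, -, hgA⟩ := Climb.mem_ker.1 hg
  refine ⟨fun h => by rw [(hgA w h).eq, mul_inv_cancel_right, inv_mul_cancel], fun h => ?_⟩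
  have hwu : w = w * u * u := by rw [mul_assoc, r.u_sq, mul_one]
  have hc : Commute (w * u) (g * u * g⁻¹) := by
    have h0 := ((r.commute_A h u_mem_P).map (MulAut.conj g).toMonoidHom)
    rwa [show (MulAut.conj g).toMonoidHom (w * u) = w * u by
      show g * (w * u) * g⁻¹ = w * u
      rw [(hgA _ h).eq, mul_inv_cancel_right]] at h0
  calc w⁻¹ * (g * w * g⁻¹) = (w * u * u)⁻¹ * (g * (w * u * u) * g⁻¹) := by rw [← hwu]
    _ = u⁻¹ * (w * u)⁻¹ * (g * (w * u) * g⁻¹ * (g * u * g⁻¹)) := by group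
    _ = u * (g * u * g⁻¹) := by
      rw [(hgA _ h).eq, mul_inv_cancel_right, r.u_inv, mul_assoc, inv_mul_cancel_left]

/-- the commutator of two translations on `P` -/
theorem comm_shift (r : Suz M D u A Q X q) {s t : G} (hs : s ∈ Climb.ker M A (Q ⊔ zpowers u))
    (ht : t ∈ Climb.ker M A (Q ⊔ zpowers u)) (hy : s * t * s⁻¹ * t⁻¹ ∈ Q ⊔ zpowers u) {p : G}
    (hp : p ∈ Q ⊔ zpowers u) :
    (s * t * s⁻¹ * t⁻¹) * p * (s * t * s⁻¹ * t⁻¹)⁻¹ =
      p * ((p⁻¹ * (t * p * t⁻¹))⁻¹ * (s * (p⁻¹ * (t * p * t⁻¹)) * s⁻¹)) *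
        ((p⁻¹ * (s * p * s⁻¹))⁻¹ * (t * (p⁻¹ * (s * p * s⁻¹)) * t⁻¹))⁻¹ := by
  set y := s * t * s⁻¹ * t⁻¹ with hydef
  set w := p⁻¹ * (s * p * s⁻¹) with hwdef
  set w' := p⁻¹ * (t * p * t⁻¹) with hw'def
  have hw : InZ u A w := shift_mem r hs hp
  have hw' : InZ u A w' := shift_mem r ht hp
  set d := w'⁻¹ * (s * w' * s⁻¹) with hd
  set d' := w⁻¹ * (t * w * t⁻¹) with hd'
  have hsP := (mem_normalizer_iff.1 (Climb.mem_ker.1 hs).2.1 w').1 (InZ.mem_P r hw')
  have htP := (mem_normalizer_iff.1 (Climb.mem_ker.1 ht).2.1 w).1 (InZ.mem_P r hw)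
  have hdP : d ∈ Q ⊔ zpowers u := mul_mem (inv_mem (InZ.mem_P r hw')) hsP
  have hd'P : d' ∈ Q ⊔ zpowers u := mul_mem (inv_mem (InZ.mem_P r hw)) htP
  have hdA : Commute d y := by
    rcases hw' with h | h
    · rw [hd, (shift_Z r hs).1 h]; exact Commute.one_left y
    · rw [hd, (shift_Z r hs).2 h]; exact r.commute_A (r.cls_mem (Climb.mem_ker.1 hs).2.1) hy
  have hd'A : Commute d' y := by
    rcases hw with h | h
    · rw [hd', (shift_Z r ht).1 h]; exact Commute.one_left y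
    · rw [hd', (shift_Z r ht).2 h]; exact r.commute_A (r.cls_mem (Climb.mem_ker.1 ht).2.1) hy
  have e1 : s * t * p * (s * t)⁻¹ = p * (w * w') * d := by
    calc s * t * p * (s * t)⁻¹ = s * (p * (p⁻¹ * (t * p * t⁻¹))) * s⁻¹ := by group
      _ = p * (p⁻¹ * (s * p * s⁻¹)) * (w' * (w'⁻¹ * (s * w' * s⁻¹))) := by rw [← hw'def]; group
      _ = _ := by rw [← hwdef, ← hd]; group
  have e2 : t * s * p * (t * s)⁻¹ = p * (w' * w) * d' := by
    calc t * s * p * (t * s)⁻¹ = t * (p * (p⁻¹ * (s * p * s⁻¹))) * t⁻¹ := by group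
      _ = p * (p⁻¹ * (t * p * t⁻¹)) * (w * (w⁻¹ * (t * w * t⁻¹))) := by rw [← hwdef]; group
      _ = _ := by rw [← hw'def, ← hd']; group
  have e3 : y * (t * s * p * (t * s)⁻¹) * y⁻¹ = s * t * p * (s * t)⁻¹ := by rw [hydef]; group
  rw [e1, e2] at e3
  have hwy : Commute (w' * w) y := InZ.commute r (InZ.mul r hw' hw) hy
  have e4 : y * p * y⁻¹ * (w' * w) * d' = p * (w * w') * d := by
    rw [← e3]
    calc y * p * y⁻¹ * (w' * w) * d' = y * p * (y⁻¹ * (w' * w)) * d' := by group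
      _ = y * p * (w' * w) * (y⁻¹ * d') := by rw [← hwy.inv_right.eq]; group
      _ = y * (p * (w' * w) * d') * y⁻¹ := by rw [← hd'A.inv_right.eq]; group
  have hww : w' * w = w * w' := (InZ.commute r hw' (InZ.mem_P r hw)).eq
  rw [hww] at e4
  have hc : Commute (d * d'⁻¹) (w * w')⁻¹ :=
    (((InZ.commute r (InZ.mul r hw hw') hdP).symm).mul_left
      ((InZ.commute r (InZ.mul r hw hw') hd'P).symm.inv_left)).inv_right
  calc y * p * y⁻¹ = y * p * y⁻¹ * (w * w') * d' * (d'⁻¹ * (w * w')⁻¹) := by group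
    _ = p * (w * w') * ((d * d'⁻¹) * (w * w')⁻¹) := by rw [e4]; group
    _ = p * d * d'⁻¹ := by rw [hc.eq]; group

/-- the translations centralise `P / A` -/
theorem trans_centralise (r : Suz M D u A Q X q) (t : Root.Trans M u A Q X R x') :
    ∀ s ∈ R, ∀ p ∈ Q ⊔ zpowers u, p⁻¹ * (s * p * s⁻¹) ∈ A := by
  classical
  set P := Q ⊔ zpowers u with hP
  have hK : ∀ {s : G}, s ∈ R → s ∈ Climb.ker M A P := fun hs => t.leK hs
  have hshift : ∀ {s p : G}, s ∈ R → p ∈ P → InZ u A (p⁻¹ * (s * p * s⁻¹)) := fun hs hp =>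
    shift_mem r (hK hs) hp
  -- the property depends on the class only
  have hclass : ∀ s ∈ R, ∀ s' ∈ R, Root.cls u s = Root.cls u s' → (∀ p ∈ P, p⁻¹ * (s * p * s⁻¹) ∈ A) →
      ∀ p ∈ P, p⁻¹ * (s' * p * s'⁻¹) ∈ A := by
    intro s hs s' hs' e hall p hp
    have hk : s⁻¹ * s' ∈ P := by
      refine t.kerR _ (mul_mem (inv_mem hs) hs') ?_
      rw [r.cls_hom (hK (inv_mem hs)) (hK hs'), ← e, ← r.cls_hom (hK (inv_mem hs)) (hK hs), inv_mul_cancel,
        r.cls_eq_one]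
      exact Commute.one_left u
    set p₀ := s⁻¹ * s'
    have hp1 : p₀ * p * p₀⁻¹ ∈ P := mul_mem (mul_mem hk hp) (inv_mem hk)
    have h1 := hall _ hp1
    rw [show p⁻¹ * (s' * p * s'⁻¹) = p⁻¹ * (p₀ * p * p₀⁻¹ * p⁻¹) * p *
        ((p₀ * p * p₀⁻¹)⁻¹ * (s * (p₀ * p * p₀⁻¹) * s⁻¹)) by simp only [p₀]; group]
    refine mul_mem ?_ h1
    rw [mul_assoc, (r.commute_A (comm_P r hk hp) hp).eq, inv_mul_cancel_left]
    exact comm_P r hk hp
  by_contra hne
  push Not at hne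
  obtain ⟨s₀, hs₀, q₀, hq₀, hbad⟩ := hne
  -- every translation outside `P` moves `P / A`
  have hmove : ∀ s ∈ R, Root.cls u s ≠ 1 → ∃ p ∈ P, p⁻¹ * (s * p * s⁻¹) ∉ A := by
    intro s hs hs1
    by_contra hall
    push Not at hall
    refine hbad ?_
    by_cases h1 : Root.cls u s₀ = 1
    · have h0 := t.kerR _ hs₀ h1
      rw [show q₀⁻¹ * (s₀ * q₀ * s₀⁻¹) = q₀⁻¹ * (s₀ * q₀ * s₀⁻¹ * q₀⁻¹) * q₀ by group, mul_assoc,
        (r.commute_A (comm_P r h0 hq₀) hq₀).eq, inv_mul_cancel_left]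
      exact comm_P r h0 hq₀
    obtain ⟨x, hx, e⟩ := r.transA _ (r.cls_mem (Climb.mem_ker.1 (hK hs)).2.1) _
      (r.cls_mem (Climb.mem_ker.1 (hK hs₀)).2.1) hs1 h1
    obtain ⟨n, hn⟩ := t.gen x hx
    set g := x' ^ n
    have hgP : g ∈ normalizer (P : Set G) := pow_mem t.normP n
    have hgR : g * s * g⁻¹ ∈ R := (mem_normalizer_iff.1 (pow_mem t.normR n) s).1 hs
    refine hclass _ hgR s₀ hs₀ ?_ (fun p hp => ?_) q₀ hq₀
    · rw [r.cls_conj (t.cent.pow_left n), ← hn _ (r.cls_mem (Climb.mem_ker.1 (hK hs)).2.1), e]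
    · have hp' : g⁻¹ * p * g⁻¹⁻¹ ∈ P := (mem_normalizer_iff.1 (inv_mem hgP) p).1 hp
      have h2 := r.norm_A hgP (hall _ hp')
      rwa [show g * ((g⁻¹ * p * g⁻¹⁻¹)⁻¹ * (s * (g⁻¹ * p * g⁻¹⁻¹) * s⁻¹)) * g⁻¹ =
        p⁻¹ * (g * s * g⁻¹ * p * (g * s * g⁻¹)⁻¹) by group] at h2
  -- representatives
  have hrep : ∀ a : A, ∃ s, s ∈ R ∧ Root.cls u s = a.1 := fun a => t.surj a.1 a.2
  choose rep hrepR hrep using hrep
  let Y : A → A → G := fun a b => rep a * rep b * (rep a)⁻¹ * (rep b)⁻¹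
  have hY : ∀ a b : A, Y a b ∈ P := by
    intro a b
    refine t.kerR _ (mul_mem (mul_mem (mul_mem (hrepR a) (hrepR b)) (inv_mem (hrepR a))) (inv_mem (hrepR b))) ?_
    have ha := hK (hrepR a)
    have hb := hK (hrepR b)
    rw [r.cls_hom (mul_mem (mul_mem ha hb) (inv_mem ha)) (inv_mem hb), r.cls_hom (mul_mem ha hb) (inv_mem ha),
      r.cls_hom ha hb, (r.commute_A (r.cls_mem (Climb.mem_ker.1 ha).2.1)
        (mem_sup_left (r.leA (r.cls_mem (Climb.mem_ker.1 hb).2.1)))).eq, mul_assoc (Root.cls u (rep b)),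
      ← r.cls_hom ha (inv_mem ha), mul_inv_cancel, (r.cls_eq_one).2 (Commute.one_left u), mul_one,
      ← r.cls_hom hb (inv_mem hb), mul_inv_cancel, (r.cls_eq_one).2 (Commute.one_left u)]
  have hone : ∀ a : A, a.1⁻¹ = a.1 := fun a => inv_eq_of_mul_eq_one_right (r.elem _ a.2)
  have hfull : ∀ a b : A, a.1 ≠ 1 → b.1 ≠ 1 → a ≠ b →
      (∃ p ∈ P, p⁻¹ * (Y a b * p * (Y a b)⁻¹) = a.1) ∧ ∃ p ∈ P, p⁻¹ * (Y a b * p * (Y a b)⁻¹) = b.1 := by
    intro a b ha hb hab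
    have hsa := hK (hrepR a)
    have hsb := hK (hrepR b)
    have hmulw : ∀ {s : G}, s ∈ R → ∀ {p p1 : G}, p ∈ P → p1 ∈ P →
        (p * p1)⁻¹ * (s * (p * p1) * s⁻¹) = p⁻¹ * (s * p * s⁻¹) * (p1⁻¹ * (s * p1 * s⁻¹)) := by
      intro s hs p p1 hp hp1
      calc (p * p1)⁻¹ * (s * (p * p1) * s⁻¹) = p1⁻¹ * (p⁻¹ * (s * p * s⁻¹)) * (s * p1 * s⁻¹) := by group
        _ = p⁻¹ * (s * p * s⁻¹) * p1⁻¹ * (s * p1 * s⁻¹) := by
          rw [← (InZ.commute r (hshift hs hp) (inv_mem hp1)).eq]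
        _ = _ := by group
    have hboth : ∀ {v w : G}, InZ u A v → v ∉ A → InZ u A w → w ∉ A → v * w ∈ A := by
      intro v w hv hv' hw hw'
      have h := mul_mem (hv.resolve_left hv') (hw.resolve_left hw')
      rwa [show v * u * (w * u) = v * (u * w * u) by group, ← (r.u_commute (InZ.mem_P r hw)).eq,
        mul_assoc w, r.u_sq, mul_one] at h
    -- a point of `P` moved by exactly one of the two
    have hab' : Root.cls u (rep a * rep b) ≠ 1 := by
      rw [r.cls_hom hsa hsb, hrep, hrep]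
      intro e
      exact hab (Subtype.ext ((hone a).symm.trans (inv_eq_of_mul_eq_one_right e)))
    obtain ⟨p, hp, hpne⟩ := hmove _ (mul_mem (hrepR a) (hrepR b)) hab'
    have hxor : ¬ ((p⁻¹ * (rep a * p * (rep a)⁻¹) ∈ A) ↔ p⁻¹ * (rep b * p * (rep b)⁻¹) ∈ A) := by
      intro hiff
      refine hpne ?_
      set w' := p⁻¹ * (rep b * p * (rep b)⁻¹) with hw'
      rw [show p⁻¹ * (rep a * rep b * p * (rep a * rep b)⁻¹) =
        p⁻¹ * (rep a * p * (rep a)⁻¹) * w' * (w'⁻¹ * (rep a * w' * (rep a)⁻¹)) by rw [hw']; group]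
      refine mul_mem ?_ ?_
      · by_cases h : w' ∈ A
        · exact mul_mem (hiff.2 h) h
        · exact hboth (hshift (hrepR a) hp) (fun e => h (hiff.1 e)) (hshift (hrepR b) hp) h
      · rcases hshift (hrepR b) hp with h | h
        · rw [(shift_Z r hsa).1 h]; exact one_mem A
        · rw [(shift_Z r hsa).2 h, hrep]; exact a.2
    -- two points
    obtain ⟨⟨p1, hp1, h1a, h1b⟩, p2, hp2, h2a, h2b⟩ :
        (∃ p ∈ P, p⁻¹ * (rep a * p * (rep a)⁻¹) ∈ A ∧ p⁻¹ * (rep b * p * (rep b)⁻¹) ∉ A) ∧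
          ∃ p ∈ P, p⁻¹ * (rep a * p * (rep a)⁻¹) ∉ A ∧ p⁻¹ * (rep b * p * (rep b)⁻¹) ∈ A := by
      obtain ⟨c, hc, hca⟩ := hmove _ (hrepR a) (by rw [hrep]; exact ha)
      obtain ⟨c', hc', hcb⟩ := hmove _ (hrepR b) (by rw [hrep]; exact hb)
      by_cases hpa : p⁻¹ * (rep a * p * (rep a)⁻¹) ∈ A
      · have hpb : p⁻¹ * (rep b * p * (rep b)⁻¹) ∉ A := fun h => hxor ⟨fun _ => h, fun _ => hpa⟩
        refine ⟨⟨p, hp, hpa, hpb⟩, ?_⟩
        by_cases hcb' : c⁻¹ * (rep b * c * (rep b)⁻¹) ∈ A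
        · exact ⟨c, hc, hca, hcb'⟩
        · refine ⟨p * c, mul_mem hp hc, fun h => hca ?_, ?_⟩
          · rw [hmulw (hrepR a) hp hc] at h
            exact (mul_mem_cancel_left hpa).1 h
          · rw [hmulw (hrepR b) hp hc]
            exact hboth (hshift (hrepR b) hp) hpb (hshift (hrepR b) hc) hcb'
      · have hpb : p⁻¹ * (rep b * p * (rep b)⁻¹) ∈ A := by
          by_contra h
          exact hxor ⟨fun e => absurd e hpa, fun e => absurd e h⟩
        refine ⟨?_, p, hp, hpa, hpb⟩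
        by_cases hca' : c'⁻¹ * (rep a * c' * (rep a)⁻¹) ∈ A
        · exact ⟨c', hc', hca', hcb⟩
        · refine ⟨p * c', mul_mem hp hc', ?_, fun h => hcb ?_⟩
          · rw [hmulw (hrepR a) hp hc']
            exact hboth (hshift (hrepR a) hp) hpa (hshift (hrepR a) hc') hca'
          · rw [hmulw (hrepR b) hp hc'] at h
            exact (mul_mem_cancel_left hpb).1 h
    refine ⟨⟨p1, hp1, ?_⟩, p2, hp2, ?_⟩
    · simp only [Y]
      rw [comm_shift r hsa hsb (hY a b) hp1, mul_assoc, inv_mul_cancel_left, (shift_Z r hsb).1 h1a,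
        (shift_Z r hsa).2 ((hshift (hrepR b) hp1).resolve_left h1b), hrep]
      group
    · simp only [Y]
      rw [comm_shift r hsa hsb (hY a b) hp2, mul_assoc, inv_mul_cancel_left, (shift_Z r hsa).1 h2b,
        (shift_Z r hsb).2 ((hshift (hrepR a) hp2).resolve_left h2a), hrep, one_mul, hone]
  -- two classes: the square of one translation and the commutator of two
  obtain ⟨a, ha, b, hb, hab⟩ : ∃ a : A, a ≠ 1 ∧ ∃ b : A, b ≠ 1 ∧ a ≠ b := by
    haveI : Fintype A := Fintype.ofFinite A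
    have h4 : 1 < (Finset.univ.erase (1 : A)).card := by
      rw [Finset.card_erase_of_mem (Finset.mem_univ _), Finset.card_univ, ← Nat.card_eq_fintype_card, r.card]
      have := r.four
      omega
    obtain ⟨a, ha, b, hb, hne⟩ := Finset.one_lt_card.1 h4
    exact ⟨a, (Finset.mem_erase.1 ha).1, b, (Finset.mem_erase.1 hb).1, hne⟩
  have ha1 : a.1 ≠ 1 := fun e => ha (Subtype.ext e)
  have hb1 : b.1 ≠ 1 := fun e => hb (Subtype.ext e)
  obtain ⟨⟨pa, hpa, hea⟩, pb, hpb, heb⟩ := hfull a b ha1 hb1 hab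
  -- the square moves `P` inside one class
  set v := rep a * rep a with hvdef
  have hsaK := hK (hrepR a)
  have hvP : v ∈ P := t.kerR _ (mul_mem (hrepR a) (hrepR a))
    (by rw [r.cls_hom hsaK hsaK, r.elem _ (r.cls_mem (Climb.mem_ker.1 hsaK).2.1)])
  have hvimg : ∀ p ∈ P, p⁻¹ * (v * p * v⁻¹) = 1 ∨ p⁻¹ * (v * p * v⁻¹) = a.1 := by
    intro p hp
    set w := p⁻¹ * (rep a * p * (rep a)⁻¹) with hwdef
    have hw2 : w * w = 1 := by
      rcases (hshift (hrepR a) hp : InZ u A w) with h | h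
      · exact r.elem _ h
      · have e := r.elem _ h
        rwa [((r.u_commute (InZ.mem_P r (Or.inr h)))).symm.mul_mul_mul_comm, r.u_sq, mul_one] at e
    have e : p⁻¹ * (v * p * v⁻¹) = w⁻¹ * (rep a * w * (rep a)⁻¹) := by
      calc p⁻¹ * (v * p * v⁻¹) = w * w * (w⁻¹ * (rep a * w * (rep a)⁻¹)) := by rw [hwdef, hvdef]; group
        _ = _ := by rw [hw2, one_mul]
    rcases (hshift (hrepR a) hp : InZ u A w) with h | h
    · left; rw [e, (shift_Z r hsaK).1 h]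
    · right; rw [e, (shift_Z r hsaK).2 h, hrep]
  have hne1 : ∀ {y p : G}, y ∈ P → p ∈ P → p⁻¹ * (y * p * y⁻¹) ≠ 1 → y * y ≠ 1 := by
    intro y p hy hp hne e
    have h := r.sq_P.2 1 (one_mem _) y hy (by rw [one_mul, e])
    have hz : InZ u A y := by simpa [InZ] using h
    exact hne (by rw [(InZ.commute r hz hp).eq, mul_inv_cancel_right, inv_mul_cancel])
  obtain ⟨c, hc, hca⟩ := hmove _ (hrepR a) (by rw [hrep]; exact ha1)
  have hv2 : v * v ≠ 1 := by
    refine hne1 hvP hc fun e => ?_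
    set w := c⁻¹ * (rep a * c * (rep a)⁻¹) with hwdef
    have hwu : w * u ∈ A := (hshift (hrepR a) hc : InZ u A w).resolve_left hca
    have hww : w * w = 1 := by
      have e' := r.elem _ hwu
      rwa [((r.u_commute (InZ.mem_P r (Or.inr hwu)))).symm.mul_mul_mul_comm, r.u_sq, mul_one] at e'
    refine ha1 ?_
    rw [← hrep a, ← (shift_Z r hsaK).2 hwu, ← e]
    calc w⁻¹ * (rep a * w * (rep a)⁻¹) = w * w * (w⁻¹ * (rep a * w * (rep a)⁻¹)) := by rw [hww, one_mul]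
      _ = _ := by rw [hwdef, hvdef]; group
  have hy2 : Y a b * Y a b ≠ 1 := hne1 (hY a b) hpa (by rw [hea]; exact ha1)
  obtain ⟨x, hx, hxe⟩ := r.transA _ (r.sq_P.1 _ hvP) _ (r.sq_P.1 _ (hY a b)) hv2 hy2
  have hxP : x ∈ normalizer (P : Set G) := r.X_norm_P hx
  have hxv : x * v * x⁻¹ ∈ P := (mem_normalizer_iff.1 hxP v).1 hvP
  have hz : InZ u A ((x * v * x⁻¹)⁻¹ * Y a b) :=
    r.sq_P.2 _ hxv _ (hY a b) (by rw [← hxe]; group)
  have hYimg : ∀ p ∈ P, p⁻¹ * (Y a b * p * (Y a b)⁻¹) = 1 ∨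
      p⁻¹ * (Y a b * p * (Y a b)⁻¹) = x * a.1 * x⁻¹ := by
    intro p hp
    have hp' : x⁻¹ * p * x⁻¹⁻¹ ∈ P := (mem_normalizer_iff.1 (inv_mem hxP) p).1 hp
    have e : p⁻¹ * (Y a b * p * (Y a b)⁻¹) =
        x * ((x⁻¹ * p * x⁻¹⁻¹)⁻¹ * (v * (x⁻¹ * p * x⁻¹⁻¹) * v⁻¹)) * x⁻¹ := by
      set z := (x * v * x⁻¹)⁻¹ * Y a b
      calc p⁻¹ * (Y a b * p * (Y a b)⁻¹) = p⁻¹ * (x * v * x⁻¹ * (z * p * z⁻¹) * (x * v * x⁻¹)⁻¹) := by
            simp only [z]; group
        _ = p⁻¹ * (x * v * x⁻¹ * p * (x * v * x⁻¹)⁻¹) := by rw [(InZ.commute r hz hp).eq, mul_inv_cancel_right]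
        _ = _ := by group
    rcases hvimg _ hp' with h | h
    · left; rw [e, h]; group
    · right; rw [e, h]
  rcases hYimg pa hpa with h1 | h1
  · exact ha1 (hea.symm.trans h1)
  rcases hYimg pb hpb with h2 | h2
  · exact hb1 (heb.symm.trans h2)
  exact hab (Subtype.ext ((hea.symm.trans h1).trans (heb.symm.trans h2).symm))

/-- the translations form an elementary group modulo `A` -/
theorem trans_elementary (r : Suz M D u A Q X q) (t : Root.Trans M u A Q X R x') :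
    ∀ s ∈ R, s * s ∈ A := by
  intro s hs
  have hall := trans_centralise r t
  have hsK := t.leK hs
  obtain ⟨-, -, hsA⟩ := Climb.mem_ker.1 hsK
  have hcs := r.cls_mem (Climb.mem_ker.1 hsK).2.1
  have hssP : s * s ∈ Q ⊔ zpowers u :=
    t.kerR _ (mul_mem hs hs) (by rw [r.cls_hom hsK hsK, r.elem _ hcs])
  have hcent : ∀ g ∈ Q, Commute (s * s) g := fun g hg => by
    have hgP : g ∈ Q ⊔ zpowers u := mem_sup_left hg
    set α := g⁻¹ * (s * g * s⁻¹) with hα
    have hαA : α ∈ A := hall s hs g hgP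
    have e : s * s * g * (s * s)⁻¹ = g := by
      calc s * s * g * (s * s)⁻¹ = s * (g * α) * s⁻¹ := by rw [hα]; group
        _ = g * α * (s * α * s⁻¹) := by rw [hα]; group
        _ = g := by rw [(hsA α hαA).eq, mul_inv_cancel_right, mul_assoc, r.elem α hαA, mul_one]
    exact mul_inv_eq_iff_eq_mul.1 e
  rcases r.centre_P hssP hcent with h | h
  · exact h
  · have h1 : Commute s u := by
      have h2 := ((Commute.refl s).mul_right (Commute.refl s)).inv_right.mul_right (hsA _ h)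
      rwa [show (s * s)⁻¹ * (s * s * u) = u by group] at h2
    exact r.sq_P.1 s (t.kerR s hs (r.cls_eq_one.2 h1))

end Cfsg.Lib.BenderSE.Crit2.Suz
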