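/-
The end at a point of a line of type Sz with kernel `⟨u⟩` in the criterion: modulo `A` the Sylow
2-subgroup `R` of translations is elementary, its normaliser fixes the class of `u` (module lemma and the
semilinear bound), fusion in the centraliser of `A` is controlled by that normaliser, so all conjugates of
`u` in `R` lie in `uA` and a simple group has no such line.
-/
import Cfsg.Agent.BenderSE.Criterion2.SuzukiModule
import Cfsg.Agent.BenderSE.Criterion2.RootModule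
import Cfsg.Agent.LinearPerm.OddTransitive
import Cfsg.Agent.BenderSE.Criterion2.Pure

set_option autoImplicit false
set_option linter.unusedSectionVars false
set_option linter.style.haveILetI false

namespace Cfsg.Lib.BenderSE.Crit2.Suz

open Subgroup

section Actions

variable {G : Type*} [Group G]

/-- conjugation by the normaliser on a section -/
theorem exists_sectionHom {R A : Subgroup G} (hn : (A.subgroupOf R).Normal) {N : Subgroup G}
    (hR : N ≤ normalizer (R : Set G)) (hA : N ≤ normalizer (A : Set G)) :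
    ∃ φ : N →* MulAut (R ⧸ A.subgroupOf R), ∀ (n : N) (s : R),
      φ n (s : R ⧸ A.subgroupOf R) =
        ((⟨n * s * (n : G)⁻¹, (mem_normalizer_iff.1 (hR n.2) _).1 s.2⟩ : R) : R ⧸ A.subgroupOf R) := by
  classical
  haveI := hn
  let cj : N → R ≃* R := fun n =>
    { toFun := fun s => ⟨n * s * (n : G)⁻¹, (mem_normalizer_iff.1 (hR n.2) _).1 s.2⟩
      invFun := fun s => ⟨(n : G)⁻¹ * s * (n : G)⁻¹⁻¹, (mem_normalizer_iff.1 (hR (inv_mem n.2)) _).1 s.2⟩
      left_inv := fun s => Subtype.ext (by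
        show (n : G)⁻¹ * (n * s * (n : G)⁻¹) * (n : G)⁻¹⁻¹ = s
        group)
      right_inv := fun s => Subtype.ext (by
        show (n : G) * ((n : G)⁻¹ * s * (n : G)⁻¹⁻¹) * (n : G)⁻¹ = s
        group)
      map_mul' := fun s t => Subtype.ext (by
        show (n : G) * (s * t) * (n : G)⁻¹ = n * s * (n : G)⁻¹ * (n * t * (n : G)⁻¹)
        group) }
  have hmap : ∀ n : N, (A.subgroupOf R).map (cj n).toMonoidHom = A.subgroupOf R := by
    intro n
    ext s
    constructor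
    · rintro ⟨w, hw, rfl⟩
      exact mem_subgroupOf.2 ((mem_normalizer_iff.1 (hA n.2) _).1 (mem_subgroupOf.1 hw))
    · intro hs
      exact ⟨(cj n).symm s, mem_subgroupOf.2 ((mem_normalizer_iff.1 (hA (inv_mem n.2)) _).1 (mem_subgroupOf.1 hs)),
        (cj n).apply_symm_apply s⟩
  refine ⟨{ toFun := fun n => QuotientGroup.congr _ _ (cj n) (hmap n)
            map_one' := ?_
            map_mul' := ?_ }, fun n s => rfl⟩
  · refine MulEquiv.ext fun v => ?_
    obtain ⟨s, rfl⟩ := QuotientGroup.mk_surjective v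
    show ((cj 1 s : R) : R ⧸ A.subgroupOf R) = s
    congr 1
    exact Subtype.ext (show (1 : G) * s * (1 : G)⁻¹ = s by group)
  · intro n n'
    refine MulEquiv.ext fun v => ?_
    obtain ⟨s, rfl⟩ := QuotientGroup.mk_surjective v
    show ((cj (n * n') s : R) : R ⧸ A.subgroupOf R) = ((cj n (cj n' s) : R) : R ⧸ A.subgroupOf R)
    congr 1
    exact Subtype.ext (show (n : G) * n' * s * ((n : G) * n')⁻¹ = n * (n' * s * (n' : G)⁻¹) * (n : G)⁻¹ by group)

/-- conjugation by the normaliser on a subgroup -/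
theorem exists_conjHom {A : Subgroup G} {N : Subgroup G} (hA : N ≤ normalizer (A : Set G)) :
    ∃ φ : N →* MulAut A, ∀ (n : N) (a : A), (φ n a : G) = n * a * (n : G)⁻¹ := by
  refine ⟨{ toFun := fun n =>
              { toFun := fun a => ⟨n * a * (n : G)⁻¹, (mem_normalizer_iff.1 (hA n.2) _).1 a.2⟩
                invFun := fun a => ⟨(n : G)⁻¹ * a * (n : G)⁻¹⁻¹, (mem_normalizer_iff.1 (hA (inv_mem n.2)) _).1 a.2⟩
                left_inv := fun a => Subtype.ext (by
                  show (n : G)⁻¹ * (n * a * (n : G)⁻¹) * (n : G)⁻¹⁻¹ = a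
                  group)
                right_inv := fun a => Subtype.ext (by
                  show (n : G) * ((n : G)⁻¹ * a * (n : G)⁻¹⁻¹) * (n : G)⁻¹ = a
                  group)
                map_mul' := fun a b => Subtype.ext (by
                  show (n : G) * (a * b) * (n : G)⁻¹ = n * a * (n : G)⁻¹ * (n * b * (n : G)⁻¹)
                  group) }
            map_one' := MulEquiv.ext fun a => Subtype.ext (show (1 : G) * a * (1 : G)⁻¹ = a by group)
            map_mul' := fun n n' => MulEquiv.ext fun a => Subtype.ext (show (n : G) * n' * a * ((n : G) * n')⁻¹ =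
              n * (n' * a * (n' : G)⁻¹) * (n : G)⁻¹ by group) }, fun n a => rfl⟩

end Actions

section Count

/-- a transitive odd group of automorphisms of an elementary group, generated on the non-trivial elements by
one element, has small point stabilisers -/
theorem card_stab_lt {E : Type*} [CommGroup E] [Finite E] [Nontrivial E] (h2 : ∀ e : E, e * e = 1)
    (Δ : Subgroup (MulAut E)) (hodd : Odd (Nat.card Δ)) (c : Δ) (e₀ : E) (he₀ : e₀ ≠ 1)
    (hgen : ∀ e : E, e ≠ 1 → ∃ n : ℕ, ((c : MulAut E) ^ n) e₀ = e) :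
    Nat.card {h : Δ // (h : MulAut E) e₀ = e₀} < Nat.card E := by
  classical
  haveI : Finite (MulAut E) := Finite.of_injective (fun f : MulAut E => (f : E → E)) DFunLike.coe_injective
  let _ : DistribMulAction Δ (Additive E) :=
    { smul := fun δ v => Additive.ofMul ((δ : MulAut E) (Additive.toMul v))
      one_smul := fun _ => rfl
      mul_smul := fun _ _ _ => rfl
      smul_zero := fun δ => congrArg Additive.ofMul (map_one (δ : MulAut E))
      smul_add := fun δ x y => congrArg Additive.ofMul (map_mul (δ : MulAut E) _ _) }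
  haveI : FaithfulSMul Δ (Additive E) := ⟨fun {δ ε} h => Subtype.ext (MulEquiv.ext fun x => h (Additive.ofMul x))⟩
  obtain ⟨-, hsemi, hcomm⟩ := Cfsg.Lib.LinearPerm.OddTrans.main (D := Δ) (E := Additive E)
    (fun v => by rw [two_nsmul]; exact congrArg Additive.ofMul (h2 (Additive.toMul v))) hodd fun v w hv hw => by
      obtain ⟨i, hi⟩ := hgen (Additive.toMul v) (fun e => hv (congrArg Additive.ofMul e))
      obtain ⟨j, hj⟩ := hgen (Additive.toMul w) (fun e => hw (congrArg Additive.ofMul e))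
      refine ⟨c ^ j * (c ^ i)⁻¹, congrArg Additive.ofMul ?_⟩
      show ((c ^ j * (c ^ i)⁻¹ : Δ) : MulAut E) (Additive.toMul v) = Additive.toMul w
      rw [Subgroup.coe_mul, Subgroup.coe_inv, Subgroup.coe_pow, Subgroup.coe_pow, ← hi, MulAut.mul_apply,
        MulAut.inv_apply_self, hj]
  let F := Cfsg.fittingSubgroup Δ
  let f : {h : Δ // (h : MulAut E) e₀ = e₀} → F := fun h =>
    ⟨h.1 * c * h.1⁻¹ * c⁻¹, hcomm (commutator_mem_commutator (mem_top h.1) (mem_top c))⟩
  have hf : Function.Injective f := by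
    intro h h' e
    have e' : h.1 * c * h.1⁻¹ * c⁻¹ = h'.1 * c * h'.1⁻¹ * c⁻¹ := congrArg Subtype.val e
    have hc : Commute (h'.1⁻¹ * h.1) c := by
      have e1 : h.1 * c * h.1⁻¹ = h'.1 * c * h'.1⁻¹ := mul_right_cancel e'
      show h'.1⁻¹ * h.1 * c = c * (h'.1⁻¹ * h.1)
      calc h'.1⁻¹ * h.1 * c = h'.1⁻¹ * (h.1 * c * h.1⁻¹) * h.1 := by group
        _ = c * (h'.1⁻¹ * h.1) := by rw [e1]; group
    refine Subtype.ext (inv_mul_eq_one.1 (Subtype.ext (MulEquiv.ext fun x => ?_))).symm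
    by_cases hx : x = 1
    · subst hx
      exact (map_one _).trans rfl
    obtain ⟨n, hn⟩ := hgen x hx
    have h0 : ((h'.1⁻¹ * h.1 : Δ) : MulAut E) e₀ = e₀ := by
      show (h'.1 : MulAut E)⁻¹ ((h.1 : MulAut E) e₀) = e₀
      rw [h.2]
      exact (h'.1 : MulAut E).injective ((MulAut.apply_inv_self _ _ _).trans h'.2.symm)
    show ((h'.1⁻¹ * h.1 : Δ) : MulAut E) x = x
    rw [← hn, ← MulAut.mul_apply, ← Subgroup.coe_pow, ← Subgroup.coe_mul, (hc.pow_right n).eq, Subgroup.coe_mul,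
      MulAut.mul_apply, h0]
  let g : F → {e : E // e ≠ 1} := fun δ => ⟨((δ : Δ) : MulAut E) e₀,
    fun e => he₀ (((δ : Δ) : MulAut E).injective (e.trans (map_one _).symm))⟩
  have hg : Function.Injective g := by
    intro δ ε e
    have e' : ((δ : Δ) : MulAut E) e₀ = ((ε : Δ) : MulAut E) e₀ := congrArg Subtype.val e
    refine Subtype.ext (inv_mul_eq_one.1 ?_).symm
    exact hsemi _ (mul_mem (inv_mem ε.2) δ.2) (Additive.ofMul e₀) (fun h => he₀ (congrArg Additive.toMul h))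
      (congrArg Additive.ofMul (by
        show ((ε : Δ) : MulAut E)⁻¹ (((δ : Δ) : MulAut E) e₀) = e₀
        rw [e']
        exact MulAut.inv_apply_self _ _ _))
  haveI : Fintype E := Fintype.ofFinite E
  calc Nat.card {h : Δ // (h : MulAut E) e₀ = e₀} ≤ Nat.card F := Nat.card_le_card_of_injective f hf
    _ ≤ Nat.card {e : E // e ≠ 1} := Nat.card_le_card_of_injective g hg
    _ < Nat.card E := by
      rw [Nat.card_eq_fintype_card, Nat.card_eq_fintype_card]
      exact Fintype.card_subtype_lt (x := 1) (not_not.2 rfl)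

end Count

variable {G : Type*} [Group G] [Finite G] {M : Subgroup G} {D : G → Prop} {u : G} {A Q X R : Subgroup G}
  {x' : G} {q : ℕ}

/-- the centre of the translations is `A` -/
theorem centre_R (r : Suz M D u A Q X q) (t : Root.Trans M u A Q X R x') {w : G} (hw : w ∈ R)
    (hc : ∀ s ∈ R, Commute w s) : w ∈ A := by
  have huR : u ∈ R := t.le u_mem_P
  have hwP : w ∈ Q ⊔ zpowers u := t.kerR w hw (r.cls_eq_one.2 (hc u huR))
  rcases r.centre_P hwP (fun g hg => hc g (t.le (mem_sup_left hg))) with h | h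
  · exact h
  · exfalso
    obtain ⟨a, ha, ha1⟩ : ∃ a ∈ A, a ≠ 1 := by
      by_contra h'
      push Not at h'
      have : A = ⊥ := (Subgroup.eq_bot_iff_forall _).2 h'
      have h1 := r.card
      rw [this, card_bot] at h1
      have := r.four
      omega
    obtain ⟨s, hs, hsa⟩ := t.surj a ha
    have h1 : Commute u s := by
      have h2 := ((hc s hs).inv_left).mul_left (((Climb.mem_ker.1 (t.leK hs)).2.2 _ h).symm)
      rwa [inv_mul_cancel_left] at h2
    exact ha1 (hsa.symm.trans (r.cls_eq_one.2 h1.symm))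

/-- the normaliser of the translations normalises `A` -/
theorem norm_R_le (r : Suz M D u A Q X q) (t : Root.Trans M u A Q X R x') :
    normalizer (R : Set G) ≤ normalizer (A : Set G) := fun g hg => r.norm_of_maps fun a ha => by
  refine centre_R r t ((mem_normalizer_iff.1 hg a).1 (t.le (mem_sup_left (r.leA ha)))) fun s hs => ?_
  have hs' : g⁻¹ * s * g⁻¹⁻¹ ∈ R := (mem_normalizer_iff.1 (inv_mem hg) s).1 hs
  have h := ((Climb.mem_ker.1 (t.leK hs')).2.2 a ha).symm.map (MulAut.conj g).toMonoidHom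
  rwa [show (MulAut.conj g).toMonoidHom (g⁻¹ * s * g⁻¹⁻¹) = s by
    show g * (g⁻¹ * s * g⁻¹⁻¹) * g⁻¹ = s
    group] at h

/-- modulo `A` the commutator of translations is bilinear -/
theorem exists_pairing (r : Suz M D u A Q X q) (t : Root.Trans M u A Q X R x') :
    (∀ s ∈ R, ∀ v ∈ R, s * v * s⁻¹ * v⁻¹ ∈ A) ∧
      (∀ s ∈ R, ∀ s' ∈ R, ∀ v ∈ R, s * s' * v * (s * s')⁻¹ * v⁻¹ = s * v * s⁻¹ * v⁻¹ * (s' * v * s'⁻¹ * v⁻¹)) ∧
      ∀ s ∈ R, ∀ v ∈ R, ∀ v' ∈ R, s * (v * v') * s⁻¹ * (v * v')⁻¹ = s * v * s⁻¹ * v⁻¹ * (s * v' * s⁻¹ * v'⁻¹) := by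
  have hsq := trans_elementary r t
  have hA : ∀ a ∈ A, ∀ s ∈ R, Commute a s := fun a ha s hs => ((Climb.mem_ker.1 (t.leK hs)).2.2 a ha).symm
  have hmem : ∀ s ∈ R, ∀ v ∈ R, s * v * s⁻¹ * v⁻¹ ∈ A := by
    intro s hs v hv
    have h1 : s⁻¹ * s⁻¹ ∈ A := hsq _ (inv_mem hs)
    have e : s * v * s⁻¹ * v⁻¹ = s * v * (s * v) * (v⁻¹ * (s⁻¹ * s⁻¹) * v) * (v⁻¹ * v⁻¹) := by group
    rw [e]
    refine mul_mem (mul_mem (hsq _ (mul_mem hs hv)) ?_) (hsq _ (inv_mem hv))
    rw [mul_assoc, (hA _ h1 v hv).eq, inv_mul_cancel_left]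
    exact h1
  refine ⟨hmem, fun s hs s' hs' v hv => ?_, fun s hs v hv v' hv' => ?_⟩
  · set c := s' * v * s'⁻¹ * v⁻¹ with hcdef
    calc s * s' * v * (s * s')⁻¹ * v⁻¹ = s * c * v * s⁻¹ * v⁻¹ := by rw [hcdef]; group
      _ = c * (s * v * s⁻¹ * v⁻¹) := by rw [← (hA c (hmem s' hs' v hv) s hs).eq]; group
      _ = s * v * s⁻¹ * v⁻¹ * c := (hA c (hmem s' hs' v hv) _
          (t.le (mem_sup_left (r.leA (hmem s hs v hv))))).eq
  · set c := s * v' * s⁻¹ * v'⁻¹ with hcdef
    calc s * (v * v') * s⁻¹ * (v * v')⁻¹ = s * v * s⁻¹ * c * v⁻¹ := by rw [hcdef]; group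
      _ = s * v * s⁻¹ * v⁻¹ * c := by
        rw [mul_assoc, (hA c (hmem s hs v' hv') _ (inv_mem hv)).eq, ← mul_assoc]

set_option maxHeartbeats 1000000 in
/-- the normaliser of the translations fixes the class of `u` -/
theorem norm_R_fix (r : Suz M D u A Q X q) (t : Root.Trans M u A Q X R x') (S : Sylow 2 G)
    (hRS : (S : Subgroup G) = R) {g : G} (hg : g ∈ normalizer (R : Set G)) :
    u * (g * u * g⁻¹) ∈ A := by
  classical
  haveI : Fact (Nat.Prime 2) := ⟨Nat.prime_two⟩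
  set N := normalizer (R : Set G) with hN
  have hNA : N ≤ normalizer (A : Set G) := norm_R_le r t
  have hsq := trans_elementary r t
  obtain ⟨hcomm, hbl, hbr⟩ := exists_pairing r t
  have hA : ∀ a ∈ A, ∀ s ∈ R, Commute a s := fun a ha s hs => ((Climb.mem_ker.1 (t.leK hs)).2.2 a ha).symm
  have huR : u ∈ R := t.le u_mem_P
  have hAR : A ≤ R := fun a ha => t.le (mem_sup_left (r.leA ha))
  set A' := A.subgroupOf R with hA'
  haveI hA'n : A'.Normal := ⟨fun a ha s => by
    rw [mem_subgroupOf, Subgroup.coe_mul, Subgroup.coe_mul, ← (hA _ (mem_subgroupOf.1 ha) s.1 s.2).eq,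
      Subgroup.coe_inv, mul_inv_cancel_right]
    exact mem_subgroupOf.1 ha⟩
  obtain ⟨φ, hφ⟩ := exists_sectionHom hA'n (le_refl N) hNA
  obtain ⟨ψ, hψ⟩ := exists_conjHom hNA
  let V := R ⧸ A'
  letI : CommGroup V :=
    { (inferInstance : Group V) with
      mul_comm := fun v w => by
        obtain ⟨s, rfl⟩ := QuotientGroup.mk_surjective v
        obtain ⟨s', rfl⟩ := QuotientGroup.mk_surjective w
        refine QuotientGroup.eq.2 (mem_subgroupOf.2 ?_)
        show ((s : G) * s')⁻¹ * ((s' : G) * s) ∈ A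
        rw [show ((s : G) * s')⁻¹ * ((s' : G) * s) =
          (s' : G)⁻¹ * (s : G)⁻¹ * (s' : G)⁻¹⁻¹ * (s : G)⁻¹⁻¹ by group]
        exact hcomm _ (inv_mem s'.2) _ (inv_mem s.2) }
  haveI : Finite (MulAut V) := Finite.of_injective (fun f : MulAut V => (f : V → V)) DFunLike.coe_injective
  haveI : Finite (MulAut A) := Finite.of_injective (fun f : MulAut A => (f : A → A)) DFunLike.coe_injective
  -- `R` acts trivially, so the images have odd order
  have hindex : Odd (R.subgroupOf N).index := by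
    rw [← Nat.not_even_iff_odd, even_iff_two_dvd]
    intro h
    refine S.not_dvd_index ?_
    rw [hRS, ← relIndex_mul_index (le_normalizer : R ≤ N)]
    exact dvd_mul_of_dvd_left h _
  have hRφ : R.subgroupOf N ≤ φ.ker := by
    intro n hn
    refine MulEquiv.ext fun v => ?_
    obtain ⟨s, rfl⟩ := QuotientGroup.mk_surjective v
    rw [hφ]
    refine QuotientGroup.eq.2 (mem_subgroupOf.2 ?_)
    show ((n : G) * s * (n : G)⁻¹)⁻¹ * s ∈ A
    rw [show ((n : G) * s * (n : G)⁻¹)⁻¹ * s = (n : G) * (s : G)⁻¹ * (n : G)⁻¹ * (s : G)⁻¹⁻¹ by group]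
    exact hcomm _ (mem_subgroupOf.1 hn) _ (inv_mem s.2)
  have hRψ : R.subgroupOf N ≤ ψ.ker := by
    intro n hn
    refine MulEquiv.ext fun a => Subtype.ext ?_
    rw [hψ]
    show (n : G) * a * (n : G)⁻¹ = a
    rw [← (hA _ a.2 _ (mem_subgroupOf.1 hn)).eq, mul_inv_cancel_right]
  have hoddφ : Odd (Nat.card φ.range) := by
    rw [← index_ker]; exact hindex.of_dvd_nat (index_dvd_of_le hRφ)
  have hoddψ : Odd (Nat.card ψ.range) := by
    rw [← index_ker]; exact hindex.of_dvd_nat (index_dvd_of_le hRψ)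
  -- a translation lift
  set x0 : N := ⟨x', t.normR⟩ with hx0
  have hxA : ∀ (n : ℕ) (a : A), (ψ (x0 ^ n) a : G) = x' ^ n * a * (x' ^ n)⁻¹ := fun n a => by
    rw [hψ, SubmonoidClass.coe_pow]
  have hxu : φ x0 ((⟨u, huR⟩ : R) : V) = ((⟨u, huR⟩ : R) : V) := by
    rw [hφ]; congr 1
    exact Subtype.ext (show x' * u * x'⁻¹ = u by rw [t.cent.eq, mul_inv_cancel_right])
  have htrans : ∀ a b : A, a ≠ 1 → b ≠ 1 → ∃ n : ℕ, ψ (x0 ^ n) a = b := by
    intro a b ha hb
    obtain ⟨x, hx, e⟩ := r.transA _ a.2 _ b.2 (fun h => ha (Subtype.ext h)) fun h => hb (Subtype.ext h)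
    obtain ⟨n, hn⟩ := t.gen x hx
    exact ⟨n, Subtype.ext ((hxA n a).trans ((hn _ a.2).symm.trans e))⟩
  have hfixA : ∀ n : ℕ, ∀ a : A, a ≠ 1 → ψ (x0 ^ n) a = a → ψ (x0 ^ n) = 1 := by
    intro n a ha h
    refine MulEquiv.ext fun b => ?_
    by_cases hb : b = 1
    · rw [hb, map_one, map_one]
    obtain ⟨m, rfl⟩ := htrans a b ha hb
    rw [← MulAut.mul_apply, ← map_mul, ← pow_add, Nat.add_comm, pow_add, map_mul, MulAut.mul_apply, h]
    rfl
  have hA4 : 4 ≤ Nat.card A := r.card.symm ▸ r.four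
  haveI : Nontrivial A := Finite.one_lt_card_iff_nontrivial.1 (by omega)
  obtain ⟨a₀, ha₀⟩ := exists_ne (1 : A)
  have hm1 : ψ x0 ≠ 1 := by
    intro h
    have hall : ∀ b : A, b ≠ 1 → b = a₀ := fun b hb => by
      obtain ⟨n, hn⟩ := htrans a₀ b ha₀ hb
      rw [map_pow, h, one_pow] at hn
      exact hn.symm
    have h2 : Nat.card A ≤ 2 := by
      have := Nat.card_le_card_of_injective (fun b : A => decide (b = 1)) fun b c e => by
        by_cases hb : b = 1 <;> by_cases hc : c = 1 <;> simp [hb, hc] at e ⊢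
        rw [hall b hb, hall c hc]
      simpa using this
    omega
  set m := orderOf (ψ x0) with hm
  have hmodd : Odd m := by
    refine hoddψ.of_dvd_nat ?_
    rw [hm, show ψ x0 = ψ.range.subtype ⟨ψ x0, ⟨x0, rfl⟩⟩ from rfl,
      orderOf_injective ψ.range.subtype ψ.range.subtype_injective]
    exact orderOf_dvd_natCard _
  obtain ⟨ℓ, hℓp, hℓm⟩ := Nat.exists_prime_and_dvd (fun e : m = 1 => hm1 (orderOf_eq_one_iff.1 e))
  obtain ⟨k, hk⟩ := hℓm
  have hℓ : Odd ℓ := hmodd.of_dvd_nat ⟨k, hk⟩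
  have hkm : ψ (x0 ^ k) ≠ 1 := by
    intro h
    rw [map_pow] at h
    have h1 := Nat.le_of_dvd (Nat.pos_of_ne_zero (by rintro rfl; rw [mul_zero] at hk; exact (orderOf_pos _).ne' hk))
      (orderOf_dvd_of_pow_eq_one h)
    have h2 := hℓp.two_le
    rcases Nat.eq_zero_or_pos k with rfl | hk0
    · rw [mul_zero] at hk; exact (orderOf_pos _).ne' hk
    · rw [← hm, hk] at h1; nlinarith
  -- the lift is trivial on the section where it is trivial on `A`
  have htriv : ∀ n : ℕ, ψ (x0 ^ n) = 1 → φ (x0 ^ n) = 1 := by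
    intro n hn
    set y := x' ^ n with hy
    have hyA : ∀ a ∈ A, Commute y a := fun a ha => by
      have := hxA n ⟨a, ha⟩
      rw [hn] at this
      exact mul_inv_eq_iff_eq_mul.1 this.symm
    have hyK : y ∈ Climb.ker M A (Q ⊔ zpowers u) :=
      Climb.mem_ker.2 ⟨pow_mem t.memM n, pow_mem t.normP n, hyA⟩
    have hyR : ∀ s ∈ R, y * s * y⁻¹ ∈ R := fun s hs => (mem_normalizer_iff.1 (pow_mem t.normR n) s).1 hs
    have e4 : ∀ v : V, φ (x0 ^ n) (φ (x0 ^ n) (φ (x0 ^ n) (φ (x0 ^ n) v))) = v := by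
      have hz : ∀ z : R, InZ u A (z : G) → φ (x0 ^ n) (z : V) = z := by
        intro z hz
        rw [hφ]; congr 1
        refine Subtype.ext ?_
        show ((x0 ^ n : N) : G) * z * ((x0 ^ n : N) : G)⁻¹ = z
        rw [SubmonoidClass.coe_pow, ← hy]
        rcases hz with h | h
        · rw [(hyA _ h).eq, mul_inv_cancel_right]
        · have hc : Commute y (z : G) := by
            have h1 := (hyA _ h).mul_right (t.cent.pow_left n)
            rwa [mul_assoc, r.u_sq, mul_one] at h1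
          rw [hc.eq, mul_inv_cancel_right]
      have hp : ∀ p : R, (p : G) ∈ Q ⊔ zpowers u → ∃ z : R, InZ u A (z : G) ∧ φ (x0 ^ n) (p : V) = p * z := by
        intro p hp
        refine ⟨p⁻¹ * ⟨y * p * y⁻¹, hyR _ p.2⟩, shift_mem r hyK hp, ?_⟩
        rw [hφ, ← QuotientGroup.mk_mul, mul_inv_cancel_left]
        congr 1
      intro v
      obtain ⟨s, rfl⟩ := QuotientGroup.mk_surjective v
      set p : R := s⁻¹ * ⟨y * s * y⁻¹, hyR _ s.2⟩ with hpdef
      have hpP : (p : G) ∈ Q ⊔ zpowers u := by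
        refine t.kerR _ p.2 ?_
        have hcs := r.cls_mem (Climb.mem_ker.1 (t.leK s.2)).2.1
        show Root.cls u ((s : G)⁻¹ * (y * s * y⁻¹)) = 1
        rw [r.cls_hom (t.leK (inv_mem s.2)) (t.leK (hyR _ s.2)), r.cls_conj (t.cent.pow_left n), (hyA _ hcs).eq,
          mul_inv_cancel_right, ← r.cls_hom (t.leK (inv_mem s.2)) (t.leK s.2), inv_mul_cancel, r.cls_eq_one]
        exact Commute.one_left u
      have hs : φ (x0 ^ n) (s : V) = s * p := by
        rw [hφ, ← QuotientGroup.mk_mul, hpdef, mul_inv_cancel_left]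
        congr 1
      obtain ⟨z, hz', hpz⟩ := hp p hpP
      have hzz : ((z : V)) * z = 1 := by
        rw [← QuotientGroup.mk_mul]
        exact (QuotientGroup.eq_one_iff _).2 (mem_subgroupOf.2 (hsq _ z.2))
      have hpp : ((p : V)) * p = 1 := by
        rw [← QuotientGroup.mk_mul]
        exact (QuotientGroup.eq_one_iff _).2 (mem_subgroupOf.2 (hsq _ p.2))
      have h2 : φ (x0 ^ n) (φ (x0 ^ n) (s : V)) = s * z := by
        rw [hs, map_mul, hs, hpz, ← mul_assoc, mul_assoc (s : V) p p, hpp, mul_one]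
      rw [h2, map_mul, hs, hz z hz', map_mul, map_mul, hs, hpz, hz z hz']
      calc (s : V) * p * (p * z) * z = s * (p * p) * (z * z) := by simp only [mul_assoc]
        _ = s := by rw [hpp, hzz, mul_one, mul_one]
    have h4 : (φ (x0 ^ n)) ^ 4 = 1 := MulEquiv.ext fun v => by
      simp only [pow_succ, pow_zero, one_mul, MulAut.mul_apply, MulAut.one_apply]
      exact e4 v
    have ho : orderOf (φ (x0 ^ n)) ∣ Nat.card φ.range := by
      rw [show φ (x0 ^ n) = φ.range.subtype ⟨φ (x0 ^ n), ⟨_, rfl⟩⟩ from rfl,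
        orderOf_injective φ.range.subtype φ.range.subtype_injective]
      exact orderOf_dvd_natCard _
    have h1 := Nat.eq_one_of_dvd_coprimes ((Nat.coprime_two_left.2 hoddφ).pow_left 2)
      (orderOf_dvd_of_pow_eq_one h4) ho
    exact orderOf_eq_one_iff.1 h1
  -- the module
  let L := φ.range
  letI : DistribMulAction L (Additive V) :=
    { smul := fun l v => Additive.ofMul ((l : MulAut V) (Additive.toMul v))
      one_smul := fun _ => rfl
      mul_smul := fun _ _ _ => rfl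
      smul_zero := fun l => congrArg Additive.ofMul (map_one (l : MulAut V))
      smul_add := fun l x y => congrArg Additive.ofMul (map_mul (l : MulAut V) _ _) }
  letI : CommGroup A :=
    { (inferInstance : Group A) with
      mul_comm := fun a b => Subtype.ext (hA a.1 a.2 b.1 (hAR b.2)).eq }
  let cm : R → R → A := fun s v => ⟨(s : G) * v * (s : G)⁻¹ * (v : G)⁻¹, hcomm _ s.2 _ v.2⟩
  have hcm_l : ∀ s s' : R, ∀ v : R, cm (s * s') v = cm s v * cm s' v := fun s s' v =>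
    Subtype.ext (hbl _ s.2 _ s'.2 _ v.2)
  have hcm_r : ∀ s v v' : R, cm s (v * v') = cm s v * cm s v' := fun s v v' =>
    Subtype.ext (hbr _ s.2 _ v.2 _ v'.2)
  have hcm_A : ∀ s v : R, (s ∈ A' ∨ v ∈ A') → cm s v = 1 := by
    intro s v h
    refine Subtype.ext ?_
    show (s : G) * v * (s : G)⁻¹ * (v : G)⁻¹ = 1
    rcases h with h | h
    · rw [(hA _ (mem_subgroupOf.1 h) _ v.2).eq]; group
    · rw [← (hA _ (mem_subgroupOf.1 h) _ s.2).eq]; group
  have hwd : ∀ s s' v v' : R, (s : V) = s' → (v : V) = v' → cm s v = cm s' v' := by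
    intro s s' v v' e e'
    rw [show s' = s * (s⁻¹ * s') from (mul_inv_cancel_left s s').symm, show v' = v * (v⁻¹ * v') from
      (mul_inv_cancel_left v v').symm, hcm_l, hcm_r s v, hcm_r (s⁻¹ * s') v,
      hcm_A s _ (Or.inr (QuotientGroup.eq.1 e')), hcm_A _ v (Or.inl (QuotientGroup.eq.1 e)),
      hcm_A _ _ (Or.inl (QuotientGroup.eq.1 e)), mul_one, mul_one, mul_one]
  let β : Additive V →+ Additive V →+ Additive A := AddMonoidHom.mk'
    (fun v => AddMonoidHom.mk' (fun w => Additive.ofMul (cm v.toMul.out w.toMul.out)) fun w w' =>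
      congrArg Additive.ofMul ((hwd _ _ _ (w.toMul.out * w'.toMul.out) rfl
        (by rw [QuotientGroup.mk_mul, QuotientGroup.out_eq', QuotientGroup.out_eq', QuotientGroup.out_eq']; rfl)).trans
        (hcm_r _ _ _)))
    fun v v' => AddMonoidHom.ext fun w =>
      congrArg Additive.ofMul ((hwd _ (v.toMul.out * v'.toMul.out) _ _
        (by rw [QuotientGroup.mk_mul, QuotientGroup.out_eq', QuotientGroup.out_eq', QuotientGroup.out_eq']; rfl)
        rfl).trans (hcm_l _ _ _))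
  have hβ : ∀ s v : R, β (Additive.ofMul (s : V)) (Additive.ofMul (v : V)) = Additive.ofMul (cm s v) := fun s v =>
    congrArg Additive.ofMul (hwd _ _ _ _ (QuotientGroup.out_eq' _) (QuotientGroup.out_eq' _))
  set uV : Additive V := Additive.ofMul (((⟨u, huR⟩ : R) : V)) with huV
  let xl : L := ⟨φ (x0 ^ k), ⟨_, rfl⟩⟩
  let Kc : Subgroup N := (centralizer (A : Set G)).subgroupOf N
  let K : Subgroup L := Kc.map φ.rangeRestrict
  have hKc : ∀ {n : N}, n ∈ Kc → ∀ a ∈ A, Commute (n : G) a := fun hn a ha =>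
    (mem_centralizer_iff.1 (mem_subgroupOf.1 hn) a ha).symm
  have hfixu : ∀ n : N, φ n ((⟨u, huR⟩ : R) : V) = ((⟨u, huR⟩ : R) : V) ↔ u * ((n : G) * u * (n : G)⁻¹) ∈ A := by
    intro n
    rw [hφ, eq_comm, QuotientGroup.eq, mem_subgroupOf]
    show u⁻¹ * ((n : G) * u * (n : G)⁻¹) ∈ A ↔ _
    rw [r.u_inv]
  have key := RootModule.fixed_of_odd (L := L) (V := Additive V) (W := Additive A)
    (fun v => congrArg Additive.ofMul (show (Additive.toMul v : V) * Additive.toMul v = 1 by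
      obtain ⟨s, hs⟩ := QuotientGroup.mk_surjective (Additive.toMul v)
      rw [← hs, ← QuotientGroup.mk_mul]
      exact (QuotientGroup.eq_one_iff _).2 (mem_subgroupOf.2 (hsq _ s.2))))
    (x := xl) hℓp hℓ
    (fun v => congrArg Additive.ofMul (by
      show ((xl : MulAut V) ^ ℓ) _ = _
      rw [show (xl : MulAut V) = φ (x0 ^ k) from rfl, ← map_pow, ← pow_mul, mul_comm k ℓ, ← hk,
        htriv m (by rw [map_pow, pow_orderOf_eq_one])]
      rfl))
    (u₀ := uV)
    (fun v hv => by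
      obtain ⟨s, hs⟩ := QuotientGroup.mk_surjective (Additive.toMul v)
      obtain rfl : v = Additive.ofMul (s : V) := congrArg Additive.ofMul hs.symm
      have hv' : φ (x0 ^ k) (s : V) = s := congrArg Additive.toMul hv
      rw [hφ] at hv'
      have he : (s : G)⁻¹ * (x' ^ k * s * (x' ^ k)⁻¹) ∈ A := mem_subgroupOf.1 (QuotientGroup.eq.1 hv'.symm)
      set α := (s : G)⁻¹ * (x' ^ k * s * (x' ^ k)⁻¹) with hα
      have hxs : x' ^ k * s * (x' ^ k)⁻¹ = s * α := by rw [hα]; group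
      have hc := r.cls_mem (Climb.mem_ker.1 (t.leK s.2)).2.1
      have hc1 : Root.cls u (s : G) = 1 := by
        by_contra hne
        refine hkm (hfixA k ⟨_, hc⟩ (fun e => hne (congrArg Subtype.val e)) (Subtype.ext ?_))
        rw [hxA]
        show x' ^ k * Root.cls u (s : G) * (x' ^ k)⁻¹ = Root.cls u (s : G)
        rw [← r.cls_conj (t.cent.pow_left k), hxs, r.cls_hom (t.leK s.2) (t.leK (hAR he)),
          (r.cls_eq_one).2 (r.u_commute (mem_sup_left (r.leA he))), mul_one]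
      have hsP := t.kerR _ s.2 hc1
      have hs2 : (s : G) * s = 1 := by
        by_contra hne
        refine hkm (hfixA k ⟨_, r.sq_P.1 _ hsP⟩ (fun e => hne (congrArg Subtype.val e)) (Subtype.ext ?_))
        rw [hxA]
        show x' ^ k * ((s : G) * s) * (x' ^ k)⁻¹ = s * s
        rw [show x' ^ k * ((s : G) * s) * (x' ^ k)⁻¹ = (x' ^ k * s * (x' ^ k)⁻¹) * (x' ^ k * s * (x' ^ k)⁻¹) by group,
          hxs, (r.commute_A he hsP).mul_mul_mul_comm, r.elem α he, mul_one]
      rcases r.mem_P.1 hsP with h | h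
      · exact Or.inl (congrArg Additive.ofMul ((QuotientGroup.eq_one_iff _).2 (mem_subgroupOf.2 (r.invA _ h hs2))))
      · refine Or.inr (congrArg Additive.ofMul (QuotientGroup.eq.2 (mem_subgroupOf.2 ?_)))
        show (s : G)⁻¹ * u ∈ A
        rw [inv_eq_of_mul_eq_one_right hs2]
        exact r.invA _ h (by rw [(r.u_commute hsP).symm.mul_mul_mul_comm, hs2, r.u_sq, one_mul]))
    (congrArg Additive.ofMul (by
      show φ (x0 ^ k) ((⟨u, huR⟩ : R) : V) = ((⟨u, huR⟩ : R) : V)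
      clear_value x0
      induction k with
      | zero => rw [pow_zero, map_one]; rfl
      | succ i ih =>
        clear ih
        rw [hφ]; congr 1
        refine Subtype.ext ?_
        show ((x0 ^ (i + 1) : N) : G) * u * ((x0 ^ (i + 1) : N) : G)⁻¹ = u
        rw [SubmonoidClass.coe_pow, hx0, (t.cent.pow_left (i + 1)).eq, mul_inv_cancel_right]))
    β K (hoddφ.of_dvd_nat (card_subgroup_dvd_card K))
    (by
      haveI : Kc.Normal := ⟨fun n hn g => mem_subgroupOf.2 (mem_centralizer_iff.2 fun a ha => by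
        have ha' : (g : G)⁻¹ * a * (g : G)⁻¹⁻¹ ∈ A := (mem_normalizer_iff.1 (hNA (inv_mem g.2)) a).1 ha
        have h1 := (mem_centralizer_iff.1 (mem_subgroupOf.1 hn) _ ha')
        calc a * ((g * n * g⁻¹ : N) : G) = (g : G) * (((g : G)⁻¹ * a * (g : G)⁻¹⁻¹) * n) * (g : G)⁻¹ := by
              push_cast; group
          _ = (g : G) * (n * ((g : G)⁻¹ * a * (g : G)⁻¹⁻¹)) * (g : G)⁻¹ := by rw [h1]
          _ = _ := by push_cast; group)⟩
      haveI : K.Normal := Subgroup.Normal.map inferInstance _ φ.rangeRestrict_surjective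
      rw [normalizer_eq_top]
      exact mem_top _)
    (fun l hl v w => by
      obtain ⟨n, hn, rfl⟩ := hl
      obtain ⟨s, hs⟩ := QuotientGroup.mk_surjective (Additive.toMul v)
      obtain ⟨s', hs'⟩ := QuotientGroup.mk_surjective (Additive.toMul w)
      obtain rfl : v = Additive.ofMul (s : V) := congrArg Additive.ofMul hs.symm
      obtain rfl : w = Additive.ofMul (s' : V) := congrArg Additive.ofMul hs'.symm
      show β (Additive.ofMul (φ n (s : V))) (Additive.ofMul (φ n (s' : V))) = _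
      rw [hφ, hφ, hβ, hβ]
      refine congrArg Additive.ofMul (Subtype.ext ?_)
      show (n : G) * s * (n : G)⁻¹ * ((n : G) * s' * (n : G)⁻¹) * ((n : G) * s * (n : G)⁻¹)⁻¹ *
        ((n : G) * s' * (n : G)⁻¹)⁻¹ = (s : G) * s' * (s : G)⁻¹ * (s' : G)⁻¹
      calc _ = (n : G) * ((s : G) * s' * (s : G)⁻¹ * (s' : G)⁻¹) * (n : G)⁻¹ := by group
        _ = _ := by rw [(hKc hn _ (hcomm _ s.2 _ s'.2)).eq, mul_inv_cancel_right])
    (fun l hl hperp => by
      obtain ⟨n, hn, rfl⟩ := hl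
      refine congrArg Additive.ofMul ?_
      show φ n ((⟨u, huR⟩ : R) : V) = ((⟨u, huR⟩ : R) : V)
      have h0 : β uV (Additive.ofMul (φ n ((⟨u, huR⟩ : R) : V))) = 0 := hperp
      rw [hφ, huV, hβ] at h0
      set w := (n : G) * u * (n : G)⁻¹ with hw
      have hwR : w ∈ R := (mem_normalizer_iff.1 n.2 u).1 huR
      have hc : Commute w u := by
        have h1 : u * w * u⁻¹ * w⁻¹ = 1 := congrArg Subtype.val (Additive.ofMul.injective (h0.trans ofMul_one.symm))
        exact (mul_inv_eq_iff_eq_mul.1 (mul_inv_eq_one.1 h1)).symm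
      exact (hfixu n).2 (r.conj_mem (t.kerR w hwR (r.cls_eq_one.2 hc)) (isConj_iff.2 ⟨_, rfl⟩)))
  -- the kernel on `A` fixes the class
  have hK : ∀ n : N, ψ n = 1 → φ n ((⟨u, huR⟩ : R) : V) = ((⟨u, huR⟩ : R) : V) := by
    intro n hn
    have hnK : n ∈ Kc := mem_subgroupOf.2 (mem_centralizer_iff.2 fun a ha => by
      have h1 := hψ n ⟨a, ha⟩
      rw [hn] at h1
      exact (mul_inv_eq_iff_eq_mul.1 h1.symm).symm)
    exact congrArg Additive.toMul (key _ ⟨n, hnK, rfl⟩)
  -- counting the orbit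
  by_contra hgu
  set w := g * u * g⁻¹ with hw
  have hwR : w ∈ R := (mem_normalizer_iff.1 hg u).1 huR
  have hcw : Root.cls u w ≠ 1 := fun e => hgu (r.conj_mem (t.kerR w hwR e) (isConj_iff.2 ⟨g, rfl⟩))
  set c₀ : A := ⟨Root.cls u w, r.cls_mem (Climb.mem_ker.1 (t.leK hwR)).2.1⟩
  have hc₀ : c₀ ≠ 1 := fun e => hcw (congrArg Subtype.val e)
  let Orb := {v : V // ∃ n : N, φ n ((⟨u, huR⟩ : R) : V) = v}
  let Δ := ψ.range
  let cΔ : Δ := ⟨ψ x0, ⟨x0, rfl⟩⟩
  -- the orbit is that of the stabiliser of a point of `A`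
  have hup : Nat.card Orb ≤ Nat.card {h : Δ // (h : MulAut A) a₀ = a₀} := by
    have hex : ∀ o : Orb, ∃ n : N, φ n ((⟨u, huR⟩ : R) : V) = o.1 ∧ ψ n a₀ = a₀ := by
      rintro ⟨v, n, rfl⟩
      have hne : (ψ n)⁻¹ a₀ ≠ 1 := fun e => ha₀ ((ψ n)⁻¹.injective (e.trans (map_one _).symm))
      obtain ⟨i, hi⟩ := htrans a₀ _ ha₀ hne
      refine ⟨n * x0 ^ i, ?_, ?_⟩
      · rw [map_mul, MulAut.mul_apply]
        congr 1
        clear hi
        induction i with
        | zero => rw [pow_zero, map_one]; rfl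
        | succ i ih => rw [pow_succ, map_mul, MulAut.mul_apply, hxu, ih]
      · rw [map_mul, MulAut.mul_apply, hi]
        exact MulAut.apply_inv_self _ _ _
    choose f hf1 hf2 using hex
    refine Nat.card_le_card_of_injective (fun o => (⟨⟨ψ (f o), ⟨_, rfl⟩⟩, hf2 o⟩ : {h : Δ // (h : MulAut A) a₀ = a₀}))
      fun o o' e => Subtype.ext ?_
    have e' : ψ (f o) = ψ (f o') := congrArg (fun h : {h : Δ // (h : MulAut A) a₀ = a₀} => (h.1 : MulAut A)) e
    have h1 := hK ((f o)⁻¹ * f o') (by rw [map_mul, map_inv, e', inv_mul_cancel])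
    rw [← hf1 o, ← hf1 o']
    have h2 := congrArg (φ (f o)) h1
    rw [map_mul, MulAut.mul_apply, map_inv, MulAut.apply_inv_self] at h2
    exact h2.symm
  have hlow : Nat.card A ≤ Nat.card Orb := by
    have hex : ∀ a : A, ∃ n : N, (a = 1 ∧ n = 1) ∨
        (a ≠ 1 ∧ ∃ i : ℕ, n = x0 ^ i * ⟨g, hg⟩ ∧ ψ (x0 ^ i) c₀ = a) := by
      intro a
      by_cases ha : a = 1
      · exact ⟨1, Or.inl ⟨ha, rfl⟩⟩
      · obtain ⟨i, hi⟩ := htrans c₀ a hc₀ ha
        exact ⟨_, Or.inr ⟨ha, i, rfl, hi⟩⟩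
    choose f hf using hex
    have hcls : ∀ a : A, ∃ hmem : (f a : G) * u * (f a : G)⁻¹ ∈ R, Root.cls u ((f a : G) * u * (f a : G)⁻¹) = a.1 := by
      intro a
      refine ⟨(mem_normalizer_iff.1 (f a).2 u).1 huR, ?_⟩
      rcases hf a with ⟨rfl, e⟩ | ⟨-, i, e, hi⟩
      · rw [e]
        show Root.cls u ((1 : G) * u * (1 : G)⁻¹) = 1
        rw [one_mul, inv_one, mul_one, r.cls_eq_one]
      · rw [e, ← hi, hxA]
        show Root.cls u ((x0 ^ i : N) * g * u * ((x0 ^ i : N) * g : G)⁻¹) = _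
        rw [SubmonoidClass.coe_pow, show x' ^ i * g * u * (x' ^ i * g)⁻¹ = x' ^ i * w * (x' ^ i)⁻¹ by rw [hw]; group,
          r.cls_conj (t.cent.pow_left i)]
    refine Nat.card_le_card_of_injective (fun a => (⟨φ (f a) ((⟨u, huR⟩ : R) : V), f a, rfl⟩ : Orb)) fun a b e => ?_
    have e' := congrArg Subtype.val e
    simp only [hφ] at e'
    have he : ((f a : G) * u * (f a : G)⁻¹)⁻¹ * ((f b : G) * u * (f b : G)⁻¹) ∈ A :=
      mem_subgroupOf.1 (QuotientGroup.eq.1 e')
    obtain ⟨ha', hca⟩ := hcls a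
    obtain ⟨hb', hcb⟩ := hcls b
    refine Subtype.ext (hca.symm.trans (Eq.trans ?_ hcb))
    set wa := (f a : G) * u * (f a : G)⁻¹
    set wb := (f b : G) * u * (f b : G)⁻¹
    conv_rhs => rw [← mul_inv_cancel_left wa wb]
    rw [r.cls_hom (t.leK ha') (t.leK (hAR he)), (r.cls_eq_one).2 (r.u_commute (mem_sup_left (r.leA he))), mul_one]
  have hlt := card_stab_lt (E := A) (fun a => Subtype.ext (r.elem _ a.2)) Δ hoddψ cΔ a₀ ha₀ fun e he => by
    obtain ⟨n, hn⟩ := htrans a₀ e ha₀ he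
    exact ⟨n, by rw [map_pow] at hn; exact hn⟩
  omega

/-- all conjugates of `u` among the translations lie in `uA` -/
theorem conj_in_R (r : Suz M D u A Q X q) (t : Root.Trans M u A Q X R x') (S : Sylow 2 G)
    (hRS : (S : Subgroup G) = R) {g : G} (hg : g * u * g⁻¹ ∈ R) : u * (g * u * g⁻¹) ∈ A := by
  classical
  haveI : Fact (Nat.Prime 2) := ⟨Nat.prime_two⟩
  set w := g * u * g⁻¹ with hw
  obtain ⟨hcomm, hbl, -⟩ := exists_pairing r t
  have hA : ∀ a ∈ A, ∀ s ∈ R, Commute a s := fun a ha s hs => ((Climb.mem_ker.1 (t.leK hs)).2.2 a ha).symm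
  have hAR : A ≤ R := fun a ha => t.le (mem_sup_left (r.leA ha))
  have huR : u ∈ R := t.le u_mem_P
  -- `w` is extremal
  set B := R ⊓ centralizer ({w} : Set G) with hB
  have hB2 : IsPGroup 2 B := t.two.to_le inf_le_left
  have hBcard : 2 * q ^ 2 ≤ Nat.card B := by
    let χ : R →* A :=
      { toFun := fun s => ⟨(s : G) * w * (s : G)⁻¹ * w⁻¹, hcomm _ s.2 _ hg⟩
        map_one' := Subtype.ext (show (1 : G) * w * (1 : G)⁻¹ * w⁻¹ = 1 by group)
        map_mul' := fun s s' => Subtype.ext (hbl _ s.2 _ s'.2 _ hg) }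
    have hk : χ.ker = B.subgroupOf R := by
      ext s
      rw [MonoidHom.mem_ker, mem_subgroupOf, hB, mem_inf, mem_centralizer_singleton_iff]
      exact ⟨fun h => ⟨s.2, mul_inv_eq_iff_eq_mul.1 (mul_inv_eq_one.1 (congrArg Subtype.val h))⟩,
        fun h => Subtype.ext (show (s : G) * w * (s : G)⁻¹ * w⁻¹ = 1 by rw [h.2]; group)⟩
    have h1 := χ.ker.card_mul_index
    rw [index_ker, hk, Nat.card_congr (subgroupOfEquivOfLe (inf_le_left : B ≤ R)).toEquiv, card_trans r t] at h1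
    have h2 := Subgroup.card_le_card_group χ.range
    rw [r.card] at h2
    have h3 := Nat.mul_le_mul_left (Nat.card B) h2
    rw [h1, mul_comm (Nat.card B) q] at h3
    exact Nat.le_of_mul_le_mul_left h3 (by have := r.four; omega)
  set C := centralizer ({u} : Set G) with hC
  obtain ⟨Sy, hSy⟩ : ∃ Sy : Sylow 2 C, (Sy : Subgroup C).map C.subtype = Q ⊔ zpowers u := r.sylow_cent
  have hBc : B.map (MulAut.conj g⁻¹).toMonoidHom ≤ C := by
    rintro _ ⟨b, hb, rfl⟩
    have h1 : Commute b w := mem_centralizer_singleton_iff.1 (mem_inf.1 hb).2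
    have h2 := h1.map (MulAut.conj g⁻¹).toMonoidHom
    rw [show (MulAut.conj g⁻¹).toMonoidHom w = u by
      show g⁻¹ * (g * u * g⁻¹) * g⁻¹⁻¹ = u
      group] at h2
    exact mem_centralizer_singleton_iff.2 h2.eq
  obtain ⟨T0, hT0⟩ := ((hB2.map (MulAut.conj g⁻¹).toMonoidHom).of_equiv
    (subgroupOfEquivOfLe hBc).symm).exists_le_sylow
  obtain ⟨c, hc⟩ := MulAction.exists_smul_eq C T0 Sy
  set h := g * (c : G)⁻¹ with hh
  have hcu : Commute (c : G) u := mem_centralizer_singleton_iff.1 c.2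
  have hhu : h * u * h⁻¹ = w := by
    rw [hh, show g * (c : G)⁻¹ * u * (g * (c : G)⁻¹)⁻¹ = g * ((c : G)⁻¹ * u * c) * g⁻¹ by group,
      mul_assoc (c : G)⁻¹, ← hcu.eq, inv_mul_cancel_left]
  have hBP : B = (Q ⊔ zpowers u).map (MulAut.conj h).toMonoidHom := by
    refine Subgroup.eq_of_le_of_card_ge (fun b hb => ?_) ?_
    · have h1 : (⟨g⁻¹ * b * g⁻¹⁻¹, hBc ⟨b, hb, rfl⟩⟩ : C) ∈ (T0 : Subgroup C) :=
        hT0 (mem_subgroupOf.2 ⟨b, hb, rfl⟩)
      have h2 : c * (⟨g⁻¹ * b * g⁻¹⁻¹, hBc ⟨b, hb, rfl⟩⟩ : C) * c⁻¹ ∈ (Sy : Subgroup C) := by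
        rw [← hc, Sylow.coe_subgroup_smul]
        exact ⟨_, h1, rfl⟩
      refine ⟨(c : G) * (g⁻¹ * b * g⁻¹⁻¹) * (c : G)⁻¹, hSy.le ⟨c * (⟨g⁻¹ * b * g⁻¹⁻¹, hBc ⟨b, hb, rfl⟩⟩ : C) * c⁻¹, h2, rfl⟩, ?_⟩
      show h * ((c : G) * (g⁻¹ * b * g⁻¹⁻¹) * (c : G)⁻¹) * h⁻¹ = b
      rw [hh]; group
    · rw [card_map_of_injective (MulEquiv.injective _), r.card_P]
      exact hBcard
  have hhA : h⁻¹ ∈ normalizer (A : Set G) := by
    refine r.norm_of_maps fun a ha => ?_
    have haB : a ∈ B := mem_inf.2 ⟨hAR ha, mem_centralizer_singleton_iff.2 (hA a ha w hg).eq⟩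
    obtain ⟨p, hp, hpa⟩ := hBP ▸ haB
    have hpe : h⁻¹ * a * h⁻¹⁻¹ = p := by rw [← hpa]; show h⁻¹ * (h * p * h⁻¹) * h⁻¹⁻¹ = p; group
    rw [hpe]
    by_cases ha1 : a = 1
    · rw [← hpe, ha1, mul_one, mul_inv_cancel]; exact one_mem A
    have hDp : D p := hpe ▸ r.conjD h⁻¹ a (r.memA a ha ha1)
    refine (r.centre_P hp fun v hv => ?_).resolve_right fun hpu => r.cosetA _ hpu ?_
    · have hvB : h * v * h⁻¹ ∈ B := hBP ▸ ⟨v, mem_sup_left hv, rfl⟩
      have h1 := (hA a ha _ (mem_inf.1 hvB).1).map (MulAut.conj h⁻¹).toMonoidHom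
      rwa [show (MulAut.conj h⁻¹).toMonoidHom (h * v * h⁻¹) = v by
        show h⁻¹ * (h * v * h⁻¹) * h⁻¹⁻¹ = v
        group, show (MulAut.conj h⁻¹).toMonoidHom a = p from hpe] at h1
    · rwa [show u * (p * u) = p by rw [← mul_assoc, ← (r.u_commute hp).eq, mul_assoc, r.u_sq, mul_one]]
  have hhA' : h ∈ normalizer (A : Set G) := by simpa using inv_mem hhA
  -- both conjugates are Sylow subgroups centralising `A`
  set CA := centralizer (A : Set G) with hCA
  have hRC : R ≤ CA := fun s hs => mem_centralizer_iff.2 fun a ha => (hA a ha s hs).eq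
  have hcardR : Nat.card R = 2 ^ (Nat.card G).factorization 2 := by rw [← hRS, S.card_eq_multiplicity]
  have sylow_conj : ∀ W : Subgroup G, W ≤ CA → R ≤ W → ∀ y : G, R.map (MulAut.conj y).toMonoidHom ≤ W →
      ∃ e ∈ W, e * y ∈ normalizer (R : Set G) := by
    intro W _ hRW y hyW
    obtain ⟨S1, hS1⟩ := (t.two.of_equiv (subgroupOfEquivOfLe hRW).symm).exists_le_sylow
    obtain ⟨S2, hS2⟩ := ((t.two.map (MulAut.conj y).toMonoidHom).of_equiv
      (subgroupOfEquivOfLe hyW).symm).exists_le_sylow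
    have hcard : ∀ T1 : Sylow 2 W, Nat.card ((T1 : Subgroup W).map W.subtype) ≤ Nat.card R := by
      intro T1
      obtain ⟨T2, hT2⟩ := (T1.2.map W.subtype).exists_le_sylow
      refine (Subgroup.card_le_of_le hT2).trans ?_
      rw [hcardR, T2.card_eq_multiplicity]
    have e1 : R = (S1 : Subgroup W).map W.subtype :=
      Subgroup.eq_of_le_of_card_ge (fun s hs => ⟨⟨s, hRW hs⟩, hS1 (mem_subgroupOf.2 hs), rfl⟩) (hcard S1)
    obtain ⟨e, he⟩ := MulAction.exists_smul_eq W S2 S1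
    refine ⟨e, e.2, mem_normalizer_iff_map_conj_eq.2 (Subgroup.eq_of_le_of_card_ge ?_
      (le_of_eq (card_map_of_injective (MulEquiv.injective _)).symm))⟩
    rintro _ ⟨s, hs, rfl⟩
    have h1 : (⟨y * s * y⁻¹, hyW ⟨s, hs, rfl⟩⟩ : W) ∈ (S2 : Subgroup W) :=
      hS2 (mem_subgroupOf.2 ⟨s, hs, rfl⟩)
    rw [e1]
    refine ⟨e * ⟨y * s * y⁻¹, hyW ⟨s, hs, rfl⟩⟩ * e⁻¹, ?_, ?_⟩
    · rw [← he, Sylow.coe_subgroup_smul]; exact ⟨_, h1, rfl⟩
    · show (e : G) * (y * s * y⁻¹) * (e : G)⁻¹ = (e : G) * y * s * ((e : G) * y)⁻¹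
      group
  obtain ⟨c', hc', hn⟩ := sylow_conj CA le_rfl hRC h (by
    rintro _ ⟨s, hs, rfl⟩
    refine mem_centralizer_iff.2 fun a ha => ?_
    have ha' : h⁻¹ * a * h⁻¹⁻¹ ∈ A := (mem_normalizer_iff.1 hhA a).1 ha
    have h1 := (hA _ ha' s hs).map (MulAut.conj h).toMonoidHom
    rw [show (MulAut.conj h).toMonoidHom (h⁻¹ * a * h⁻¹⁻¹) = a by
      show h * (h⁻¹ * a * h⁻¹⁻¹) * h⁻¹ = a
      group] at h1
    exact h1.eq)
  set α := u * (c' * h * u * (c' * h)⁻¹) with hα
  have hαA : α ∈ A := norm_R_fix r t S hRS hn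
  set y := c'⁻¹ with hy
  have hyA : ∀ a ∈ A, Commute y a := fun a ha => (show Commute a c' from mem_centralizer_iff.1 hc' a ha).symm.inv_left
  set w' := y * u * y⁻¹ with hw'
  have hw'e : w' * α = w := by
    calc w' * α = y * u * (y⁻¹ * α) := by rw [hw']; group
      _ = y * (u * u) * (c' * h * u * (c' * h)⁻¹) * y⁻¹ := by rw [(hyA α hαA).inv_left.eq, hα]; group
      _ = w := by rw [r.u_sq, hy, ← hhu]; group
  have hw'R : w' ∈ R := by
    rw [show w' = w * α⁻¹ by rw [← hw'e, mul_inv_cancel_right]]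
    exact mul_mem hg (inv_mem (hAR hαA))
  let W : Subgroup G :=
    { carrier := {k | k ∈ CA ∧ k * w' * k⁻¹ * w'⁻¹ ∈ A}
      one_mem' := ⟨one_mem _, by rw [show (1 : G) * w' * (1 : G)⁻¹ * w'⁻¹ = 1 by group]; exact one_mem A⟩
      mul_mem' := fun {k l} hk hl => ⟨mul_mem hk.1 hl.1, by
        have h1 : k * (l * w' * l⁻¹ * w'⁻¹) * k⁻¹ = l * w' * l⁻¹ * w'⁻¹ := by
          rw [← (mem_centralizer_iff.1 hk.1 _ hl.2), mul_inv_cancel_right]
        rw [show k * l * w' * (k * l)⁻¹ * w'⁻¹ =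
          k * (l * w' * l⁻¹ * w'⁻¹) * k⁻¹ * (k * w' * k⁻¹ * w'⁻¹) by group, h1]
        exact mul_mem hl.2 hk.2⟩
      inv_mem' := fun {k} hk => ⟨inv_mem hk.1, by
        have h1 := mem_centralizer_iff.1 (inv_mem hk.1) _ (inv_mem hk.2)
        rw [show k⁻¹ * w' * k⁻¹⁻¹ * w'⁻¹ = k⁻¹ * (k * w' * k⁻¹ * w'⁻¹)⁻¹ * k⁻¹⁻¹ by group, ← h1,
          mul_inv_cancel_right]
        exact inv_mem hk.2⟩ }
  obtain ⟨e, he, hey⟩ := sylow_conj W (fun k hk => hk.1) (fun s hs => ⟨hRC hs, hcomm _ hs _ hw'R⟩) y (by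
    rintro _ ⟨s, hs, rfl⟩
    refine ⟨mul_mem (mul_mem ?_ (hRC hs)) (inv_mem ?_), ?_⟩
    · exact mem_centralizer_iff.2 fun a ha => (hyA a ha).symm.eq
    · exact mem_centralizer_iff.2 fun a ha => (hyA a ha).symm.eq
    · show y * s * y⁻¹ * w' * (y * s * y⁻¹)⁻¹ * w'⁻¹ ∈ A
      have h1 := hcomm _ hs _ huR
      rw [show y * s * y⁻¹ * w' * (y * s * y⁻¹)⁻¹ * w'⁻¹ = y * (s * u * s⁻¹ * u⁻¹) * y⁻¹ by rw [hw']; group,
        (hyA _ h1).eq, mul_inv_cancel_right]
      exact h1)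
  have h5 := norm_R_fix r t S hRS hey
  have h6 : u * w' ∈ A := by
    have h7 := mul_mem h5 (inv_mem he.2)
    rw [show e * y * u * (e * y)⁻¹ = e * w' * e⁻¹ by rw [hw']; group] at h5 h7
    set z := e * w' * e⁻¹ * w'⁻¹ with hz
    rw [show u * (e * w' * e⁻¹) * z⁻¹ = u * (z * w' * z⁻¹) by rw [hz]; group, (hA z he.2 w' hw'R).eq,
      mul_inv_cancel_right] at h7
    exact h7
  rw [← hw'e, ← mul_assoc]
  exact mul_mem h6 hαA

/-- **The Sz end**: a simple group has no line of type Sz with kernel `⟨u⟩` and `|S| ≤ 2 q |Q|` -/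
theorem suzuki_end [IsSimpleGroup G] (hna : ¬ IsMulCommutative G) (r : Suz M D u A Q X q)
    (S : Sylow 2 G) (hSM : (S : Subgroup G) ≤ M) (hPS : Q ⊔ zpowers u ≤ S)
    (hS : Nat.card (S : Subgroup G) ≤ q * (2 * q ^ 2)) : False := by
  classical
  haveI : Fact (Nat.Prime 2) := ⟨Nat.prime_two⟩
  by_cases hne : Q ⊔ zpowers u = S
  · refine false_of_index_two hna S Q (le_sup_left.trans hPS) ?_ r.two fun g hg => ?_
    · rw [← hne, relIndex, index_eq_two_iff]
      refine ⟨⟨u, u_mem_P⟩, fun b => ?_⟩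
      simp only [mem_subgroupOf, Subgroup.coe_mul]
      rcases r.mem_P.1 b.2 with h | h
      · exact Or.inr ⟨h, fun e1 => r.notQ (by simpa using mul_mem (inv_mem h) e1)⟩
      · exact Or.inl ⟨h, fun e1 => r.notQ (by simpa using mul_mem (inv_mem e1) h)⟩
    · have h1 := mul_mem (r.leA (r.conj_mem (mem_sup_left hg) (isConj_iff.2 ⟨g, rfl⟩))) (inv_mem hg)
      rw [mul_inv_cancel_right] at h1
      exact r.notQ h1
  obtain ⟨R, x', t⟩ := r.exists_trans S hSM hPS hne
  obtain ⟨S1, hS1⟩ := t.two.exists_le_sylow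
  have hc : Nat.card (S1 : Subgroup G) = Nat.card (S : Subgroup G) := by
    rw [S1.card_eq_multiplicity, S.card_eq_multiplicity]
  have hR : R = (S1 : Subgroup G) :=
    Subgroup.eq_of_le_of_card_ge hS1 (hc.le.trans (hS.trans (card_trans r t).ge))
  have huA : u ∉ A := fun h => r.notQ (r.leA h)
  have hAR : A ≤ R := fun a ha => t.le (mem_sup_left (r.leA ha))
  have hsq := trans_elementary r t
  obtain ⟨hcomm, -, -⟩ := exists_pairing r t
  obtain ⟨T, ⟨hAT, hTR, huT⟩, hTmax⟩ := Set.exists_max_image {T : Subgroup G | A ≤ T ∧ T ≤ R ∧ u ∉ T}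
    (fun T => Nat.card T) (Set.toFinite _) ⟨A, le_rfl, hAR, huA⟩
  have hsplit : ∀ s ∈ R, s ∈ T ∨ s * u ∈ T := by
    intro s hs
    by_contra hno
    push Not at hno
    have hnT : zpowers s ≤ normalizer (T : Set G) := zpowers_le.2 (mem_normalizer_iff.2 fun v => by
      constructor
      · intro hv
        have h1 := mul_mem (hAT (hcomm _ hs _ (hTR hv))) hv
        rwa [inv_mul_cancel_right] at h1
      · intro hv
        have h1 := mul_mem (hAT (hcomm _ (inv_mem hs) _ (hTR hv))) hv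
        rwa [inv_mul_cancel_right, show s⁻¹ * (s * v * s⁻¹) * s⁻¹⁻¹ = v by group] at h1)
    have h1 : u ∈ T ⊔ zpowers s := by
      by_contra hu'
      have hle := hTmax (T ⊔ zpowers s) ⟨hAT.trans le_sup_left, sup_le hTR (zpowers_le.2 hs), hu'⟩
      exact hno.1 ((Subgroup.eq_of_le_of_card_ge (le_sup_left : T ≤ T ⊔ zpowers s) hle).symm ▸
        mem_sup_right (mem_zpowers s))
    rw [← SetLike.mem_coe, coe_mul_of_right_le_normalizer_left T _ hnT] at h1
    obtain ⟨v, hv, z, hz, he⟩ := Set.mem_mul.1 h1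
    obtain ⟨i, rfl⟩ := mem_zpowers_iff.1 hz
    rcases Int.even_or_odd i with ⟨j, rfl⟩ | ⟨j, rfl⟩
    · refine huT (he ▸ mul_mem hv (hAT ?_))
      rw [zpow_add, ← (Commute.refl s).mul_zpow]
      exact zpow_mem (hsq s hs) j
    · rw [zpow_add, zpow_one, two_mul, zpow_add, ← (Commute.refl s).mul_zpow] at he
      have hz2 : (s * s) ^ j ∈ A := zpow_mem (hsq s hs) j
      refine hno.2 ?_
      rw [← he, show s * (v * ((s * s) ^ j * s)) = s * (v * (s * s) ^ j) * s⁻¹ * (s * s) by group]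
      exact mul_mem ((mem_normalizer_iff.1 (hnT (mem_zpowers s)) _).1 (mul_mem hv (hAT hz2))) (hAT (hsq s hs))
  have huR : u ∈ R := t.le u_mem_P
  refine false_of_index_two hna S1 T (hR ▸ hTR) ?_ r.two fun g hg => huT ?_
  · rw [← hR, relIndex, index_eq_two_iff]
    refine ⟨⟨u, huR⟩, fun b => ?_⟩
    simp only [mem_subgroupOf, Subgroup.coe_mul]
    rcases hsplit b.1 b.2 with h | h
    · exact Or.inr ⟨h, fun e1 => huT (by simpa using mul_mem (inv_mem h) e1)⟩
    · exact Or.inl ⟨h, fun e1 => huT (by simpa using mul_mem (inv_mem e1) h)⟩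
  · have h1 := mul_mem (hAT (conj_in_R r t S1 hR.symm (hTR hg))) (inv_mem hg)
    rwa [mul_inv_cancel_right] at h1

end Cfsg.Lib.BenderSE.Crit2.Suz
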