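/-
What identification gives on a line of type Sz: the root group is not abelian and `q` is an odd power of two.
-/
import Cfsg.Agent.BenderSE.Criterion2.Lines
import Cfsg.Agent.BenderSE.Criterion2.LineSylow
import Cfsg.Agent.BenderSE.Final

set_option autoImplicit false
set_option linter.unusedSectionVars false
set_option linter.style.haveILetI false

namespace Cfsg.Lib.BenderSE.Crit2

open Subgroup MulAction Cfsg.Lib.InvolCalc Cfsg.Lib.BenderSE.CritDep

universe u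

/-- an element of 2-power order of `PSL(2, 2^n)` squares to one -/
theorem psl_two_sq {F : Type} [Field F] [Fintype F] {n : ℕ} (hF : Fintype.card F = 2 ^ n)
    (x : Matrix.ProjectiveSpecialLinearGroup (Fin 2) F) {i : ℕ} (hx : x ^ 2 ^ i = 1) : x * x = 1 := by
  haveI : Fact (Nat.Prime 2) := ⟨Nat.prime_two⟩
  haveI : CharP F 2 := charP_of_card_eq_prime_pow hF
  obtain ⟨g, rfl⟩ := QuotientGroup.mk_surjective x
  rw [← QuotientGroup.mk_pow, QuotientGroup.eq_one_iff, Matrix.SpecialLinearGroup.mem_center_iff] at hx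
  obtain ⟨r, hr, hM⟩ := hx
  rw [Fintype.card_fin] at hr
  have hr1 : r = 1 := by
    have h1 : (r - 1) * (r - 1) = 0 := by
      rw [show (r - 1) * (r - 1) = r ^ 2 - 1 - 2 * (r - 1) by ring, hr, sub_self, CharTwo.two_eq_zero, zero_mul,
        sub_zero]
    exact sub_eq_zero.1 (mul_self_eq_zero.1 h1)
  rw [hr1, map_one] at hM
  haveI : CharP (Matrix (Fin 2) (Fin 2) F) 2 := Matrix.charP 2
  set N : Matrix (Fin 2) (Fin 2) F := (g : Matrix (Fin 2) (Fin 2) F) - 1 with hN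
  have hnil : IsNilpotent N := by
    refine ⟨2 ^ i, ?_⟩
    rw [hN, sub_pow_char_pow_of_commute _ _ (Commute.one_right _), one_pow, ← Matrix.SpecialLinearGroup.coe_pow, ← hM,
      sub_self]
  have h2 : N ^ 2 = 0 := by
    have hchar := Matrix.isNilpotent_charpoly_sub_pow_of_isNilpotent hnil
    obtain ⟨d, hd⟩ := hnil
    by_cases h0 : N = 0
    · rw [h0, zero_pow two_ne_zero]
    have h := Matrix.aeval_self_charpoly N
    rw [Fintype.card_fin] at hchar
    rw [sub_eq_zero.1 (IsNilpotent.eq_zero hchar), map_pow, Polynomial.aeval_X] at h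
    exact h
  refine (QuotientGroup.mk_mul _ g g).symm.trans ?_
  rw [show g * g = 1 from Subtype.ext ?_, QuotientGroup.mk_one]
  have hg : (g : Matrix (Fin 2) (Fin 2) F) = N + 1 := (sub_add_cancel _ _).symm
  show (g : Matrix (Fin 2) (Fin 2) F) * g = 1
  rw [← pow_two, hg, add_pow_char_of_commute (p := 2) (Commute.one_right N), one_pow, h2, zero_add]

open Cfsg.Lib.BenderSE in
/-- the group of a line of type Sz -/
theorem sz_model {L : Type u} [Group L] [Finite L] [IsSimpleGroup L] {H : Subgroup L} (hS : Setting H)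
    {P : Subgroup L} (hP : IsPGroup 2 P) (hPH : P ≤ H) {m : ℕ} (hm : 4 ≤ m) (hcP : Nat.card P = m ^ 2)
    (hidx : H.index = m ^ 2 + 1) (hinv : Nat.card {x : P // (x : L) * x = 1} = m) :
    (∃ x ∈ P, ∃ y ∈ P, ¬ Commute x y) ∧ ∃ k, Odd k ∧ m = 2 ^ k := by
  classical
  haveI : Fact (Nat.Prime 2) := ⟨Nat.prime_two⟩
  have hH := hS.se
  obtain ⟨Q, hQH, hQn, htrans, hreg⟩ := regProp L inferInstance H hH hS.rank2
  obtain ⟨t, ht, ht2⟩ := Cfsg.Lib.BenderSuzuki.exists_invol_out H hH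
  have hR := Cfsg.Lib.BenderSuzuki.embedded_setup H hH Q hQH hQn htrans hreg ht ht2
  haveI : FaithfulSMul L (L ⧸ H) := by
    constructor
    intro x y h
    have hk : y⁻¹ * x ∈ H.normalCore := by
      rw [Subgroup.normalCore_eq_ker, MonoidHom.mem_ker]
      refine Equiv.ext fun p => ?_
      show (y⁻¹ * x) • p = p
      rw [mul_smul, h p, inv_smul_smul]
    rw [hS.core, mem_bot, inv_mul_eq_one] at hk
    exact hk.symm
  obtain ⟨p, p', hp, hp', hne, hc⟩ := hS.rank2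
  have hs : Cfsg.Lib.BenderSuzuki.Simple L (L ⧸ H) ((1 : L) : L ⧸ H) t Q :=
    ⟨hR, inferInstance, ⟨p, p', ne_one_of_order_two hp, ne_one_of_order_two hp', hne, sq_of_order_two hp,
      sq_of_order_two hp', hc⟩, inferInstance⟩
  have hgood := Cfsg.Lib.BenderSuzuki.ih_of_unitary Cfsg.Lib.BenderSuzuki.unitaryStep (Nat.card L + 1)
    L (L ⧸ H) _ t Q (Nat.lt_succ_self _) hs
  obtain ⟨hid, hQ2, hQodd, -, hQinv, -⟩ := simple_data hH hS.rank2 hQH hQn htrans hreg
  -- `P = Q`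
  have hcQ : Nat.card Q = m ^ 2 := by
    have h := Cfsg.Lib.RankOne.card_pts hR
    rw [← Subgroup.index_eq_card, hidx] at h
    omega
  have hPQ : P = Q := by
    have hn : H ≤ normalizer (Q : Set L) := (normal_subgroupOf_iff_le_normalizer hQH).1 hQn
    have h2 : IsPGroup 2 (Q ⊔ P : Subgroup L) := hQ2.to_sup_of_normal_left' hP (hPH.trans hn)
    obtain ⟨b, hb⟩ := IsPGroup.iff_card.1 h2
    have h1 := Subgroup.relIndex_mul_relIndex ⊥ Q (Q ⊔ P) bot_le le_sup_left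
    simp only [relIndex_bot_left] at h1
    have hodd : Odd (Q.relIndex (Q ⊔ P)) :=
      hQodd.of_dvd_nat ⟨(Q ⊔ P).relIndex H, (relIndex_mul_relIndex Q (Q ⊔ P) H le_sup_left (sup_le hQH hPH)).symm⟩
    have hdvd : Q.relIndex (Q ⊔ P) ∣ 2 ^ b := ⟨Nat.card Q, by rw [mul_comm, h1, hb]⟩
    have h3 := Nat.eq_one_of_dvd_coprimes ((Nat.coprime_two_left.2 hodd).pow_left b) hdvd dvd_rfl
    refine Subgroup.eq_of_le_of_card_ge (le_sup_right.trans (relIndex_eq_one.1 h3)) ?_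
    rw [hcQ, hcP]
  subst hPQ
  -- the number `q`
  have hq : Cfsg.Lib.BenderSuzuki.qNum L ((1 : L) : L ⧸ H) = m := by
    rw [Cfsg.Lib.BenderSuzuki.qNum, ← hinv]
    haveI : Fintype {x : P // (x : L) * x = 1} := Fintype.ofFinite _
    have h0 : Nat.card (Cfsg.Lib.BenderSuzuki.invl L ((1 : L) : L ⧸ H)) =
        Nat.card {x : {x : P // (x : L) * x = 1} // x ≠ ⟨1, one_mul 1⟩} := by
      have hmem : ∀ i : L, i ∈ Cfsg.Lib.BenderSuzuki.invl L ((1 : L) : L ⧸ H) ↔ i ∈ H ∧ i ≠ 1 ∧ i * i = 1 := by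
        intro i
        show i ∈ (stabilizer L ((1 : L) : L ⧸ H) : Set L) ∧ i ≠ 1 ∧ i * i = 1 ↔ _
        rw [MulAction.stabilizer_quotient, SetLike.mem_coe]
      refine Nat.card_congr ⟨fun i => ⟨⟨⟨i.1, (hQinv i.1 (order_two_of_mul_self ((hmem _).1 i.2).2.2
        ((hmem _).1 i.2).2.1) ((hmem _).1 i.2).1).1⟩, ((hmem _).1 i.2).2.2⟩, fun e => ((hmem _).1 i.2).2.1
          (congrArg (fun x : {x : P // (x : L) * x = 1} => ((x.1 : P) : L)) e)⟩,
        fun x => ⟨x.1.1.1, (hmem _).2 ⟨hQH x.1.1.2, fun e => x.2 (Subtype.ext (Subtype.ext e)), x.1.2⟩⟩,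
        fun i => rfl, fun x => rfl⟩
    rw [h0, Nat.card_eq_fintype_card, Nat.card_eq_fintype_card, Fintype.card_subtype_compl,
      Fintype.card_subtype_eq]
    have : 0 < Fintype.card {x : P // (x : L) * x = 1} := Fintype.card_pos_iff.2 ⟨⟨1, one_mul 1⟩⟩
    omega
  have hnab : Cfsg.Lib.BenderSuzuki.NonAb P := by
    rcases hgood.dich with ⟨-, h⟩ | ⟨-, -, h⟩ | ⟨-, h, -, -⟩
    · rw [hq, hcQ] at h; nlinarith
    · exact h
    · rw [hq, hcQ] at h; nlinarith [Nat.mul_le_mul hm hm]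
  obtain ⟨x, hx, y, hy, hxy⟩ := hnab
  refine ⟨⟨x, hx, y, hy, hxy⟩, ?_⟩
  obtain ⟨k, -, hk⟩ := Cfsg.Lib.BenderSuzuki.qNum_pow hs
  rw [hq] at hk
  refine ⟨k, ?_, hk⟩
  have hG := Cfsg.Lib.RankOne.card_group hR
  rw [Cfsg.Lib.BenderSuzuki.card_twoStab hs, hq, hcQ] at hG
  set c := Nat.card ↥(Cfsg.Lib.BenderSuzuki.centT (L ⧸ H) ((1 : L) : L ⧸ H) t)
  have hcodd : Odd c := hR.odd_card.of_dvd_nat (card_dvd_of_le inf_le_left)
  have hmeven : Even m := hk ▸ Nat.even_pow.2 ⟨even_two, by rintro rfl; omega⟩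
  have hodd1 : Odd (c * (m - 1) * (m ^ 2 + 1)) :=
    (hcodd.mul (Nat.Even.sub_odd (by omega) hmeven odd_one)).mul ((Nat.even_pow.2 ⟨hmeven, two_ne_zero⟩).add_one)
  rcases hid with ⟨F, iF, iF', ⟨n, hn, hF⟩, ⟨f⟩⟩ | ⟨F, iF, iF', l, hl, hF, ⟨f⟩⟩ | ⟨F, iF, iF', n, hn, hF, ⟨f⟩⟩
  · exfalso
    refine hxy ?_
    have h2 : ∀ v ∈ P, v * v = 1 := fun v hv => by
      obtain ⟨i, hi⟩ := hQ2 ⟨v, hv⟩
      have hi' : v ^ 2 ^ i = 1 := congrArg Subtype.val hi
      refine f.injective ?_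
      rw [map_mul, map_one]
      exact psl_two_sq hF (f v) (by rw [← map_pow, hi', map_one])
    have hi : ∀ v ∈ P, v⁻¹ = v := fun v hv => inv_eq_of_mul_eq_one_right (h2 v hv)
    calc x * y = (x * y)⁻¹ := (hi _ (mul_mem hx hy)).symm
      _ = y * x := by rw [mul_inv_rev, hi x hx, hi y hy]
  · have hc := Nat.card_congr (f.trans (Cfsg.Lib.Suz.lieEquiv (⟨hl, hF⟩ : Cfsg.Lib.Suz.Par F l)).symm).toEquiv
    rw [Cfsg.Lib.Suz.card_Sz ⟨hl, hF⟩, hG] at hc
    set r := 2 ^ (2 * l + 1) with hr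
    have hreven : Even r := Nat.even_pow.2 ⟨even_two, by omega⟩
    have hodd2 : Odd ((r ^ 2 + 1) * (r - 1)) :=
      ((Nat.even_pow.2 ⟨hreven, two_ne_zero⟩).add_one).mul
        (Nat.Even.sub_odd (Nat.one_le_pow _ _ two_pos) hreven odd_one)
    have hc' : 2 ^ (k * 2) * (c * (m - 1) * (m ^ 2 + 1)) = 2 ^ ((2 * l + 1) * 2) * ((r ^ 2 + 1) * (r - 1)) := by
      rw [pow_mul, pow_mul, ← hk, ← hr, ← mul_assoc (r ^ 2), ← hc]
      ring
    have h1 := congrArg (fun v => v.factorization 2) hc'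
    simp only [Nat.factorization_mul (pow_ne_zero _ two_ne_zero) hodd1.pos.ne',
      Nat.factorization_mul (pow_ne_zero _ two_ne_zero) hodd2.pos.ne', Finsupp.add_apply,
      Nat.Prime.factorization_pow Nat.prime_two, Finsupp.single_eq_same,
      Nat.factorization_eq_zero_of_not_dvd (fun h => Nat.not_even_iff_odd.2 hodd1 (even_iff_two_dvd.2 h)),
      Nat.factorization_eq_zero_of_not_dvd (fun h => Nat.not_even_iff_odd.2 hodd2 (even_iff_two_dvd.2 h))] at h1
    exact ⟨l, by omega⟩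
  · exfalso
    set r := 2 ^ n with hr
    have hr4 : 4 ≤ r := le_of_eq_of_le (by norm_num) (Nat.pow_le_pow_right two_pos hn)
    have hU := Cfsg.Agent.S0280.result hF 3 (by norm_num)
    rw [← Nat.card_congr f.toEquiv, Finset.prod_range_succ, Finset.prod_range_succ, Finset.prod_range_succ,
      Finset.prod_range_zero, if_pos (by decide), if_neg (by decide), if_pos (by decide)] at hU
    simp only [one_mul, zero_add, pow_one, show 3 * (3 - 1) / 2 = 3 from rfl,
      show (1 : ℕ) + 1 = 2 from rfl, show (2 : ℕ) + 1 = 3 from rfl] at hU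
    set g := Nat.gcd 3 (r + 1)
    have hP' : g * Nat.card L = r ^ 3 * ((r ^ 2 - 1) * (r ^ 3 + 1)) := by
      refine Nat.eq_of_mul_eq_mul_left (show 0 < r + 1 by omega) ?_
      linear_combination hU
    have hreven : Even r := Nat.even_pow.2 ⟨even_two, by omega⟩
    have hodd2 : Odd ((r ^ 2 - 1) * (r ^ 3 + 1)) :=
      (Nat.Even.sub_odd (Nat.one_le_pow _ _ (by omega)) (Nat.even_pow.2 ⟨hreven, two_ne_zero⟩) odd_one).mul
        ((Nat.even_pow.2 ⟨hreven, three_ne_zero⟩).add_one)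
    have hgodd : Odd (g * (c * (m - 1) * (m ^ 2 + 1))) :=
      (Odd.of_dvd_nat (by decide) (Nat.gcd_dvd_left 3 (r + 1))).mul hodd1
    have hc' : 2 ^ (k * 2) * (g * (c * (m - 1) * (m ^ 2 + 1))) = 2 ^ (n * 3) * ((r ^ 2 - 1) * (r ^ 3 + 1)) := by
      rw [pow_mul, pow_mul, ← hk, ← hr, ← hP', hG]
      ring
    have h1 := congrArg (fun v => v.factorization 2) hc'
    simp only [Nat.factorization_mul (pow_ne_zero _ two_ne_zero) hgodd.pos.ne',
      Nat.factorization_mul (pow_ne_zero _ two_ne_zero) hodd2.pos.ne', Finsupp.add_apply,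
      Nat.Prime.factorization_pow Nat.prime_two, Finsupp.single_eq_same,
      Nat.factorization_eq_zero_of_not_dvd (fun h => Nat.not_even_iff_odd.2 hgodd (even_iff_two_dvd.2 h)),
      Nat.factorization_eq_zero_of_not_dvd (fun h => Nat.not_even_iff_odd.2 hodd2 (even_iff_two_dvd.2 h))] at h1
    obtain ⟨s, rfl⟩ : ∃ s, n = 2 * s := ⟨n / 2, by omega⟩
    obtain rfl : k = 3 * s := by omega
    set b := 2 ^ s with hb
    have hb2 : 2 ≤ b := Nat.le_self_pow (by omega) 2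
    have hrb : r = b ^ 2 := by rw [hr, hb, ← pow_mul, mul_comm]
    have hmb : m = b ^ 3 := by rw [hk, hb, ← pow_mul, mul_comm]
    rw [hG, hrb, hmb, show (b ^ 2) ^ 3 = (b ^ 3) ^ 2 by ring] at hP'
    have h2 : g * c * (b ^ 3 - 1) = (b ^ 2) ^ 2 - 1 := by
      refine Nat.eq_of_mul_eq_mul_right (show 0 < (b ^ 3) ^ 2 + 1 by positivity)
        (Nat.eq_of_mul_eq_mul_left (show 0 < (b ^ 3) ^ 2 by positivity) ?_)
      linear_combination hP'
    have hdvd : b ^ 3 - 1 ∣ (b ^ 2) ^ 2 - 1 := ⟨g * c, by rw [← h2]; ring⟩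
    have hb8 : 8 ≤ b ^ 3 := le_of_eq_of_le (by norm_num) (Nat.pow_le_pow_left hb2 3)
    have he : (b ^ 2) ^ 2 - 1 = b * (b ^ 3 - 1) + (b - 1) := by
      have e4 : (b ^ 2) ^ 2 = b * b ^ 3 := by ring
      have hle : b ≤ b * b ^ 3 := Nat.le_mul_of_pos_right _ (by omega)
      rw [Nat.mul_sub, mul_one, e4]
      omega
    rw [he, Nat.dvd_add_right (dvd_mul_left _ _)] at hdvd
    have hlt : b - 1 < b ^ 3 - 1 := by
      have : b < b ^ 3 := lt_self_pow₀ (by omega) (by norm_num)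
      omega
    exact absurd (Nat.eq_zero_of_dvd_of_lt hdvd hlt) (by omega)

variable {G : Type u} [Group G] [Finite G] {α : Type u} [MulAction G α] {z : G}

/-- on a line of type Sz the root group is not abelian and `q` is an odd power of two -/
theorem LineData.sz_facts [IsSimpleGroup G] [FaithfulSMul G α] (hna : ¬ IsMulCommutative G) (h : Crit G α z)
    (crit : CriterionBelow.{u} (Nat.card G)) {v : G} {a : α} {A Q X : Subgroup G} {q : ℕ} (hv : orderOf v = 2)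
    (hva : v • a = a) (D : LineData z v a A Q X q 2) :
    (∃ x ∈ Q, ∃ y ∈ Q, ¬ Commute x y) ∧ ∃ k, Odd k ∧ q = 2 ^ k := by
  classical
  haveI := h.finite
  set W := zpowers v with hWdef
  have hW : IsPGroup 2 W := isPGroup_zpowers_of_two hv
  have ha : a ∈ fixSet α W := mem_line.2 hva
  have hfix : (fixSet α W).Nontrivial := by
    rw [← Set.one_lt_ncard_iff_nontrivial, ← Nat.card_coe_set_eq, D.fixed]
    have := Nat.one_le_pow 2 q (by have := D.four; omega)
    omega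
  have hn : Nat.card (lineImage α z W) < Nat.card G :=
    card_lineImage_lt h hna fun e => ne_one_of_order_two hv (mem_bot.1 (e ▸ mem_zpowers v))
  have hloc := localGen_eq_lineGen z v
  have hAW : ∀ d ∈ A, ∀ w ∈ W, Commute d w := fun d hd w hw => by
    obtain ⟨i, rfl⟩ := mem_zpowers_iff.1 hw
    exact (commute_of_mem (D.Qle (D.leQ hd))).zpow_right i
  obtain ⟨d, hd, hd1, e, he, he1, hde⟩ : ∃ d ∈ A, d ≠ 1 ∧ ∃ e ∈ A, e ≠ 1 ∧ d ≠ e := by
    haveI : Fintype A := Fintype.ofFinite A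
    have h4 : 1 < (Finset.univ.erase (1 : A)).card := by
      rw [Finset.card_erase_of_mem (Finset.mem_univ _), Finset.card_univ, ← Nat.card_eq_fintype_card, D.card]
      have := D.four
      omega
    obtain ⟨d, hd, e, he, hne⟩ := Finset.one_lt_card.1 h4
    exact ⟨d, d.2, fun e' => (Finset.mem_erase.1 hd).1 (Subtype.ext e'), e, e.2,
      fun e' => (Finset.mem_erase.1 he).1 (Subtype.ext e'), fun e' => hne (Subtype.ext e')⟩
  have hdD := (D.memA d hd hd1).1
  have heD := (D.memA e he he1).1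
  have hda : d • a = a := mem_stabilizer_iff.1 (D.Qfix (D.leQ hd))
  have C := line_cover h hW hfix crit hn hdD heD (D.centQ d hd e (D.leQ he)) hde (hAW d hd) (hAW e he)
    (a := ⟨a, ha⟩) hda
  haveI := C.simple
  haveI := lineImage_transitive h hW hfix
  set π := (lineHom α z W).rangeRestrict
  have hQle : Q ≤ lineGen z W := hloc ▸ D.Qle
  set P := (Q.subgroupOf (lineGen z W)).map π with hP
  obtain ⟨b₀, hb₀, hb₀a⟩ : ∃ b ∈ fixSet α W, b ≠ a := hfix.exists_ne a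
  have hinj : ∀ x ∈ Q, ∀ hx : x ∈ lineGen z W, π ⟨x, hx⟩ = 1 → x = 1 := by
    intro x hx hx' e
    have hb : x • b₀ = b₀ := congrArg Subtype.val
      (Equiv.Perm.ext_iff.1 (congrArg Subtype.val e) ⟨b₀, hb₀⟩ : _)
    exact (D.regQ b₀ hb₀ b₀ hb₀ hb₀a hb₀a).unique ⟨hx, hb⟩ ⟨one_mem Q, one_smul G b₀⟩
  let φ : Q →* P :=
    { toFun := fun x => ⟨π ⟨x, hQle x.2⟩, ⟨x, hQle x.2⟩, x.2, rfl⟩
      map_one' := Subtype.ext (map_one π)
      map_mul' := fun x y => Subtype.ext (map_mul π ⟨x, hQle x.2⟩ ⟨y, hQle y.2⟩) }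
  have hφ : Function.Bijective φ := by
    refine ⟨(injective_iff_map_eq_one φ).2 fun x hx =>
      Subtype.ext (hinj x x.2 (hQle x.2) (congrArg Subtype.val hx)), ?_⟩
    rintro ⟨_, ⟨x, hx, rfl⟩⟩
    exact ⟨⟨x, hx⟩, rfl⟩
  obtain ⟨hnab, hk⟩ := sz_model C.setting (P := P) (m := q) ((D.twoQ.comap_of_injective _ (subtype_injective _)).map π)
    (by
      rintro _ ⟨x, hx, rfl⟩
      exact mem_stabilizer_iff.2 (Subtype.ext (mem_stabilizer_iff.1 (D.Qfix hx))))
    D.four (by rw [← Nat.card_eq_of_bijective φ hφ, D.cardQ])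
    (by rw [index_stabilizer_of_transitive, D.fixed])
    (by
      rw [← D.card]
      symm
      refine Nat.card_eq_of_bijective (fun a : A => (⟨φ ⟨a, D.leQ a.2⟩, ?_⟩ :
        {x : P // (x : lineImage α z W) * x = 1})) ⟨?_, ?_⟩
      · exact congrArg Subtype.val ((map_mul φ _ _).symm.trans ((congrArg φ (Subtype.ext (D.elem a a.2) :
          (⟨(a : G), D.leQ a.2⟩ : Q) * ⟨(a : G), D.leQ a.2⟩ = 1)).trans (map_one φ)))
      · intro a b e
        have e' : (⟨(a : G), D.leQ a.2⟩ : Q) = ⟨(b : G), D.leQ b.2⟩ := hφ.1 (congrArg Subtype.val e)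
        exact Subtype.ext (congrArg (fun x : Q => (x : G)) e')
      · rintro ⟨x, hx⟩
        obtain ⟨y, rfl⟩ := hφ.2 x
        have hy2 : (y : G) * y = 1 :=
          congrArg Subtype.val (hφ.1 ((map_mul φ y y).trans ((Subtype.ext hx : φ y * φ y = 1).trans (map_one φ).symm)) :
            y * y = 1)
        refine ⟨⟨y, ?_⟩, rfl⟩
        by_cases hy : (y : G) = 1
        · rw [hy]; exact one_mem A
        · exact D.invA _ y.2 (order_two_of_mul_self hy2 hy))
  refine ⟨?_, hk⟩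
  obtain ⟨x, hx, y, hy, hne⟩ := hnab
  obtain ⟨x', hx'⟩ := hφ.2 ⟨x, hx⟩
  obtain ⟨y', hy'⟩ := hφ.2 ⟨y, hy⟩
  refine ⟨x', x'.2, y', y'.2, fun hc => hne ?_⟩
  have e' : φ x' * φ y' = φ y' * φ x' := by
    rw [← map_mul, ← map_mul]; exact congrArg φ (Subtype.ext hc.eq)
  rw [hx', hy'] at e'
  exact congrArg Subtype.val e'

end Cfsg.Lib.BenderSE.Crit2
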