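/-
A line of type Sz of the chosen involution with one involution in the kernel gives the setting `Suz`: the
centraliser of `u` in a Sylow subgroup at the point is `Q⟨u⟩`, as `q` is an odd power of two and an element
centralising `A` is trivial on `Q` modulo `A`.
-/
import Cfsg.Agent.BenderSE.Criterion2.Assemble
import Cfsg.Agent.BenderSE.Criterion2.LineSylow
import Cfsg.Agent.BenderSE.Criterion2.SuzukiModel
import Cfsg.Agent.BenderSE.Criterion2.SuzukiBasic

set_option autoImplicit false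
set_option linter.unusedSectionVars false
set_option linter.style.haveILetI false

namespace Cfsg.Lib.BenderSE.Crit2

open scoped Pointwise

open Subgroup MulAction Cfsg.Lib.InvolCalc Cfsg.Lib.BenderSE.CritDep

universe u

/-- for `q` an odd power of two no automorphism of 2-power order normalises a regular torus -/
theorem eq_one_of_odd_exp {E : Type*} [CommGroup E] [Finite E] {k : ℕ} (hk : Odd k) (hE : Nat.card E = 2 ^ k)
    (h2 : ∀ e : E, e * e = 1) (C : Subgroup (MulAut E)) (hcomm : ∀ c ∈ C, ∀ d ∈ C, c * d = d * c)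
    (htrans : ∀ e e' : E, e ≠ 1 → e' ≠ 1 → ∃ c ∈ C, c e = e') :
    ∀ (i : ℕ) (τ : MulAut E), (∀ c ∈ C, τ * c * τ⁻¹ ∈ C) → τ ^ 2 ^ i = 1 → τ = 1 := by
  classical
  have key : ∀ τ : MulAut E, (∀ c ∈ C, τ * c * τ⁻¹ ∈ C) → τ * τ = 1 → τ = 1 := by
    intro τ hn hτ
    by_contra hne
    have hinv : ∀ e, τ (τ e) = e := fun e => congrArg (fun w : MulAut E => w e) hτ
    let δ : E →* E :=
      { toFun := fun e => e * τ e
        map_one' := by rw [map_one, mul_one]
        map_mul' := fun e e' => by rw [map_mul, mul_mul_mul_comm] }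
    have hker : ∀ e : E, e ∈ δ.ker ↔ τ e = e := fun e => by
      show e * τ e = 1 ↔ _
      rw [mul_eq_one_iff_inv_eq, inv_eq_of_mul_eq_one_right (h2 e), eq_comm]
    have hle : δ.range ≤ δ.ker := by
      rintro _ ⟨e, rfl⟩
      show e * τ e * τ (e * τ e) = 1
      rw [map_mul, hinv, mul_comm (τ e) e, h2]
    obtain ⟨f, hfk, hf⟩ := (Nat.dvd_prime_pow Nat.prime_two).1
      (show Nat.card δ.ker ∣ 2 ^ k from hE ▸ card_subgroup_dvd_card _)
    have hlt : f < k := by
      refine lt_of_le_of_ne hfk fun e => hne (MulEquiv.ext fun x => (hker x).1 ?_)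
      rw [Subgroup.eq_top_of_card_eq δ.ker (by rw [hf, e, hE])]
      exact mem_top x
    have h2f : k ≤ 2 * f := by
      have h := δ.ker.card_mul_index
      rw [index_ker, hE] at h
      have h1 := Nat.mul_le_mul_left (Nat.card δ.ker) (Subgroup.card_le_of_le hle)
      rw [h, hf, ← pow_add] at h1
      have := (Nat.pow_le_pow_iff_right (show 1 < 2 by norm_num)).1 h1
      omega
    -- the commutant of `τ` in the torus is regular on the fixed elements
    have hk1 : 1 ≤ k := hk.pos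
    have hf1 : 1 ≤ f := by omega
    obtain ⟨e₀, he₀k, he₀⟩ : ∃ e ∈ δ.ker, e ≠ 1 := by
      by_contra h
      push Not at h
      rw [(Subgroup.eq_bot_iff_forall δ.ker).2 h, card_bot] at hf
      exact (Nat.one_lt_two_pow (by omega)).ne hf
    have hsemi : ∀ c ∈ C, c e₀ = e₀ → c = 1 := by
      intro c hc hce
      refine MulEquiv.ext fun x => ?_
      by_cases hx : x = 1
      · rw [hx, map_one, map_one]
      obtain ⟨d, hd, rfl⟩ := htrans e₀ x he₀ hx
      rw [← MulAut.mul_apply, hcomm c hc d hd, MulAut.mul_apply, hce]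
      rfl
    let K : Subgroup (MulAut E) := C ⊓ centralizer {τ}
    haveI : Finite (MulAut E) := Finite.of_injective (fun w : MulAut E => (w : E → E)) DFunLike.coe_injective
    have hcardC : Nat.card C = 2 ^ k - 1 := by
      have hb : Function.Bijective fun c : C => (⟨(c : MulAut E) e₀, fun e =>
          he₀ ((c : MulAut E).injective (e.trans (map_one _).symm))⟩ : {e : E // e ≠ 1}) := by
        refine ⟨fun c d e => ?_, fun x => ?_⟩
        · refine Subtype.ext (inv_mul_eq_one.1 (hsemi _ (mul_mem (inv_mem c.2) d.2) ?_))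
          have e' : (c : MulAut E) e₀ = (d : MulAut E) e₀ := congrArg Subtype.val e
          rw [MulAut.mul_apply, ← e', MulAut.inv_apply_self]
        · obtain ⟨c, hc, hce⟩ := htrans e₀ x.1 he₀ x.2
          exact ⟨⟨c, hc⟩, Subtype.ext hce⟩
      rw [Nat.card_eq_of_bijective _ hb]
      haveI : Fintype E := Fintype.ofFinite E
      rw [Nat.card_eq_fintype_card, Fintype.card_subtype_compl, Fintype.card_subtype_eq,
        ← Nat.card_eq_fintype_card, hE]
    have hcardK : Nat.card K = 2 ^ f - 1 := by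
      have hmem : ∀ {c : MulAut E}, c ∈ K ↔ c ∈ C ∧ c * τ = τ * c := fun {c} => by
        rw [mem_inf, mem_centralizer_singleton_iff]
      have hb : Function.Bijective fun c : K => (⟨⟨(c : MulAut E) e₀, (hker _).2 (by
          rw [← MulAut.mul_apply, ← (hmem.1 c.2).2, MulAut.mul_apply, (hker e₀).1 he₀k])⟩, fun e =>
          he₀ ((c : MulAut E).injective ((congrArg Subtype.val e).trans (map_one _).symm))⟩ :
            {e : δ.ker // e ≠ 1}) := by
        refine ⟨fun c d e => ?_, fun x => ?_⟩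
        · refine Subtype.ext (inv_mul_eq_one.1 (hsemi _ (mem_inf.1 (mul_mem (inv_mem c.2) d.2)).1 ?_))
          have e' : (c : MulAut E) e₀ = (d : MulAut E) e₀ :=
            congrArg (fun y : {e : δ.ker // e ≠ 1} => (y.1 : E)) e
          rw [MulAut.mul_apply, ← e', MulAut.inv_apply_self]
        · obtain ⟨c, hc, hce⟩ := htrans e₀ x.1.1 he₀ (fun e => x.2 (Subtype.ext e))
          refine ⟨⟨c, hmem.2 ⟨hc, ?_⟩⟩, Subtype.ext (Subtype.ext hce)⟩
          have h1 : (τ * c * τ⁻¹) e₀ = c e₀ := by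
            have he : τ⁻¹ e₀ = e₀ := by
              conv_lhs => rw [← (hker e₀).1 he₀k]
              exact MulAut.inv_apply_self _ _ _
            rw [MulAut.mul_apply, MulAut.mul_apply, he, hce, (hker _).1 x.1.2]
          have h2' : c⁻¹ * (τ * c * τ⁻¹) = 1 := hsemi _ (mul_mem (inv_mem hc) (hn c hc)) (by
            rw [MulAut.mul_apply, h1, MulAut.inv_apply_self])
          rw [inv_mul_eq_one] at h2'
          exact (mul_inv_eq_iff_eq_mul.1 h2'.symm).symm
      rw [Nat.card_eq_of_bijective _ hb]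
      haveI : Fintype δ.ker := Fintype.ofFinite _
      rw [Nat.card_eq_fintype_card, Fintype.card_subtype_compl, Fintype.card_subtype_eq,
        ← Nat.card_eq_fintype_card, hf]
    have hdvd : 2 ^ f - 1 ∣ 2 ^ k - 1 := hcardK ▸ hcardC ▸ card_dvd_of_le inf_le_left
    have hgcd : Nat.gcd f k = f := by
      have h := Nat.pow_sub_one_gcd_pow_sub_one 2 f k
      rw [Nat.gcd_eq_left hdvd] at h
      have h1 := Nat.one_le_two_pow (n := f)
      have h2' := Nat.one_le_two_pow (n := Nat.gcd f k)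
      exact Nat.pow_right_injective le_rfl (show 2 ^ Nat.gcd f k = 2 ^ f by omega)
    obtain ⟨m, rfl⟩ : f ∣ k := hgcd ▸ Nat.gcd_dvd_right f k
    obtain rfl : m = 2 := by nlinarith
    exact Nat.not_even_iff_odd.2 hk ⟨f, by omega⟩
  intro i
  induction i with
  | zero => intro τ _ h; simpa using h
  | succ i ih =>
    intro τ hn h
    refine ih τ hn (key _ ?_ (by rw [← pow_add, ← two_mul, ← pow_succ', h]))
    intro c hc
    have hall : ∀ j : ℕ, τ ^ j * c * (τ ^ j)⁻¹ ∈ C := by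
      intro j
      induction j with
      | zero => simpa using hc
      | succ j ih => rw [show τ ^ (j + 1) * c * (τ ^ (j + 1))⁻¹ = τ * (τ ^ j * c * (τ ^ j)⁻¹) * τ⁻¹ by
          rw [pow_succ']; group]; exact hn _ ih
    exact hall _

variable {G : Type u} [Group G] [Finite G] {α : Type u} [MulAction G α] {z : G}

/-- the centraliser of `u` in a Sylow subgroup at the point of a line of type Sz -/
theorem sz_cent [IsSimpleGroup G] [FaithfulSMul G α] (hna : ¬ IsMulCommutative G) (h : Crit G α z)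
    (crit : CriterionBelow.{u} (Nat.card G)) {u : G} {a : α} {A Q X : Subgroup G} {q : ℕ} (hu : orderOf u = 2)
    (hua : u • a = a) (L : LineData z u a A Q X q 2) {S : Sylow 2 G} (hQS : Q ≤ (S : Subgroup G))
    (hSa : ∀ s ∈ S, s • a = a) {g : G} (hgS : g ∈ (S : Subgroup G)) (hgu : Commute g u) :
    (∀ d ∈ A, Commute d g) ∧ ∃ t ∈ lineKernel α (S : Subgroup G) u, ∃ x ∈ Q, g = t * x := by
  classical
  haveI : Fact (Nat.Prime 2) := ⟨Nat.prime_two⟩
  obtain ⟨hnab, k, hk, hqk⟩ := L.sz_facts hna h crit hu hua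
  have hQu : ∀ x ∈ Q, Commute x u := fun x hx => commute_of_mem (L.Qle hx)
  have hnormA : ∀ {g : G}, g ∈ (S : Subgroup G) → Commute g u → g ∈ normalizer (A : Set G) := by
    intro g hgS hgu
    refine mem_normalizer_iff_map_conj_eq.2 (Subgroup.eq_of_le_of_card_ge ?_
      (le_of_eq (card_map_of_injective (MulEquiv.injective _)).symm))
    rintro _ ⟨d, hd, rfl⟩
    show g * d * g⁻¹ ∈ A
    by_cases hd1 : d = 1
    · rw [hd1, mul_one, mul_inv_cancel]; exact one_mem A
    refine L.invA _ (conj_mem_Q L hQS hSa hgS hgu (L.leQ hd)) ?_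
    rw [show g * d * g⁻¹ = MulAut.conj g d from rfl, MulEquiv.orderOf_eq,
      order_two_of_mul_self (L.elem d hd) hd1]
  -- no field part
  have hcentA : ∀ d ∈ A, Commute d g := by
    letI : CommGroup A :=
      { (inferInstance : Group A) with
        mul_comm := fun x y => Subtype.ext (L.centQ x.1 x.2 y.1 (L.leQ y.2)).eq }
    let conjA : ∀ w : G, w ∈ normalizer (A : Set G) → MulAut A := fun w hw =>
      { toFun := fun d => ⟨w * d * w⁻¹, (mem_normalizer_iff.1 hw _).1 d.2⟩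
        invFun := fun d => ⟨w⁻¹ * d * w⁻¹⁻¹, (mem_normalizer_iff.1 (inv_mem hw) _).1 d.2⟩
        left_inv := fun d => Subtype.ext (by
          show w⁻¹ * (w * d * w⁻¹) * w⁻¹⁻¹ = d
          group)
        right_inv := fun d => Subtype.ext (by
          show w * (w⁻¹ * d * w⁻¹⁻¹) * w⁻¹ = d
          group)
        map_mul' := fun d e => Subtype.ext (by
          show w * (d * e) * w⁻¹ = w * d * w⁻¹ * (w * e * w⁻¹)
          group) }
    let φ : (normalizer (A : Set G) : Subgroup G) →* MulAut A :=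
      { toFun := fun w => conjA w w.2
        map_one' := MulEquiv.ext fun d => Subtype.ext (show (1 : G) * d * (1 : G)⁻¹ = d by group)
        map_mul' := fun v w => MulEquiv.ext fun d => Subtype.ext (show (v : G) * w * d * ((v : G) * w)⁻¹ =
          v * (w * d * (w : G)⁻¹) * (v : G)⁻¹ by group) }
    let C : Subgroup (MulAut A) := (X.subgroupOf (normalizer (A : Set G))).map φ
    have hXc : ∀ x ∈ X, ∀ y ∈ X, x * y = y * x := fun x hx y hy => by
      haveI := L.cyclicX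
      letI : CommGroup X := IsCyclic.commGroup
      exact congrArg Subtype.val (mul_comm (⟨x, hx⟩ : X) ⟨y, hy⟩)
    have hτn : ∀ c ∈ C, φ ⟨g, hnormA hgS hgu⟩ * c * (φ ⟨g, hnormA hgS hgu⟩)⁻¹ ∈ C := by
      rintro _ ⟨x, hx, rfl⟩
      obtain ⟨y, hy, hxy⟩ := L.semilinear g (hSa g hgS) hgu (hnormA hgS hgu) x.1 (mem_subgroupOf.1 hx)
      refine ⟨⟨y, L.normA hy⟩, mem_subgroupOf.2 hy, ?_⟩
      rw [← map_inv, ← map_mul, ← map_mul]
      exact MulEquiv.ext fun d => Subtype.ext (hxy d.1 d.2).symm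
    obtain ⟨i, hi⟩ := S.isPGroup' ⟨g, hgS⟩
    have hone := eq_one_of_odd_exp hk (L.card.trans hqk) (fun d : A => Subtype.ext (L.elem _ d.2)) C
      (by
        rintro _ ⟨x, hx, rfl⟩ _ ⟨y, hy, rfl⟩
        rw [← map_mul, ← map_mul]
        exact congrArg φ (Subtype.ext (hXc _ (mem_subgroupOf.1 hx) _ (mem_subgroupOf.1 hy))))
      (fun e e' he he' => by
        obtain ⟨x, hx, hxe⟩ := L.transA e.1 e.2 e'.1 e'.2 (fun w => he (Subtype.ext w)) fun w => he' (Subtype.ext w)
        exact ⟨_, ⟨⟨x, L.normA hx⟩, mem_subgroupOf.2 hx, rfl⟩, Subtype.ext hxe⟩)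
      i (φ ⟨g, hnormA hgS hgu⟩) hτn (by
        have hgi : g ^ 2 ^ i = 1 := congrArg Subtype.val hi
        rw [← map_pow, show (⟨g, hnormA hgS hgu⟩ : (normalizer (A : Set G) : Subgroup G)) ^ 2 ^ i = 1 from
          Subtype.ext (by rw [SubmonoidClass.coe_pow]; exact hgi), map_one])
    intro d hd
    exact (mul_inv_eq_iff_eq_mul.1
      (congrArg Subtype.val (congrArg (fun w : MulAut A => w ⟨d, hd⟩) hone))).symm
  refine ⟨hcentA, ?_⟩
  obtain ⟨b, hb, hba⟩ := exists_other_fixed L hQS hSa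
  -- adjust by `Q` to fix `b`
  have hgb : u • g • b = g • b := by rw [smul_smul, ← hgu.eq, mul_smul, hb]
  have hgba : g • b ≠ a := fun e => hba (smul_left_cancel g (e.trans (hSa g hgS).symm))
  obtain ⟨x₀, ⟨hx₀, hxb⟩, -⟩ := L.regQ b (mem_line.2 hb) (g • b) (mem_line.2 hgb) hba hgba
  set g' := x₀⁻¹ * g with hg'
  have hg'S : g' ∈ (S : Subgroup G) := mul_mem (inv_mem (hQS hx₀)) hgS
  have hg'u : Commute g' u := (hQu _ (inv_mem hx₀)).mul_left hgu
  have hg'b : g' • b = b := by rw [hg', mul_smul, ← hxb, inv_smul_smul]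
  have hg'A : ∀ d ∈ A, Commute d g' := fun d hd => (L.centQ d hd x₀ hx₀).inv_right.mul_right (hcentA d hd)
  -- squaring facts
  have hsq : (∀ w ∈ Q, w * w ∈ A) ∧ ∀ w ∈ Q, ∀ w' ∈ Q, w * w = w' * w' → w⁻¹ * w' ∈ A := by
    obtain ⟨w₀, hw₀, hw₀A, hw₀1⟩ : ∃ w ∈ Q, w * w ∈ A ∧ w * w ≠ 1 := by
      obtain ⟨x, hx, y, hy, hne⟩ := hnab
      have hxA : x ∉ A := fun hm => hne (L.centQ x hm y hy)
      obtain ⟨i, hi⟩ := L.twoQ ⟨x, hx⟩
      have hi' : x ^ 2 ^ i = 1 := congrArg Subtype.val hi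
      clear hi hne hy y
      induction i generalizing x with
      | zero => exact absurd (by simpa using hi') (fun e : x = 1 => hxA (e ▸ one_mem A))
      | succ i ih =>
        by_cases h2 : x * x ∈ A
        · refine ⟨x, hx, h2, fun e => hxA ?_⟩
          by_cases hx1 : x = 1
          · rw [hx1]; exact one_mem A
          · exact L.invA x hx (order_two_of_mul_self e hx1)
        · exact ih (x * x) (mul_mem hx hx) h2 (by rw [← pow_two, ← pow_mul, ← pow_succ', hi'])
    have hroot : ∀ d : A, ∃ y ∈ Q, y * y = d.1 := by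
      intro d
      by_cases hd : d.1 = 1
      · exact ⟨1, one_mem Q, by rw [one_mul, hd]⟩
      obtain ⟨x, hx, hxd⟩ := L.transA _ hw₀A d.1 d.2 hw₀1 hd
      exact ⟨x * w₀ * x⁻¹, (mem_normalizer_iff.1 (L.normQ hx) _).1 hw₀, by rw [← hxd]; group⟩
    choose y hy hy2 using hroot
    have hy2' : ∀ d e : A, y d * e.1 * (y d * e.1) = d.1 := fun d e => by
      rw [(L.centQ e.1 e.2 _ (hy d)).mul_mul_mul_comm, L.elem _ e.2, mul_one, hy2]
    let f : A × A → Q := fun p => ⟨y p.1 * p.2.1, mul_mem (hy p.1) (L.leQ p.2.2)⟩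
    have hf : Function.Bijective f := by
      refine (Nat.bijective_iff_injective_and_card f).2 ⟨fun p p' e => ?_, ?_⟩
      · have e' : y p.1 * p.2.1 = y p'.1 * p'.2.1 := congrArg Subtype.val e
        have h1 : p.1 = p'.1 := Subtype.ext ((hy2' p.1 p.2).symm.trans (by rw [e']; exact hy2' p'.1 p'.2))
        rw [h1] at e'
        exact Prod.ext h1 (Subtype.ext (mul_left_cancel e'))
      · rw [Nat.card_prod, L.card, L.cardQ, pow_two]
    refine ⟨fun w hw => ?_, fun w hw w' hw' e => ?_⟩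
    · obtain ⟨⟨d, e⟩, he⟩ := hf.2 ⟨w, hw⟩
      have he' : y d * e.1 = w := congrArg Subtype.val he
      rw [← he', hy2']
      exact d.2
    · obtain ⟨⟨d, v⟩, e1⟩ := hf.2 ⟨w, hw⟩
      obtain ⟨⟨d', v'⟩, e2⟩ := hf.2 ⟨w', hw'⟩
      have e1' : y d * v.1 = w := congrArg Subtype.val e1
      have e2' : y d' * v'.1 = w' := congrArg Subtype.val e2
      rw [← e1', ← e2', hy2', hy2'] at e
      obtain rfl : d = d' := Subtype.ext e
      rw [← e1', ← e2', show (y d * v.1)⁻¹ * (y d * v'.1) = v.1⁻¹ * v'.1 by group]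
      exact mul_mem (inv_mem v.2) v'.2
  obtain ⟨hsqA, huniq⟩ := hsq
  have hγ : ∀ w ∈ Q, w⁻¹ * (g' * w * g'⁻¹) ∈ A := fun w hw => huniq w hw _ (conj_mem_Q L hQS hSa hg'S hg'u hw) (by
    rw [show g' * w * g'⁻¹ * (g' * w * g'⁻¹) = g' * (w * w) * g'⁻¹ by group, ← (hg'A _ (hsqA w hw)).eq,
      mul_inv_cancel_right])
  -- 2-elements of the line fixing two points are trivial
  set K := localGen z u ⊓ stabilizer G a with hKdef
  have hQK : Q ≤ K := le_inf L.Qle L.Qfix
  have htwo : ∀ t ∈ K, t • b = b → ∀ i : ℕ, t ^ 2 ^ i = 1 → t = 1 := by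
    intro t ht htb i hti
    have ht2 : IsPGroup 2 (zpowers t) := fun w => ⟨i, Subtype.ext (by
      obtain ⟨j, hj⟩ := mem_zpowers_iff.1 w.2
      rw [SubmonoidClass.coe_pow, ← hj, ← zpow_natCast, ← zpow_mul, mul_comm, zpow_mul, zpow_natCast, hti, one_zpow]
      rfl)⟩
    obtain ⟨S1, hS1⟩ := (ht2.of_equiv (subgroupOfEquivOfLe (zpowers_le.2 ht : zpowers t ≤ K)).symm).exists_le_sylow
    obtain ⟨S2, hS2⟩ := (L.twoQ.of_equiv (subgroupOfEquivOfLe hQK).symm).exists_le_sylow
    have hS2Q : (S2 : Subgroup K).map K.subtype = Q := L.Qmax _ (S2.2.map _)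
      ((map_subtype_le _).trans inf_le_left) ((map_subtype_le _).trans inf_le_right)
      (fun x hx => ⟨⟨x, hQK hx⟩, hS2 (mem_subgroupOf.2 hx), rfl⟩)
    obtain ⟨c, hc⟩ := MulAction.exists_smul_eq K S1 S2
    have h1 : c * (⟨t, ht⟩ : K) * c⁻¹ ∈ (S2 : Subgroup K) := by
      rw [← hc, Sylow.coe_subgroup_smul]
      exact ⟨_, hS1 (mem_subgroupOf.2 (mem_zpowers t)), rfl⟩
    have h2 : (c : G) * t * (c : G)⁻¹ ∈ Q := hS2Q.le ⟨_, h1, rfl⟩
    have hca : (c : G) • a = a := (mem_inf.1 c.2).2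
    have hcu : Commute (c : G) u := commute_of_mem (mem_inf.1 c.2).1
    have hcb : u • (c : G) • b = (c : G) • b := by rw [smul_smul, ← hcu.eq, mul_smul, hb]
    have hcba : (c : G) • b ≠ a := fun e => hba (smul_left_cancel (c : G) (e.trans hca.symm))
    have h3 : ((c : G) * t * (c : G)⁻¹) • (c : G) • b = (c : G) • b := by
      rw [mul_smul, mul_smul, inv_smul_smul, htb]
    have h4 := (L.regQ _ (mem_line.2 hcb) _ (mem_line.2 hcb) hcba hcba).unique ⟨h2, h3⟩ ⟨one_mem Q, one_smul G _⟩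
    exact conj_eq_one_iff.1 h4
  -- the commutator with a torus element is trivial on `Q`
  have hequiv : ∀ x' ∈ K, x' • b = b → x' ∈ normalizer (Q : Set G) → x' ∈ normalizer (A : Set G) →
      ∀ w ∈ Q, g' * (x' * w * x'⁻¹) * g'⁻¹ = x' * (g' * w * g'⁻¹) * x'⁻¹ := by
    intro x' hx' hxb' hxQ hxA w hw
    set v := x'⁻¹ * g'⁻¹ * x' * g' with hv
    have hvK : v ∈ K := by
      have hx1 : g'⁻¹ * x' * g'⁻¹⁻¹ ∈ localGen z u := conj_mem_localGen hg'u.inv_left (mem_inf.1 hx').1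
      rw [inv_inv] at hx1
      refine mem_inf.2 ⟨?_, ?_⟩
      · rw [show v = x'⁻¹ * (g'⁻¹ * x' * g') by rw [hv]; group]
        exact mul_mem (inv_mem (mem_inf.1 hx').1) hx1
      · have hg'a : g' ∈ stabilizer G a := mem_stabilizer_iff.2 (hSa _ hg'S)
        exact mul_mem (mul_mem (mul_mem (inv_mem (mem_inf.1 hx').2) (inv_mem hg'a)) (mem_inf.1 hx').2) hg'a
    have hvb : v • b = b := by
      rw [hv, mul_smul, mul_smul, mul_smul, hg'b, hxb', inv_smul_eq_iff.2 hg'b.symm, inv_smul_eq_iff.2 hxb'.symm]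
    have hvA : ∀ d ∈ A, v * d * v⁻¹ = d := by
      intro d hd
      have h1 : x' * d * x'⁻¹ ∈ A := (mem_normalizer_iff.1 hxA d).1 hd
      calc v * d * v⁻¹ = x'⁻¹ * (g'⁻¹ * (x' * (g' * d * g'⁻¹) * x'⁻¹) * g') * x' := by rw [hv]; group
        _ = x'⁻¹ * (g'⁻¹ * (x' * d * x'⁻¹) * g') * x' := by rw [← (hg'A d hd).eq, mul_inv_cancel_right]
        _ = d := by rw [← ((hg'A _ h1).inv_right).eq, inv_mul_cancel_right]; group
    have hvQ : ∀ w ∈ Q, w⁻¹ * (v * w * v⁻¹) ∈ A := by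
      intro w hw
      obtain ⟨β1, hβ1, e1⟩ : ∃ β ∈ A, g' * w * g'⁻¹ = w * β := ⟨_, hγ w hw, (mul_inv_cancel_left _ _).symm⟩
      have hxw : x' * w * x'⁻¹ ∈ Q := (mem_normalizer_iff.1 hxQ w).1 hw
      obtain ⟨β2, hβ2, e2⟩ : ∃ β ∈ A, g' * (x' * w * x'⁻¹) * g'⁻¹ = x' * w * x'⁻¹ * β :=
        ⟨_, hγ _ hxw, (mul_inv_cancel_left _ _).symm⟩
      have hxβ : x' * β1 * x'⁻¹ ∈ A := (mem_normalizer_iff.1 hxA _).1 hβ1
      have e2' : g'⁻¹ * (x' * w * x'⁻¹) * g' = x' * w * x'⁻¹ * β2⁻¹ := by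
        have hc : g'⁻¹ * β2 * g' = β2 := by rw [← ((hg'A _ hβ2).inv_right).eq, inv_mul_cancel_right]
        calc g'⁻¹ * (x' * w * x'⁻¹) * g' = g'⁻¹ * (g' * (x' * w * x'⁻¹) * g'⁻¹ * β2⁻¹) * g' := by
              rw [e2, mul_inv_cancel_right]
          _ = x' * w * x'⁻¹ * (g'⁻¹ * β2 * g')⁻¹ := by group
          _ = _ := by rw [hc]
      have e3 : v * w * v⁻¹ = w * (x'⁻¹ * (β2⁻¹ * (x' * β1 * x'⁻¹)) * x') := by
        calc v * w * v⁻¹ = x'⁻¹ * (g'⁻¹ * (x' * (g' * w * g'⁻¹) * x'⁻¹) * g') * x' := by rw [hv]; group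
          _ = x'⁻¹ * ((g'⁻¹ * (x' * w * x'⁻¹) * g') * (g'⁻¹ * (x' * β1 * x'⁻¹) * g')) * x' := by rw [e1]; group
          _ = x'⁻¹ * (x' * w * x'⁻¹ * β2⁻¹ * (x' * β1 * x'⁻¹)) * x' := by
            rw [e2', ← ((hg'A _ hxβ).inv_right).eq, inv_mul_cancel_right]
          _ = _ := by group
      rw [e3, inv_mul_cancel_left]
      have h2 := (mem_normalizer_iff.1 (inv_mem hxA) _).1 (mul_mem (inv_mem hβ2) hxβ)
      rwa [inv_inv] at h2
    obtain ⟨i, m, hm, hord⟩ := Nat.exists_eq_two_pow_mul_odd (orderOf_pos v).ne'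
    have hvmb : v ^ m • b = b := by
      clear hord hm
      induction m with
      | zero => rw [pow_zero, one_smul]
      | succ m ih => rw [pow_succ, mul_smul, hvb, ih]
    have hvm : v ^ m = 1 := htwo _ (pow_mem hvK m) hvmb i
      (by rw [← pow_mul, mul_comm, ← hord, pow_orderOf_eq_one])
    set β := w⁻¹ * (v * w * v⁻¹) with hβ
    have hβA := hvQ w hw
    have hpow : ∀ n : ℕ, v ^ n * w * (v ^ n)⁻¹ = w * β ^ n := by
      intro n
      induction n with
      | zero => simp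
      | succ n ih =>
        calc v ^ (n + 1) * w * (v ^ (n + 1))⁻¹ = v * (v ^ n * w * (v ^ n)⁻¹) * v⁻¹ := by rw [pow_succ']; group
          _ = v * w * v⁻¹ * (v * β ^ n * v⁻¹) := by rw [ih]; group
          _ = w * β ^ (n + 1) := by
            rw [hvA (β ^ n) (pow_mem hβA n), pow_succ', ← mul_assoc w β, show w * β = v * w * v⁻¹ from mul_inv_cancel_left _ _]
    have hβ1 : β = 1 := by
      obtain ⟨j, rfl⟩ := hm
      have h1 := hpow (2 * j + 1)
      rw [hvm, one_mul, inv_one, mul_one, pow_succ, pow_mul, pow_two, L.elem β hβA, one_pow, one_mul] at h1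
      exact mul_left_cancel ((mul_one w).trans h1).symm
    have e : v * w * v⁻¹ = w := (inv_mul_eq_one.1 hβ1).symm
    calc g' * (x' * w * x'⁻¹) * g'⁻¹ = g' * (x' * (v * w * v⁻¹) * x'⁻¹) * g'⁻¹ := by rw [e]
      _ = x' * (g' * w * g'⁻¹) * x'⁻¹ := by rw [hv]; group
  -- `g'` centralises `Q`
  let γ : G → G := fun w => w⁻¹ * (g' * w * g'⁻¹)
  have hγmul : ∀ w ∈ Q, ∀ w' ∈ Q, γ (w * w') = γ w * γ w' := by
    intro w hw w' hw'
    show (w * w')⁻¹ * (g' * (w * w') * g'⁻¹) = _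
    calc (w * w')⁻¹ * (g' * (w * w') * g'⁻¹) = w'⁻¹ * γ w * (g' * w' * g'⁻¹) := by simp only [γ]; group
      _ = γ w * (w'⁻¹ * (g' * w' * g'⁻¹)) := by
        rw [← (L.centQ _ (hγ w hw) _ (inv_mem hw')).eq]; simp only [γ]; group
      _ = _ := rfl
  have hγ1 : ∀ w ∈ Q, γ w = 1 := by
    by_contra hne
    push Not at hne
    obtain ⟨y₀, hy₀, hγ₀⟩ := hne
    have hy₀A : y₀ ∉ A := fun hm => hγ₀ (show y₀⁻¹ * (g' * y₀ * g'⁻¹) = 1 by
      rw [← (hg'A y₀ hm).eq, mul_inv_cancel_right, inv_mul_cancel])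
    have hy₀1 : y₀ * y₀ ≠ 1 := fun e => by
      by_cases h1 : y₀ = 1
      · exact hy₀A (h1 ▸ one_mem A)
      · exact hy₀A (L.invA _ hy₀ (order_two_of_mul_self e h1))
    obtain ⟨x₁, hx₁, e₁⟩ := L.transA _ (hsqA y₀ hy₀) _ (hγ y₀ hy₀) hy₀1 hγ₀
    have hlin : ∀ w ∈ Q, γ w = x₁ * (w * w) * x₁⁻¹ := by
      intro w hw
      by_cases hw1 : w * w = 1
      · have hwA : w ∈ A := by
          by_cases h1 : w = 1
          · exact h1 ▸ one_mem A
          · exact L.invA _ hw (order_two_of_mul_self hw1 h1)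
        show w⁻¹ * (g' * w * g'⁻¹) = _
        rw [← (hg'A w hwA).eq, mul_inv_cancel_right, inv_mul_cancel, hw1]; group
      obtain ⟨x, hx, e⟩ := L.transA _ (hsqA y₀ hy₀) _ (hsqA w hw) hy₀1 hw1
      have hxu : Commute x u := L.centX x hx
      have hxb' : u • x • b = x • b := by rw [smul_smul, ← hxu.eq, mul_smul, hb]
      have hxba : x • b ≠ a := fun e' => hba (smul_left_cancel x (e'.trans (L.Xfix hx).symm))
      obtain ⟨y, ⟨hy, hyb⟩, -⟩ := L.regQ b (mem_line.2 hb) (x • b) (mem_line.2 hxb') hba hxba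
      set x' := y⁻¹ * x with hx'
      have hx'K : x' ∈ K := mem_inf.2 ⟨mul_mem (inv_mem (L.Qle hy)) (L.Xle hx),
        mul_mem (inv_mem (L.Qfix hy)) (L.Xfix hx)⟩
      have hx'Q : x' ∈ normalizer (Q : Set G) := mul_mem (inv_mem (le_normalizer hy)) (L.normQ hx)
      have hconjA : ∀ d ∈ A, x' * d * x'⁻¹ = x * d * x⁻¹ := fun d hd => by
        have h1 := (mem_normalizer_iff.1 (L.normA hx) d).1 hd
        calc x' * d * x'⁻¹ = y⁻¹ * (x * d * x⁻¹) * y := by rw [hx']; group
          _ = _ := by rw [← (L.centQ _ h1 y hy).inv_right.eq, inv_mul_cancel_right]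
      have hx'A : x' ∈ normalizer (A : Set G) := mem_normalizer_iff_map_conj_eq.2
        (Subgroup.eq_of_le_of_card_ge (by
          rintro _ ⟨d, hd, rfl⟩
          show x' * d * x'⁻¹ ∈ A
          rw [hconjA d hd]
          exact (mem_normalizer_iff.1 (L.normA hx) d).1 hd)
          (le_of_eq (card_map_of_injective (MulEquiv.injective _)).symm))
      have hy' : x' * y₀ * x'⁻¹ ∈ Q := (mem_normalizer_iff.1 hx'Q _).1 hy₀
      have hdiff : (x' * y₀ * x'⁻¹)⁻¹ * w ∈ A := huniq _ hy' w hw (by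
        rw [show x' * y₀ * x'⁻¹ * (x' * y₀ * x'⁻¹) = x' * (y₀ * y₀) * x'⁻¹ by group, hconjA _ (hsqA y₀ hy₀), e])
      have hγA : ∀ d ∈ A, γ d = 1 := fun d hd => by
        show d⁻¹ * (g' * d * g'⁻¹) = 1
        rw [← (hg'A d hd).eq, mul_inv_cancel_right, inv_mul_cancel]
      have heq : γ (x' * y₀ * x'⁻¹) = x * γ y₀ * x⁻¹ := by
        show (x' * y₀ * x'⁻¹)⁻¹ * (g' * (x' * y₀ * x'⁻¹) * g'⁻¹) = _
        rw [hequiv x' hx'K (by rw [hx', mul_smul, ← hyb, inv_smul_smul]) hx'Q hx'A y₀ hy₀,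
          ← hconjA _ (hγ y₀ hy₀)]
        group
      have hXc : x * x₁ = x₁ * x := by
        haveI := L.cyclicX
        letI : CommGroup X := IsCyclic.commGroup
        exact congrArg Subtype.val (mul_comm (⟨x, hx⟩ : X) ⟨x₁, hx₁⟩)
      calc γ w = γ (x' * y₀ * x'⁻¹ * ((x' * y₀ * x'⁻¹)⁻¹ * w)) := by rw [mul_inv_cancel_left]
        _ = x * γ y₀ * x⁻¹ := by rw [hγmul _ hy' _ (L.leQ hdiff), hγA _ hdiff, mul_one, heq]
        _ = x * x₁ * (y₀ * y₀) * (x * x₁)⁻¹ := by
          rw [show γ y₀ = x₁ * (y₀ * y₀) * x₁⁻¹ from e₁.symm]; group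
        _ = x₁ * (x * (y₀ * y₀) * x⁻¹) * x₁⁻¹ := by rw [hXc]; group
        _ = _ := by rw [e]
    obtain ⟨p, hp, p', hp', hne'⟩ := hnab
    apply hne'
    have h1 := hγmul p hp p' hp'
    rw [hlin _ (mul_mem hp hp'), hlin p hp, hlin p' hp'] at h1
    have h2 : p * p' * (p * p') = p * p * (p' * p') := by
      have h3 := congrArg (fun w => x₁⁻¹ * w * x₁) h1
      simpa [mul_assoc] using h3
    show p * p' = p' * p
    have h4 := congrArg (fun w => p⁻¹ * w * p'⁻¹) h2
    simp [mul_assoc] at h4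
    exact h4.symm
  refine ⟨g', mem_lineKernel.2 ⟨hg'S, hg'u, fun p hp => ?_⟩, x₀, hx₀, ?_⟩
  · rcases eq_or_ne p a with rfl | hpa
    · exact hSa _ hg'S
    · obtain ⟨y, ⟨hy, hyb⟩, -⟩ := L.regQ b (mem_line.2 hb) p (mem_line.2 hp) hba hpa
      have h1 := hγ1 y hy
      have hgy : g' * y * g'⁻¹ = y := (inv_mul_eq_one.1 h1).symm
      rw [← hyb, smul_smul, mul_inv_eq_iff_eq_mul.1 hgy, mul_smul, hg'b]
  · -- `g'` commutes with `x₀`
    have hgy : g' * x₀ * g'⁻¹ = x₀ := (inv_mul_eq_one.1 (hγ1 x₀ hx₀)).symm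
    rw [mul_inv_eq_iff_eq_mul.1 hgy, hg', mul_inv_cancel_left]

/-- A LINE OF TYPE SZ OF THE CHOSEN INVOLUTION gives the setting of the Sz end -/
theorem LineCase.exists_suz [FaithfulSMul G α] {u : G} {a : α} {A Q X : Subgroup G} {q : ℕ}
    (C : LineCase α z u a A Q X q 2)
    (hone : ∀ t : G, orderOf t = 2 → Commute t u → (∀ p : α, u • p = p → t • p = p) →
      (∀ d ∈ A, Commute t d) → t = u) :
    ∃ S : Sylow 2 G, Suz (stabilizer G a) (fun d => IsConj z d) u A Q X q ∧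
      (S : Subgroup G) ≤ stabilizer G a ∧ Q ⊔ zpowers u ≤ (S : Subgroup G) := by
  classical
  haveI : Fact (Nat.Prime 2) := ⟨Nat.prime_two⟩
  haveI := C.simple
  have h := C.crit
  have L := C.data
  have hu : orderOf u = 2 := C.chosen.rank.1
  have hua := C.fixa
  obtain ⟨hnab, -⟩ := L.sz_facts C.nonab h C.below hu hua
  obtain ⟨S, hQS, huS, hSa, hsyl⟩ := exists_line_sylow h hua hu L
  obtain ⟨b, hb, hba⟩ := exists_other_fixed L hQS hSa
  have huD : ¬ IsConj z u := fun e => hba (centre_unique h e hb hua)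
  have hu1 := sq_of_order_two hu
  have hQu : ∀ x ∈ Q, Commute x u := fun x hx => commute_of_mem (L.Qle hx)
  have hAu : ∀ d ∈ A, Commute d u := fun d hd => hQu d (L.leQ hd)
  have memA : ∀ d ∈ A, d ≠ 1 → IsConj z d := fun d hd hd1 => (L.memA d hd hd1).1
  have hQinv : ∀ x ∈ Q, x * x = 1 → x ∈ A := fun x hx h2 => by
    by_cases h1 : x = 1
    · rw [h1]; exact one_mem A
    · exact L.invA x hx (order_two_of_mul_self h2 h1)
  have hconj : ∀ g d : G, IsConj z d → IsConj z (g * d * g⁻¹) := fun g d hd => hd.trans (isConj_iff.2 ⟨g, rfl⟩)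
  have hXc : ∀ x ∈ X, ∀ y ∈ X, Commute x y := fun x hx y hy => by
    haveI := L.cyclicX
    letI : CommGroup X := IsCyclic.commGroup
    exact congrArg Subtype.val (mul_comm (⟨x, hx⟩ : X) ⟨y, hy⟩)
  set U := lineKernel α (S : Subgroup G) u
  have huU : u ∈ U := mem_lineKernel.2 ⟨huS, Commute.refl u, fun p hp => hp⟩
  have hUinv : ∀ t ∈ U, t * t = 1 → t = 1 ∨ t = u := fun t ht ht2 => by
    refine or_iff_not_imp_left.2 fun ht1 => ?_
    obtain ⟨-, htu, htF⟩ := mem_lineKernel.1 ht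
    exact hone t (order_two_of_mul_self ht2 ht1) htu htF fun d hd => commute_kernel_Q L hQS hSa ht (L.leQ hd)
  have hT := fun g (hg : g ∈ (S : Subgroup G)) (hgu : Commute g u) =>
    (sz_cent C.nonab h C.below hu hua L hQS hSa hg hgu).2
  -- centre
  have hQc : ∀ x ∈ Q, (∀ y ∈ Q, Commute x y) → x * x = 1 := by
    intro x hx hc
    by_contra hx1
    obtain ⟨p, hp, p', hp', hne⟩ := hnab
    -- count the roots
    have hxA : x ∉ A := fun hm => hx1 (L.elem x hm)
    let Z : Subgroup G := Q ⊓ centralizer (Q : Set G)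
    have hxZ : x ∈ Z := mem_inf.2 ⟨hx, mem_centralizer_iff.2 fun y hy => (hc y hy).eq.symm⟩
    obtain ⟨i, hi⟩ := L.twoQ ⟨x, hx⟩
    have hi' : x ^ 2 ^ i = 1 := congrArg Subtype.val hi
    obtain ⟨w, hwZ, hwA, hw1⟩ : ∃ w ∈ Z, w * w ∈ A ∧ w * w ≠ 1 := by
      have key : ∀ (i : ℕ) (x : G), x ∈ Z → x ∉ A → x ^ 2 ^ i = 1 → ∃ w ∈ Z, w * w ∈ A ∧ w * w ≠ 1 := by
        intro i
        induction i with
        | zero => intro x _ hxA hx'; exact absurd (by simpa using hx') (fun e : x = 1 => hxA (e ▸ one_mem A))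
        | succ i ih =>
          intro x hxZ hxA hx'
          by_cases h2 : x * x ∈ A
          · exact ⟨x, hxZ, h2, fun e => hxA (hQinv x (mem_inf.1 hxZ).1 e)⟩
          · exact ih (x * x) (mul_mem hxZ hxZ) h2 (by rw [← pow_two, ← pow_mul, ← pow_succ', hx'])
      exact key i x hxZ hxA hi'
    have hroot : ∀ d : A, ∃ v ∈ Z, v * v = d.1 := by
      intro d
      by_cases hd : d.1 = 1
      · exact ⟨1, one_mem Z, by rw [one_mul, hd]⟩
      obtain ⟨y, hy, hyd⟩ := L.transA _ hwA d.1 d.2 hw1 hd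
      refine ⟨y * w * y⁻¹, mem_inf.2 ⟨(mem_normalizer_iff.1 (L.normQ hy) _).1 (mem_inf.1 hwZ).1,
        mem_centralizer_iff.2 fun v hv => ?_⟩, by rw [← hyd]; group⟩
      have hv' : y⁻¹ * v * y⁻¹⁻¹ ∈ Q := (mem_normalizer_iff.1 (L.normQ (inv_mem hy)) _).1 hv
      have h1 := mem_centralizer_iff.1 (mem_inf.1 hwZ).2 _ hv'
      calc v * (y * w * y⁻¹) = y * (y⁻¹ * v * y⁻¹⁻¹ * w) * y⁻¹ := by group
        _ = y * (w * (y⁻¹ * v * y⁻¹⁻¹)) * y⁻¹ := by rw [h1]
        _ = _ := by group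
    choose v hv hv2 using hroot
    let f : A × A → Z := fun pr => ⟨v pr.1 * pr.2.1, mul_mem (hv pr.1) (mem_inf.2 ⟨L.leQ pr.2.2,
      mem_centralizer_iff.2 fun y hy => (L.centQ _ pr.2.2 y hy).eq.symm⟩)⟩
    have hf : Function.Injective f := by
      rintro ⟨d, e⟩ ⟨d', e'⟩ he
      have he' : v d * e.1 = v d' * e'.1 := congrArg Subtype.val he
      have hs : ∀ (d e : A), v d * e.1 * (v d * e.1) = d.1 := fun d e => by
        rw [(L.centQ e.1 e.2 _ (mem_inf.1 (hv d)).1).mul_mul_mul_comm, L.elem _ e.2, mul_one, hv2]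
      obtain rfl : d = d' := Subtype.ext ((hs d e).symm.trans (by rw [he']; exact hs d' e'))
      exact Prod.ext rfl (Subtype.ext (mul_left_cancel he'))
    have hZQ : Z = Q := Subgroup.eq_of_le_of_card_ge inf_le_left (by
      have := Nat.card_le_card_of_injective f hf
      rw [Nat.card_prod, L.card] at this
      rw [L.cardQ, pow_two]; exact this)
    exact hne (mem_centralizer_iff.1 (mem_inf.1 (hZQ.symm ▸ hp' : p' ∈ Z)).2 p hp)
  -- the kernel is `⟨u⟩`
  have onlyA : ∀ d ∈ (S : Subgroup G), Commute d u → IsConj z d → d ∈ A := fun d hd hc hD =>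
    member_mem_clique L hQS hSa h hD hd hc
  have hU : ∀ t ∈ U, t = 1 ∨ t = u := by
    intro t ht
    obtain ⟨htS, -, -⟩ := mem_lineKernel.1 ht
    obtain ⟨i, hi⟩ := S.isPGroup' ⟨t, htS⟩
    have hi' : t ^ 2 ^ i = 1 := congrArg Subtype.val hi
    clear hi htS
    induction i generalizing t with
    | zero => exact Or.inl (by simpa using hi')
    | succ i ih =>
      rcases ih (t * t) (mul_mem ht ht) (by rw [← pow_two, ← pow_mul, ← pow_succ', hi']) with h2 | h2
      · exact hUinv t ht h2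
      · exfalso
        exact false_of_square_kernel (fun d => IsConj z d) C.nonab (fun d hd => orderOf_conj h hd) hconj
          (fun d e => conj_mul_of_commute h) S hu huD U Q A huU L.leQ hQS (inf_le_left.trans inf_le_left)
          (fun t ht x hx => commute_kernel_Q L hQS hSa ht hx) (kernel_inf_Q L hQS hSa) hUinv ⟨t, ht, h2⟩
          L.centQ hQinv hQc (fun g hg hgu _ => hT g hg hgu) memA onlyA
  have hcent : ∀ g ∈ (S : Subgroup G), Commute g u → g ∈ Q ⊔ zpowers u := by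
    intro g hg hgu
    obtain ⟨t, ht, x, hx, rfl⟩ := hT g hg hgu
    refine mul_mem ?_ (mem_sup_left hx)
    rcases hU t ht with rfl | rfl
    · exact one_mem _
    · exact mem_sup_right (mem_zpowers t)
  refine ⟨S, ?_, fun s hs => mem_stabilizer_iff.2 (hSa s hs), sup_le hQS (zpowers_le.2 huS)⟩
  have r0 : ∀ B : Subgroup G, B ≤ stabilizer G a → IsPGroup 2 B → (∀ b ∈ B, Commute b u) →
      Nat.card B ≤ Nat.card (Q ⊔ zpowers u : Subgroup G) := by
    intro B hB hB2 hBu
    obtain ⟨k, hk, hkB⟩ := hsyl B hB2 fun v hv =>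
      mem_inf.2 ⟨mem_centralizer_singleton_iff.2 (hBu v hv).eq, hB hv⟩
    have hku : Commute k u := mem_centralizer_singleton_iff.1 (mem_inf.1 hk).1
    rw [← card_map_of_injective (f := (MulAut.conj k⁻¹).toMonoidHom) (K := B) (MulEquiv.injective _)]
    refine Subgroup.card_le_of_le ?_
    rintro _ ⟨v, hv, rfl⟩
    show k⁻¹ * v * k⁻¹⁻¹ ∈ Q ⊔ zpowers u
    rw [inv_inv]
    exact hcent _ (hkB v hv) ((hku.inv_left.mul_left (hBu v hv)).mul_left hku)
  have r : ∀ bound, Suz (stabilizer G a) (fun d => IsConj z d) u A Q X q := fun (bound : ∀ B : Subgroup G,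
      B ≤ stabilizer G a → IsPGroup 2 B → (∀ b ∈ B, Commute b u) → Nat.card B ≤ 2 * q ^ 2) =>
    { two := hu
      memM := mem_stabilizer_iff.2 hua
      leQM := L.Qfix
      leA := L.leQ
      XleM := L.Xfix
      commX := hXc
      centX := L.centX
      centQ := hQu
      notQ := fun hm => ne_one_of_order_two hu (eq_one_of_fix L hQS hSa hm fun p hp => hp)
      twoQ := L.twoQ
      elem := L.elem
      centA := L.centQ
      invA := hQinv
      card := L.card
      four := L.four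
      cardQ := L.cardQ
      nonab := hnab
      normA := L.normA
      normQ := L.normQ
      transA := L.transA
      memA := memA
      conjD := hconj
      cosetA := fun d hd hD => by
        rcases eq_or_ne d 1 with rfl | hd1
        · rw [mul_one] at hD; exact huD hD
        · exact mul_not_conj h hu hua hb hba.symm (memA d hd hd1) (hAu d hd).symm hD
      semilinear := fun g hg => L.semilinear g (mem_stabilizer_iff.1 hg)
      normAM := fun g hg => by
        obtain ⟨d, hd, hd1⟩ : ∃ d ∈ A, d ≠ 1 := by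
          by_contra hno
          push Not at hno
          have h1 := L.card
          rw [(Subgroup.eq_bot_iff_forall A).2 hno, card_bot] at h1
          have := L.four
          omega
        have hd' : g⁻¹ * d * g⁻¹⁻¹ ∈ A := (mem_normalizer_iff.1 (inv_mem hg) d).1 hd
        have h1 : (g⁻¹ * d * g⁻¹⁻¹) • a = a := L.Qfix (L.leQ hd')
        rw [inv_inv, mul_smul, mul_smul, inv_smul_eq_iff] at h1
        exact mem_stabilizer_iff.2 (centre_unique h (memA d hd hd1) h1 (L.Qfix (L.leQ hd)))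
      bound := bound }
  refine r fun B hB hB2 hBu => (r0 B hB hB2 hBu).trans ?_
  rw [← SetLike.coe_sort_coe, coe_mul_of_right_le_normalizer_left Q (zpowers u) (zpowers_le.2
    (centralizer_le_normalizer _ (mem_centralizer_iff.2 fun x hx => (hQu x hx).eq))), Nat.card_coe_set_eq]
  calc ((Q : Set G) * (zpowers u : Set G)).ncard
      ≤ (Q : Set G).ncard * (zpowers u : Set G).ncard := Set.natCard_mul_le
    _ = 2 * q ^ 2 := by
      rw [← Nat.card_coe_set_eq, ← Nat.card_coe_set_eq, SetLike.coe_sort_coe, SetLike.coe_sort_coe,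
        L.cardQ, Nat.card_zpowers, hu, mul_comm]

end Cfsg.Lib.BenderSE.Crit2
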