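/-
Aschbacher's criterion, the line of type Sz of the chosen involution: a 2-group of translations has point
stabilisers of order at most two away from the centre, so a Sylow 2-subgroup above them would make the number
of the other points divisible by `2 q ^ 3`; the count of the points forbids it, and the end of the Sz case follows.
-/
import Cfsg.Agent.BenderSE.Criterion2.SuzukiEnd
import Cfsg.Agent.BenderSE.Criterion2.SuzukiLine
import Cfsg.Agent.BenderSE.Criterion2.FieldSplit

set_option autoImplicit false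
set_option linter.unusedSectionVars false
set_option linter.style.haveILetI false

namespace Cfsg.Lib.BenderSE.Crit2

open Subgroup MulAction Cfsg.Lib.InvolCalc Cfsg.Lib.BenderSE.CritDep

universe u

variable {G : Type u} [Group G] [Finite G] {α : Type u} [MulAction G α] {z : G}
  {u : G} {a : α} {A Q X : Subgroup G} {q : ℕ}

/-- a 2-group through `u` fixing `a` and another fixed point of `u` is `⟨u⟩` -/
theorem sz_two_fix (L : LineData z u a A Q X q 2)
    (r : Suz (stabilizer G a) (fun d => IsConj z d) u A Q X q) {c : α} (huc : u • c = c) (hca : c ≠ a)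
    {T : Subgroup G} (hT : IsPGroup 2 T) (huT : u ∈ T) (hTa : ∀ g ∈ T, g • a = a) (hTc : ∀ g ∈ T, g • c = c) :
    ∀ g ∈ T, g = 1 ∨ g = u := by
  classical
  haveI : Fact (Nat.Prime 2) := ⟨Nat.prime_two⟩
  have hua : u • a = a := hTa u huT
  have hu1 : u ≠ 1 := ne_one_of_order_two r.two
  -- in `P`
  have hP : ∀ p ∈ Q ⊔ zpowers u, ∀ x : α, u • x = x → x ≠ a → p • x = x → p = 1 ∨ p = u := by
    intro p hp x hux hxa hpx
    have hQ1 : ∀ y ∈ Q, y • x = x → y = 1 := fun y hy hyx =>
      (L.regQ x (mem_line.2 hux) x (mem_line.2 hux) hxa hxa).unique ⟨hy, hyx⟩ ⟨one_mem Q, one_smul G x⟩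
    rcases r.mem_P.1 hp with h | h
    · exact Or.inl (hQ1 p h hpx)
    · have e := hQ1 _ h (by rw [mul_smul, hux, hpx])
      exact Or.inr (by rw [eq_inv_of_mul_eq_one_left e, r.u_inv])
  -- the part commuting with `u`
  have hcu : ∀ g ∈ T, Commute g u → g = 1 ∨ g = u := by
    intro g hg hgu
    set C := centralizer ({u} : Set G) with hC
    obtain ⟨Sy, hSy⟩ := r.sylow_cent
    obtain ⟨R, hR⟩ := (hT.comap_of_injective C.subtype C.subtype_injective).exists_le_sylow
    obtain ⟨k, hk⟩ := MulAction.exists_smul_eq C R Sy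
    set gC : C := ⟨g, mem_centralizer_singleton_iff.2 hgu.eq⟩
    have h1 : k * gC * k⁻¹ ∈ (Sy : Subgroup C) := by
      rw [← hk, Sylow.coe_subgroup_smul]
      exact ⟨gC, hR hg, rfl⟩
    have h2 : (k : G) * g * (k : G)⁻¹ ∈ Q ⊔ zpowers u := hSy.le ⟨_, h1, rfl⟩
    have hku : Commute (k : G) u := mem_centralizer_singleton_iff.1 k.2
    have hfix : ∀ x : α, u • x = x → u • (k : G) • x = (k : G) • x := fun x hx => by
      rw [smul_smul, ← hku.eq, mul_smul, hx]
    have hgk : ∀ x : α, g • x = x → ((k : G) * g * (k : G)⁻¹) • (k : G) • x = (k : G) • x := fun x hx => by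
      rw [mul_smul, mul_smul, inv_smul_smul, hx]
    have h3 : (k : G) * g * (k : G)⁻¹ = 1 ∨ (k : G) * g * (k : G)⁻¹ = u := by
      by_cases hka : (k : G) • a = a
      · exact hP _ h2 _ (hfix c huc) (fun e => hca (smul_left_cancel _ (e.trans hka.symm))) (hgk c (hTc g hg))
      · exact hP _ h2 _ (hfix a hua) hka (hgk a (hTa g hg))
    rcases h3 with e | e
    · exact Or.inl (conj_eq_one_iff.1 e)
    · right
      calc g = (k : G)⁻¹ * ((k : G) * g * (k : G)⁻¹) * k := by group
        _ = u := by rw [e, mul_assoc, ← hku.eq, inv_mul_cancel_left]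
  -- a central element
  haveI : Nontrivial T :=
    ⟨⟨u, huT⟩, 1, fun e => hu1 (congrArg Subtype.val e)⟩
  haveI := hT.center_nontrivial
  obtain ⟨w, hw⟩ := exists_ne (1 : center T)
  have hwc : ∀ g ∈ T, Commute (w.1 : T).1 g := fun g hg =>
    congrArg Subtype.val ((mem_center_iff.1 w.2 ⟨g, hg⟩).symm)
  intro g hg
  rcases hcu _ w.1.2 (hwc u huT) with e | e
  · exact absurd (Subtype.ext (Subtype.ext e)) hw
  · exact hcu g hg (e ▸ hwc g hg).symm

/-- the kernel of such an involution has order two -/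
theorem sz_kernel_le [FaithfulSMul G α] (L : LineData z u a A Q X q 2)
    (r : Suz (stabilizer G a) (fun d => IsConj z d) u A Q X q) : kernelNum α u ≤ 2 := by
  haveI : Fact (Nat.Prime 2) := ⟨Nat.prime_two⟩
  obtain ⟨V, ⟨hV, hVu⟩, hcard⟩ := exists_kernel α u
  obtain ⟨b, hub, hba⟩ := exists_other_point L
  have hua : u • a = a := mem_stabilizer_iff.1 r.memM
  have hT : IsPGroup 2 (V ⊔ zpowers u : Subgroup G) :=
    hV.to_sup_of_normal_left' (isPGroup_zpowers_of_two r.two) (zpowers_le.2 (centralizer_le_normalizer _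
      (mem_centralizer_iff.2 fun x hx => (hVu x hx).1.eq)))
  have hfix : ∀ p : α, u • p = p → ∀ g ∈ V ⊔ zpowers u, g • p = p := fun p hp g hg => mem_stabilizer_iff.1
    ((sup_le (fun x hx => mem_stabilizer_iff.2 ((hVu x hx).2 p hp)) (zpowers_le.2 (mem_stabilizer_iff.2 hp)) :
      V ⊔ zpowers u ≤ stabilizer G p) hg)
  have hle : V ≤ zpowers u := fun g hg => by
    rcases sz_two_fix L r hub hba hT (mem_sup_right (mem_zpowers u)) (hfix a hua) (hfix b hub) g (mem_sup_left hg)
      with rfl | rfl
    · exact one_mem _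
    · exact mem_zpowers g
  rw [← hcard, ← r.two, ← Nat.card_zpowers]
  exact card_le_of_le hle

/-- an involution of the translations with two fixed points fixes them with no other 2-element -/
theorem sz_stab_small [FaithfulSMul G α] (C : LineCase α z u a A Q X q 2)
    (r : Suz (stabilizer G a) (fun d => IsConj z d) u A Q X q) {R : Subgroup G} {x' : G}
    (tr : Root.Trans (stabilizer G a) u A Q X R x') {t : G} (htR : t ∈ R) (ht : orderOf t = 2) {c : α}
    (hca : c ≠ a) (htc : t • c = c) {T : Subgroup G} (hT : IsPGroup 2 T) (htT : t ∈ T)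
    (hTa : ∀ g ∈ T, g • a = a) (hTc : ∀ g ∈ T, g • c = c) : ∀ g ∈ T, g = 1 ∨ g = t := by
  classical
  haveI : Fact (Nat.Prime 2) := ⟨Nat.prime_two⟩
  haveI := C.simple
  have h := C.crit
  haveI : Finite α := h.finite
  have L := C.data
  have hu := r.two
  have hua := C.fixa
  obtain ⟨b, hub, hba⟩ := exists_other_point L
  have hRa : ∀ {g : G}, g ∈ R → g • a = a := fun hg => mem_stabilizer_iff.1 (Climb.mem_ker.1 (tr.leK hg)).1
  have hRA : ∀ {g : G}, g ∈ R → ∀ d ∈ A, Commute g d := fun hg d hd => (Climb.mem_ker.1 (tr.leK hg)).2.2 d hd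
  have hclA : IsClique z u A := fun g hg => by
    rcases eq_or_ne g 1 with rfl | hg1
    · exact ⟨Commute.one_right u, fun e => absurd rfl e⟩
    · exact ⟨(L.memA g hg hg1).2.1, fun _ => (L.memA g hg hg1).1⟩
  have hqu : cliqueNum z u = q := cliqueNum_eq h hu hua L
  have hfu : Nat.card (fixedBy α u) = q ^ 2 + 1 := card_fixedBy_line L
  -- involutions of `P` moving nothing else
  have hPinv : ∀ w ∈ Q ⊔ zpowers u, orderOf w = 2 → ∀ c : α, c ≠ a → w • c = c → ∀ T : Subgroup G, IsPGroup 2 T →
      w ∈ T → (∀ g ∈ T, g • a = a) → (∀ g ∈ T, g • c = c) → ∀ g ∈ T, g = 1 ∨ g = w := by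
    intro w hw hw2 c hca hwc T hT hwT hTa hTc
    have hww := sq_of_order_two hw2
    rcases r.mem_P.1 hw with hQ | hQ
    · have hA := r.invA w hQ hww
      exact absurd (centre_unique h (r.memA w hA (ne_one_of_order_two hw2)) hwc (hTa w hwT)) hca
    · have hcu := r.u_commute hw
      have hA : w * u ∈ A := r.invA _ hQ (by rw [hcu.symm.mul_mul_mul_comm, hww, r.u_sq, one_mul])
      obtain ⟨s, hs, hcs⟩ := tr.surj _ hA
      have hws : s * u * s⁻¹ = w := by
        calc s * u * s⁻¹ = u * Root.cls u s := by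
              show _ = u * (u * (s * u * s⁻¹))
              rw [← mul_assoc, r.u_sq, one_mul]
          _ = w := by rw [hcs, hcu.eq, ← mul_assoc, r.u_sq, one_mul]
      have hsa := hRa hs
      have hsc : u • s⁻¹ • c = s⁻¹ • c := by
        rw [← hws, mul_smul, mul_smul] at hwc
        exact eq_inv_smul_iff.2 hwc
      have hmem : ∀ g, g ∈ T.map (MulAut.conj s⁻¹).toMonoidHom ↔ s * g * s⁻¹ ∈ T := fun g => by
        constructor
        · rintro ⟨v, hv, rfl⟩
          show s * (s⁻¹ * v * s⁻¹⁻¹) * s⁻¹ ∈ T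
          rwa [show s * (s⁻¹ * v * s⁻¹⁻¹) * s⁻¹ = v by group]
        · intro hg
          exact ⟨_, hg, show s⁻¹ * (s * g * s⁻¹) * s⁻¹⁻¹ = g by group⟩
      have key := sz_two_fix L r hsc (fun e => hca (by rw [eq_comm, eq_inv_smul_iff, hsa] at e; exact e.symm))
        (hT.map _) ((hmem u).2 (hws ▸ hwT))
        (fun g hg => by
          have h1 := hTa _ ((hmem g).1 hg)
          rw [mul_smul, mul_smul, inv_smul_eq_iff.2 hsa.symm] at h1
          exact smul_left_cancel s (h1.trans hsa.symm))
        (fun g hg => by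
          have h1 := hTc _ ((hmem g).1 hg)
          rw [mul_smul, mul_smul] at h1
          exact eq_inv_smul_iff.2 h1)
      intro g hg
      have e : s * (s⁻¹ * g * s) * s⁻¹ = g := by group
      rcases key (s⁻¹ * g * s) ((hmem _).2 (e.symm ▸ hg)) with e1 | e1
      · exact Or.inl (by rw [← e, e1, mul_one, mul_inv_cancel])
      · exact Or.inr (by rw [← e, e1, hws])
  have hta := hRa htR
  obtain ⟨hrk, hqt, hft⟩ := C.chosen.of_clique h hclA (L.card.trans hqu.symm) ht (hRA htR) hca.symm hta htc
  obtain ⟨B, Q', X', q', i, L'⟩ := (C.lines t a c ht hta htc hca.symm).2 hrk.2.2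
  obtain rfl : q' = q := (cliqueNum_eq h ht hta L').symm.trans (hqt.trans hqu)
  have hfi : Nat.card (fixedBy α t) = q' ^ i + 1 := card_fixedBy_line L'
  have hi2 : i = 2 := by
    rcases L'.jcase with rfl | rfl | rfl
    · exfalso
      -- `A` is regular on the other fixed points of `t`
      set F := {p : α // t • p = p ∧ p ≠ a} with hFdef
      have hF : Nat.card F = q' := by
        have e : Nat.card F = ((fixedBy α t) \ {a}).ncard := by
          rw [← Nat.card_coe_set_eq]
          exact Nat.card_congr (Equiv.subtypeEquivRight fun p => by simp [mem_fixedBy])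
        rw [e, Set.ncard_sdiff_singleton_of_mem (show a ∈ fixedBy α t from hta), ← Nat.card_coe_set_eq, hfi, pow_one,
          Nat.add_sub_cancel]
      let f : A → F := fun d => ⟨(d : G) • c, by rw [smul_smul, (hRA htR d d.2).eq, mul_smul, htc], fun e => by
        refine hca ?_
        rcases eq_or_ne (d : G) 1 with h1 | h1
        · rwa [h1, one_smul] at e
        · have hda : (d : G) • a = a := (L.memA d d.2 h1).2.2
          exact smul_left_cancel (d : G) (e.trans hda.symm)⟩
      have hfb : Function.Bijective f := by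
        refine (Nat.bijective_iff_injective_and_card f).2 ⟨fun d d' e => ?_, by rw [L.card, hF]⟩
        have e' : (d : G) • c = (d' : G) • c := congrArg Subtype.val e
        refine Subtype.ext (inv_mul_eq_one.1 ?_)
        by_contra h1
        have hA := mul_mem (inv_mem d.2) d'.2
        obtain ⟨hD, -, hfx⟩ := L.memA _ hA h1
        exact hca (centre_unique h hD (by rw [mul_smul, ← e', inv_smul_smul]) hfx)
      -- the centraliser of `t` in `R`
      obtain ⟨hcom, hbl, -⟩ := Suz.exists_pairing r tr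
      let χ : R →* A :=
        { toFun := fun s => ⟨(s : G) * t * (s : G)⁻¹ * t⁻¹, hcom s s.2 t htR⟩
          map_one' := Subtype.ext (show (1 : G) * t * (1 : G)⁻¹ * t⁻¹ = 1 by group)
          map_mul' := fun s s' => Subtype.ext (hbl s s.2 s' s'.2 t htR) }
      set H := χ.ker.map R.subtype
      have hH : ∀ {g : G}, g ∈ H → g ∈ R ∧ Commute g t := by
        rintro g ⟨s, hs, rfl⟩
        exact ⟨s.2, mul_inv_eq_iff_eq_mul.1 (mul_inv_eq_one.1 (congrArg Subtype.val (MonoidHom.mem_ker.1 hs)))⟩
      have hHcard : q' * (2 * q' ^ 2) ≤ Nat.card H * q' := by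
        rw [← Suz.card_trans r tr, card_map_of_injective R.subtype_injective, ← χ.ker.card_mul_index, index_ker]
        exact Nat.mul_le_mul_left _ ((card_le_card_group _).trans_eq L.card)
      -- the stabiliser of `c`
      set Hc := H ⊓ stabilizer G c
      have hHc : Nat.card H ≤ Nat.card Hc * q' := by
        let o : H → F := fun g => ⟨(g : G) • c, by rw [smul_smul, ← (hH g.2).2.eq, mul_smul, htc], fun e =>
          hca (smul_left_cancel (g : G) (e.trans (hRa (hH g.2).1).symm))⟩
        choose rep hrep using fun p => hfb.2 p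
        let φ : H → Hc × A := fun g => (⟨((rep (o g) : A) : G)⁻¹ * g, mem_inf.2 ⟨by
            refine mul_mem (inv_mem ?_) g.2
            refine ⟨⟨(rep (o g) : A), tr.le (mem_sup_left (r.leA (rep (o g)).2))⟩, ?_, rfl⟩
            refine MonoidHom.mem_ker.2 (Subtype.ext ?_)
            show ((rep (o g) : A) : G) * t * ((rep (o g) : A) : G)⁻¹ * t⁻¹ = 1
            rw [← (hRA htR _ (rep (o g)).2).eq, mul_inv_cancel_right, mul_inv_cancel],
          mem_stabilizer_iff.2 (by
            rw [mul_smul, inv_smul_eq_iff]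
            exact (congrArg Subtype.val (hrep (o g))).symm)⟩⟩, rep (o g))
        have hφ : Function.Injective φ := fun g g' e => by
          have e1 : ((rep (o g) : A) : G)⁻¹ * g = ((rep (o g') : A) : G)⁻¹ * g' := congrArg (fun v => (v.1 : G)) e
          have e2 : rep (o g) = rep (o g') := congrArg Prod.snd e
          rw [e2] at e1
          exact Subtype.ext (mul_left_cancel e1)
        have := Nat.card_le_card_of_injective φ hφ
        rwa [Nat.card_prod, L.card] at this
      have hHcR : ∀ {g : G}, g ∈ Hc → g ∈ R ∧ g • c = c := fun hg =>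
        ⟨(hH (mem_inf.1 hg).1).1, mem_stabilizer_iff.1 (mem_inf.1 hg).2⟩
      have hcA : ∀ d ∈ A, d • c = c → d = 1 := fun d hd e => by
        by_contra h1
        obtain ⟨hD, -, hfx⟩ := L.memA d hd h1
        exact hca (centre_unique h hD e hfx)
      let ψ : Hc →* A :=
        { toFun := fun g => ⟨Root.cls u g, r.cls_mem (Climb.mem_ker.1 (tr.leK (hHcR g.2).1)).2.1⟩
          map_one' := Subtype.ext (r.cls_eq_one.2 (Commute.one_left u))
          map_mul' := fun g g' => Subtype.ext (r.cls_hom (tr.leK (hHcR g.2).1) (tr.leK (hHcR g'.2).1)) }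
      have h2 : 2 * q' ≤ Nat.card Hc := by
        have := L.four
        refine Nat.le_of_mul_le_mul_right ?_ (show 0 < q' * q' by positivity)
        calc 2 * q' * (q' * q') = q' * (2 * q' ^ 2) := by ring
          _ ≤ Nat.card H * q' := hHcard
          _ ≤ Nat.card Hc * q' * q' := Nat.mul_le_mul_right _ hHc
          _ = Nat.card Hc * (q' * q') := by ring
      have hker : 1 < Nat.card ψ.ker := by
        by_contra hle
        have h1 : Nat.card ψ.ker * ψ.ker.index ≤ 1 * q' := Nat.mul_le_mul (not_lt.1 hle)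
          (by rw [index_ker]; exact (card_le_card_group _).trans_eq L.card)
        rw [ψ.ker.card_mul_index] at h1
        have := L.four
        omega
      haveI := Finite.one_lt_card_iff_nontrivial.1 hker
      obtain ⟨w, hw⟩ := exists_ne (1 : ψ.ker)
      have hw1 : ((w : Hc) : G) ≠ 1 := fun e => hw (Subtype.ext (Subtype.ext e))
      obtain ⟨hwR, hwc⟩ := hHcR (w : Hc).2
      have hw2 : orderOf ((w : Hc) : G) = 2 := order_two_of_mul_self (hcA _ (Suz.trans_elementary r tr _ hwR)
        (by rw [mul_smul, hwc, hwc])) hw1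
      have key := hPinv _ (tr.kerR _ hwR (congrArg Subtype.val (MonoidHom.mem_ker.1 w.2))) hw2 c hca hwc Hc
        (tr.two.to_le fun g hg => (hHcR hg).1) (w : Hc).2 (fun g hg => hRa (hHcR hg).1) (fun g hg => (hHcR hg).2)
      have hle : Hc ≤ zpowers ((w : Hc) : G) := fun g hg => by
        rcases key g hg with rfl | rfl
        · exact one_mem _
        · exact mem_zpowers _
      have := card_le_of_le hle
      rw [Nat.card_zpowers, hw2] at this
      have := L.four
      omega
    · rfl
    · exfalso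
      rw [hfi, hfu] at hft
      have h1 := Nat.pow_lt_pow_right (show 1 < q' by have := L.four; omega) (show 2 < 3 by norm_num)
      omega
  subst hi2
  -- `t` is chosen, with one involution in the kernel
  have hkt : kernelNum α t ≤ 2 :=
    (C.chosen.kernel t hrk hqt (by rw [hfi, hfu])).trans (sz_kernel_le L r)
  have hkt2 : 2 ≤ kernelNum α t := ht ▸ Nat.card_zpowers t ▸ le_kernelNum (α := α) ⟨isPGroup_zpowers_of_two ht,
    fun g hg => by
      obtain ⟨k, rfl⟩ := mem_zpowers_iff.1 hg
      exact ⟨(Commute.refl t).zpow_left k, fun p hp =>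
        mem_stabilizer_iff.1 (zpow_mem (mem_stabilizer_iff.2 hp) k)⟩⟩
  have hku2 : kernelNum α u ≤ 2 := sz_kernel_le L r
  have C' : LineCase α z t a B Q' X' q' 2 :=
    { simple := C.simple, nonab := C.nonab, crit := h, below := C.below, lines := C.lines
      chosen :=
        { rank := hrk
          clique := fun v hv => hqt ▸ C.chosen.clique v hv
          fix := fun v hv e => (C.chosen.fix v hv (e.trans hqt)).trans (by rw [hfu, hfi])
          kernel := fun v hv e e' =>
            ((C.chosen.kernel v hv (e.trans hqt) (e'.trans (by rw [hfu, hfi]))).trans hku2).trans hkt2 }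
      fixa := hta
      data := L' }
  obtain ⟨-, r', -, -⟩ := C'.exists_suz fun t' ht' hc' hF' _ => by
    have hV : IsPGroup 2 (zpowers t ⊔ zpowers t' : Subgroup G) :=
      (isPGroup_zpowers_of_two ht).to_sup_of_normal_left' (isPGroup_zpowers_of_two ht')
        (zpowers_le.2 (centralizer_le_normalizer _ (mem_centralizer_iff.2 fun x hx => by
          obtain ⟨k, rfl⟩ := mem_zpowers_iff.1 hx
          exact (hc'.symm.zpow_left k).eq)))
    have hle : (zpowers t ⊔ zpowers t' : Subgroup G) ≤ centralizer {t} :=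
      sup_le (zpowers_le.2 (mem_centralizer_singleton_iff.2 rfl))
        (zpowers_le.2 (mem_centralizer_singleton_iff.2 hc'.eq))
    have hcard := (le_kernelNum (α := α) (u := t) ⟨hV, fun g hg => ⟨mem_centralizer_singleton_iff.1 (hle hg),
      fun p hp => mem_stabilizer_iff.1 ((sup_le (zpowers_le.2 (mem_stabilizer_iff.2 hp))
        (zpowers_le.2 (mem_stabilizer_iff.2 (hF' p hp))) : zpowers t ⊔ zpowers t' ≤ stabilizer G p) hg)⟩⟩).trans hkt
    have h' : t' ∈ zpowers t := (Subgroup.eq_of_le_of_card_ge (le_sup_left : zpowers t ≤ zpowers t ⊔ zpowers t')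
      (by rw [Nat.card_zpowers, ht]; exact hcard)).symm ▸ mem_sup_right (mem_zpowers t')
    obtain ⟨k, rfl⟩ := mem_zpowers_iff.1 h'
    rcases Int.even_or_odd k with ⟨m, rfl⟩ | ⟨m, rfl⟩
    · refine absurd ht' ?_
      rw [zpow_add, ← (Commute.refl t).mul_zpow, sq_of_order_two ht, one_zpow, orderOf_one]
      norm_num
    · rw [zpow_add, zpow_one, two_mul, zpow_add, ← (Commute.refl t).mul_zpow, sq_of_order_two ht, one_zpow,
        one_mul]
  exact sz_two_fix L' r' htc hca hT htT hTa hTc

/-- the points other than `a` are a multiple of a common divisor of the orbits -/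
theorem dvd_points [Finite α] (H : Subgroup G) (hH : ∀ g ∈ H, g • a = a) {d : ℕ}
    (hd : ∀ c : α, c ≠ a → d ∣ (H ⊓ stabilizer G c).relIndex H) : d ∣ Nat.card α - 1 := by
  classical
  haveI : Fintype α := Fintype.ofFinite α
  let act : MulAction H {p : α // p ≠ a} :=
    { smul := fun g p => ⟨(g : G) • p.1, fun e => p.2 (smul_left_cancel (g : G) (e.trans (hH g g.2).symm))⟩
      one_smul := fun p => Subtype.ext (one_smul G p.1)
      mul_smul := fun g g' p => Subtype.ext (mul_smul (g : G) g' p.1) }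
  letI := act
  have hcard : Nat.card {p : α // p ≠ a} = Nat.card α - 1 := by
    rw [Nat.card_eq_fintype_card, Fintype.card_subtype_compl, Fintype.card_subtype_eq, ← Nat.card_eq_fintype_card]
  rw [← hcard, Nat.card_congr (selfEquivSigmaOrbitsQuotientStabilizer H {p : α // p ≠ a})]
  haveI : Fintype (Quotient (orbitRel H {p : α // p ≠ a})) := Fintype.ofFinite _
  rw [Nat.card_sigma]
  refine Finset.dvd_sum fun ω _ => ?_
  have hst : stabilizer H ω.out = (H ⊓ stabilizer G ω.out.1).subgroupOf H := by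
    ext g
    rw [mem_stabilizer_iff, mem_subgroupOf, mem_inf, mem_stabilizer_iff, Subtype.ext_iff]
    exact ⟨fun e => ⟨g.2, e⟩, fun e => e.2⟩
  rw [← index_eq_card, hst]
  exact hd _ ω.out.2

/-- the points of the Sz case are no multiple of `2 q ^ 3` -/
theorem sz_points [IsPretransitive G α] [FaithfulSMul G α] (C : LineCase α z u a A Q X q 2) {e : G} (he : e ∈ A)
    (he1 : e ≠ 1) {s : G} (hsu : s * u * s⁻¹ = u * e) : ¬ 2 * q ^ 3 ∣ Nat.card α - 1 := by
  classical
  haveI := C.simple
  have h := C.crit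
  haveI : Finite α := h.finite
  have hna := C.nonab
  have L := C.data
  have hu := C.chosen.rank.1
  have huD := C.chosen.rank.2.1
  have hua := C.fixa
  obtain ⟨b, hub, hba⟩ := exists_other_point L
  have hmem := L.memA e he he1
  have hfu : Nat.card (fixedBy α u) = q ^ 2 + 1 := card_fixedBy_line L
  have hfv : Nat.card (fixedBy α (u * e)) = q ^ 2 + 1 := by rw [← hsu, card_fixedBy_conj, hfu]
  obtain ⟨k, hk⟩ := L.pow
  have hq4 := L.four
  have hqeven : Even q := by
    rw [hk]
    exact Nat.even_pow.2 ⟨even_two, fun e => by rw [hk, e] at hq4; simp at hq4⟩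
  intro hdvd
  by_cases hL : HasLine α z
  · obtain ⟨e', he', hne, he'1⟩ : ∃ e' ∈ A, e' ≠ e ∧ e' ≠ 1 := by
      by_contra hno
      push Not at hno
      have hsub : (A : Set G) ⊆ ({1, e} : Finset G) := fun x hx => by
        by_cases h1 : x = e
        · simp [h1]
        · simp [hno x hx h1]
      have := Set.ncard_le_ncard hsub
      rw [← Nat.card_coe_set_eq, SetLike.coe_sort_coe, L.card, Set.ncard_coe_finset] at this
      have := this.trans Finset.card_le_two
      omega
    obtain ⟨Y, hY⟩ := exists_memberCore h (lineFacts h C.below) hmem.1 (L.memA e' he' he'1).1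
      (L.centQ e he e' (L.leQ he')) hne.symm hL a
    obtain ⟨hru, -⟩ := lineRank_eq_clique hna h C.below hY hu hua huD L
    rcases hY.dichotomy h hu huD hua hub hba.symm hmem (j := 2) (Or.inr (Or.inl rfl)) (hru.symm ▸ hq4)
      (by rw [hru]; exact hfu) with ⟨-, hn⟩ | ⟨-, hj, -⟩
    · rw [hru, hfu] at hn
      obtain ⟨q', rfl⟩ : ∃ q', q = q' + 1 := ⟨q - 1, by omega⟩
      rw [Nat.add_sub_cancel] at hn
      have h1 : (q' + 1) ^ 2 + 1 ≤ Nat.card α := hfu ▸ Finite.card_subtype_le _
      have hn' : Nat.card α - 1 = (q' + 1) ^ 3 * (q' * (q' + 1) + 1) := by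
        have : Nat.card α - 1 = q' * (((q' + 1) ^ 2 + 1) * (q' + 1) ^ 2) + (q' + 1) ^ 2 := by omega
        rw [this]; ring
      rw [hn', mul_comm 2] at hdvd
      have := (Nat.mul_dvd_mul_iff_left (by positivity : 0 < (q' + 1) ^ 3)).1 hdvd
      rw [Nat.dvd_iff_mod_eq_zero, Nat.add_mod] at this
      have h2 := Nat.even_mul_succ_self q'
      rw [Nat.even_iff] at h2
      omega
    · exact hj rfl
  · obtain ⟨x, hx⟩ := exists_moved h (ne_one_of_order_two hu)
    have hκ := card_members_no_line (a := a) hna h C.below hL hu hua huD L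
    have hc := swaps_count h hu hua hub hba.symm hmem hx
    have hodd := odd_card_swaps h hu hua hub hba.symm hmem hx
    rw [hκ, hfu, hfv, Nat.add_sub_cancel] at hc
    obtain ⟨c, hc'⟩ := hdvd
    have h1 : q ^ 2 + 1 ≤ Nat.card α := hfu ▸ Finite.card_subtype_le _
    have hN : 0 < Nat.card (swapsAt z u x) := hodd.pos
    set N := Nat.card (swapsAt z u x)
    have hn : ((Nat.card α - (q ^ 2 + 1) : ℕ) : ℤ) = 2 * (q : ℤ) ^ 3 * c - (q : ℤ) ^ 2 := by
      have : ((Nat.card α - 1 : ℕ) : ℤ) = 2 * (q : ℤ) ^ 3 * c := by rw [hc']; push_cast; ring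
      push_cast [Nat.cast_sub h1, Nat.cast_sub (show 1 ≤ Nat.card α by omega)] at this ⊢
      linarith
    have hcz : (N : ℤ) * (2 * (q : ℤ) ^ 3 * c - (q : ℤ) ^ 2) =
        ((q : ℤ) ^ 2 + 1) * ((q : ℤ) - 1) * (q : ℤ) ^ 2 := by
      rw [← hn, ← Nat.cast_mul, hc]
      push_cast [Nat.cast_sub (show 1 ≤ q by omega)]
      ring
    have hq0 : (q : ℤ) ≠ 0 := by omega
    have hE : (N : ℤ) * (2 * q * c - 1) = ((q : ℤ) ^ 2 + 1) * (q - 1) :=
      mul_right_cancel₀ (pow_ne_zero 2 hq0) (by linear_combination hcz)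
    set d : ℤ := 2 * N * c - q ^ 2 + q - 1 with hd
    have hNd : (N : ℤ) = q * d + 1 := by rw [hd]; linear_combination -hE
    have hdpos : 0 ≤ d := by
      by_contra hneg
      have : (q : ℤ) * d ≤ -q := by nlinarith
      omega
    obtain ⟨m, hm⟩ := hqeven
    have hdodd : d = 2 * ((N : ℤ) * c - (q : ℤ) * m + m) - 1 := by
      rw [hd, hm]; push_cast; ring
    have hd1 : 1 ≤ d := by omega
    have hb : (1 : ℤ) ≤ c := by
      by_contra hb
      have : (c : ℤ) = 0 := by omega
      rw [this] at hE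
      nlinarith
    have h3 : d * (2 * c) * q + 2 * c - d = (q : ℤ) ^ 2 - q + 1 := by
      have h4 : (q : ℤ) * (d * (2 * c) * q + 2 * c - d) = q * ((q : ℤ) ^ 2 - q + 1) := by
        rw [hNd] at hE; linear_combination hE
      exact mul_left_cancel₀ hq0 h4
    set t : ℤ := (q : ℤ) - 1 - d * (2 * c)
    have h5 : 2 * (c : ℤ) - d = 1 + t * q := by simp only [t]; linear_combination h3
    rcases lt_trichotomy t 0 with ht | ht | ht
    · have h6 : (q : ℤ) ≤ -t * q := le_mul_of_one_le_left (by positivity) (by omega)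
      have h7 : 2 * d ≤ d * (2 * c) := by nlinarith
      have h8 : -t * 4 ≤ -t * q := by nlinarith
      have e9 : d * (2 * c) = (q : ℤ) - 1 - t := by simp only [t]; ring
      linarith
    · simp only [t] at ht
      have h9 : d * (2 * c) = 2 * (d * c) := by ring
      omega
    · have h6 : (q : ℤ) ≤ t * q := le_mul_of_one_le_left (by positivity) (by omega)
      have h7 : 2 * (c : ℤ) ≤ d * (2 * c) := le_mul_of_one_le_left (by positivity) hd1
      omega

/-- THE LINE OF THE CHOSEN INVOLUTION IS NOT OF TYPE SZ -/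
theorem root_suzuki [IsPretransitive G α] [FaithfulSMul G α] (C : LineCase α z u a A Q X q 2)
    (hone : ∀ t : G, orderOf t = 2 → Commute t u → (∀ p : α, u • p = p → t • p = p) →
      (∀ d ∈ A, Commute t d) → t = u) : False := by
  classical
  haveI : Fact (Nat.Prime 2) := ⟨Nat.prime_two⟩
  haveI := C.simple
  haveI : Finite α := C.crit.finite
  obtain ⟨S, r, hSM, hPS⟩ := C.exists_suz hone
  by_cases hle : Nat.card (S : Subgroup G) ≤ q * (2 * q ^ 2)
  · exact Suz.suzuki_end C.nonab r S hSM hPS hle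
  have hne : Q ⊔ zpowers u ≠ (S : Subgroup G) := fun e => hle (by
    rw [← e, r.card_P]
    exact Nat.le_mul_of_pos_left _ (by have := r.four; omega))
  obtain ⟨R, x', tr⟩ := r.exists_trans S hSM hPS hne
  have hRcard := Suz.card_trans r tr
  obtain ⟨m, hm⟩ := tr.two.exists_card_eq
  obtain ⟨l, hl⟩ := S.2.exists_card_eq
  have hlt : m < l := by
    by_contra hge
    exact hle (by rw [← hRcard, hm, hl]; exact Nat.pow_le_pow_right two_pos (not_lt.1 hge))
  obtain ⟨K, hK, hRK⟩ := Sylow.exists_subgroup_card_pow_succ (G := G) (p := 2) (n := m)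
    ((pow_dvd_pow 2 (Nat.succ_le_of_lt hlt)).trans (hl ▸ card_subgroup_dvd_card _)) hm
  have hrel : R.relIndex K = 2 := by
    have h1 : (R.subgroupOf K).index * Nat.card R = Nat.card K := by
      rw [← Nat.card_congr (subgroupOfEquivOfLe hRK).toEquiv, mul_comm]
      exact card_mul_index _
    rw [hK, hm, pow_succ'] at h1
    exact Nat.eq_of_mul_eq_mul_right (by positivity) h1
  haveI : (R.subgroupOf K).Normal := normal_of_index_eq_two hrel
  have hKn : K ≤ normalizer (R : Set G) := Subgroup.normal_subgroupOf_iff_le_normalizer hRK |>.1 inferInstance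
  have hKa : ∀ g ∈ K, g • a = a := fun g hg =>
    mem_stabilizer_iff.1 (r.normAM g (Suz.norm_R_le r tr (hKn hg)))
  obtain ⟨e, he, he1⟩ : ∃ e ∈ A, e ≠ 1 := by
    by_contra hno
    push Not at hno
    have h1 := r.card
    rw [(Subgroup.eq_bot_iff_forall A).2 hno, card_bot] at h1
    have := r.four
    omega
  obtain ⟨s, hs, hcs⟩ := tr.surj e he
  refine sz_points C he he1 (s := s) ?_ ?_
  · rw [← hcs]
    show _ = u * (u * (s * u * s⁻¹))
    rw [← mul_assoc, r.u_sq, one_mul]
  rw [show 2 * q ^ 3 = 2 ^ m by rw [← hm, hRcard]; ring]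
  refine dvd_points K hKa fun c hca => ?_
  set T := K ⊓ stabilizer G c
  have hK2 : IsPGroup 2 K := IsPGroup.of_card hK
  have hT2 : IsPGroup 2 T := hK2.to_le inf_le_left
  have hsmall : Nat.card T ≤ 2 := by
    by_contra hbig
    -- an involution of `R` in it
    obtain ⟨w, hwT, hwR, hw1⟩ : ∃ w ∈ T, w ∈ R ∧ w ≠ 1 := by
      by_contra hno
      push Not at hno
      have h1 : (R.relIndex T) = Nat.card T := by
        rw [← inf_relIndex_right, (Subgroup.eq_bot_iff_forall (R ⊓ T)).2 fun x hx =>
          hno x (mem_inf.1 hx).2 (mem_inf.1 hx).1, relIndex_bot_left]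
      have h2 : R.relIndex T ≤ R.relIndex K := relIndex_le_of_le_right inf_le_left (by rw [hrel]; norm_num)
      rw [h1, hrel] at h2
      exact hbig h2
    have hTR2 : IsPGroup 2 (T ⊓ R : Subgroup G) := hT2.to_le inf_le_left
    haveI : Nontrivial (T ⊓ R : Subgroup G) :=
      ⟨⟨w, mem_inf.2 ⟨hwT, hwR⟩⟩, 1, fun e => hw1 (congrArg Subtype.val e)⟩
    obtain ⟨i, hi0, hi⟩ := hTR2.nontrivial_iff_card.1 inferInstance
    obtain ⟨t, ht⟩ := exists_prime_orderOf_dvd_card' (G := (T ⊓ R : Subgroup G)) 2
      (hi ▸ dvd_pow_self 2 hi0.ne')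
    rw [← Subgroup.orderOf_coe] at ht
    obtain ⟨htT, htR⟩ := mem_inf.1 t.2
    have hTsub := sz_stab_small C r tr htR ht hca (mem_stabilizer_iff.1 (mem_inf.1 htT).2) hT2 htT
      (fun g hg => hKa g (mem_inf.1 hg).1) (fun g hg => mem_stabilizer_iff.1 (mem_inf.1 hg).2)
    refine hbig ?_
    have hle' : T ≤ zpowers (t : G) := fun g hg => by
      rcases hTsub g hg with rfl | rfl
      · exact one_mem _
      · exact mem_zpowers _
    exact (card_le_of_le hle').trans_eq (by rw [Nat.card_zpowers, ht])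
  obtain ⟨i, hi⟩ := hT2.exists_card_eq
  have hi1 : i ≤ 1 := (Nat.pow_le_pow_iff_right (show 1 < 2 by norm_num)).1 (by rw [pow_one, ← hi]; exact hsmall)
  have h1 : (T.subgroupOf K).index * 2 ^ i = 2 ^ (m + 1) := by
    rw [← hi, ← hK, ← Nat.card_congr (subgroupOfEquivOfLe (inf_le_left : T ≤ K)).toEquiv, mul_comm]
    exact card_mul_index _
  refine ⟨2 ^ (1 - i), Nat.eq_of_mul_eq_mul_right (show 0 < 2 ^ i by positivity) ?_⟩
  refine (show T.relIndex K * 2 ^ i = 2 ^ (m + 1) from h1).trans ?_
  rw [← pow_add, ← pow_add]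
  congr 1
  omega

end Cfsg.Lib.BenderSE.Crit2
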