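/-
The end at a point of a line of type U3 in the criterion (notes/s1175_h1_szu3.md, step 3): above `P = Q⟨u⟩` the
translations give a subgroup of index 2 of a Sylow 2-subgroup without conjugates of `u`, as each of its
involutions commutes with an abelian subgroup of order `q ^ 3`; so a simple group has no such line.
-/
import Cfsg.Agent.BenderSE.Criterion2.RootTranslate
import Cfsg.Agent.BenderSE.Criterion2.StateOfStep
import Cfsg.Agent.BenderSE.Criterion2.Pairing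
import Cfsg.Agent.InvolCalc.ElemCentField

set_option autoImplicit false
set_option linter.unusedSectionVars false
set_option linter.style.haveILetI false

namespace Cfsg.Lib.BenderSE.Crit2.Root

open Subgroup

universe uG

variable {G : Type uG} [Group G] [Finite G] {M : Subgroup G} {D : G → Prop} {u : G} {A Q X : Subgroup G}
  {e : G} {q : ℕ} {R : Subgroup G} {x' : G}

/-- the centre of `Q` is `A` -/
theorem centre_Q (r : Root M D u A Q X e q) {z : G} (hz : z ∈ Q) (hc : ∀ g ∈ Q, Commute z g) : z ∈ A := by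
  let Y : Subgroup G :=
    { carrier := {z | z ∈ Q ∧ ∀ g ∈ Q, Commute z g}
      one_mem' := ⟨one_mem Q, fun g _ => Commute.one_left g⟩
      mul_mem' := fun {a b} ha hb => ⟨mul_mem ha.1 hb.1, fun g hg => (ha.2 g hg).mul_left (hb.2 g hg)⟩
      inv_mem' := fun {a} ha => ⟨inv_mem ha.1, fun g hg => (ha.2 g hg).inv_left⟩ }
  have key : ∀ x ∈ X, ∀ y ∈ Y, x * y * x⁻¹ ∈ Y := fun x hx y hy =>
    ⟨(mem_normalizer_iff.1 (r.normQ hx) y).1 hy.1, fun g hg => by
      have h1 : x⁻¹ * g * x ∈ Q := by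
        have := (mem_normalizer_iff.1 (r.normQ (inv_mem hx)) g).1 hg
        rwa [inv_inv] at this
      have h2 := (hy.2 _ h1).eq
      calc x * y * x⁻¹ * g = x * (y * (x⁻¹ * g * x)) * x⁻¹ := by group
        _ = x * (x⁻¹ * g * x * y) * x⁻¹ := by rw [h2]
        _ = g * (x * y * x⁻¹) := by group⟩
  rcases r.irrX Y (fun a ha => ⟨r.leA ha, r.centA a ha⟩) (fun y hy => hy.1)
    (fun x hx => mem_normalizer_iff.2 fun y => ⟨key x hx y, fun h => by
      have := key x⁻¹ (inv_mem hx) _ h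
      rwa [show x⁻¹ * (x * y * x⁻¹) * x⁻¹⁻¹ = y by group] at this⟩) with h | h
  · exact h ▸ (⟨hz, hc⟩ : z ∈ Y)
  · exfalso
    have hQab : ∀ a ∈ Q, ∀ b ∈ Q, Commute a b := fun a ha b hb => ((h.symm ▸ ha : a ∈ Y)).2 b hb
    have hcP : ∀ a ∈ Q ⊔ zpowers u, ∀ b ∈ Q ⊔ zpowers u, Commute a b := by
      have k1 : ∀ a ∈ Q ⊔ zpowers u, ∀ b ∈ Q, Commute a b := fun a ha b hb => by
        rcases r.mem_P.1 ha with h1 | h1
        · exact hQab a h1 b hb
        · have h2 := (hQab _ h1 b hb).mul_left (r.centQ b hb).symm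
          rwa [mul_assoc, r.u_sq, mul_one] at h2
      intro a ha b hb
      rcases r.mem_P.1 hb with h1 | h1
      · exact k1 a ha b h1
      · have h2 := (k1 a ha _ h1).mul_right (r.u_commute ha)
        rwa [mul_assoc, r.u_sq, mul_one] at h2
    have h2 := r.abBound u r.memM (IsConj.refl u) (Q ⊔ zpowers u) r.P_le r.P_two hcP fun b hb => r.u_commute hb
    rw [r.card_P] at h2
    have h4 := r.four
    nlinarith [h2, Nat.mul_le_mul_right (q * q) h4]

/-- the part of the translations centralising `Q` meets `P` in `A⟨u⟩` -/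
theorem inf_P (r : Root M D u A Q X e q) {p : G} (hp : p ∈ Q ⊔ zpowers u)
    (hc : p ∈ centralizer (Q : Set G)) : p ∈ A ∨ p * u ∈ A := by
  have h1 : ∀ g ∈ Q, Commute p g := fun g hg => (mem_centralizer_iff.1 hc g hg).symm
  rcases r.mem_P.1 hp with h | h
  · exact Or.inl (centre_Q r h h1)
  · exact Or.inr (centre_Q r h fun g hg => (h1 g hg).mul_left (r.centQ g hg).symm)

theorem Trans.card_eq (r : Root M D u A Q X e q) (t : Trans M u A Q X R x') :
    Nat.card R = q * (2 * q ^ 3) := by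
  let χ : R →* A :=
    { toFun := fun k => ⟨cls u k.1, r.cls_mem (Climb.mem_ker.1 (t.leK k.2)).2.1⟩
      map_one' := Subtype.ext ((r.cls_eq_one).2 (Commute.one_left u))
      map_mul' := fun k l => Subtype.ext (r.cls_hom (t.leK k.2) (t.leK l.2)) }
  have hr : χ.range = ⊤ := MonoidHom.range_eq_top.2 fun a => by
    obtain ⟨p, hp, h⟩ := t.surj a.1 a.2
    exact ⟨⟨p, hp⟩, Subtype.ext h⟩
  have hk : χ.ker = (Q ⊔ zpowers u).subgroupOf R := by
    ext p
    rw [MonoidHom.mem_ker, mem_subgroupOf]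
    exact ⟨fun h => t.kerR p.1 p.2 (congrArg Subtype.val h),
      fun h => Subtype.ext (r.cls_eq_one.2 (r.u_commute h))⟩
  rw [← χ.ker.card_mul_index, index_ker, hr, card_top, hk, Nat.card_congr (subgroupOfEquivOfLe t.le).toEquiv,
    r.card_P, r.card, mul_comm]

/-- an alternating map on `A`, additive and equivariant under the lift of the torus, is trivial -/
theorem Trans.alternating (r : Root M D u A Q X e q) (t : Trans M u A Q X R x') (β : G → G → G)
    (hmem : ∀ a ∈ A, ∀ b ∈ A, β a b ∈ A)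
    (hl : ∀ a ∈ A, ∀ a' ∈ A, ∀ b ∈ A, β (a * a') b = β a b * β a' b)
    (hr : ∀ a ∈ A, ∀ b ∈ A, ∀ b' ∈ A, β a (b * b') = β a b * β a b')
    (halt : ∀ a ∈ A, β a a = 1)
    (heq : ∀ n : ℕ, ∀ a ∈ A, ∀ b ∈ A, β (x' ^ n * a * (x' ^ n)⁻¹) (x' ^ n * b * (x' ^ n)⁻¹) =
      x' ^ n * β a b * (x' ^ n)⁻¹) :
    ∀ a ∈ A, ∀ b ∈ A, β a b = 1 := by
  classical
  letI : CommGroup A :=
    { (inferInstance : Group A) with
      mul_comm := fun a b => Subtype.ext (r.centA a.1 a.2 b.1 (r.leA b.2)).eq }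
  have hn : ∀ n : ℕ, ∀ a ∈ A, x' ^ n * a * (x' ^ n)⁻¹ ∈ A := fun n a ha => r.norm_A (pow_mem t.normP n) ha
  let φ : ℕ → AddMonoid.End (Additive A) := fun n => AddMonoidHom.mk'
    (fun v => Additive.ofMul (⟨x' ^ n * v.toMul.1 * (x' ^ n)⁻¹, hn n _ v.toMul.2⟩ : A))
    (fun v w => congrArg Additive.ofMul (Subtype.ext (by
      show x' ^ n * (v.toMul.1 * w.toMul.1) * (x' ^ n)⁻¹ =
        x' ^ n * v.toMul.1 * (x' ^ n)⁻¹ * (x' ^ n * w.toMul.1 * (x' ^ n)⁻¹)
      group)))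
  have hcomm : ∀ i j, φ i * φ j = φ j * φ i := fun i j => AddMonoidHom.ext fun v =>
    congrArg Additive.ofMul (Subtype.ext (by
      show x' ^ i * (x' ^ j * v.toMul.1 * (x' ^ j)⁻¹) * (x' ^ i)⁻¹ = x' ^ j * (x' ^ i * v.toMul.1 * (x' ^ i)⁻¹) * (x' ^ j)⁻¹
      rw [show x' ^ i * (x' ^ j * v.toMul.1 * (x' ^ j)⁻¹) * (x' ^ i)⁻¹ = x' ^ i * x' ^ j * v.toMul.1 * (x' ^ i * x' ^ j)⁻¹
        by group, show x' ^ j * (x' ^ i * v.toMul.1 * (x' ^ i)⁻¹) * (x' ^ j)⁻¹ = x' ^ j * x' ^ i * v.toMul.1 *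
          (x' ^ j * x' ^ i)⁻¹ by group, ← pow_add, ← pow_add, Nat.add_comm]))
  haveI : Nontrivial A := Finite.one_lt_card_iff_nontrivial.1 (by rw [r.card]; have := r.four; omega)
  obtain ⟨t0, ht0⟩ := exists_ne (0 : Additive A)
  obtain ⟨F, _, _, hchar, -, χ, lam, -, hχ⟩ := Cfsg.Lib.ElemCent.exists_field (A := Additive A) (D := ℕ)
    (fun v => congrArg Additive.ofMul (Subtype.ext (r.elem _ v.toMul.2) : v.toMul * v.toMul = 1)) t0 ht0 φ hcomm
    fun a ha b hb => by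
      obtain ⟨x, hx, e1⟩ := r.transA _ a.toMul.2 _ b.toMul.2
        (fun e => ha (congrArg Additive.ofMul (Subtype.ext e : a.toMul = 1)))
        (fun e => hb (congrArg Additive.ofMul (Subtype.ext e : b.toMul = 1)))
      obtain ⟨n, hn'⟩ := t.gen x hx
      exact ⟨n, congrArg Additive.ofMul (Subtype.ext ((hn' _ a.toMul.2).symm.trans e1) :
        (⟨x' ^ n * a.toMul.1 * (x' ^ n)⁻¹, hn n _ a.toMul.2⟩ : A) = b.toMul)⟩
  let el : F → A := fun a => (χ.symm a).toMul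
  let bb : F → F → F := fun a b => χ (Additive.ofMul (⟨β (el a) (el b), hmem _ (el a).2 _ (el b).2⟩ : A))
  have hel : ∀ a a' : F, (el (a + a') : G) = el a * el a' := fun a a' => by
    simp only [el, map_add, toMul_add, Subgroup.coe_mul]
  have hbl : ∀ a a' b : F, bb (a + a') b = bb a b + bb a' b := fun a a' b => by
    show χ _ = χ _ + χ _
    rw [← map_add, ← ofMul_mul]
    refine congrArg (fun w : A => χ (Additive.ofMul w)) (Subtype.ext ?_)
    show β (el (a + a') : G) (el b) = β (el a) (el b) * β (el a') (el b)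
    rw [hel, hl _ (el a).2 _ (el a').2 _ (el b).2]
  have hbr : ∀ a b b' : F, bb a (b + b') = bb a b + bb a b' := fun a b b' => by
    show χ _ = χ _ + χ _
    rw [← map_add, ← ofMul_mul]
    refine congrArg (fun w : A => χ (Additive.ofMul w)) (Subtype.ext ?_)
    show β (el a : G) (el (b + b')) = β (el a) (el b) * β (el a) (el b')
    rw [hel, hr _ (el a).2 _ (el b).2 _ (el b').2]
  let B : F →+ F →+ F := AddMonoidHom.mk' (fun a => AddMonoidHom.mk' (bb a) (hbr a))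
    fun a a' => AddMonoidHom.ext fun b => hbl a a' b
  have h2 : (2 : F) = 0 := CharTwo.two_eq_zero
  have hB := Pairing.alternating_eq_zero h2 B (fun a => by
    show χ _ = 0
    rw [← map_zero χ]
    exact congrArg χ (congrArg Additive.ofMul (Subtype.ext (halt _ (el a).2) :
      (⟨β (el a) (el a), hmem _ (el a).2 _ (el a).2⟩ : A) = 1)))
    fun cc hcc a b => by
      show bb (cc * a) (cc * b) = cc * bb a b
      -- `cc` is the multiplication by a power of the lift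
      obtain ⟨n, hn'⟩ : ∃ n : ℕ, lam n = cc := by
        have h1 : χ.symm 1 ≠ 0 := fun e => one_ne_zero (α := F) (χ.symm.injective (e.trans (map_zero _).symm))
        have h3 : χ.symm cc ≠ 0 := fun e => hcc (χ.symm.injective (e.trans (map_zero _).symm))
        obtain ⟨x, hx, e1⟩ := r.transA _ (χ.symm 1).toMul.2 _ (χ.symm cc).toMul.2
          (fun e => h1 (congrArg Additive.ofMul (Subtype.ext e : (χ.symm 1).toMul = 1)))
          (fun e => h3 (congrArg Additive.ofMul (Subtype.ext e : (χ.symm cc).toMul = 1)))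
        obtain ⟨n, hn'⟩ := t.gen x hx
        refine ⟨n, ?_⟩
        have h4 := hχ n (χ.symm 1)
        rw [χ.apply_symm_apply, mul_one, show φ n (χ.symm 1) = χ.symm cc from congrArg Additive.ofMul
          (Subtype.ext ((hn' _ (χ.symm 1).toMul.2).symm.trans e1) :
            (⟨x' ^ n * (χ.symm 1).toMul.1 * (x' ^ n)⁻¹, hn n _ (χ.symm 1).toMul.2⟩ : A) = (χ.symm cc).toMul),
          χ.apply_symm_apply] at h4
        exact h4.symm
      have hsym : ∀ a : F, (el (cc * a) : G) = x' ^ n * (el a).1 * (x' ^ n)⁻¹ := fun a => by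
        have h4 := hχ n (χ.symm a)
        rw [χ.apply_symm_apply, hn'] at h4
        show ((χ.symm (cc * a)).toMul : G) = _
        rw [← h4, χ.symm_apply_apply]
        rfl
      have h5 := hχ n (Additive.ofMul (⟨β (el a) (el b), hmem _ (el a).2 _ (el b).2⟩ : A))
      rw [hn'] at h5
      rw [show cc * bb a b = _ from h5.symm]
      refine congrArg χ (congrArg Additive.ofMul (Subtype.ext ?_))
      show β (el (cc * a) : G) (el (cc * b)) = x' ^ n * β (el a) (el b) * (x' ^ n)⁻¹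
      rw [hsym, hsym, heq n _ (el a).2 _ (el b).2]
  intro a ha b hb
  have h6 : bb (χ (Additive.ofMul (⟨a, ha⟩ : A))) (χ (Additive.ofMul (⟨b, hb⟩ : A))) = 0 := by
    show B _ _ = 0
    rw [hB]
    rfl
  have h7 : (⟨β a b, hmem a ha b hb⟩ : A) = 1 := by
    refine Additive.ofMul.injective (χ.injective ?_)
    rw [ofMul_one, map_zero, ← h6]
    refine congrArg χ (congrArg Additive.ofMul (Subtype.ext ?_))
    show β a b = β (el (χ (Additive.ofMul (⟨a, ha⟩ : A)))).1 (el (χ (Additive.ofMul (⟨b, hb⟩ : A)))).1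
    simp only [el, AddEquiv.symm_apply_apply, toMul_ofMul]
  exact congrArg Subtype.val h7

/-- the index two subgroup of the translations without conjugates of `u` -/
theorem Trans.exists_avoid (r : Root M D u A Q X e q) (t : Trans M u A Q X R x') :
    ∃ T : Subgroup G, T ≤ R ∧ T.relIndex R = 2 ∧ ∀ g : G, g * u * g⁻¹ ∉ T := by
  classical
  obtain ⟨hQn, hsup⟩ := t.supplement r
  have hu := r.u_sq
  let W : Subgroup G := R ⊓ centralizer (Q : Set G)
  have hWR : W ≤ R := inf_le_left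
  have hWQ : ∀ {w : G}, w ∈ W → ∀ z ∈ Q, Commute w z := fun hw z hz =>
    (mem_centralizer_iff.1 (mem_inf.1 hw).2 z hz).symm
  have hAR : A ≤ R := r.leA.trans (le_sup_left.trans t.le)
  have hAW : A ≤ W := fun a ha => mem_inf.2 ⟨hAR ha, mem_centralizer_iff.2 fun z hz => (r.centA a ha z hz).symm⟩
  have huW : u ∈ W := mem_inf.2 ⟨t.le u_mem_P, mem_centralizer_iff.2 fun z hz => (r.centQ z hz).eq⟩
  have hRA : ∀ {g : G}, g ∈ R → ∀ a ∈ A, Commute g a := fun hg => (Climb.mem_ker.1 (t.leK hg)).2.2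
  have hcl : ∀ {g h : G}, g ∈ R → h ∈ R → cls u (g * h) = cls u g * cls u h := fun hg hh =>
    r.cls_hom (t.leK hg) (t.leK hh)
  have hclA : ∀ {g : G}, g ∈ R → cls u g ∈ A := fun hg => r.cls_mem (Climb.mem_ker.1 (t.leK hg)).2.1
  have hclP : ∀ {p : G}, p ∈ Q ⊔ zpowers u → cls u p = 1 := fun hp => r.cls_eq_one.2 (r.u_commute hp)
  have hclinv : ∀ {g : G}, g ∈ R → cls u g⁻¹ = cls u g := fun {g} hg => by
    have h1 : cls u g⁻¹ * cls u g = 1 := by rw [← hcl (inv_mem hg) hg, inv_mul_cancel]; exact hclP (one_mem _)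
    rw [eq_inv_of_mul_eq_one_left h1, inv_eq_of_mul_eq_one_right (r.elem _ (hclA hg))]
  have hWP : ∀ {w : G}, w ∈ W → cls u w = 1 → w ∈ A ∨ w * u ∈ A := fun hw hc =>
    inf_P r (t.kerR _ (hWR hw) hc) (mem_inf.1 hw).2
  -- `W / A` has exponent two
  have hsq : ∀ w ∈ W, w * w ∈ A := by
    intro w hw
    have hwR := hWR hw
    rcases hWP (mul_mem hw hw) (by rw [hcl hwR hwR, r.elem _ (hclA hwR)]) with h | h
    · exact h
    · exfalso
      set a := w * w * u with ha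
      obtain ⟨p, hp, hpa⟩ := t.surj a h
      have hww : p * u * p⁻¹ = w * w := by
        have h1 : u * (u * (p * u * p⁻¹)) = u * a := by rw [show u * (p * u * p⁻¹) = a from hpa]
        rw [← mul_assoc, hu, one_mul] at h1
        rw [h1, ← ((hRA (t.le u_mem_P)) a h).symm.eq, ha, mul_assoc, hu, mul_one]
      have hc : Commute (p⁻¹ * w * p) u := by
        show p⁻¹ * w * p * u = u * (p⁻¹ * w * p)
        calc p⁻¹ * w * p * u = p⁻¹ * (w * (p * u * p⁻¹)) * p := by group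
          _ = p⁻¹ * (p * u * p⁻¹ * w) * p := by rw [hww, mul_assoc w w w]
          _ = u * (p⁻¹ * w * p) := by group
      have h2 := t.kerR _ (mul_mem (mul_mem (inv_mem hp) hwR) hp) (r.cls_eq_one.2 hc)
      have h3 : w ∈ Q ⊔ zpowers u := by
        have h4 := (mem_normalizer_iff.1 (Climb.mem_ker.1 (t.leK hp)).2.1 _).1 h2
        rwa [show p * (p⁻¹ * w * p) * p⁻¹ = w by group] at h4
      have h5 := r.sq_mem h3
      have h6 := mul_mem (inv_mem h5) (r.leA h)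
      rw [ha, inv_mul_cancel_left] at h6
      exact r.notQ h6
  have hcommW : ∀ v ∈ W, ∀ w ∈ W, v * w * v⁻¹ * w⁻¹ ∈ A := by
    intro v hv w hw
    have h1 : v * w * v⁻¹ * w⁻¹ = v * w * (v * w) * ((w⁻¹ * v⁻¹ * w) * (w⁻¹ * v⁻¹ * w)) * (w⁻¹ * w⁻¹) := by group
    rw [h1]
    exact mul_mem (mul_mem (hsq _ (mul_mem hv hw)) (hsq _ (mul_mem (mul_mem (inv_mem hw) (inv_mem hv)) hw)))
      (hsq _ (inv_mem hw))
  -- the lift of the torus
  have hxW : ∀ n : ℕ, ∀ w ∈ W, x' ^ n * w * (x' ^ n)⁻¹ ∈ W := fun n w hw => mem_inf.2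
    ⟨(mem_normalizer_iff.1 (pow_mem t.normR n) w).1 (hWR hw), mem_centralizer_iff.2 fun z hz => by
      have h1 : (x' ^ n)⁻¹ * z * x' ^ n ∈ Q := by
        have := (mem_normalizer_iff.1 (inv_mem (t.norm_Q_pow r n)) z).1 hz
        rwa [inv_inv] at this
      have h2 := (hWQ hw _ h1).eq
      calc z * (x' ^ n * w * (x' ^ n)⁻¹) = x' ^ n * ((x' ^ n)⁻¹ * z * x' ^ n * w) * (x' ^ n)⁻¹ := by group
        _ = x' ^ n * (w * ((x' ^ n)⁻¹ * z * x' ^ n)) * (x' ^ n)⁻¹ := by rw [h2]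
        _ = x' ^ n * w * (x' ^ n)⁻¹ * z := by group⟩
  have hxc : ∀ n : ℕ, ∀ g, cls u (x' ^ n * g * (x' ^ n)⁻¹) = x' ^ n * cls u g * (x' ^ n)⁻¹ := fun n g =>
    r.cls_conj (t.cent.pow_left n) g
  have hxu : ∀ n : ℕ, x' ^ n * u * (x' ^ n)⁻¹ = u := fun n => by
    rw [(t.cent.pow_left n).eq, mul_inv_cancel_right]
  have hxA : ∀ n : ℕ, ∀ a ∈ A, x' ^ n * a * (x' ^ n)⁻¹ ∈ A := fun n a ha => r.norm_A (pow_mem t.normP n) ha
  -- fixed point free on `A`
  have hfpf : ∀ a ∈ A, x' * a * x'⁻¹ = a → a = 1 := by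
    intro a ha hfix
    by_contra ha1
    have hpow : ∀ n : ℕ, x' ^ n * a * (x' ^ n)⁻¹ = a := fun n => by
      induction n with
      | zero => simp
      | succ n ih =>
        rw [pow_succ, show x' ^ n * x' * a * (x' ^ n * x')⁻¹ = x' ^ n * (x' * a * x'⁻¹) * (x' ^ n)⁻¹ by group,
          hfix, ih]
    let f : A → Bool := fun b => decide ((b : G) = 1)
    have hall : ∀ b ∈ A, b = 1 ∨ b = a := fun b hb => or_iff_not_imp_left.2 fun hb1 => by
      obtain ⟨x, hx, rfl⟩ := r.transA a ha b hb ha1 hb1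
      obtain ⟨n, hn⟩ := t.gen x hx
      rw [hn a ha, hpow]
    have hf : Function.Injective f := fun b b' e1 => by
      have e' := decide_eq_decide.1 e1
      rcases hall b b.2 with h | h <;> rcases hall b' b'.2 with h' | h'
      · exact Subtype.ext (h.trans h'.symm)
      · exact Subtype.ext (h.trans (e'.1 h).symm)
      · exact Subtype.ext ((e'.2 h').trans h'.symm)
      · exact Subtype.ext (h.trans h'.symm)
    have := Nat.card_le_card_of_injective f hf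
    rw [r.card, Nat.card_eq_fintype_card, Fintype.card_bool] at this
    have := r.four
    omega
  let ψ : G → G := fun w => w⁻¹ * (x' * w * x'⁻¹)
  have hψW : ∀ w ∈ W, ψ w ∈ W := fun w hw => mul_mem (inv_mem hw) (by simpa using hxW 1 w hw)
  have hψA : ∀ a ∈ A, ψ a ∈ A := fun a ha => mul_mem (inv_mem ha) (by simpa using hxA 1 a ha)
  have hψmul : ∀ v ∈ W, ∀ w ∈ W, ∃ a ∈ A, ψ (v * w) = ψ v * ψ w * a := by
    intro v hv w hw
    refine ⟨(ψ v * ψ w)⁻¹ * ψ (v * w), ?_, (mul_inv_cancel_left _ _).symm⟩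
    have h := hcommW _ (inv_mem (hψW w hw)) _ (mul_mem (inv_mem (hψW v hv)) (inv_mem hw))
    have hc := hcommW _ (inv_mem hw) _ (hψW v hv)
    have h2 : (ψ v * ψ w)⁻¹ * ψ (v * w) =
        (ψ w)⁻¹ * ((ψ v)⁻¹ * (w⁻¹ * ψ v * w⁻¹⁻¹ * (ψ v)⁻¹) * ψ v) * ψ w := by
      simp only [ψ]; group
    rw [h2]
    have hcA : ∀ {g a : G}, g ∈ W → a ∈ A → g⁻¹ * a * g = a := fun {g a} hg ha => by
      rw [mul_assoc, ← (hRA (hWR hg) a ha).eq, inv_mul_cancel_left]
    rw [hcA (hψW v hv) hc, hcA (hψW w hw) hc]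
    exact hc
  let TW : Subgroup G :=
    { carrier := {s | s ∈ W ∧ ∃ w ∈ W, (ψ w)⁻¹ * s ∈ A}
      one_mem' := ⟨one_mem W, 1, one_mem W, by simp [ψ]⟩
      mul_mem' := by
        rintro s s' ⟨hs, v, hv, h1⟩ ⟨hs', w, hw, h2⟩
        refine ⟨mul_mem hs hs', v * w, mul_mem hv hw, ?_⟩
        obtain ⟨a, ha, e1⟩ := hψmul v hv w hw
        have h3 : (ψ w)⁻¹ * ((ψ v)⁻¹ * s) = (ψ v)⁻¹ * s * (ψ w)⁻¹ :=
          (hRA (hWR (inv_mem (hψW w hw))) _ h1).eq
        rw [e1, show (ψ v * ψ w * a)⁻¹ * (s * s') = a⁻¹ * ((ψ w)⁻¹ * ((ψ v)⁻¹ * s)) * s' by group, h3,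
          show a⁻¹ * ((ψ v)⁻¹ * s * (ψ w)⁻¹) * s' = a⁻¹ * ((ψ v)⁻¹ * s) * ((ψ w)⁻¹ * s') by group]
        exact mul_mem (mul_mem (inv_mem ha) h1) h2
      inv_mem' := by
        rintro s ⟨hs, v, hv, h1⟩
        refine ⟨inv_mem hs, v⁻¹, inv_mem hv, ?_⟩
        obtain ⟨a, ha, e1⟩ := hψmul v hv v⁻¹ (inv_mem hv)
        rw [mul_inv_cancel, show ψ 1 = 1 by simp [ψ]] at e1
        have e2 : (ψ v⁻¹)⁻¹ = a * ψ v := by
          calc (ψ v⁻¹)⁻¹ = a * (ψ v * ψ v⁻¹ * a)⁻¹ * ψ v := by group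
            _ = a * ψ v := by rw [← e1, inv_one, mul_one]
        have h3 : ψ v * s⁻¹ = ψ v * ((ψ v)⁻¹ * s)⁻¹ * (ψ v)⁻¹ := by group
        rw [e2, mul_assoc, h3, (hRA (hWR (hψW v hv)) _ (inv_mem h1)).eq, mul_inv_cancel_right]
        exact mul_mem ha (inv_mem h1) }
  have hTWW : TW ≤ W := fun s hs => hs.1
  have hATW : A ≤ TW := fun a ha => ⟨hAW ha, 1, one_mem W, by simpa [ψ] using ha⟩
  have hTWx : ∀ n : ℕ, ∀ s ∈ TW, x' ^ n * s * (x' ^ n)⁻¹ ∈ TW := fun n s ⟨hs, w, hw, h1⟩ =>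
    ⟨hxW n s hs, x' ^ n * w * (x' ^ n)⁻¹, hxW n w hw, by
      have h2 := hxA n _ h1
      rwa [show x' ^ n * ((ψ w)⁻¹ * s) * (x' ^ n)⁻¹ =
        (x' ^ n * ψ w * (x' ^ n)⁻¹)⁻¹ * (x' ^ n * s * (x' ^ n)⁻¹) by group,
        show x' ^ n * ψ w * (x' ^ n)⁻¹ = ψ (x' ^ n * w * (x' ^ n)⁻¹) by
          show x' ^ n * (w⁻¹ * (x' * w * x'⁻¹)) * (x' ^ n)⁻¹ =
            (x' ^ n * w * (x' ^ n)⁻¹)⁻¹ * (x' * (x' ^ n * w * (x' ^ n)⁻¹) * x'⁻¹)
          rw [show x' * (x' ^ n * w * (x' ^ n)⁻¹) * x'⁻¹ = x' * x' ^ n * w * (x' * x' ^ n)⁻¹ by group,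
            ← pow_succ', pow_succ]
          group] at h2⟩
  have hcψ : ∀ w ∈ W, cls u (ψ w) = cls u w * (x' * cls u w * x'⁻¹) := fun w hw => by
    have hx1 : x' * w * x'⁻¹ ∈ R := hWR (by simpa using hxW 1 w hw)
    show cls u (w⁻¹ * (x' * w * x'⁻¹)) = _
    rw [hcl (inv_mem (hWR hw)) hx1, hclinv (hWR hw), r.cls_conj t.cent]
  have huTW : u ∉ TW := by
    rintro ⟨-, w, hw, h1⟩
    have h2 := hclP (mem_sup_left (r.leA h1) : (ψ w)⁻¹ * u ∈ Q ⊔ zpowers u)
    rw [hcl (hWR (inv_mem (hψW w hw))) (hWR huW), hclinv (hWR (hψW w hw)), hclP u_mem_P, mul_one, hcψ w hw] at h2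
    have ha := hclA (hWR hw)
    have h3 : x' * cls u w * x'⁻¹ = cls u w :=
      (eq_inv_of_mul_eq_one_right h2).trans (inv_eq_of_mul_eq_one_right (r.elem _ ha))
    have hψin : ψ w ∈ A := by
      rcases hWP hw (hfpf _ ha h3) with h4 | h4
      · exact hψA w h4
      · have h5 := hψA _ h4
        have h6 : ψ (w * u) = u⁻¹ * ψ w * u⁻¹⁻¹ := by
          show (w * u)⁻¹ * (x' * (w * u) * x'⁻¹) = u⁻¹ * (w⁻¹ * (x' * w * x'⁻¹)) * u⁻¹⁻¹
          rw [show x' * (w * u) * x'⁻¹ = x' * w * (u * x'⁻¹) by group, ← t.cent.inv_left.eq]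
          group
        have h7 := (hRA (t.le u_mem_P) _ h5).eq
        rw [h6] at h5 h7
        rw [show ψ w = u * (u⁻¹ * ψ w * u⁻¹⁻¹) * u⁻¹ by group, h7, mul_inv_cancel_right]
        exact h5
    exact r.notQ (r.leA (by simpa using mul_mem hψin h1))
  have hsTW : ∀ a ∈ A, ∃ s ∈ TW, cls u s = a := by
    intro a ha
    let g : A → A := fun b => ⟨b.1 * (x' * b.1 * x'⁻¹), mul_mem b.2 (by simpa using hxA 1 b.1 b.2)⟩
    have hg : Function.Injective g := fun b b' e1 => by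
      have e2 : b.1 * (x' * b.1 * x'⁻¹) = b'.1 * (x' * b'.1 * x'⁻¹) := congrArg Subtype.val e1
      have hm : ∀ p ∈ A, ∀ p' ∈ A, p * p' = p' * p := fun p hp p' hp' => (r.centA p hp p' (r.leA hp')).eq
      have hb' := inv_mem b'.2
      have h3 : x' * (b'.1⁻¹ * b.1) * x'⁻¹ = b'.1⁻¹ * b.1 := by
        have hxb : x' * b.1 * x'⁻¹ ∈ A := by simpa using hxA 1 b.1 b.2
        have e3 : x' * b.1 * x'⁻¹ = b.1⁻¹ * b'.1 * (x' * b'.1 * x'⁻¹) := by
          rw [mul_assoc b.1⁻¹, ← e2, inv_mul_cancel_left]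
        calc x' * (b'.1⁻¹ * b.1) * x'⁻¹ = (x' * b'.1 * x'⁻¹)⁻¹ * (x' * b.1 * x'⁻¹) := by group
          _ = (x' * b'.1 * x'⁻¹)⁻¹ * (b.1⁻¹ * b'.1 * (x' * b'.1 * x'⁻¹)) := by rw [e3]
          _ = b.1⁻¹ * b'.1 := by
            rw [hm (b.1⁻¹ * b'.1) (mul_mem (inv_mem b.2) b'.2) _ (by simpa using hxA 1 b'.1 b'.2), inv_mul_cancel_left]
          _ = b'.1⁻¹ * b.1 := by
            rw [inv_eq_of_mul_eq_one_right (r.elem _ b.2), inv_eq_of_mul_eq_one_right (r.elem _ b'.2),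
              hm _ b.2 _ b'.2]
      exact Subtype.ext (inv_mul_eq_one.1 (hfpf _ (mul_mem hb' b.2) h3)).symm
    obtain ⟨b, hb⟩ := (Finite.injective_iff_surjective.1 hg) ⟨a, ha⟩
    obtain ⟨y, hy, hyb⟩ := t.surj b.1 b.2
    obtain ⟨z, hz, hzW⟩ := hsup y hy
    refine ⟨ψ (y * z), ⟨hψW _ hzW, y * z, hzW, by simp⟩, ?_⟩
    rw [hcψ _ hzW, hcl hy (t.le (mem_sup_left hz)), hclP (mem_sup_left hz), mul_one, hyb]
    exact congrArg Subtype.val hb
  have hTWA : ∀ s ∈ TW, cls u s = 1 → s ∈ A := fun s hs hc => by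
    rcases hWP (hTWW hs) hc with h | h
    · exact h
    · exact absurd (by simpa using mul_mem (inv_mem hs) (hATW h)) huTW
  have hTQ : ∀ s ∈ TW, s ∈ Q → s ∈ A := fun s hs h => hTWA s hs (hclP (mem_sup_left h))
  -- `TW` is abelian
  choose! σ hσ hσc using hsTW
  have hσeq : ∀ s ∈ TW, ∃ a ∈ A, s = σ (cls u s) * a := fun s hs => by
    have ha := hclA (hWR (hTWW hs))
    have hσW := hWR (hTWW (hσ _ ha))
    refine ⟨(σ (cls u s))⁻¹ * s, hTWA _ (mul_mem (inv_mem (hσ _ ha)) hs) ?_, (mul_inv_cancel_left _ _).symm⟩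
    rw [hcl (inv_mem hσW) (hWR (hTWW hs)), hclinv hσW, hσc _ ha, r.elem _ ha]
  let br : G → G → G := fun s s' => s * s' * s⁻¹ * s'⁻¹
  have hbrA : ∀ s ∈ TW, ∀ s' ∈ TW, br s s' ∈ A := fun s hs s' hs' => hcommW s (hTWW hs) s' (hTWW hs')
  have hbr_l : ∀ s ∈ TW, ∀ s' ∈ TW, ∀ v ∈ TW, br (s * s') v = br s v * br s' v := fun s hs s' hs' v hv => by
    have h1 := hbrA s hs v hv
    have h2 := hbrA s' hs' v hv
    calc br (s * s') v = s * br s' v * (v * s⁻¹ * v⁻¹) := by simp only [br]; group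
      _ = br s' v * s * (v * s⁻¹ * v⁻¹) := by rw [(hRA (hWR (hTWW hs)) _ h2).eq]
      _ = br s' v * br s v := by simp only [br]; group
      _ = br s v * br s' v := (r.centA _ h2 _ (r.leA h1)).eq
  have hbr_r : ∀ v ∈ TW, ∀ s ∈ TW, ∀ s' ∈ TW, br v (s * s') = br v s * br v s' := fun v hv s hs s' hs' => by
    have h2 := hbrA v hv s' hs'
    calc br v (s * s') = v * s * v⁻¹ * (br v s' * s⁻¹) := by simp only [br]; group
      _ = v * s * v⁻¹ * (s⁻¹ * br v s') := by rw [(hRA (hWR (hTWW (inv_mem hs))) _ h2).eq]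
      _ = br v s * br v s' := by simp only [br]; group
  have hbrA1 : ∀ a ∈ A, ∀ v ∈ TW, br a v = 1 ∧ br v a = 1 := fun a ha v hv => by
    have h := (hRA (hWR (hTWW hv)) a ha).eq
    constructor
    · show a * v * a⁻¹ * v⁻¹ = 1
      rw [← h, mul_inv_cancel_right, mul_inv_cancel]
    · show v * a * v⁻¹ * a⁻¹ = 1
      rw [h, mul_inv_cancel_right, mul_inv_cancel]
  have hbrσ : ∀ s ∈ TW, ∀ s' ∈ TW, br s s' = br (σ (cls u s)) (σ (cls u s')) := fun s hs s' hs' => by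
    obtain ⟨a, ha, e1⟩ := hσeq s hs
    obtain ⟨b, hb, e2⟩ := hσeq s' hs'
    have hσs := hσ _ (hclA (hWR (hTWW hs)))
    have hσs' := hσ _ (hclA (hWR (hTWW hs')))
    conv_lhs => rw [e1, e2]
    rw [hbr_l _ hσs _ (hATW ha) _ (mul_mem hσs' (hATW hb)), (hbrA1 a ha _ (mul_mem hσs' (hATW hb))).1, mul_one,
      hbr_r _ hσs _ hσs' _ (hATW hb), (hbrA1 b hb _ hσs).2, mul_one]
  have hzero : ∀ a ∈ A, ∀ b ∈ A, br (σ a) (σ b) = 1 := by
    refine t.alternating r (fun a b => br (σ a) (σ b)) (fun a ha b hb => hbrA _ (hσ a ha) _ (hσ b hb))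
      (fun a ha a' ha' b hb => ?_) (fun a ha b hb b' hb' => ?_) (fun a _ => ?_) (fun n a ha b hb => ?_)
    · have h1 := hbrσ _ (mul_mem (hσ a ha) (hσ a' ha')) _ (hσ b hb)
      rw [hcl (hWR (hTWW (hσ a ha))) (hWR (hTWW (hσ a' ha'))), hσc a ha, hσc a' ha', hσc b hb] at h1
      show br (σ (a * a')) (σ b) = br (σ a) (σ b) * br (σ a') (σ b)
      rw [← h1, hbr_l _ (hσ a ha) _ (hσ a' ha') _ (hσ b hb)]
    · have h1 := hbrσ _ (hσ a ha) _ (mul_mem (hσ b hb) (hσ b' hb'))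
      rw [hcl (hWR (hTWW (hσ b hb))) (hWR (hTWW (hσ b' hb'))), hσc a ha, hσc b hb, hσc b' hb'] at h1
      show br (σ a) (σ (b * b')) = br (σ a) (σ b) * br (σ a) (σ b')
      rw [← h1, hbr_r _ (hσ a ha) _ (hσ b hb) _ (hσ b' hb')]
    · show σ a * σ a * (σ a)⁻¹ * (σ a)⁻¹ = 1
      group
    · have h1 := hbrσ _ (hTWx n _ (hσ a ha)) _ (hTWx n _ (hσ b hb))
      rw [hxc, hxc, hσc a ha, hσc b hb] at h1
      show br (σ (x' ^ n * a * (x' ^ n)⁻¹)) (σ (x' ^ n * b * (x' ^ n)⁻¹)) = x' ^ n * br (σ a) (σ b) * (x' ^ n)⁻¹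
      rw [← h1]
      simp only [br]
      group
  have hab : ∀ s ∈ TW, ∀ s' ∈ TW, Commute s s' := fun s hs s' hs' => by
    have h1 := hzero _ (hclA (hWR (hTWW hs))) _ (hclA (hWR (hTWW hs')))
    rw [← hbrσ s hs s' hs'] at h1
    show s * s' = s' * s
    exact mul_inv_eq_iff_eq_mul.1 (mul_inv_eq_one.1 h1)
  have hTWcard : q ^ 2 ≤ Nat.card TW := by
    have hinj : Function.Injective fun p : A × A =>
        (⟨σ p.1.1 * p.2.1, mul_mem (hσ _ p.1.2) (hATW p.2.2)⟩ : TW) := by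
      rintro ⟨a, b⟩ ⟨a', b'⟩ e1
      have e2 : σ a.1 * b.1 = σ a'.1 * b'.1 := congrArg Subtype.val e1
      have e3 := congrArg (cls u) e2
      rw [hcl (hWR (hTWW (hσ _ a.2))) (hAR b.2), hcl (hWR (hTWW (hσ _ a'.2))) (hAR b'.2),
        hclP (mem_sup_left (r.leA b.2)), hclP (mem_sup_left (r.leA b'.2)), hσc _ a.2, hσc _ a'.2, mul_one,
        mul_one] at e3
      obtain rfl : a = a' := Subtype.ext e3
      obtain rfl : b = b' := Subtype.ext (mul_left_cancel e2)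
      rfl
    have := Nat.card_le_card_of_injective _ hinj
    rw [Nat.card_prod, r.card, ← pow_two] at this
    exact this
  -- the subgroup of index two
  let T : Subgroup G :=
    { carrier := {g | ∃ z ∈ Q, ∃ s ∈ TW, g = z * s}
      one_mem' := ⟨1, one_mem Q, 1, one_mem TW, (one_mul 1).symm⟩
      mul_mem' := by
        rintro _ _ ⟨z, hz, s, hs, rfl⟩ ⟨z', hz', s', hs', rfl⟩
        refine ⟨z * z', mul_mem hz hz', s * s', mul_mem hs hs', ?_⟩
        rw [show z * s * (z' * s') = z * (s * z') * s' by group, (hWQ (hTWW hs) z' hz').eq]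
        group
      inv_mem' := by
        rintro _ ⟨z, hz, s, hs, rfl⟩
        refine ⟨z⁻¹, inv_mem hz, s⁻¹, inv_mem hs, ?_⟩
        rw [mul_inv_rev, (hWQ (hTWW (inv_mem hs)) _ (inv_mem hz)).eq] }
  have hQR : Q ≤ R := le_sup_left.trans t.le
  have hTR : T ≤ R := by
    rintro _ ⟨z, hz, s, hs, rfl⟩
    exact mul_mem (hQR hz) (hWR (hTWW hs))
  have huT : u ∉ T := by
    rintro ⟨z, hz, s, hs, e1⟩
    have hc : cls u s = 1 := by
      have h1 := congrArg (cls u) e1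
      rw [hcl (hQR hz) (hWR (hTWW hs)), hclP (mem_sup_left hz), one_mul, hclP u_mem_P] at h1
      exact h1.symm
    exact r.notQ (e1 ▸ mul_mem hz (r.leA (hTWA s hs hc)))
  have hidx : T.relIndex R = 2 := by
    rw [relIndex, index_eq_two_iff]
    refine ⟨⟨u, t.le u_mem_P⟩, fun b => ?_⟩
    simp only [mem_subgroupOf, Subgroup.coe_mul]
    have hdec : (b : G) ∈ T ∨ (b : G) * u ∈ T := by
      obtain ⟨z, hz, hzW⟩ := hsup b.1 b.2
      have ha := hclA (hWR hzW)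
      have hs := hσ _ ha
      have hd : (σ (cls u ((b : G) * z)))⁻¹ * ((b : G) * z) ∈ W := mul_mem (inv_mem (hTWW hs)) hzW
      rcases hWP hd (by rw [hcl (inv_mem (hWR (hTWW hs))) (hWR hzW), hclinv (hWR (hTWW hs)), hσc _ ha,
        r.elem _ ha]) with h | h
      · left
        have hm : (b : G) * z ∈ TW := by simpa using mul_mem hs (hATW h)
        exact ⟨z⁻¹, inv_mem hz, _, hm, by rw [← (hWQ (hTWW hm) _ (inv_mem hz)).eq, mul_inv_cancel_right]⟩
      · right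
        have hm : (b : G) * z * u ∈ TW := by simpa [mul_assoc] using mul_mem hs (hATW h)
        refine ⟨z⁻¹, inv_mem hz, _, hm, ?_⟩
        rw [← (hWQ (hTWW hm) _ (inv_mem hz)).eq,
          show (b : G) * z * u * z⁻¹ = (b : G) * z * (u * z⁻¹) by group, ← ((r.centQ z hz).inv_left).eq]
        group
    rcases hdec with h | h
    · exact Or.inr ⟨h, fun e1 => huT (by simpa using mul_mem (inv_mem h) e1)⟩
    · exact Or.inl ⟨h, fun e1 => huT (by simpa using mul_mem (inv_mem e1) h)⟩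
  refine ⟨T, hTR, hidx, fun g hg => ?_⟩
  -- an abelian subgroup of order `q ^ 3` centralising a conjugate
  obtain ⟨z, hz, s, hs, hv⟩ := hg
  obtain ⟨x, hxQ, hxA', hzx⟩ : ∃ x ∈ Q, x ∉ A ∧ (z ∈ A ∨ z = x) := by
    by_cases hzA : z ∈ A
    · obtain ⟨x, hx, hxA'⟩ : ∃ x ∈ Q, x ∉ A := by
        by_contra hno
        push Not at hno
        have h1 := Subgroup.card_le_of_le (fun g hg => hno g hg : Q ≤ A)
        rw [r.cardQ, r.card] at h1
        have := r.four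
        nlinarith [h1, Nat.mul_le_mul this this]
      exact ⟨x, hx, hxA', Or.inl hzA⟩
    · exact ⟨z, hz, hzA, Or.inr rfl⟩
  obtain ⟨B, hBQ, hxB, hBc, hBcard⟩ := r.abQ x hxQ hxA'
  let C : Subgroup G :=
    { carrier := {g | ∃ b ∈ B, ∃ s ∈ TW, g = b * s}
      one_mem' := ⟨1, one_mem B, 1, one_mem TW, (one_mul 1).symm⟩
      mul_mem' := by
        rintro _ _ ⟨b, hb, s, hs, rfl⟩ ⟨b', hb', s', hs', rfl⟩
        refine ⟨b * b', mul_mem hb hb', s * s', mul_mem hs hs', ?_⟩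
        rw [show b * s * (b' * s') = b * (s * b') * s' by group, (hWQ (hTWW hs) b' (hBQ hb')).eq]
        group
      inv_mem' := by
        rintro _ ⟨b, hb, s, hs, rfl⟩
        refine ⟨b⁻¹, inv_mem hb, s⁻¹, inv_mem hs, ?_⟩
        rw [mul_inv_rev, (hWQ (hTWW (inv_mem hs)) _ (hBQ (inv_mem hb))).eq] }
  have hCT : C ≤ T := by
    rintro _ ⟨b, hb, s, hs, rfl⟩
    exact ⟨b, hBQ hb, s, hs, rfl⟩
  have hCc : ∀ g ∈ C, ∀ g' ∈ C, Commute g g' := by
    rintro _ ⟨b, hb, s, hs, rfl⟩ _ ⟨b', hb', s', hs', rfl⟩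
    exact ((hBc b hb b' hb').mul_right (hWQ (hTWW hs') b (hBQ hb)).symm).mul_left
      ((hWQ (hTWW hs) b' (hBQ hb')).mul_right (hab s hs s' hs'))
  have hcz : ∀ g' ∈ C, Commute z g' := by
    rcases hzx with h | h
    · rintro _ ⟨b, hb, s', hs', rfl⟩
      exact (r.centA z h b (hBQ hb)).mul_right (hRA (hWR (hTWW hs')) z h).symm
    · exact fun g' hg' => hCc z ⟨z, h.symm ▸ hxB, 1, one_mem TW, (mul_one z).symm⟩ g' hg'
  have hCv : ∀ g' ∈ C, Commute g' (g * u * g⁻¹) := fun g' hg' => by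
    rw [hv]
    exact ((hcz g' hg').symm).mul_right (hCc g' hg' s ⟨1, one_mem B, s, hs, (one_mul s).symm⟩)
  have hR2 := t.two
  have hvM : g * u * g⁻¹ ∈ M := (Climb.mem_ker.1 (t.leK (hTR ⟨z, hz, s, hs, hv⟩))).1
  have hcard := r.abBound _ hvM (isConj_iff.2 ⟨g, rfl⟩) C
    (fun c hc => (Climb.mem_ker.1 (t.leK (hTR (hCT hc)))).1) (hR2.to_le (hCT.trans hTR)) hCc hCv
  -- count `C`
  have hbig : Nat.card B * Nat.card TW ≤ Nat.card C * q := by
    let f : B × TW → C := fun p => ⟨p.1.1 * p.2.1, p.1.1, p.1.2, p.2.1, p.2.2, rfl⟩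
    have key : ∀ c : C, Nat.card {p : B × TW // f p = c} ≤ q := by
      intro c
      rcases isEmpty_or_nonempty {p : B × TW // f p = c} with hE | ⟨⟨p₀, hp₀⟩⟩
      · simp
      rw [← r.card]
      refine Nat.card_le_card_of_injective (fun p => (⟨p₀.2.1 * p.1.2.1⁻¹, hTQ _ (mul_mem p₀.2.2 (inv_mem p.1.2.2)) ?_⟩ : A))
        fun p p' e1 => ?_
      · have h1 : p.1.1.1 * p.1.2.1 = p₀.1.1 * p₀.2.1 := congrArg Subtype.val (p.2.trans hp₀.symm)
        rw [show p₀.2.1 * p.1.2.1⁻¹ = p₀.1.1⁻¹ * p.1.1.1 by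
          calc p₀.2.1 * p.1.2.1⁻¹ = p₀.1.1⁻¹ * (p₀.1.1 * p₀.2.1) * p.1.2.1⁻¹ := by group
            _ = _ := by rw [← h1]; group]
        exact mul_mem (inv_mem (hBQ p₀.1.2)) (hBQ p.1.1.2)
      · have h1 : p.1.2 = p'.1.2 := Subtype.ext (inv_injective (mul_left_cancel (congrArg Subtype.val e1)))
        have h2 : p.1.1.1 * p.1.2.1 = p'.1.1.1 * p'.1.2.1 := congrArg Subtype.val (p.2.trans p'.2.symm)
        rw [h1] at h2
        exact Subtype.ext (Prod.ext (Subtype.ext (mul_right_cancel h2)) h1)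
    letI := Fintype.ofFinite C
    rw [← Nat.card_prod, Nat.card_congr (Equiv.sigmaFiberEquiv f).symm, Nat.card_sigma]
    refine (Finset.sum_le_sum fun c _ => key c).trans ?_
    rw [Finset.sum_const, Finset.card_univ, smul_eq_mul, Nat.card_eq_fintype_card]
  have h4 := r.four
  have h5 := Nat.mul_le_mul hBcard hTWcard
  have h6 := Nat.mul_le_mul_right q hcard
  have h7 : 4 * q * q ^ 2 ≤ 2 * q ^ 2 * q := h5.trans (hbig.trans h6)
  have h8 : 0 < q ^ 3 := by positivity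
  nlinarith [h7, h8]

/-- **The U3 end**: a simple group has no line of type U3 with kernel `⟨u⟩` and `|S| ≤ 2 q |Q|` -/
theorem unitary_end [IsSimpleGroup G] (hna : ¬ IsMulCommutative G) (r : Root M D u A Q X e q)
    (S : Sylow 2 G) (hSM : (S : Subgroup G) ≤ M) (hPS : Q ⊔ zpowers u ≤ S)
    (hS : Nat.card (S : Subgroup G) ≤ q * (2 * q ^ 3)) : False := by
  haveI : Fact (Nat.Prime 2) := ⟨Nat.prime_two⟩
  by_cases hne : Q ⊔ zpowers u = S
  · refine false_of_index_two hna S Q (le_sup_left.trans hPS) ?_ r.two fun g hg => ?_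
    · rw [← hne, relIndex, index_eq_two_iff]
      refine ⟨⟨u, u_mem_P⟩, fun b => ?_⟩
      simp only [mem_subgroupOf, Subgroup.coe_mul]
      rcases r.mem_P.1 b.2 with h | h
      · exact Or.inr ⟨h, fun e1 => r.notQ (by simpa using mul_mem (inv_mem h) e1)⟩
      · exact Or.inl ⟨h, fun e1 => r.notQ (by simpa using mul_mem (inv_mem e1) h)⟩
    · have h1 := mul_mem (r.leA (r.conj_mem (mem_sup_left hg) (isConj_iff.2 ⟨g, rfl⟩))) (inv_mem hg)
      rw [mul_inv_cancel_right] at h1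
      exact r.notQ h1
  obtain ⟨R, x', t⟩ := r.exists_trans S hSM hPS hne
  obtain ⟨T, hTR, hidx, hout⟩ := t.exists_avoid r
  obtain ⟨S1, hS1⟩ := t.two.exists_le_sylow
  have hc : Nat.card (S1 : Subgroup G) = Nat.card (S : Subgroup G) := by
    rw [S1.card_eq_multiplicity, S.card_eq_multiplicity]
  have hR : R = (S1 : Subgroup G) :=
    Subgroup.eq_of_le_of_card_ge hS1 (hc.le.trans (hS.trans (t.card_eq r).ge))
  exact false_of_index_two hna S1 T (hR ▸ hTR) (hR ▸ hidx) r.two hout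

end Cfsg.Lib.BenderSE.Crit2.Root
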