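/-
The translations at a point of a line of type U3 in the criterion: modulo `A` they form an elementary abelian
group, every element of `A` is the square of one centralising `Q` (so the involutions among them are at least
`q ^ 3`), and a translation conjugate to `u` with one class gives `q ^ 2` such conjugates.
-/
import Cfsg.Agent.BenderSE.Criterion2.UnitaryEnd

set_option autoImplicit false
set_option linter.unusedSectionVars false
set_option linter.style.haveILetI false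

namespace Cfsg.Lib.BenderSE.Crit2.Root

open Subgroup

variable {G : Type*} [Group G] [Finite G] {M : Subgroup G} {D : G → Prop} {u : G} {A Q X R : Subgroup G}
  {x' e : G} {q : ℕ}

theorem Trans.centA (t : Trans M u A Q X R x') {g : G} (hg : g ∈ R) {d : G} (hd : d ∈ A) : Commute g d :=
  (Climb.mem_ker.1 (t.leK hg)).2.2 d hd

theorem Trans.cls_mul (r : Root M D u A Q X e q) (t : Trans M u A Q X R x') {g h : G} (hg : g ∈ R) (hh : h ∈ R) :
    cls u (g * h) = cls u g * cls u h :=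
  r.cls_hom (t.leK hg) (t.leK hh)

theorem Trans.cls_mem (r : Root M D u A Q X e q) (t : Trans M u A Q X R x') {g : G} (hg : g ∈ R) :
    cls u g ∈ A :=
  r.cls_mem (Climb.mem_ker.1 (t.leK hg)).2.1

/-- the squares of the translations centralising `Q` lie in `A` -/
theorem Trans.sq_W (r : Root M D u A Q X e q) (t : Trans M u A Q X R x') {w : G}
    (hw : w ∈ R ⊓ centralizer (Q : Set G)) : w * w ∈ A := by
  have hwR : w ∈ R := (mem_inf.1 hw).1
  rcases inf_P r (t.kerR _ (mul_mem hwR hwR) (by rw [t.cls_mul r hwR hwR, r.elem _ (t.cls_mem r hwR)]))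
    (mul_mem (mem_inf.1 hw).2 (mem_inf.1 hw).2) with h | h
  · exact h
  exfalso
  obtain ⟨p, hp, hpa⟩ := t.surj _ h
  have hww : p * u * p⁻¹ = w * w := by
    have h1 : u * (u * (p * u * p⁻¹)) = u * (w * w * u) := by rw [show u * (p * u * p⁻¹) = w * w * u from hpa]
    rw [← mul_assoc, r.u_sq, one_mul] at h1
    rw [h1, (t.centA (t.le u_mem_P) h).eq, mul_assoc, r.u_sq, mul_one]
  have hc : Commute (p⁻¹ * w * p) u := by
    show p⁻¹ * w * p * u = u * (p⁻¹ * w * p)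
    calc p⁻¹ * w * p * u = p⁻¹ * (w * (p * u * p⁻¹)) * p := by group
      _ = p⁻¹ * (p * u * p⁻¹ * w) * p := by rw [hww, mul_assoc w w w]
      _ = u * (p⁻¹ * w * p) := by group
  have h2 := t.kerR _ (mul_mem (mul_mem (inv_mem hp) hwR) hp) (r.cls_eq_one.2 hc)
  have h3 : w ∈ Q ⊔ zpowers u := by
    have h4 := (mem_normalizer_iff.1 (Climb.mem_ker.1 (t.leK hp)).2.1 _).1 h2
    rwa [show p * (p⁻¹ * w * p) * p⁻¹ = w by group] at h4
  have h6 := mul_mem (inv_mem (r.sq_mem h3)) (r.leA h)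
  rw [inv_mul_cancel_left] at h6
  exact r.notQ h6

/-- modulo `A` the translations form an elementary group -/
theorem Trans.sq_mem (r : Root M D u A Q X e q) (t : Trans M u A Q X R x')
    (hsqQ : ∀ g ∈ Q, g * g ∈ A) {g : G} (hg : g ∈ R) : g * g ∈ A := by
  obtain ⟨y, hy, hgy⟩ := (t.supplement r).2 g hg
  have hc : Commute (g * y) y := (mem_centralizer_iff.1 (mem_inf.1 hgy).2 y hy).symm
  have hy' : Commute (g * y) y⁻¹ := hc.inv_right
  rw [show g * g = g * y * y⁻¹ * (g * y * y⁻¹) by group, hy'.symm.mul_mul_mul_comm]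
  exact mul_mem (t.sq_W r hgy) (hsqQ _ (inv_mem hy))

theorem Trans.comm_mem (r : Root M D u A Q X e q) (t : Trans M u A Q X R x')
    (hsqQ : ∀ g ∈ Q, g * g ∈ A) {s v : G} (hs : s ∈ R) (hv : v ∈ R) : s * v * s⁻¹ * v⁻¹ ∈ A := by
  rw [show s * v * s⁻¹ * v⁻¹ = s * v * (s * v) * (v⁻¹ * (s⁻¹ * s⁻¹) * v) * (v⁻¹ * v⁻¹) by group]
  refine mul_mem (mul_mem (t.sq_mem r hsqQ (mul_mem hs hv)) ?_) (t.sq_mem r hsqQ (inv_mem hv))
  have h1 := t.sq_mem r hsqQ (inv_mem hs)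
  rw [mul_assoc v⁻¹, (t.centA hv h1).symm.eq, inv_mul_cancel_left]
  exact h1

/-- the commutator with a fixed translation, as a homomorphism -/
theorem Trans.exists_pair (r : Root M D u A Q X e q) (t : Trans M u A Q X R x')
    (hsqQ : ∀ g ∈ Q, g * g ∈ A) {v : G} (hv : v ∈ R) :
    ∃ χ : R →* A, ∀ s : R, (χ s : G) = s * v * (s : G)⁻¹ * v⁻¹ := by
  refine ⟨{ toFun := fun s => ⟨_, t.comm_mem r hsqQ s.2 hv⟩
            map_one' := Subtype.ext (show (1 : G) * v * (1 : G)⁻¹ * v⁻¹ = 1 by group)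
            map_mul' := fun s s' => Subtype.ext ?_ }, fun s => rfl⟩
  show (s : G) * s' * v * ((s : G) * s')⁻¹ * v⁻¹ = s * v * (s : G)⁻¹ * v⁻¹ * (s' * v * (s' : G)⁻¹ * v⁻¹)
  have hc := t.comm_mem r hsqQ s'.2 hv
  have hd := t.comm_mem r hsqQ s.2 hv
  set c := (s' : G) * v * (s' : G)⁻¹ * v⁻¹ with hcdef
  calc (s : G) * s' * v * ((s : G) * s')⁻¹ * v⁻¹ = s * c * v * (s : G)⁻¹ * v⁻¹ := by rw [hcdef]; group
    _ = c * (s * v * (s : G)⁻¹ * v⁻¹) := by rw [(t.centA s.2 hc).eq]; group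
    _ = _ := (r.centA _ hc _ (r.leA hd)).eq

/-- every element of `A` is the square of a translation centralising `Q` -/
theorem Trans.exists_root (r : Root M D u A Q X e q) (t : Trans M u A Q X R x') {d : G} (hd : d ∈ A) :
    ∃ w ∈ R ⊓ centralizer (Q : Set G), w * w = d := by
  by_cases hd1 : d = 1
  · exact ⟨1, one_mem _, by rw [one_mul, hd1]⟩
  obtain ⟨w0, hw0, h0⟩ : ∃ w ∈ R ⊓ centralizer (Q : Set G), w * w ≠ 1 := by
    by_contra hno
    push Not at hno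
    obtain ⟨a, ha, ha1⟩ : ∃ a ∈ A, a ≠ 1 := ⟨d, hd, hd1⟩
    obtain ⟨y, hy, hya⟩ := t.surj a ha
    obtain ⟨g, hg, hyg⟩ := (t.supplement r).2 y hy
    have huW : u ∈ R ⊓ centralizer (Q : Set G) :=
      mem_inf.2 ⟨t.le u_mem_P, mem_centralizer_iff.2 fun z hz => (r.centQ z hz).eq⟩
    have h1 := hno _ hyg
    have h2 := hno _ (mul_mem hyg huW)
    refine ha1 ?_
    have hcl : cls u (y * g) = a := by
      rw [t.cls_mul r hy (t.le (mem_sup_left hg)), r.cls_eq_one.2 (r.centQ g hg), mul_one, hya]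
    rw [← hcl]
    show u * (y * g * u * (y * g)⁻¹) = 1
    have hi : (y * g)⁻¹ = y * g := inv_eq_of_mul_eq_one_right h1
    calc u * (y * g * u * (y * g)⁻¹) = u * (y * g * u * (y * g)) := by rw [hi]
      _ = u * (y * g * u * (y * g) * (u * u)) := by rw [r.u_sq, mul_one]
      _ = u * (y * g * u * (y * g * u)) * u := by group
      _ = 1 := by rw [h2, mul_one, r.u_sq]
  obtain ⟨x, hx, hxd⟩ := r.transA _ (t.sq_W r hw0) d hd h0 hd1
  obtain ⟨n, hn⟩ := t.gen x hx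
  refine ⟨x' ^ n * w0 * (x' ^ n)⁻¹, mem_inf.2 ⟨(mem_normalizer_iff.1 (pow_mem t.normR n) _).1 (mem_inf.1 hw0).1,
    mem_centralizer_iff.2 fun z hz => ?_⟩, ?_⟩
  · have h1 : (x' ^ n)⁻¹ * z * (x' ^ n)⁻¹⁻¹ ∈ Q := (mem_normalizer_iff.1 (inv_mem (t.norm_Q_pow r n)) z).1 hz
    have h2 := mem_centralizer_iff.1 (mem_inf.1 hw0).2 _ h1
    calc z * (x' ^ n * w0 * (x' ^ n)⁻¹) = x' ^ n * ((x' ^ n)⁻¹ * z * (x' ^ n)⁻¹⁻¹ * w0) * (x' ^ n)⁻¹ := by group
      _ = x' ^ n * (w0 * ((x' ^ n)⁻¹ * z * (x' ^ n)⁻¹⁻¹)) * (x' ^ n)⁻¹ := by rw [h2]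
      _ = _ := by group
  · rw [← hxd, hn _ (t.sq_W r hw0)]
    group

/-- the translations have at least `q ^ 3` elements of order at most two -/
theorem Trans.card_involutions (r : Root M D u A Q X e q) (t : Trans M u A Q X R x')
    (hsqQ : ∀ g ∈ Q, g * g ∈ A) : q ^ 3 ≤ {g : G | g ∈ R ∧ g * g = 1}.ncard := by
  have hex : ∀ d : A, ∃ w, w ∈ R ⊓ centralizer (Q : Set G) ∧ w * w = d.1 := fun d => t.exists_root r d.2
  choose σ hσ hσ2 using hex
  let f : Q → {g : G | g ∈ R ∧ g * g = 1} := fun g => ⟨g.1 * σ ⟨g.1 * g.1, hsqQ _ g.2⟩,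
    mul_mem (t.le (mem_sup_left g.2)) (mem_inf.1 (hσ _)).1, by
      rw [(show Commute (σ ⟨g.1 * g.1, hsqQ _ g.2⟩) g.1 from
        (mem_centralizer_iff.1 (mem_inf.1 (hσ _)).2 _ g.2).symm).mul_mul_mul_comm, hσ2]
      exact r.elem _ (hsqQ _ g.2)⟩
  have hf : Function.Injective f := by
    intro g g' heq
    have h1 : g.1 * σ ⟨g.1 * g.1, hsqQ _ g.2⟩ = g'.1 * σ ⟨g'.1 * g'.1, hsqQ _ g'.2⟩ := congrArg Subtype.val heq
    have hA : g.1⁻¹ * g'.1 ∈ A := by
      refine centre_Q r (mul_mem (inv_mem g.2) g'.2) fun y hy => ?_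
      have hm : g.1⁻¹ * g'.1 ∈ centralizer (Q : Set G) := by
        rw [show g.1⁻¹ * g'.1 = σ ⟨g.1 * g.1, hsqQ _ g.2⟩ * (σ ⟨g'.1 * g'.1, hsqQ _ g'.2⟩)⁻¹ by
          rw [eq_mul_inv_iff_mul_eq, mul_assoc, ← h1, inv_mul_cancel_left]]
        exact mul_mem (mem_inf.1 (hσ _)).2 (inv_mem (mem_inf.1 (hσ _)).2)
      exact (mem_centralizer_iff.1 hm y hy).symm
    have hsq : g'.1 * g'.1 = g.1 * g.1 := by
      obtain ⟨a, ha, ea⟩ : ∃ a ∈ A, g'.1 = g.1 * a := ⟨_, hA, (mul_inv_cancel_left _ _).symm⟩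
      rw [ea, (r.centA a ha g.1 g.2).mul_mul_mul_comm, r.elem a ha, mul_one]
    rw [show (⟨g'.1 * g'.1, hsqQ _ g'.2⟩ : A) = ⟨g.1 * g.1, hsqQ _ g.2⟩ from Subtype.ext hsq] at h1
    exact Subtype.ext (mul_right_cancel h1)
  have := Nat.card_le_card_of_injective f hf
  rwa [r.cardQ, Nat.card_coe_set_eq] at this

/-- a conjugate of `u` outside `P` gives `q ^ 2` conjugates among the translations -/
theorem Trans.card_conjugates (r : Root M D u A Q X e q) (t : Trans M u A Q X R x')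
    (hsqQ : ∀ g ∈ Q, g * g ∈ A) {w : G} (hwR : w ∈ R) (hwu : IsConj u w) (hw1 : cls u w ≠ 1) :
    q ^ 2 ≤ {g : G | g ∈ R ∧ IsConj u g}.ncard := by
  have hrep : ∀ d : A, ∃ v, v ∈ R ∧ IsConj u v ∧ cls u v = d.1 := by
    intro d
    by_cases hd : d.1 = 1
    · exact ⟨u, t.le u_mem_P, IsConj.refl u, (r.cls_eq_one.2 (Commute.refl u)).trans hd.symm⟩
    obtain ⟨x, hx, hxd⟩ := r.transA _ (t.cls_mem r hwR) d.1 d.2 hw1 hd
    obtain ⟨n, hn⟩ := t.gen x hx
    exact ⟨_, (mem_normalizer_iff.1 (pow_mem t.normR n) w).1 hwR, hwu.trans (isConj_iff.2 ⟨x' ^ n, rfl⟩),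
      by rw [r.cls_conj (t.cent.pow_left n), ← hn _ (t.cls_mem r hwR), hxd]⟩
  choose v hvR hvu hvd using hrep
  have hshift : ∀ d a : A, a.1 * v d ∈ R ∧ IsConj u (a.1 * v d) ∧ cls u (a.1 * v d) = d.1 := by
    intro d a
    obtain ⟨χ, hχ⟩ := t.exists_pair r hsqQ (hvR d)
    have hker : Nat.card χ.ker ≤ 2 * q ^ 3 := by
      rw [← card_map_of_injective R.subtype_injective]
      refine r.bound _ (Climb.mem_ker.1 (t.leK (hvR d))).1 (hvu d) _
        (fun g hg => (Climb.mem_ker.1 (t.leK (map_subtype_le _ hg))).1) (t.two.to_le (map_subtype_le _)) ?_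
      rintro _ ⟨s, hs, rfl⟩
      have h1 := congrArg Subtype.val (MonoidHom.mem_ker.1 hs)
      rw [hχ s] at h1
      exact mul_inv_eq_iff_eq_mul.1 (mul_inv_eq_one.1 h1)
    have htop : χ.range = ⊤ := by
      refine Subgroup.eq_top_of_le_card _ ?_
      rw [r.card, ← index_ker]
      have h1 := χ.ker.card_mul_index
      rw [t.card_eq r] at h1
      have h2 : q * (2 * q ^ 3) ≤ 2 * q ^ 3 * χ.ker.index := h1 ▸ Nat.mul_le_mul_right _ hker
      have h4 := r.four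
      exact Nat.le_of_mul_le_mul_left (by linarith) (show 0 < 2 * q ^ 3 by positivity)
    obtain ⟨s, hs⟩ := MonoidHom.range_eq_top.1 htop a
    have e1 : (s : G) * v d * (s : G)⁻¹ = a.1 * v d := by
      rw [← hs, hχ s]; group
    refine ⟨mul_mem (t.le (mem_sup_left (r.leA a.2))) (hvR d), e1 ▸ (hvu d).trans (isConj_iff.2 ⟨s, rfl⟩), ?_⟩
    rw [t.cls_mul r (t.le (mem_sup_left (r.leA a.2))) (hvR d), r.cls_eq_one.2 (r.centQ _ (r.leA a.2)), one_mul, hvd]
  let f : A × A → {g : G | g ∈ R ∧ IsConj u g} := fun p => ⟨p.2.1 * v p.1, (hshift p.1 p.2).1, (hshift p.1 p.2).2.1⟩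
  have hf : Function.Injective f := by
    rintro ⟨d, a⟩ ⟨d', a'⟩ heq
    have h1 : a.1 * v d = a'.1 * v d' := congrArg Subtype.val heq
    obtain rfl : d = d' := Subtype.ext (((hshift d a).2.2).symm.trans (h1 ▸ (hshift d' a').2.2))
    exact Prod.ext rfl (Subtype.ext (mul_right_cancel h1))
  have := Nat.card_le_card_of_injective f hf
  rwa [Nat.card_prod, r.card, ← pow_two, Nat.card_coe_set_eq] at this

end Cfsg.Lib.BenderSE.Crit2.Root
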