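/-
Aschbacher's criterion, the line of type U3 of the chosen involution: every involution among the translations
that is no member fixes `q ^ 3` points of its own away from the centre, there are at least `q ^ 3` involutions and
`q ^ 2` conjugates of `u` among them, and the count of the points then bounds the Sylow 2-subgroup by `2 q ^ 4`.
-/
import Cfsg.Agent.BenderSE.Criterion2.UnitaryTrans
import Cfsg.Agent.BenderSE.Criterion2.RootFit
import Cfsg.Agent.BenderSE.Criterion2.RootEight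
import Cfsg.Agent.BenderSE.Criterion2.GraphKernel
import Cfsg.Agent.BenderSE.Criterion2.GraphCent
import Cfsg.Agent.BenderSE.Criterion2.SuzukiCount

set_option autoImplicit false
set_option linter.unusedSectionVars false
set_option linter.style.haveILetI false

namespace Cfsg.Lib.BenderSE.Crit2

open Subgroup MulAction Cfsg.Lib.InvolCalc Cfsg.Lib.BenderSE.CritDep

universe u

variable {G : Type u} [Group G] [Finite G] {α : Type u} [MulAction G α] {z : G}
  {u : G} {a : α} {A Q X : Subgroup G} {q : ℕ}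

/-- a 2-group through `u` fixing `a` and another fixed point of `u` is `⟨u⟩`, if `Q⟨u⟩` is maximal -/
theorem u3_two_fix (h : Crit G α z) (hu : orderOf u = 2) (hua : u • a = a) (L : LineData z u a A Q X q 3)
    (hC : ∀ B : Subgroup G, IsPGroup 2 B → (∀ b ∈ B, b • a = a) → (∀ b ∈ B, Commute b u) →
      Q ⊔ zpowers u ≤ B → B = Q ⊔ zpowers u)
    {c : α} (huc : u • c = c) (hca : c ≠ a) {T : Subgroup G} (hT : IsPGroup 2 T) (huT : u ∈ T)
    (hTa : ∀ g ∈ T, g • a = a) (hTc : ∀ g ∈ T, g • c = c) : ∀ g ∈ T, g = 1 ∨ g = u := by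
  classical
  haveI : Fact (Nat.Prime 2) := ⟨Nat.prime_two⟩
  obtain ⟨S, hQS, huS, hSa, hsyl⟩ := exists_line_sylow h hua hu L
  have hu2 := sq_of_order_two hu
  have hQu : ∀ x ∈ Q, Commute x u := fun x hx => commute_of_mem (L.Qle hx)
  -- in `P`
  have hCS : (S : Subgroup G) ⊓ centralizer ({u} : Set G) = Q ⊔ zpowers u := by
    refine hC _ (S.isPGroup'.to_le inf_le_left) (fun b hb => hSa b (mem_inf.1 hb).1)
      (fun b hb => mem_centralizer_singleton_iff.1 (mem_inf.1 hb).2) (sup_le ?_ ?_)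
    · exact fun x hx => mem_inf.2 ⟨hQS hx, mem_centralizer_singleton_iff.2 (hQu x hx).eq⟩
    · exact zpowers_le.2 (mem_inf.2 ⟨huS, mem_centralizer_singleton_iff.2 rfl⟩)
  have hP : ∀ p ∈ Q ⊔ zpowers u, ∀ x : α, u • x = x → x ≠ a → p • x = x → p = 1 ∨ p = u := by
    intro p hp x hux hxa hpx
    rw [← SetLike.mem_coe, coe_mul_of_right_le_normalizer_left _ _ (zpowers_le.2 (centralizer_le_normalizer _
      (mem_centralizer_iff.2 fun y hy => (hQu y hy).eq)))] at hp
    obtain ⟨y, hy, w, hw, rfl⟩ := hp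
    rw [mul_smul, show w • x = x from
      mem_stabilizer_iff.1 (zpowers_le.2 (mem_stabilizer_iff.2 hux) hw)] at hpx
    have hy1 : y = 1 := (L.regQ x (mem_line.2 hux) x (mem_line.2 hux) hxa hxa).unique ⟨hy, hpx⟩
      ⟨one_mem Q, one_smul G x⟩
    show y * w = 1 ∨ y * w = u
    rw [hy1, one_mul]
    exact mem_zpowers_involution hu2 hw
  -- the part commuting with `u`
  have hcu : ∀ g ∈ T, Commute g u → g = 1 ∨ g = u := by
    intro g hg hgu
    obtain ⟨k, hk, hkV⟩ := hsyl (zpowers g) (hT.to_le (zpowers_le.2 hg))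
      (zpowers_le.2 (mem_inf.2 ⟨mem_centralizer_singleton_iff.2 hgu.eq, mem_stabilizer_iff.2 (hTa g hg)⟩))
    have hku : Commute k u := mem_centralizer_singleton_iff.1 (mem_inf.1 hk).1
    have hka : k • a = a := mem_stabilizer_iff.1 (mem_inf.1 hk).2
    have h1 : k⁻¹ * g * k ∈ Q ⊔ zpowers u := hCS.le (mem_inf.2 ⟨hkV g (mem_zpowers g),
      mem_centralizer_singleton_iff.2 ((hku.inv_left.mul_left hgu).mul_left hku).eq⟩)
    have h2 : k⁻¹ * g * k = 1 ∨ k⁻¹ * g * k = u := by
      refine hP _ h1 (k⁻¹ • c) ?_ (fun e => hca ?_) ?_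
      · rw [smul_smul, ← hku.inv_left.eq, mul_smul, huc]
      · rw [inv_smul_eq_iff, hka] at e; exact e
      · rw [mul_smul, mul_smul, smul_inv_smul, hTc g hg]
    rcases h2 with e | e
    · left
      calc g = k * (k⁻¹ * g * k) * k⁻¹ := by group
        _ = 1 := by rw [e, mul_one, mul_inv_cancel]
    · right
      calc g = k * (k⁻¹ * g * k) * k⁻¹ := by group
        _ = u := by rw [e, hku.eq, mul_inv_cancel_right]
  -- a central element
  haveI : Nontrivial T :=
    ⟨⟨u, huT⟩, 1, fun e => ne_one_of_order_two hu (congrArg Subtype.val e)⟩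
  haveI := hT.center_nontrivial
  obtain ⟨w, hw⟩ := exists_ne (1 : center T)
  have hwc : ∀ g ∈ T, Commute (w.1 : T).1 g := fun g hg =>
    congrArg Subtype.val ((mem_center_iff.1 w.2 ⟨g, hg⟩).symm)
  intro g hg
  rcases hcu _ w.1.2 (hwc u huT) with e | e
  · exact absurd (Subtype.ext (Subtype.ext e)) hw
  · exact hcu g hg (e ▸ hwc g hg).symm

/-- the kernel of such an involution has order two -/
theorem u3_kernel_le (h : Crit G α z) (hu : orderOf u = 2) (hua : u • a = a) (L : LineData z u a A Q X q 3)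
    (hC : ∀ B : Subgroup G, IsPGroup 2 B → (∀ b ∈ B, b • a = a) → (∀ b ∈ B, Commute b u) →
      Q ⊔ zpowers u ≤ B → B = Q ⊔ zpowers u) : kernelNum α u ≤ 2 := by
  haveI : Fact (Nat.Prime 2) := ⟨Nat.prime_two⟩
  obtain ⟨V, ⟨hV, hVu⟩, hcard⟩ := exists_kernel α u
  obtain ⟨b, hub, hba⟩ := exists_other_point L
  have hT : IsPGroup 2 (V ⊔ zpowers u : Subgroup G) :=
    hV.to_sup_of_normal_left' (isPGroup_zpowers_of_two hu) (zpowers_le.2 (centralizer_le_normalizer _
      (mem_centralizer_iff.2 fun x hx => (hVu x hx).1.eq)))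
  have hfix : ∀ p : α, u • p = p → ∀ g ∈ V ⊔ zpowers u, g • p = p := fun p hp g hg => mem_stabilizer_iff.1
    ((sup_le (fun x hx => mem_stabilizer_iff.2 ((hVu x hx).2 p hp)) (zpowers_le.2 (mem_stabilizer_iff.2 hp)) :
      V ⊔ zpowers u ≤ stabilizer G p) hg)
  have hle : V ≤ zpowers u := fun g hg => by
    rcases u3_two_fix h hu hua L hC hub hba hT (mem_sup_right (mem_zpowers u)) (hfix a hua) (hfix b hub) g
      (mem_sup_left hg) with rfl | rfl
    · exact one_mem _
    · exact mem_zpowers g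
  rw [← hcard, ← hu, ← Nat.card_zpowers]
  exact card_le_of_le hle

variable [IsPretransitive G α] [FaithfulSMul G α]

/-- the maximality of `Q⟨u⟩` -/
theorem LineCase.u3_max (C : LineCase α z u a A Q X q 3)
    (hone : ∀ t : G, orderOf t = 2 → Commute t u → (∀ p : α, u • p = p → t • p = p) →
      (∀ d ∈ A, Commute t d) → t = u) :
    ∀ B : Subgroup G, IsPGroup 2 B → (∀ b ∈ B, b • a = a) → (∀ b ∈ B, Commute b u) →
      Q ⊔ zpowers u ≤ B → B = Q ⊔ zpowers u := by
  haveI : Finite α := C.crit.finite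
  exact fun B h1 h2 h3 h4 => C.cent_eq (C.strong_kernel hone) h1 h2 h3 h4

/-- an involution of the translations with two fixed points has `q ^ 3` others, fixed by no other 2-element -/
theorem u3_stab_small (C : LineCase α z u a A Q X q 3)
    (hC : ∀ B : Subgroup G, IsPGroup 2 B → (∀ b ∈ B, b • a = a) → (∀ b ∈ B, Commute b u) →
      Q ⊔ zpowers u ≤ B → B = Q ⊔ zpowers u)
    {T₀ : Subgroup G} {e : G} (r : Root (stabilizer G a) (fun d => IsConj z d) u A Q T₀ e q)
    {R : Subgroup G} {x' : G} (tr : Root.Trans (stabilizer G a) u A Q T₀ R x') {t : G} (htR : t ∈ R)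
    (ht : orderOf t = 2) {c : α} (hca : c ≠ a) (htc : t • c = c) :
    Nat.card (fixedBy α t) = q ^ 3 + 1 ∧ ∀ T : Subgroup G, IsPGroup 2 T → t ∈ T → (∀ g ∈ T, g • a = a) →
      (∀ g ∈ T, g • c = c) → ∀ g ∈ T, g = 1 ∨ g = t := by
  classical
  haveI : Fact (Nat.Prime 2) := ⟨Nat.prime_two⟩
  haveI := C.simple
  have h := C.crit
  haveI : Finite α := h.finite
  have L := C.data
  have hu := r.two
  have hua := C.fixa
  have hsqQ : ∀ g ∈ Q, g * g ∈ A := fun g hg => r.sq_Q hg
  have hRa : ∀ {g : G}, g ∈ R → g • a = a := fun hg => mem_stabilizer_iff.1 (Climb.mem_ker.1 (tr.leK hg)).1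
  have hRA : ∀ {g : G}, g ∈ R → ∀ d ∈ A, Commute g d := fun hg d hd => tr.centA hg hd
  have hclA : IsClique z u A := fun g hg => by
    rcases eq_or_ne g 1 with rfl | hg1
    · exact ⟨Commute.one_right u, fun e => absurd rfl e⟩
    · exact ⟨(L.memA g hg hg1).2.1, fun _ => (L.memA g hg hg1).1⟩
  have hqu : cliqueNum z u = q := cliqueNum_eq h hu hua L
  have hfu : Nat.card (fixedBy α u) = q ^ 3 + 1 := card_fixedBy_line L
  -- involutions of `P`
  have hPinv : ∀ w ∈ Q ⊔ zpowers u, orderOf w = 2 → ∀ c : α, c ≠ a → w • c = c → ∀ T : Subgroup G, IsPGroup 2 T →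
      w ∈ T → (∀ g ∈ T, g • a = a) → (∀ g ∈ T, g • c = c) → ∀ g ∈ T, g = 1 ∨ g = w := by
    intro w hw hw2 c hca hwc T hT hwT hTa hTc
    have hww := sq_of_order_two hw2
    rcases r.mem_P.1 hw with hQ | hQ
    · have hA := r.invA w hQ hww
      exact absurd (centre_unique h (r.memA w hA (ne_one_of_order_two hw2)) hwc (hTa w hwT)) hca
    · have hcu := r.u_commute hw
      have hA : w * u ∈ A := r.invA _ hQ (by rw [hcu.symm.mul_mul_mul_comm, hww, r.u_sq, one_mul])
      obtain ⟨s, hs, hcs⟩ := tr.surj _ hA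
      have hws : s * u * s⁻¹ = w := by
        calc s * u * s⁻¹ = u * Root.cls u s := by
              show _ = u * (u * (s * u * s⁻¹))
              rw [← mul_assoc, r.u_sq, one_mul]
          _ = w := by rw [hcs, hcu.eq, ← mul_assoc, r.u_sq, one_mul]
      have hsa := hRa hs
      have hsc : u • s⁻¹ • c = s⁻¹ • c := by
        rw [← hws, mul_smul, mul_smul] at hwc
        exact eq_inv_smul_iff.2 hwc
      have hmem : ∀ g, g ∈ T.map (MulAut.conj s⁻¹).toMonoidHom ↔ s * g * s⁻¹ ∈ T := fun g => by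
        constructor
        · rintro ⟨v, hv, rfl⟩
          show s * (s⁻¹ * v * s⁻¹⁻¹) * s⁻¹ ∈ T
          rwa [show s * (s⁻¹ * v * s⁻¹⁻¹) * s⁻¹ = v by group]
        · intro hg
          exact ⟨_, hg, show s⁻¹ * (s * g * s⁻¹) * s⁻¹⁻¹ = g by group⟩
      have key := u3_two_fix h hu hua L hC hsc
        (fun e => hca (by rw [eq_comm, eq_inv_smul_iff, hsa] at e; exact e.symm))
        (hT.map _) ((hmem u).2 (hws ▸ hwT))
        (fun g hg => by
          have h1 := hTa _ ((hmem g).1 hg)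
          rw [mul_smul, mul_smul, inv_smul_eq_iff.2 hsa.symm] at h1
          exact smul_left_cancel s (h1.trans hsa.symm))
        (fun g hg => by
          have h1 := hTc _ ((hmem g).1 hg)
          rw [mul_smul, mul_smul] at h1
          exact eq_inv_smul_iff.2 h1)
      intro g hg
      have e : s * (s⁻¹ * g * s) * s⁻¹ = g := by group
      rcases key (s⁻¹ * g * s) ((hmem _).2 (e.symm ▸ hg)) with e1 | e1
      · exact Or.inl (by rw [← e, e1, mul_one, mul_inv_cancel])
      · exact Or.inr (by rw [← e, e1, hws])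
  have hta := hRa htR
  obtain ⟨hrk, hqt, hft⟩ := C.chosen.of_clique h hclA (L.card.trans hqu.symm) ht (hRA htR) hca.symm hta htc
  obtain ⟨B, Q', X', q', i, L'⟩ := (C.lines t a c ht hta htc hca.symm).2 hrk.2.2
  obtain rfl : q' = q := (cliqueNum_eq h ht hta L').symm.trans (hqt.trans hqu)
  have hfi : Nat.card (fixedBy α t) = q' ^ i + 1 := card_fixedBy_line L'
  have h4 := L.four
  have hi3 : i = 3 := by
    by_contra hne
    have hi : q' ^ i ≤ q' ^ 2 := Nat.pow_le_pow_right (by omega) (by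
      rcases L'.jcase with h | h | h <;> omega)
    set F := {p : α // t • p = p ∧ p ≠ a} with hFdef
    have hF : Nat.card F = q' ^ i := by
      have e : Nat.card F = ((fixedBy α t) \ {a}).ncard := by
        rw [← Nat.card_coe_set_eq]
        exact Nat.card_congr (Equiv.subtypeEquivRight fun p => by simp [mem_fixedBy])
      rw [e, Set.ncard_sdiff_singleton_of_mem (show a ∈ fixedBy α t from hta), ← Nat.card_coe_set_eq, hfi,
        Nat.add_sub_cancel]
    haveI : Nonempty F := ⟨⟨c, htc, hca⟩⟩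
    obtain ⟨χ, hχ⟩ := tr.exists_pair r hsqQ htR
    set H := χ.ker.map R.subtype
    have hH : ∀ {g : G}, g ∈ H → g ∈ R ∧ Commute g t := by
      rintro g ⟨s, hs, rfl⟩
      have h1 := congrArg Subtype.val (MonoidHom.mem_ker.1 hs)
      rw [hχ s] at h1
      exact ⟨s.2, mul_inv_eq_iff_eq_mul.1 (mul_inv_eq_one.1 h1)⟩
    have hHcard : q' * (2 * q' ^ 3) ≤ Nat.card H * q' := by
      rw [← tr.card_eq r, card_map_of_injective R.subtype_injective, ← χ.ker.card_mul_index, index_ker]
      exact Nat.mul_le_mul_left _ ((card_le_card_group _).trans_eq L.card)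
    set Hc := H ⊓ stabilizer G c
    have hHc : Nat.card H ≤ Nat.card Hc * q' ^ i := by
      let o : H → F := fun g => ⟨(g : G) • c, by rw [smul_smul, ← (hH g.2).2.eq, mul_smul, htc], fun e =>
        hca (smul_left_cancel (g : G) (e.trans (hRa (hH g.2).1).symm))⟩
      haveI : Nonempty H := ⟨1⟩
      have hrep : ∀ g : H, o (Function.invFun o (o g)) = o g := fun g => Function.invFun_eq ⟨g, rfl⟩
      let φ : H → Hc × F := fun g => (⟨((Function.invFun o (o g) : H) : G)⁻¹ * g, mem_inf.2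
        ⟨mul_mem (inv_mem (Function.invFun o (o g)).2) g.2, mem_stabilizer_iff.2 (by
          rw [mul_smul, inv_smul_eq_iff]
          exact (congrArg Subtype.val (hrep g)).symm)⟩⟩, o g)
      have hφ : Function.Injective φ := fun g g' e => by
        have e1 : ((Function.invFun o (o g) : H) : G)⁻¹ * g = ((Function.invFun o (o g') : H) : G)⁻¹ * g' :=
          congrArg (fun v => (v.1 : G)) e
        have e2 : o g = o g' := congrArg Prod.snd e
        rw [e2] at e1
        exact Subtype.ext (mul_left_cancel e1)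
      have := Nat.card_le_card_of_injective φ hφ
      rwa [Nat.card_prod, hF] at this
    have hHcR : ∀ {g : G}, g ∈ Hc → g ∈ R ∧ g • c = c := fun hg =>
      ⟨(hH (mem_inf.1 hg).1).1, mem_stabilizer_iff.1 (mem_inf.1 hg).2⟩
    have hcA : ∀ d ∈ A, d • c = c → d = 1 := fun d hd e => by
      by_contra h1
      obtain ⟨hD, -, hfx⟩ := L.memA d hd h1
      exact hca (centre_unique h hD e hfx)
    let ψ : Hc →* A :=
      { toFun := fun g => ⟨Root.cls u g, tr.cls_mem r (hHcR g.2).1⟩
        map_one' := Subtype.ext (r.cls_eq_one.2 (Commute.one_left u))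
        map_mul' := fun g g' => Subtype.ext (tr.cls_mul r (hHcR g.2).1 (hHcR g'.2).1) }
    have h2 : 2 * q' ≤ Nat.card Hc := by
      refine Nat.le_of_mul_le_mul_right ?_ (show 0 < q' ^ 2 * q' by positivity)
      calc 2 * q' * (q' ^ 2 * q') = q' * (2 * q' ^ 3) := by ring
        _ ≤ Nat.card H * q' := hHcard
        _ ≤ Nat.card Hc * q' ^ i * q' := Nat.mul_le_mul_right _ hHc
        _ ≤ Nat.card Hc * q' ^ 2 * q' := Nat.mul_le_mul_right _ (Nat.mul_le_mul_left _ hi)
        _ = Nat.card Hc * (q' ^ 2 * q') := by ring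
    have hker : 1 < Nat.card ψ.ker := by
      by_contra hle
      have h1 : Nat.card ψ.ker * ψ.ker.index ≤ 1 * q' := Nat.mul_le_mul (not_lt.1 hle)
        (by rw [index_ker]; exact (card_le_card_group _).trans_eq L.card)
      rw [ψ.ker.card_mul_index] at h1
      omega
    haveI := Finite.one_lt_card_iff_nontrivial.1 hker
    obtain ⟨w, hw⟩ := exists_ne (1 : ψ.ker)
    have hw1 : ((w : Hc) : G) ≠ 1 := fun e => hw (Subtype.ext (Subtype.ext e))
    obtain ⟨hwR, hwc⟩ := hHcR (w : Hc).2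
    have hw2 : orderOf ((w : Hc) : G) = 2 := order_two_of_mul_self (hcA _ (tr.sq_mem r hsqQ hwR)
      (by rw [mul_smul, hwc, hwc])) hw1
    have key := hPinv _ (tr.kerR _ hwR (congrArg Subtype.val (MonoidHom.mem_ker.1 w.2))) hw2 c hca hwc Hc
      (tr.two.to_le fun g hg => (hHcR hg).1) (w : Hc).2 (fun g hg => hRa (hHcR hg).1) (fun g hg => (hHcR hg).2)
    have hle : Hc ≤ zpowers ((w : Hc) : G) := fun g hg => by
      rcases key g hg with rfl | rfl
      · exact one_mem _
      · exact mem_zpowers _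
    have := card_le_of_le hle
    rw [Nat.card_zpowers, hw2] at this
    omega
  subst hi3
  refine ⟨hfi, fun T hT htT hTa hTc => ?_⟩
  -- `t` is chosen, with one involution in the kernel
  have hkt : kernelNum α t ≤ 2 :=
    (C.chosen.kernel t hrk hqt (by rw [hfi, hfu])).trans (u3_kernel_le h hu hua L hC)
  have hkt2 : 2 ≤ kernelNum α t := ht ▸ Nat.card_zpowers t ▸ le_kernelNum (α := α) ⟨isPGroup_zpowers_of_two ht,
    fun g hg => by
      obtain ⟨k, rfl⟩ := mem_zpowers_iff.1 hg
      exact ⟨(Commute.refl t).zpow_left k, fun p hp =>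
        mem_stabilizer_iff.1 (zpow_mem (mem_stabilizer_iff.2 hp) k)⟩⟩
  have C' : LineCase α z t a B Q' X' q' 3 :=
    { simple := C.simple, nonab := C.nonab, crit := h, below := C.below, lines := C.lines
      chosen :=
        { rank := hrk
          clique := fun v hv => hqt ▸ C.chosen.clique v hv
          fix := fun v hv e => (C.chosen.fix v hv (e.trans hqt)).trans (by rw [hfu, hfi])
          kernel := fun v hv e e' =>
            ((C.chosen.kernel v hv (e.trans hqt) (e'.trans (by rw [hfu, hfi]))).trans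
              (u3_kernel_le h hu hua L hC)).trans hkt2 }
      fixa := hta
      data := L' }
  have hone' : ∀ t' : G, orderOf t' = 2 → Commute t' t → (∀ p : α, t • p = p → t' • p = p) →
      (∀ d ∈ B, Commute t' d) → t' = t := fun t' ht' hc' hF' _ => by
    have hV : IsPGroup 2 (zpowers t ⊔ zpowers t' : Subgroup G) :=
      (isPGroup_zpowers_of_two ht).to_sup_of_normal_left' (isPGroup_zpowers_of_two ht')
        (zpowers_le.2 (centralizer_le_normalizer _ (mem_centralizer_iff.2 fun x hx => by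
          obtain ⟨k, rfl⟩ := mem_zpowers_iff.1 hx
          exact (hc'.symm.zpow_left k).eq)))
    have hle : (zpowers t ⊔ zpowers t' : Subgroup G) ≤ centralizer {t} :=
      sup_le (zpowers_le.2 (mem_centralizer_singleton_iff.2 rfl))
        (zpowers_le.2 (mem_centralizer_singleton_iff.2 hc'.eq))
    have hcard := (le_kernelNum (α := α) (u := t) ⟨hV, fun g hg => ⟨mem_centralizer_singleton_iff.1 (hle hg),
      fun p hp => mem_stabilizer_iff.1 ((sup_le (zpowers_le.2 (mem_stabilizer_iff.2 hp))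
        (zpowers_le.2 (mem_stabilizer_iff.2 (hF' p hp))) : zpowers t ⊔ zpowers t' ≤ stabilizer G p) hg)⟩⟩).trans hkt
    have h' : t' ∈ zpowers t := (Subgroup.eq_of_le_of_card_ge (le_sup_left : zpowers t ≤ zpowers t ⊔ zpowers t')
      (by rw [Nat.card_zpowers, ht]; exact hcard)).symm ▸ mem_sup_right (mem_zpowers t')
    exact (mem_zpowers_involution (sq_of_order_two ht) h').resolve_left (ne_one_of_order_two ht')
  exact u3_two_fix h ht hta L' (C'.u3_max hone') htc hca hT htT hTa hTc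

/-- the arithmetic of the count -/
theorem u3_arith {q c N : ℕ} (hq : 4 ≤ q) (heven : Even q) (hc : q ≤ 2 * c)
    (hN : (N : ℤ) * (2 * q * c - 1) = ((q : ℤ) ^ 3 + 1) * (q - 1)) : N * (q - 1) + 1 + 2 * q * c < q ^ 3 := by
  obtain ⟨m, hm⟩ := heven
  set Q : ℤ := (q : ℤ) with hQ
  have hQ4 : 4 ≤ Q := by omega
  set d : ℤ := 2 * c * N - Q ^ 3 + Q ^ 2 - 1 with hd
  have hNd : (N : ℤ) = Q * d + 1 := by rw [hd]; linear_combination -hN
  have hdpos : 0 ≤ d := by
    by_contra hneg
    have : Q * d ≤ -Q := by nlinarith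
    omega
  have hdodd : d = 2 * ((c : ℤ) * N - (m : ℤ) * Q ^ 2 + (m : ℤ) * Q) - 1 := by
    rw [hd, hQ, hm]; push_cast; ring
  have hd1 : 1 ≤ d := by omega
  have hNq : Q + 1 ≤ N := by nlinarith
  have hM : Q ^ 2 - 1 ≤ 2 * Q * c - 1 := by
    have h1 : Q * Q ≤ Q * (2 * c) := mul_le_mul_of_nonneg_left (by omega) (by omega)
    nlinarith
  have hk : Q ^ 2 - 1 ≤ (N : ℤ) * (Q - 1) := by nlinarith
  have hprod := mul_nonneg (sub_nonneg.2 hk) (sub_nonneg.2 hM)
  have hsum : (Q ^ 2 - 1) * ((N : ℤ) * (Q - 1) + (2 * Q * c - 1)) ≤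
      (Q ^ 2 - 1) * (Q ^ 3 - Q ^ 2 + 2 * Q - 2) := by
    have e : (N : ℤ) * (Q - 1) * (2 * Q * c - 1) = (Q ^ 3 + 1) * (Q - 1) * (Q - 1) := by
      linear_combination (Q - 1) * hN
    nlinarith [hprod, e]
  have h2 := le_of_mul_le_mul_left hsum (by nlinarith)
  zify [show 1 ≤ q by omega]
  nlinarith

/-- the members at `a` in a 2-group of translations, and the count of the points -/
theorem u3_members (C : LineCase α z u a A Q X q 3) {R : Subgroup G} (hR : IsPGroup 2 R)
    (hRa : ∀ g ∈ R, g • a = a) {e : G} (he : e ∈ A) (he1 : e ≠ 1) {s : G} (hsu : s * u * s⁻¹ = u * e) :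
    ∃ N : ℕ, (N : ℤ) * (Nat.card α - (q ^ 3 + 1) : ℕ) = ((q : ℤ) ^ 3 + 1) * (q - 1) * (q : ℤ) ^ 3 ∧
      {g : G | g ∈ R ∧ IsConj z g}.ncard ≤ N * (q - 1) := by
  classical
  haveI := C.simple
  have h := C.crit
  haveI : Finite α := h.finite
  have hna := C.nonab
  have L := C.data
  have hu := C.chosen.rank.1
  have huD := C.chosen.rank.2.1
  have hua := C.fixa
  obtain ⟨b, hub, hba⟩ := exists_other_point L
  have hmem := L.memA e he he1
  have hfu : Nat.card (fixedBy α u) = q ^ 3 + 1 := card_fixedBy_line L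
  have hfv : Nat.card (fixedBy α (u * e)) = q ^ 3 + 1 := by rw [← hsu, card_fixedBy_conj, hfu]
  have hq4 := L.four
  have hq1 : ((q - 1 : ℕ) : ℤ) = (q : ℤ) - 1 := by push_cast [Nat.cast_sub (show 1 ≤ q by omega)]; ring
  have hsub : {g : G | g ∈ R ∧ IsConj z g} ⊆ membersAt z (1 : G) a := fun g hg => mem_members_one hg.2 (hRa g hg.1)
  by_cases hL : HasLine α z
  · obtain ⟨e', he', hne, he'1⟩ : ∃ e' ∈ A, e' ≠ e ∧ e' ≠ 1 := by
      by_contra hno
      push Not at hno
      have hsub : (A : Set G) ⊆ ({1, e} : Finset G) := fun x hx => by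
        by_cases h1 : x = e
        · simp [h1]
        · simp [hno x hx h1]
      have := Set.ncard_le_ncard hsub
      rw [← Nat.card_coe_set_eq, SetLike.coe_sort_coe, L.card, Set.ncard_coe_finset] at this
      have := this.trans Finset.card_le_two
      omega
    obtain ⟨Y, hY⟩ := exists_memberCore h (lineFacts h C.below) hmem.1 (L.memA e' he' he'1).1
      (L.centQ e he e' (L.leQ he')) hne.symm hL a
    obtain ⟨hru, -⟩ := lineRank_eq_clique hna h C.below hY hu hua huD L
    have hinj : {g : G | g ∈ R ∧ IsConj z g}.ncard ≤ lineRank z (1 : G) a Y - 1 := by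
      rw [hY.lineRank_one h, Nat.add_sub_cancel, Nat.card_coe_set_eq]
      refine Set.ncard_le_ncard_of_injOn (fun g => (QuotientGroup.mk g : G ⧸ Y))
        (fun g hg => ⟨g, hsub hg, rfl⟩) (fun g hg g' hg' heq => ?_) (Set.toFinite _)
      have h1 : g⁻¹ * g' ∈ Y := QuotientGroup.eq.1 heq
      have h2 : g⁻¹ * g' ∈ R := mul_mem (inv_mem hg.1) hg'.1
      obtain ⟨i, hi⟩ := hR ⟨_, h2⟩
      have h3 : (g⁻¹ * g') ^ 2 ^ i = 1 := congrArg Subtype.val hi
      have hd := orderOf_dvd_of_pow_eq_one h3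
      have ho := hY.odd.of_dvd_nat (Subgroup.orderOf_dvd_natCard _ h1)
      exact inv_mul_eq_one.1 (orderOf_eq_one_iff.1 (Nat.eq_one_of_dvd_coprimes
        ((Nat.Prime.coprime_iff_not_dvd Nat.prime_two).2 (fun h2 => Nat.not_even_iff_odd.2 ho
          (even_iff_two_dvd.2 h2)) |>.pow_left i) hd dvd_rfl))
    rcases hY.dichotomy h hu huD hua hub hba.symm hmem (j := 3) (Or.inr (Or.inr rfl)) (hru.symm ▸ hq4)
      (by rw [hru]; exact hfu) with ⟨hQ, hn⟩ | ⟨hQ, -, hn⟩
    · refine ⟨1, ?_, hinj.trans (by rw [hQ, hru, one_mul])⟩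
      rw [hru, hfu] at hn
      rw [hn]; push_cast [hq1]; ring
    · refine ⟨q + 1, ?_, hinj.trans (le_of_eq ?_)⟩
      · rw [hru, hfu] at hn
        rw [← Nat.cast_mul, hn]; push_cast [hq1]; ring
      · rw [hQ, hru]
        obtain ⟨p, rfl⟩ : ∃ p, q = p + 1 := ⟨q - 1, by omega⟩
        rw [Nat.add_sub_cancel, show (p + 1) ^ 2 = (p + 1 + 1) * p + 1 by ring, Nat.add_sub_cancel]
  · obtain ⟨x, hx⟩ := exists_moved h (α := α) (ne_one_of_order_two hu)
    have hκ := card_members_no_line (a := a) hna h C.below hL hu hua huD L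
    have hc := swaps_count h hu hua hub hba.symm hmem hx
    have hκv : Nat.card (membersAt z (u * e) a) = q - 1 :=
      (card_membersAt_conjugate h hu hsu hua (by rw [mul_smul, hmem.2.2, hua])).trans hκ
    rw [hκ, hfu, hfv, Nat.add_sub_cancel] at hc
    refine ⟨Nat.card (swapsAt z u x), ?_, ?_⟩
    · rw [← Nat.cast_mul, hc]; push_cast [hq1]; ring
    · rw [← hκv, ← card_swaps_mul h hu hua hub hba.symm hmem hx, Nat.card_coe_set_eq]
      exact Set.ncard_le_ncard hsub (Set.toFinite _)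

/-- THE LINE OF THE CHOSEN INVOLUTION IS NOT OF TYPE U3 -/
theorem root_unitary (C : LineCase α z u a A Q X q 3)
    (hone : ∀ t : G, orderOf t = 2 → Commute t u → (∀ p : α, u • p = p → t • p = p) →
      (∀ d ∈ A, Commute t d) → t = u) : False := by
  classical
  haveI : Fact (Nat.Prime 2) := ⟨Nat.prime_two⟩
  haveI := C.simple
  have h := C.crit
  haveI : Finite α := h.finite
  have hu := C.chosen.rank.1
  have hua := C.fixa
  have L := C.data
  have hC := C.u3_max hone
  obtain ⟨T₀, e₀, r⟩ := exists_root C hC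
  obtain ⟨S, hQS, huS, hSa, -⟩ := exists_line_sylow h hua hu L
  have hSM : (S : Subgroup G) ≤ stabilizer G a := fun s hs => mem_stabilizer_iff.2 (hSa s hs)
  have hPS : Q ⊔ zpowers u ≤ (S : Subgroup G) := sup_le hQS (zpowers_le.2 huS)
  have hsqQ : ∀ g ∈ Q, g * g ∈ A := fun g hg => r.sq_Q hg
  by_cases hle : Nat.card (S : Subgroup G) ≤ q * (2 * q ^ 3)
  · exact Root.unitary_end C.nonab r S hSM hPS hle
  have hne : Q ⊔ zpowers u ≠ (S : Subgroup G) := fun e => hle (by
    rw [← e, r.card_P]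
    exact Nat.le_mul_of_pos_left _ (by have := r.four; omega))
  obtain ⟨R, x', tr⟩ := r.exists_trans S hSM hPS hne
  have hRcard := tr.card_eq r
  have hRa : ∀ g ∈ R, g • a = a := fun g hg => mem_stabilizer_iff.1 (Climb.mem_ker.1 (tr.leK hg)).1
  obtain ⟨m, hm⟩ := tr.two.exists_card_eq
  obtain ⟨l, hl⟩ := S.2.exists_card_eq
  have hlt : m < l := by
    by_contra hge
    exact hle (by rw [← hRcard, hm, hl]; exact Nat.pow_le_pow_right two_pos (not_lt.1 hge))
  obtain ⟨K, hK, hRK⟩ := Sylow.exists_subgroup_card_pow_succ (G := G) (p := 2) (n := m)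
    ((pow_dvd_pow 2 (Nat.succ_le_of_lt hlt)).trans (hl ▸ card_subgroup_dvd_card _)) hm
  have hrel : R.relIndex K = 2 := by
    have h1 : (R.subgroupOf K).index * Nat.card R = Nat.card K := by
      rw [← Nat.card_congr (subgroupOfEquivOfLe hRK).toEquiv, mul_comm]
      exact card_mul_index _
    rw [hK, hm, pow_succ'] at h1
    exact Nat.eq_of_mul_eq_mul_right (by positivity) h1
  haveI : (R.subgroupOf K).Normal := normal_of_index_eq_two hrel
  have hKn : K ≤ normalizer (R : Set G) := Subgroup.normal_subgroupOf_iff_le_normalizer hRK |>.1 inferInstance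
  have hK2 : IsPGroup 2 K := IsPGroup.of_card hK
  obtain ⟨e, he, he1⟩ : ∃ e ∈ A, e ≠ 1 := by
    by_contra hno
    push Not at hno
    have h1 := r.card
    rw [(Subgroup.eq_bot_iff_forall A).2 hno, card_bot] at h1
    have := r.four
    omega
  -- `K` fixes `a`, the only fixed point of `e`
  have hKa : ∀ g ∈ K, g • a = a := by
    obtain ⟨p, hp⟩ := hK2.nonempty_fixed_point_of_prime_not_dvd_card α
      (fun h2 => Nat.not_even_iff_odd.2 (odd_card_points h) (even_iff_two_dvd.2 h2))
    obtain ⟨heD, -, hea⟩ := L.memA e he he1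
    have hpa : p = a := centre_unique h heD (hp ⟨e, hRK (tr.le (mem_sup_left (L.leQ he)))⟩) hea
    exact fun g hg => hpa ▸ hp ⟨g, hg⟩
  -- a conjugate of `u` with another class
  obtain ⟨y, hyK, hyR⟩ : ∃ y ∈ K, y ∉ R := by
    by_contra hno
    push Not at hno
    have := card_le_of_le (hno : K ≤ R)
    rw [hK, hm] at this
    have := (Nat.pow_le_pow_iff_right (show 1 < 2 by norm_num)).1 this
    omega
  set w := y * u * y⁻¹ with hwdef
  have hwR : w ∈ R := (mem_normalizer_iff.1 (hKn hyK) u).1 (tr.le (mem_sup_right (mem_zpowers u)))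
  have hw1 : Root.cls u w ≠ 1 := fun hcl => hyR (by
    have hwP := tr.kerR _ hwR hcl
    have hA : u * w ∈ A := r.conj_mem hwP (isConj_iff.2 ⟨y, rfl⟩)
    obtain ⟨s, hs, hcs⟩ := tr.surj _ hA
    have hsw : s * u * s⁻¹ = w := mul_left_cancel (show u * (s * u * s⁻¹) = u * w from hcs)
    set g := s⁻¹ * y with hg
    have hgu : Commute g u := by
      refine mul_inv_eq_iff_eq_mul.1 ?_
      rw [show g * u * g⁻¹ = s⁻¹ * w * s by rw [hg, hwdef]; group, ← hsw]
      group
    have hgK : g ∈ K := mul_mem (inv_mem (hRK hs)) hyK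
    have hgR : ∀ x ∈ R, g * x * g⁻¹ ∈ R := fun x hx => (mem_normalizer_iff.1 (hKn hgK) x).1 hx
    have hgP : g ∈ normalizer ((Q ⊔ zpowers u : Subgroup G) : Set G) :=
      Cfsg.Lib.ZStarApps.mem_normalizer_of_maps fun x hx => by
        refine tr.kerR _ (hgR x (tr.le hx)) (r.cls_eq_one.2 ?_)
        exact (hgu.mul_left (r.u_commute hx)).mul_left hgu.inv_left
    have hgmem := r.cent_mem (mem_stabilizer_iff.2 (hKa g hgK)) hgP (hK2.to_le (zpowers_le.2 hgK)) hgu
    rw [show y = s * g by rw [hg]; group]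
    exact mul_mem hs (tr.le hgmem))
  -- the involutions that are no members
  set Iv := {t : G | t ∈ R ∧ orderOf t = 2 ∧ ¬ IsConj z t} with hIv
  have hfixt : ∀ t ∈ Iv, ∃ c, c ≠ a ∧ t • c = c := by
    intro t ht
    by_contra hno
    push Not at hno
    exact ht.2.2 (conj_of_unique_fix h ht.2.1 (hRa t ht.1) fun x hx => by
      by_contra hxa
      exact hno x hxa hx)
  have hstab : ∀ t ∈ Iv, ∀ c : α, c ≠ a → t • c = c →
      Nat.card (fixedBy α t) = q ^ 3 + 1 ∧ ∀ T : Subgroup G, IsPGroup 2 T → t ∈ T → (∀ g ∈ T, g • a = a) →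
        (∀ g ∈ T, g • c = c) → ∀ g ∈ T, g = 1 ∨ g = t := fun t ht c hca htc =>
    u3_stab_small C hC r tr ht.1 ht.2.1 hca htc
  have hpoints : Iv.ncard * q ^ 3 ≤ Nat.card α - 1 := by
    haveI : Fintype α := Fintype.ofFinite α
    haveI : Fintype Iv := Fintype.ofFinite Iv
    let f : (Σ t : Iv, {p : α // (t : G) • p = p ∧ p ≠ a}) → {p : α // p ≠ a} := fun v => ⟨v.2.1, v.2.2.2⟩
    have hf : Function.Injective f := by
      rintro ⟨t, p, hp, hpa⟩ ⟨t', p', hp', hpa'⟩ heq
      obtain rfl : p = p' := congrArg Subtype.val heq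
      obtain rfl : t = t' := by
        refine Subtype.ext (Eq.symm ?_)
        refine ((hstab _ t.2 p hpa hp).2 (R ⊓ stabilizer G p) (tr.two.to_le inf_le_left)
          (mem_inf.2 ⟨t.2.1, mem_stabilizer_iff.2 hp⟩) (fun g hg => hRa g (mem_inf.1 hg).1)
          (fun g hg => mem_stabilizer_iff.1 (mem_inf.1 hg).2) t'.1
          (mem_inf.2 ⟨t'.2.1, mem_stabilizer_iff.2 hp'⟩)).resolve_left (ne_one_of_order_two t'.2.2.1)
      rfl
    have h1 := Nat.card_le_card_of_injective f hf
    rw [Nat.card_sigma, Nat.card_eq_fintype_card (α := {p : α // p ≠ a}), Fintype.card_subtype_compl,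
      Fintype.card_subtype_eq, ← Nat.card_eq_fintype_card (α := α)] at h1
    refine le_trans (le_of_eq ?_) h1
    rw [Finset.sum_congr rfl (fun (t : Iv) _ => show Nat.card {p : α // (t : G) • p = p ∧ p ≠ a} = q ^ 3 from ?_),
      Finset.sum_const, Finset.card_univ, smul_eq_mul, ← Nat.card_eq_fintype_card, Nat.card_coe_set_eq]
    obtain ⟨c, hca, htc⟩ := hfixt _ t.2
    have hfx := (hstab _ t.2 c hca htc).1
    have e1 : Nat.card {p : α // (t : G) • p = p ∧ p ≠ a} = ((fixedBy α (t : G)) \ {a}).ncard := by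
      rw [← Nat.card_coe_set_eq]
      exact Nat.card_congr (Equiv.subtypeEquivRight fun p => by simp [mem_fixedBy])
    rw [e1, Set.ncard_sdiff_singleton_of_mem (show a ∈ fixedBy α (t : G) from hRa _ t.2.1), ← Nat.card_coe_set_eq,
      hfx, Nat.add_sub_cancel]
  -- the orbits of `K`
  have hdvd : 2 * q ^ 4 ∣ Nat.card α - 1 := by
    rw [show 2 * q ^ 4 = 2 ^ m by rw [← hm, hRcard]; ring]
    refine dvd_points K hKa fun c hca => ?_
    set T := K ⊓ stabilizer G c
    have hT2 : IsPGroup 2 T := hK2.to_le inf_le_left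
    have hsmall : Nat.card T ≤ 2 := by
      by_contra hbig
      obtain ⟨v, hvT, hvR, hv1⟩ : ∃ v ∈ T, v ∈ R ∧ v ≠ 1 := by
        by_contra hno
        push Not at hno
        have h1 : (R.relIndex T) = Nat.card T := by
          rw [← inf_relIndex_right, (Subgroup.eq_bot_iff_forall (R ⊓ T)).2 fun x hx =>
            hno x (mem_inf.1 hx).2 (mem_inf.1 hx).1, relIndex_bot_left]
        have h2 : R.relIndex T ≤ R.relIndex K := relIndex_le_of_le_right inf_le_left (by rw [hrel]; norm_num)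
        rw [h1, hrel] at h2
        exact hbig h2
      have hTR2 : IsPGroup 2 (T ⊓ R : Subgroup G) := hT2.to_le inf_le_left
      haveI : Nontrivial (T ⊓ R : Subgroup G) :=
        ⟨⟨v, mem_inf.2 ⟨hvT, hvR⟩⟩, 1, fun e => hv1 (congrArg Subtype.val e)⟩
      obtain ⟨i, hi0, hi⟩ := hTR2.nontrivial_iff_card.1 inferInstance
      obtain ⟨t, ht⟩ := exists_prime_orderOf_dvd_card' (G := (T ⊓ R : Subgroup G)) 2
        (hi ▸ dvd_pow_self 2 hi0.ne')
      rw [← Subgroup.orderOf_coe] at ht
      obtain ⟨htT, htR⟩ := mem_inf.1 t.2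
      have hTsub := (u3_stab_small C hC r tr htR ht hca (mem_stabilizer_iff.1 (mem_inf.1 htT).2)).2 T hT2 htT
        (fun g hg => hKa g (mem_inf.1 hg).1) (fun g hg => mem_stabilizer_iff.1 (mem_inf.1 hg).2)
      refine hbig ?_
      have hle' : T ≤ zpowers (t : G) := fun g hg => by
        rcases hTsub g hg with rfl | rfl
        · exact one_mem _
        · exact mem_zpowers _
      exact (card_le_of_le hle').trans_eq (by rw [Nat.card_zpowers, ht])
    obtain ⟨i, hi⟩ := hT2.exists_card_eq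
    have hi1 : i ≤ 1 := (Nat.pow_le_pow_iff_right (show 1 < 2 by norm_num)).1 (by rw [pow_one, ← hi]; exact hsmall)
    have h1 : (T.subgroupOf K).index * 2 ^ i = 2 ^ (m + 1) := by
      rw [← hi, ← hK, ← Nat.card_congr (subgroupOfEquivOfLe (inf_le_left : T ≤ K)).toEquiv, mul_comm]
      exact card_mul_index _
    refine ⟨2 ^ (1 - i), Nat.eq_of_mul_eq_mul_right (show 0 < 2 ^ i by positivity) ?_⟩
    refine (show T.relIndex K * 2 ^ i = 2 ^ (m + 1) from h1).trans ?_
    rw [← pow_add, ← pow_add]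
    congr 1
    omega
  -- the count
  obtain ⟨s, hs, hcs⟩ := tr.surj e he
  obtain ⟨N, hN, hmem⟩ := u3_members C tr.two hRa he he1 (s := s) (by
    rw [← hcs]
    show _ = u * (u * (s * u * s⁻¹))
    rw [← mul_assoc, r.u_sq, one_mul])
  obtain ⟨c, hc⟩ := hdvd
  have hconj : q ^ 2 ≤ Iv.ncard := (tr.card_conjugates r hsqQ hwR (isConj_iff.2 ⟨y, rfl⟩) hw1).trans
    (Set.ncard_le_ncard (fun g hg => ⟨hg.1, by
      obtain ⟨k, rfl⟩ := isConj_iff.1 hg.2
      rw [← MulAut.conj_apply, MulEquiv.orderOf_eq, r.two], fun hz => C.chosen.rank.2.1 (hz.trans hg.2.symm)⟩)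
      (Set.toFinite _))
  have hinv : q ^ 3 ≤ Iv.ncard + N * (q - 1) + 1 := by
    refine (tr.card_involutions r hsqQ).trans ((Set.ncard_le_ncard (show {g : G | g ∈ R ∧ g * g = 1} ⊆
      Iv ∪ {g : G | g ∈ R ∧ IsConj z g} ∪ {1} from fun g hg => ?_) (Set.toFinite _)).trans ?_)
    · by_cases h1 : g = 1
      · exact Or.inr h1
      · by_cases h2 : IsConj z g
        · exact Or.inl (Or.inr ⟨hg.1, h2⟩)
        · exact Or.inl (Or.inl ⟨hg.1, order_two_of_mul_self hg.2 h1, h2⟩)
    · exact (Set.ncard_union_le _ _).trans (add_le_add ((Set.ncard_union_le _ _).trans (add_le_add le_rfl hmem))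
        (le_of_eq (Set.ncard_singleton _)))
  have hq4 := r.four
  have hIc : Iv.ncard * q ^ 3 ≤ 2 * q * c * q ^ 3 := hpoints.trans (le_of_eq (by rw [hc]; ring))
  have hI : Iv.ncard ≤ 2 * q * c := Nat.le_of_mul_le_mul_right hIc (by positivity)
  have hqc : q ≤ 2 * c := Nat.le_of_mul_le_mul_left (a := q) (by
    calc q * q = q ^ 2 := (pow_two q).symm
      _ ≤ 2 * q * c := hconj.trans hI
      _ = q * (2 * c) := by ring) (by omega)
  have hqeven : Even q := by
    obtain ⟨k, hk⟩ := L.pow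
    rw [hk]
    exact Nat.even_pow.2 ⟨even_two, fun e => by rw [hk, e] at hq4; simp at hq4⟩
  have h1 : q ^ 3 + 1 ≤ Nat.card α := card_fixedBy_line L ▸ Finite.card_subtype_le _
  have hn : ((Nat.card α - (q ^ 3 + 1) : ℕ) : ℤ) = 2 * (q : ℤ) ^ 4 * c - (q : ℤ) ^ 3 := by
    have : ((Nat.card α - 1 : ℕ) : ℤ) = 2 * (q : ℤ) ^ 4 * c := by rw [hc]; push_cast; ring
    push_cast [Nat.cast_sub h1, Nat.cast_sub (show 1 ≤ Nat.card α by omega)] at this ⊢
    linarith
  rw [hn] at hN
  have hq0 : (q : ℤ) ≠ 0 := by omega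
  have hE : (N : ℤ) * (2 * q * c - 1) = ((q : ℤ) ^ 3 + 1) * (q - 1) :=
    mul_right_cancel₀ (pow_ne_zero 3 hq0) (by linear_combination hN)
  have := u3_arith hq4 hqeven hqc hE
  omega

/-- THE LINE OF THE CHOSEN INVOLUTION IS OF TYPE L2 -/
theorem rootProp : RootProp.{u} := by
  intro G α _ _ _ _ _ _ z u a A Q X q j C hj hone
  rcases C.data.jcase with rfl | rfl | rfl
  · exact hj rfl
  · exact root_suzuki C hone
  · exact root_unitary C hone

end Cfsg.Lib.BenderSE.Crit2
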