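/-
Aschbacher's criterion, the wiring with the statement on lines discharged: three propositions remain.
-/
import Cfsg.Agent.BenderSE.Criterion2.Assemble
import Cfsg.Agent.BenderSE.Criterion2.Lines

set_option autoImplicit false

namespace Cfsg.Lib.BenderSE.Crit2

open Cfsg.Lib.BenderSE.ClosedCrit (CriterionProp)

universe u

/-- the statement on lines holds in every group -/
theorem linesProp : LinesProp.{u} := fun _ _ _ _ _ _ _ _ _ => lineStatement

/-- the criterion from the three propositions on the chosen involution -/
theorem criterion_of_three (hker : KernelProp.{u}) (hfield : FieldProp.{u}) (hroot : RootProp.{u}) :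
    CriterionProp.{u} :=
  criterion_of_cases linesProp hker hfield hroot

end Cfsg.Lib.BenderSE.Crit2
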