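/-
Aschbacher's criterion for strong embedding: the three open propositions are proved.
-/
import Cfsg.Agent.BenderSE.Criterion2.Wiring
import Cfsg.Agent.BenderSE.Criterion2.KernelAll
import Cfsg.Agent.BenderSE.Criterion2.FieldSplit
import Cfsg.Agent.BenderSE.Criterion2.UnitaryCount

set_option autoImplicit false

namespace Cfsg.Lib.BenderSE.Crit2

open Cfsg.Lib.BenderSE.ClosedCrit (CriterionProp)

universe u

/-- ASCHBACHER'S CRITERION -/
theorem criterionProp : CriterionProp.{u} :=
  criterion_of_three kernelProp fieldProp rootProp

end Cfsg.Lib.BenderSE.Crit2
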