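/-
The case of a clique of square size in the criterion (notes/s1175_h6_field.md, F3): if the members at `a` contain
the non-identity elements of a subgroup `T` of order `q²` normalised by `u`, the count forces `T` to be regular
off `a`, its normaliser is semilinear and transfer kills the group. No classification, no climb.
-/
import Cfsg.Agent.BenderSE.Criterion2.CyclicEnd
import Cfsg.Agent.BenderSE.Criterion2.PairCore
import Cfsg.Agent.OddChar.PF.OddOrder
import Mathlib.GroupTheory.Nilpotent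

set_option autoImplicit false
set_option linter.unusedSectionVars false
set_option linter.style.haveILetI false

namespace Cfsg.Lib.BenderSE.Crit2

open Subgroup MulAction Cfsg.Lib.InvolCalc

universe u v

variable {G : Type u} [Group G] [Finite G] {α : Type v} [MulAction G α] [Finite α] [FaithfulSMul G α]
  [IsPretransitive G α] {z : G}

/-- the numbers of a square clique -/
theorem square_clique_numbers {q c k : ℕ} (hq : 2 ≤ q) (hc : 1 ≤ c)
    (hk : q ^ 2 - 1 ≤ k) (h : k * (q ^ 2 * c - q) = (q + 1) * (q - 1) * (q * (q - 1))) :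
    c = 1 ∧ k = q ^ 2 - 1 := by
  obtain ⟨p, rfl⟩ : ∃ p, q = p + 1 := ⟨q - 1, by omega⟩
  obtain ⟨c', rfl⟩ : ∃ c', c = c' + 1 := ⟨c - 1, by omega⟩
  have e1 : (p + 1) ^ 2 - 1 = p * (p + 2) := by
    have : (p + 1) ^ 2 = p * (p + 2) + 1 := by ring
    omega
  have e2 : (p + 1) ^ 2 * (c' + 1) - (p + 1) = (p + 1) * ((p + 1) * c' + p) := by
    have : (p + 1) ^ 2 * (c' + 1) = (p + 1) * ((p + 1) * c' + p) + (p + 1) := by ring
    omega
  rw [e1] at hk ⊢
  rw [e2, Nat.add_sub_cancel] at h
  have h' : k * ((p + 1) * c' + p) = p * (p + 2) * p := by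
    apply Nat.eq_of_mul_eq_mul_left (show 0 < p + 1 by omega)
    calc (p + 1) * (k * ((p + 1) * c' + p)) = k * ((p + 1) * ((p + 1) * c' + p)) := by ring
      _ = _ := by rw [h]; ring
  have hp : 0 < p * (p + 2) := Nat.mul_pos (by omega) (by omega)
  have h3 : (p + 1) * c' + p ≤ p := by
    refine Nat.le_of_mul_le_mul_left ?_ hp
    exact (Nat.mul_le_mul_right _ hk).trans h'.le
  have hc' : c' = 0 := by
    have : (p + 1) * c' = 0 := by omega
    exact (Nat.mul_eq_zero.1 this).resolve_left (by omega)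
  subst hc'
  rw [mul_zero, zero_add] at h'
  exact ⟨rfl, Nat.eq_of_mul_eq_mul_right (show 0 < p by omega) h'⟩

/-- a clique of order `q²` normalised by `u` contradicts simplicity -/
theorem false_of_clique_square [IsSimpleGroup G] (hna : ¬ IsMulCommutative G) (h : Crit G α z) {u : G}
    (hu : orderOf u = 2) {a b : α} (hua : u • a = a) (hub : u • b = b) (hab : a ≠ b) {q : ℕ} (hq : 2 ≤ q)
    (T : Subgroup G) (hT : ∀ t ∈ T, t ≠ 1 → IsConj z t ∧ t • a = a) (hcard : Nat.card T = q ^ 2)
    (huT : u ∈ normalizer (T : Set G))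
    (hcount : Nat.card {d : G | IsConj z d ∧ d • a = a} * (Nat.card α - (q + 1)) =
      (q + 1) * (q - 1) * (q * (q - 1))) : False := by
  classical
  haveI : Fact (Nat.Prime 2) := ⟨Nat.prime_two⟩
  have hTa : ∀ t ∈ T, t • a = a := fun t ht => by
    by_cases e : t = 1
    · rw [e, one_smul]
    · exact (hT t ht e).2
  have hsq : ∀ t ∈ T, t * t = 1 := fun t ht => by
    by_cases e : t = 1
    · rw [e, one_mul]
    · exact sq_of_order_two (orderOf_conj h (hT t ht e).1)
  have hT2 : IsPGroup 2 T := fun t => ⟨1, Subtype.ext (by rw [pow_one, pow_two]; exact hsq t t.2)⟩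
  -- `T` is semiregular off `a`
  have hfree : ∀ t ∈ T, ∀ x : α, x ≠ a → t • x = x → t = 1 := fun t ht x hx htx => by
    by_contra e
    exact hx (centre_unique h (hT t ht e).1 htx (hT t ht e).2)
  let β := {x : α // x ≠ a}
  letI : MulAction T β :=
    { smul := fun t x => ⟨(t : G) • (x : α), fun e => x.2 (by
        rw [← inv_smul_smul (t : G) (x : α), e]; exact hTa _ (inv_mem t.2))⟩
      one_smul := fun x => Subtype.ext (one_smul G (x : α))
      mul_smul := fun s t x => Subtype.ext (mul_smul (s : G) t (x : α)) }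
  have horb : ∀ x : β, Nat.card (orbit T x) = q ^ 2 := fun x => by
    rw [← hcard, ← Nat.card_congr (orbitEquivQuotientStabilizer T x).symm]
    have hbot : stabilizer T x = ⊥ := eq_bot_iff.2 fun t ht =>
      mem_bot.2 (Subtype.ext (hfree t t.2 x x.2 (congrArg Subtype.val (mem_stabilizer_iff.1 ht))))
    rw [hbot]
    exact Nat.card_congr (QuotientGroup.quotientBot (G := T)).toEquiv
  have hdvd : q ^ 2 ∣ Nat.card β := by
    haveI := Fintype.ofFinite (Quotient (orbitRel T β))
    rw [Nat.card_congr (selfEquivSigmaOrbits T β), Nat.card_sigma]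
    exact Finset.dvd_sum fun ω _ => by rw [horb]
  obtain ⟨c, hc⟩ := hdvd
  have hn : Nat.card α = Nat.card β + 1 := by
    haveI := Fintype.ofFinite α
    simp only [β, Nat.card_eq_fintype_card, Fintype.card_subtype_compl, Fintype.card_subtype_eq]
    have : 0 < Fintype.card α := Fintype.card_pos_iff.2 ⟨a⟩
    omega
  have hc1 : 1 ≤ c := by
    haveI : Nonempty β := ⟨⟨b, hab.symm⟩⟩
    have : 0 < Nat.card β := Nat.card_pos
    rw [hc] at this
    exact Nat.pos_of_mul_pos_left (this)
  set K := {d : G | IsConj z d ∧ d • a = a}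
  have hsub : ((T : Set G) \ {1}) ⊆ K := fun t ht => hT t ht.1 (by simpa using ht.2)
  have hTm : ((T : Set G) \ {1}).ncard = q ^ 2 - 1 := by
    rw [Set.ncard_diff_singleton_of_mem (one_mem T), ← Nat.card_coe_set_eq]
    exact congrArg (· - 1) hcard
  have hk : q ^ 2 - 1 ≤ Nat.card K := by
    rw [Nat.card_coe_set_eq, ← hTm]
    exact Set.ncard_le_ncard hsub (Set.toFinite _)
  rw [hn, hc, show q ^ 2 * c + 1 - (q + 1) = q ^ 2 * c - q by omega] at hcount
  obtain ⟨rfl, hkeq⟩ := square_clique_numbers hq hc1 hk hcount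
  rw [mul_one] at hc
  -- the members at `a` are `T` minus `1`
  have hKT : ∀ d : G, IsConj z d → d • a = a → d ∈ T := fun d hd hda => by
    have e : (T : Set G) \ {1} = K := Set.eq_of_subset_of_ncard_le hsub
      (by rw [hTm, ← Nat.card_coe_set_eq, hkeq]) (Set.toFinite _)
    exact (e ▸ (⟨hd, hda⟩ : d ∈ K) : d ∈ (T : Set G) \ {1}).1
  have hMT : stabilizer G a ≤ normalizer (T : Set G) := fun g hg =>
    Cfsg.Lib.ZStarApps.mem_normalizer_of_maps fun t ht => by
      by_cases e : t = 1
      · rw [e, mul_one, mul_inv_cancel]; exact one_mem T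
      refine hKT _ ((hT t ht e).1.trans (isConj_iff.2 ⟨g, rfl⟩)) ?_
      have hga : g • a = a := hg
      rw [mul_smul, mul_smul, inv_smul_eq_iff.2 hga.symm, hTa t ht, hga]
  -- a Sylow 2-subgroup at `a` over `T` and `u`
  have hodd : ¬ 2 ∣ (stabilizer G a).index := by
    rw [index_stabilizer_of_transitive G a, hn, hc, ← even_iff_two_dvd, Nat.even_add_one, not_not,
      Nat.even_pow' two_ne_zero]
    -- `q` is even
    obtain ⟨i, hi⟩ := (IsPGroup.iff_card).1 hT2
    rw [hcard] at hi
    rcases i with - | i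
    · rw [pow_zero] at hi
      nlinarith
    · exact Nat.even_pow' two_ne_zero |>.1 (hi ▸ (Nat.even_pow' (Nat.succ_ne_zero i)).2 even_two)
  have hU2 : IsPGroup 2 (zpowers u) := IsPGroup.of_card (n := 1) (by rw [Nat.card_zpowers, hu, pow_one])
  have hTu : IsPGroup 2 (T ⊔ zpowers u : Subgroup G) := by
    rw [sup_comm]
    exact hU2.to_sup_of_normal_right' hT2 (zpowers_le.2 huT)
  set M := stabilizer G a
  have hle : T ⊔ zpowers u ≤ M := sup_le hTa (zpowers_le.2 hua)
  obtain ⟨P, hP⟩ := (hTu.comap_of_injective M.subtype M.subtype_injective).exists_le_sylow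
  obtain ⟨S, hS⟩ := (P.2.map M.subtype).exists_le_sylow
  have hSP : (S : Subgroup G) = (P : Subgroup M).map M.subtype := by
    refine (Subgroup.eq_of_le_of_card_ge hS (Nat.le_of_dvd Nat.card_pos ?_)).symm
    obtain ⟨i, hi⟩ := IsPGroup.iff_card.1 S.2
    have hcop : Nat.Coprime (Nat.card (S : Subgroup G))
        ((P : Subgroup M).index * M.index) := by
      rw [hi]
      exact Nat.Coprime.pow_left _ (Nat.coprime_two_left.2 (Nat.odd_mul.2
        ⟨Nat.not_even_iff_odd.1 fun h => P.not_dvd_index h.two_dvd,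
          Nat.not_even_iff_odd.1 fun h => hodd h.two_dvd⟩))
    refine hcop.dvd_of_dvd_mul_right ?_
    rw [card_map_of_injective M.subtype_injective, ← mul_assoc, card_mul_index, card_mul_index]
    exact Subgroup.card_subgroup_dvd_card _
  have hTuS : T ⊔ zpowers u ≤ (S : Subgroup G) := fun g hg =>
    hS ⟨⟨g, hle hg⟩, hP hg, rfl⟩
  have hSM : (S : Subgroup G) ≤ M := hSP ▸ map_subtype_le _
  -- `T` is regular off `a`, so `S = T S_b`
  set Sb := (S : Subgroup G) ⊓ stabilizer G b
  have hSTb : (S : Subgroup G) ≤ T ⊔ Sb := fun s hs => by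
    let bb : β := ⟨b, hab.symm⟩
    have hsb : s • b ≠ a := fun e => hab (by
      rw [← inv_smul_smul s b, e]
      exact (inv_smul_eq_iff.2 (mem_stabilizer_iff.1 (hSM hs)).symm).symm)
    have huniv : orbit T bb = Set.univ := Set.eq_of_subset_of_ncard_le (Set.subset_univ _)
      (by rw [Set.ncard_univ, hc, ← Nat.card_coe_set_eq, horb]) Set.finite_univ
    obtain ⟨t, ht⟩ : (⟨s • b, hsb⟩ : β) ∈ orbit T bb := huniv ▸ Set.mem_univ _
    have htb : (t : G) • b = s • b := congrArg Subtype.val ht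
    have ht' : (t : G) ∈ (S : Subgroup G) := hTuS (mem_sup_left t.2)
    have h1 : (t : G)⁻¹ * s ∈ Sb := mem_inf.2 ⟨mul_mem (inv_mem ht') hs,
      mem_stabilizer_iff.2 (by rw [mul_smul, ← htb, inv_smul_smul])⟩
    simpa using mul_mem (mem_sup_left t.2 : (t : G) ∈ T ⊔ Sb) (mem_sup_right h1)
  -- a solvable group transitive on `T` minus `1`
  set R := pairOdd G a b
  have hSbN : Sb ≤ normalizer (R : Set G) := fun s hs =>
    stabilizer_inf_le_normalizer a b (mem_inf.2 ⟨hSM hs.1, hs.2⟩)
  set H := R ⊔ Sb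
  have hsol : Group.IsSolvable H := by
    haveI : (R.subgroupOf H).Normal :=
      (normal_subgroupOf_iff_le_normalizer le_sup_left).2 (sup_le le_normalizer hSbN)
    haveI : Group.IsSolvable R := Cfsg.Agent.PF.isSolvable_of_odd R (odd_card_pairOdd a b)
    haveI : Group.IsSolvable (R.subgroupOf H) :=
      Group.isSolvable_of_surjective (f := (subgroupOfEquivOfLe (le_sup_left : R ≤ H)).symm.toMonoidHom)
        (subgroupOfEquivOfLe (le_sup_left : R ≤ H)).symm.surjective
    let π : Sb →* H ⧸ R.subgroupOf H := (QuotientGroup.mk' _).comp (inclusion le_sup_right)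
    have hπ : Function.Surjective π := fun x => by
      obtain ⟨⟨g, hg⟩, rfl⟩ := QuotientGroup.mk_surjective x
      have hg' : g ∈ ((R ⊔ Sb : Subgroup G) : Set G) := hg
      rw [coe_mul_of_right_le_normalizer_left R Sb hSbN] at hg'
      obtain ⟨r, hr, s, hs, rfl⟩ := hg'
      refine ⟨⟨s, hs⟩, ?_⟩
      have e : (⟨r * s, hg⟩ : H) = ⟨r, le_sup_left (b := Sb) hr⟩ * ⟨s, le_sup_right (a := R) hs⟩ := rfl
      show QuotientGroup.mk' _ (⟨s, le_sup_right (a := R) hs⟩ : H) = QuotientGroup.mk' _ _
      rw [e, map_mul, show QuotientGroup.mk' (R.subgroupOf H) ⟨r, le_sup_left (b := Sb) hr⟩ = 1 from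
        (QuotientGroup.eq_one_iff _).2 (mem_subgroupOf.2 hr), one_mul]
    haveI : Group.IsNilpotent (H ⧸ R.subgroupOf H) :=
      ((S.2.to_le inf_le_left).of_surjective π hπ).isNilpotent
    exact Group.isSolvable_of_ker_le_range (R.subgroupOf H).subtype (QuotientGroup.mk' (R.subgroupOf H))
      (by rw [QuotientGroup.ker_mk', range_subtype])
  have hHM : H ≤ M := sup_le ((pairOdd_le a b).trans inf_le_left) (inf_le_left.trans hSM)
  have hTne : T ≠ ⊥ := fun e => by
    rw [e, card_bot] at hcard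
    nlinarith
  obtain ⟨g, hg, hgen⟩ := cyclic_image (P := Sb) hsol (hHM.trans hMT) hsq hTne
    (fun x hx y hy hx1 hy1 => by
      obtain ⟨r, hr, hrxy⟩ := exists_conj_member h hab (hT x hx hx1).1 (hT y hy hy1).1 (hT x hx hx1).2
        (hT y hy hy1).2
      exact ⟨r, le_sup_left (b := Sb) hr, hrxy⟩) (S.2.to_le inf_le_left) le_sup_right
  have hC : Sb ⊓ centralizer (T : Set G) ≤ ⊥ := fun p hp => by
    obtain ⟨⟨hpS, hpb⟩, hpC⟩ := hp
    refine mem_bot.2 (FaithfulSMul.eq_of_smul_eq_smul (α := α) fun x => ?_)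
    rw [one_smul]
    by_cases hx : x = a
    · rw [hx]; exact mem_stabilizer_iff.1 (hSM hpS)
    · let bb : β := ⟨b, hab.symm⟩
      have huniv : orbit T bb = Set.univ := Set.eq_of_subset_of_ncard_le (Set.subset_univ _)
        (by rw [Set.ncard_univ, hc, ← Nat.card_coe_set_eq, horb]) Set.finite_univ
      obtain ⟨t, ht⟩ : (⟨x, hx⟩ : β) ∈ orbit T bb := huniv ▸ Set.mem_univ _
      have htb : (t : G) • b = x := congrArg Subtype.val ht
      have hcom : (t : G) * p = p * t := mem_centralizer_iff.1 hpC t t.2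
      rw [← htb, smul_smul, ← hcom, mul_smul, mem_stabilizer_iff.1 hpb]
  refine false_of_cyclic_quotient hna S T (le_sup_left.trans hTuS) (hSM.trans hMT)
    (inf_le_left (b := stabilizer G b) hg) (hSTb.trans (sup_le le_sup_left (hgen.trans
      (sup_le (hC.trans bot_le) le_sup_right)))) hu (hTuS (mem_sup_right (mem_zpowers u)))
    fun x _ hx => ?_
  have hne : x * u * x⁻¹ ≠ 1 := fun e => ne_one_of_order_two hu (conj_eq_one_iff.1 e)
  have hD : IsConj z u := (hT _ hx hne).1.trans (isConj_iff.2 ⟨x⁻¹, by group⟩)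
  exact hab (centre_unique h hD hua hub)

end Cfsg.Lib.BenderSE.Crit2
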