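/-
Aschbacher's criterion, a field involution (FieldSplitProp): the arithmetic of the counts.
-/
import Mathlib

set_option autoImplicit false

namespace Cfsg.Lib.BenderSE.Crit2.SplitArith

/-- `(2^t - 1)²` divides `(2^i - 1)(2^j - 1)` with `t ≤ i, j ≤ 2t` only if one of them is `t` or both are `2t` -/
theorem exponents {t i j : ℕ} (ht : 2 ≤ t) (hi1 : t ≤ i) (hi2 : i ≤ 2 * t) (hj1 : t ≤ j) (hj2 : j ≤ 2 * t)
    (hdvd : (2 ^ t - 1) ^ 2 ∣ (2 ^ i - 1) * (2 ^ j - 1)) :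
    i = t ∨ j = t ∨ (i = 2 * t ∧ j = 2 * t) := by
  have hpt : 4 ≤ 2 ^ t := (show 4 = 2 ^ 2 by norm_num) ▸ Nat.pow_le_pow_right two_pos ht
  -- a proper exponent has a small common part
  have hgcd : ∀ k, t < k → k < 2 * t → 1 ≤ Nat.gcd k t ∧ 2 * Nat.gcd k t ≤ t := by
    intro k h1 h2
    obtain ⟨c, hc⟩ := Nat.gcd_dvd_right k t
    obtain ⟨e, he⟩ := Nat.gcd_dvd_left k t
    have hg : 0 < Nat.gcd k t := Nat.gcd_pos_of_pos_right _ (by omega)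
    refine ⟨hg, ?_⟩
    rcases Nat.lt_or_ge c 2 with hc2 | hc2
    · exfalso
      interval_cases c
      · omega
      · rw [mul_one] at hc
        rw [← hc] at he
        have h3 : t * 1 < t * e := by omega
        have h4 : t * e < t * 2 := by omega
        have := Nat.lt_of_mul_lt_mul_left h3
        have := Nat.lt_of_mul_lt_mul_left h4
        omega
    · calc 2 * Nat.gcd k t ≤ Nat.gcd k t * c := by rw [mul_comm]; exact Nat.mul_le_mul_left _ hc2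
        _ = t := hc.symm
  -- a full exponent forces the other
  have hfull : ∀ k, t ≤ k → k ≤ 2 * t → (2 ^ t - 1) ^ 2 ∣ (2 ^ (2 * t) - 1) * (2 ^ k - 1) →
      k = t ∨ k = 2 * t := by
    intro k h1 h2 hk
    have e : 2 ^ (2 * t) - 1 = (2 ^ t - 1) * (2 ^ t + 1) := by
      obtain ⟨p, hp⟩ : ∃ p, 2 ^ t = p + 1 := ⟨2 ^ t - 1, by omega⟩
      rw [mul_comm 2 t, pow_mul, hp, Nat.add_sub_cancel, show (p + 1) ^ 2 = p * (p + 2) + 1 by ring,
        Nat.add_sub_cancel]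
    rw [e, pow_two, mul_assoc] at hk
    have h3 := Nat.dvd_of_mul_dvd_mul_left (by omega : 0 < 2 ^ t - 1) hk
    have hcop : (2 ^ t - 1).Coprime (2 ^ t + 1) := by
      refine Nat.coprime_of_dvd' fun p hp hp1 hp2 => ?_
      have h5 := Nat.dvd_sub hp2 hp1
      rw [show 2 ^ t + 1 - (2 ^ t - 1) = 2 by omega] at h5
      obtain rfl := (Nat.prime_dvd_prime_iff_eq hp Nat.prime_two).1 h5
      exfalso
      have : 2 ∣ 2 ^ t := dvd_pow_self 2 (by omega)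
      omega
    have h4 : 2 ^ t - 1 ∣ 2 ^ k - 1 := hcop.dvd_of_dvd_mul_left h3
    have h6 := Nat.pow_sub_one_gcd_pow_sub_one 2 t k
    rw [Nat.gcd_eq_left h4] at h6
    have h7 : Nat.gcd t k = t := by
      refine Nat.pow_right_injective (le_refl 2) ?_
      have := Nat.one_le_two_pow (n := Nat.gcd t k)
      show 2 ^ Nat.gcd t k = 2 ^ t
      omega
    obtain ⟨c, hc⟩ : t ∣ k := h7 ▸ Nat.gcd_dvd_right t k
    subst hc
    have h8 : 1 ≤ c := by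
      rcases c with _ | c
      · omega
      · omega
    have h9 : c ≤ 2 := Nat.le_of_mul_le_mul_left (by rwa [mul_comm 2 t] at h2) (by omega : 0 < t)
    interval_cases c
    · exact Or.inl (by omega)
    · exact Or.inr (by omega)
  by_cases hit : i = t
  · exact Or.inl hit
  by_cases hjt : j = t
  · exact Or.inr (Or.inl hjt)
  rcases Nat.eq_or_lt_of_le hi2 with rfl | hi3
  · rcases hfull j hj1 hj2 hdvd with e | e
    · exact absurd e hjt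
    · exact Or.inr (Or.inr ⟨rfl, e⟩)
  rcases Nat.eq_or_lt_of_le hj2 with rfl | hj3
  · rcases hfull i hi1 hi2 (by rwa [mul_comm]) with e | e
    · exact absurd e hit
    · omega
  exfalso
  obtain ⟨ga, gb⟩ := hgcd i (by omega) hi3
  obtain ⟨ga', gb'⟩ := hgcd j (by omega) hj3
  set a := 2 ^ Nat.gcd i t - 1 with hadef
  set b := 2 ^ Nat.gcd j t - 1 with hbdef
  have h1 : (2 ^ t - 1) ^ 2 ∣ (a * b) ^ 2 := by
    rw [mul_pow]
    refine (Nat.dvd_gcd dvd_rfl hdvd).trans ((Nat.gcd_mul_right_dvd_mul_gcd _ _ _).trans ?_)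
    refine Nat.mul_dvd_mul ?_ ?_
    · rw [hadef, ← Nat.pow_sub_one_gcd_pow_sub_one, Nat.gcd_comm (2 ^ i - 1), pow_two, pow_two]
      exact Nat.gcd_mul_left_dvd_mul_gcd _ _ _
    · rw [hbdef, ← Nat.pow_sub_one_gcd_pow_sub_one, Nat.gcd_comm (2 ^ j - 1), pow_two, pow_two]
      exact Nat.gcd_mul_left_dvd_mul_gcd _ _ _
  have h2 : 2 ^ t - 1 ∣ a * b := (Nat.pow_dvd_pow_iff two_ne_zero).1 h1
  have hpa : 2 ≤ 2 ^ Nat.gcd i t := Nat.le_self_pow (by omega) 2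
  have hpb : 2 ≤ 2 ^ Nat.gcd j t := Nat.le_self_pow (by omega) 2
  have hprod : 2 ^ Nat.gcd i t * 2 ^ Nat.gcd j t ≤ 2 ^ t := by
    rw [← pow_add]
    exact Nat.pow_le_pow_right two_pos (by omega)
  obtain ⟨pa, hpa'⟩ : ∃ pa, 2 ^ Nat.gcd i t = pa + 2 := ⟨2 ^ Nat.gcd i t - 2, by omega⟩
  obtain ⟨pb, hpb'⟩ : ∃ pb, 2 ^ Nat.gcd j t = pb + 2 := ⟨2 ^ Nat.gcd j t - 2, by omega⟩
  have ha : a = pa + 1 := by omega
  have hb : b = pb + 1 := by omega
  rw [hpa', hpb'] at hprod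
  rw [ha, hb] at h2
  have hle := Nat.le_of_dvd (by positivity : 0 < (pa + 1) * (pb + 1)) h2
  have e1 : (pa + 2) * (pb + 2) = (pa + 1) * (pb + 1) + pa + pb + 3 := by ring
  omega

/-- the smaller cases: `N` is `1` or `2^t + 1` -/
theorem swaps_value {t i j N : ℕ} (ht : 2 ≤ t) (hj1 : t ≤ j) (hj2 : j ≤ 2 * t) (hit : i = t)
    (h : N * (2 ^ t - 1) ^ 2 = (2 ^ i - 1) * (2 ^ j - 1)) : N = 1 ∨ N = 2 ^ t + 1 := by
  subst hit
  have hpt : 4 ≤ 2 ^ i := (show 4 = 2 ^ 2 by norm_num) ▸ Nat.pow_le_pow_right two_pos ht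
  have h1 : N * (2 ^ i - 1) = 2 ^ j - 1 :=
    Nat.eq_of_mul_eq_mul_left (show 0 < 2 ^ i - 1 by omega) (by rw [← h]; ring)
  have h6 := Nat.pow_sub_one_gcd_pow_sub_one 2 i j
  rw [Nat.gcd_eq_left (Dvd.intro_left N h1)] at h6
  have h7 : Nat.gcd i j = i := by
    refine Nat.pow_right_injective (le_refl 2) ?_
    have := Nat.one_le_two_pow (n := Nat.gcd i j)
    show 2 ^ Nat.gcd i j = 2 ^ i
    omega
  obtain ⟨c, hc⟩ : i ∣ j := h7 ▸ Nat.gcd_dvd_right i j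
  subst hc
  have h9 : c ≤ 2 := Nat.le_of_mul_le_mul_left (by rwa [mul_comm 2 i] at hj2) (by omega : 0 < i)
  interval_cases c
  · omega
  · rw [mul_one] at h1
    exact Or.inl (Nat.eq_of_mul_eq_mul_right (show 0 < 2 ^ i - 1 by omega) (h1.trans (one_mul _).symm))
  · refine Or.inr (Nat.eq_of_mul_eq_mul_right (show 0 < 2 ^ i - 1 by omega) ?_)
    obtain ⟨p, hp⟩ : ∃ p, 2 ^ i = p + 1 := ⟨2 ^ i - 1, by omega⟩
    rw [h1, pow_mul, hp, Nat.add_sub_cancel, show (p + 1) ^ 2 = (p + 1 + 1) * p + 1 by ring,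
      Nat.add_sub_cancel]

/-- both of clique `q` is impossible -/
theorem not_both {t N : ℕ} (ht : 2 ≤ t) (h : N * (2 ^ t - 1) ^ 2 = (2 ^ (2 * t) - 1) * (2 ^ (2 * t) - 1))
    (hN : N ∣ ((2 ^ t) ^ 2 + 1) * ((2 ^ t) ^ 2 - 1)) : False := by
  obtain ⟨p, hp⟩ : ∃ p, 2 ^ t = p + 1 := ⟨2 ^ t - 1, by have := Nat.one_le_two_pow (n := t); omega⟩
  have hp4 : 4 ≤ p + 1 := hp ▸ ((show 4 = 2 ^ 2 by norm_num) ▸ Nat.pow_le_pow_right two_pos ht)
  rw [mul_comm 2 t, pow_mul, hp, Nat.add_sub_cancel, show (p + 1) ^ 2 = p * (p + 2) + 1 by ring,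
    Nat.add_sub_cancel] at h
  rw [hp, show (p + 1) ^ 2 = p * (p + 2) + 1 by ring, Nat.add_sub_cancel] at hN
  have hNv : N = (p + 2) ^ 2 := Nat.eq_of_mul_eq_mul_right (pow_pos (by omega) 2 : 0 < p ^ 2) (h.trans (by ring))
  subst hNv
  rw [pow_two, ← mul_assoc, Nat.mul_dvd_mul_iff_right (show 0 < p + 2 by omega)] at hN
  have h3 : ((p : ℤ) + 2) ∣ 4 := by
    obtain ⟨c, hc⟩ := hN
    have hcz := congrArg (fun n : ℕ => (n : ℤ)) hc
    push_cast at hcz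
    exact ⟨((p : ℤ) * (p : ℤ) + 2) - c, by linear_combination -hcz⟩
  have := Int.le_of_dvd (by norm_num) h3
  omega

/-- THE COUNT of a field involution with clique `s`: no solution -/
theorem no_count {s N n g j : ℕ} (hs : 4 ≤ s) (hN : N = 1 ∨ N = s + 1) (hn : s ^ 2 + 1 ≤ n)
    (hg : g = s ^ j) (hj : j = 1 ∨ j = 2 ∨ j = 3) (hgn : g + 1 ≤ n)
    (hu : N * (n - (s ^ 2 + 1)) = (s ^ 2 + 1) * (s ^ 2 - 1) * s ^ 2)
    (hphi : N * (s ^ 2 - 1) * (n - (g + 1)) = (g + 1) * (s - 1) * (g * (s - 1))) : False := by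
  have huz : (N : ℤ) * ((n : ℤ) - ((s : ℤ) ^ 2 + 1)) = ((s : ℤ) ^ 2 + 1) * ((s : ℤ) ^ 2 - 1) * (s : ℤ) ^ 2 := by
    have := congrArg (fun m : ℕ => (m : ℤ)) hu
    push_cast [Nat.cast_sub hn, Nat.cast_sub (show 1 ≤ s ^ 2 from Nat.one_le_pow _ _ (by omega))] at this
    linarith
  have hpz : (N : ℤ) * ((s : ℤ) ^ 2 - 1) * ((n : ℤ) - ((g : ℤ) + 1)) =
      ((g : ℤ) + 1) * ((s : ℤ) - 1) * ((g : ℤ) * ((s : ℤ) - 1)) := by
    have := congrArg (fun m : ℕ => (m : ℤ)) hphi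
    push_cast [Nat.cast_sub hgn, Nat.cast_sub (show 1 ≤ s ^ 2 from Nat.one_le_pow _ _ (by omega)),
      Nat.cast_sub (show 1 ≤ s by omega)] at this
    linarith
  have hs1 : (s : ℤ) - 1 ≠ 0 := by omega
  have key : ((s : ℤ) + 1) * ((((s : ℤ) ^ 2 + 1) * ((s : ℤ) ^ 2 - 1) * (s : ℤ) ^ 2) + N * ((s : ℤ) ^ 2 - g)) =
      ((g : ℤ) + 1) * g * ((s : ℤ) - 1) :=
    mul_left_cancel₀ hs1 (by linear_combination hpz - ((s : ℤ) ^ 2 - 1) * huz)
  subst hg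
  push_cast at key
  have hs0 : (4 : ℤ) ≤ s := by exact_mod_cast hs
  have hN0 : (0 : ℤ) ≤ N ∧ (N : ℤ) ≤ s + 1 := by rcases hN with rfl | rfl <;> constructor <;> push_cast <;> omega
  rcases hj with rfl | rfl | rfl
  · have h1 : ((s : ℤ) + 1) * ((((s : ℤ) ^ 2 + 1) * ((s : ℤ) ^ 2 - 1) * (s : ℤ)) + N * ((s : ℤ) - 1)) =
        ((s : ℤ) + 1) * ((s : ℤ) - 1) :=
      mul_left_cancel₀ (show (s : ℤ) ≠ 0 by omega) (by linear_combination key)
    have h2 := mul_left_cancel₀ (show (s : ℤ) + 1 ≠ 0 by omega) h1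
    nlinarith [mul_le_mul_of_nonneg_left hs0 (show (0:ℤ) ≤ (s : ℤ) ^ 2 by positivity), hN0.1]
  · have h1 : ((s : ℤ) + 1) ^ 2 = 1 := by
      have h2 : ((s : ℤ) - 1) * (((s : ℤ) ^ 2 + 1) * (s : ℤ) ^ 2) * (((s : ℤ) + 1) ^ 2) =
          ((s : ℤ) - 1) * (((s : ℤ) ^ 2 + 1) * (s : ℤ) ^ 2) * 1 := by linear_combination key
      exact mul_left_cancel₀ (mul_ne_zero hs1 (by positivity)) h2
    nlinarith
  · have h2 : ((s : ℤ) ^ 2 * (((s : ℤ) - 1) * ((s : ℤ) + 1))) * ((N : ℤ)) =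
        ((s : ℤ) ^ 2 * (((s : ℤ) - 1) * ((s : ℤ) + 1))) * (2 * (s : ℤ) ^ 2 + 1) := by
      linear_combination -key
    have h3 := mul_left_cancel₀ (mul_ne_zero (by positivity) (mul_ne_zero hs1 (by omega))) h2
    nlinarith

/-- `q = 4`: only `N = 1`, `n = 65`, thirteen points -/
theorem small {N n f : ℕ} (hN : N = 1 ∨ N = 3 ∨ N = 5) (hn : 5 ≤ n) (hu : N * (n - 5) = 60) (hf : f ≤ n)
    (hphi : N * 3 * (n - f) = f * (f - 1)) : N = 1 ∧ n = 65 ∧ f = 13 := by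
  rcases hN with rfl | rfl | rfl
  · obtain rfl : n = 65 := by omega
    refine ⟨rfl, rfl, ?_⟩
    interval_cases f <;> simp_all
  · obtain rfl : n = 25 := by omega
    interval_cases f <;> simp_all
  · obtain rfl : n = 17 := by omega
    interval_cases f <;> simp_all

end Cfsg.Lib.BenderSE.Crit2.SplitArith
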