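/-
Aschbacher's criterion, two involutions in the kernel of a line (notes/s1175_h5_four.md, steps 3 and 4): once the
translations of the kernel complements are given, counting the `q ^ 3` points off `a` gives a contradiction.
Here `β` is the set of points off `a`, `A` the clique, `W` the translations, `X` the torus.
-/
import Mathlib.GroupTheory.PGroup
import Mathlib.GroupTheory.Nilpotent
import Mathlib.GroupTheory.GroupAction.Quotient
import Cfsg.Agent.PGroups.AutOrder

set_option autoImplicit false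
set_option linter.unusedSectionVars false
set_option linter.style.haveILetI false

namespace Cfsg.Lib.BenderSE.Crit2.Four

open Subgroup MulAction

variable {G β : Type*} [Group G] [Finite G] [MulAction G β] [Finite β]

/-- the 2-part of the stabiliser of a point -/
abbrev kerOf (S : Subgroup G) (c : β) : Subgroup G := S ⊓ stabilizer G c

/-- the kernel and the clique at a point -/
abbrev lineGroup (S A : Subgroup G) (c : β) : Subgroup G := kerOf S c ⊔ A

/-- the data of a four group in a kernel with its translations -/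
structure Data (S A W X : Subgroup G) (c₀ : β) (q : ℕ) : Prop where
  two : IsPGroup 2 S
  leS : A ≤ S
  centre : ∀ a ∈ A, ∀ r ∈ S, Commute a r
  elem : ∀ a ∈ A, a * a = 1
  cardA : Nat.card A = q
  four : 4 ≤ q
  free : ∀ a ∈ A, ∀ c : β, a • c = c → a = 1
  points : Nat.card β = q ^ 3
  abel : ∀ x ∈ S, ∀ r ∈ S, ∀ c : β, x • c = c → r • c = c → Commute x r
  cent : ∀ x ∈ S, ∀ c : β, x ≠ 1 → x • c = c → ∀ r ∈ S, Commute r x → ∃ a ∈ A, (r * a) • c = c
  line : ∀ x ∈ S, ∀ c c' : β, x ≠ 1 → x • c = c → x • c' = c' → ∃ a ∈ A, a • c = c'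
  inv : ∀ x ∈ S, x * x = 1 → x ∉ A → ∃ c : β, x • c = c
  fourU : 4 ≤ Nat.card (kerOf S c₀)
  index : (lineGroup S A c₀).relIndex (S ⊓ normalizer (lineGroup S A c₀ : Set G)) = q
  Wle : W ≤ S ⊓ normalizer (lineGroup S A c₀ : Set G)
  leW : A ≤ W
  meet : W ⊓ lineGroup S A c₀ ≤ A
  cardW : Nat.card W = q * q
  sqW : ∀ w ∈ W, w * w ∈ A
  commX : ∀ x ∈ X, ∀ u ∈ kerOf S c₀, Commute x u
  normA : X ≤ normalizer (A : Set G)
  normW : X ≤ normalizer (W : Set G)
  transX : ∀ w ∈ W, ∀ w' ∈ W, w ∉ A → w' ∉ A → ∃ x ∈ X, x * w * x⁻¹ * w'⁻¹ ∈ A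

namespace Data

variable {S A W X : Subgroup G} {c₀ : β} {q : ℕ} (h : Data S A W X c₀ q)
include h

theorem mem_line {c : β} {r : G} : r ∈ lineGroup S A c ↔ ∃ u ∈ kerOf S c, ∃ a ∈ A, u * a = r := by
  refine ⟨fun hr => ?_, fun ⟨u, hu, a, ha, e⟩ => e ▸ mul_mem (mem_sup_left hu) (mem_sup_right ha)⟩
  let K : Subgroup G :=
    { carrier := {r | ∃ u ∈ kerOf S c, ∃ a ∈ A, u * a = r}
      one_mem' := ⟨1, one_mem _, 1, one_mem _, one_mul 1⟩
      mul_mem' := by
        rintro _ _ ⟨u, hu, a, ha, rfl⟩ ⟨v, hv, b, hb, rfl⟩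
        refine ⟨u * v, mul_mem hu hv, a * b, mul_mem ha hb, ?_⟩
        rw [mul_assoc u, ← mul_assoc v, ← (h.centre a ha v (mem_inf.1 hv).1).eq]
        group
      inv_mem' := by
        rintro _ ⟨u, hu, a, ha, rfl⟩
        refine ⟨u⁻¹, inv_mem hu, a⁻¹, inv_mem ha, ?_⟩
        rw [mul_inv_rev, (h.centre _ (inv_mem ha) _ (inv_mem (mem_inf.1 hu).1)).eq] }
  have hK : lineGroup S A c ≤ K := sup_le (fun u hu => ⟨u, hu, 1, one_mem _, mul_one u⟩)
    fun a ha => ⟨1, one_mem _, a, ha, one_mul a⟩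
  exact hK hr

theorem line_le (c : β) : lineGroup S A c ≤ S := sup_le inf_le_left h.leS

theorem inter_eq_one {c : β} {u : G} (hu : u ∈ kerOf S c) (huA : u ∈ A) : u = 1 :=
  h.free u huA c (mem_inf.1 hu).2

theorem card_line (c : β) : Nat.card (lineGroup S A c) = Nat.card (kerOf S c) * q := by
  rw [← h.cardA, ← Nat.card_prod]
  symm
  refine Nat.card_congr (Equiv.ofBijective
    (fun p => (⟨(p.1 : G) * p.2, mul_mem (mem_sup_left p.1.2) (mem_sup_right p.2.2)⟩ : lineGroup S A c))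
    ⟨fun p p' e => ?_, fun r => ?_⟩)
  · have e' : (p.1 : G) * p.2 = (p'.1 : G) * p'.2 := congrArg Subtype.val e
    have h1 : (p'.1 : G)⁻¹ * p.1 = (p'.2 : G) * (p.2 : G)⁻¹ := by
      rw [inv_mul_eq_iff_eq_mul, ← mul_assoc, ← e', mul_inv_cancel_right]
    have h2 := h.inter_eq_one (c := c) (mul_mem (inv_mem p'.1.2) p.1.2)
      (h1 ▸ mul_mem p'.2.2 (inv_mem p.2.2))
    have h3 : (p.1 : G) = p'.1 := (inv_mul_eq_one.1 h2).symm
    rw [h3] at e'
    exact Prod.ext (Subtype.ext h3) (Subtype.ext (mul_left_cancel e'))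
  · obtain ⟨u, hu, a, ha, e⟩ := h.mem_line.1 r.2
    exact ⟨(⟨u, hu⟩, ⟨a, ha⟩), Subtype.ext e⟩

theorem mem_line_iff {c : β} {x r : G} (hx : x ∈ kerOf S c) (hx1 : x ≠ 1) :
    r ∈ lineGroup S A c ↔ r ∈ S ∧ Commute r x := by
  constructor
  · intro hr
    refine ⟨h.line_le c hr, ?_⟩
    obtain ⟨u, hu, a, ha, rfl⟩ := h.mem_line.1 hr
    exact (h.abel u (mem_inf.1 hu).1 x (mem_inf.1 hx).1 c (mem_inf.1 hu).2 (mem_inf.1 hx).2).mul_left
      (h.centre a ha x (mem_inf.1 hx).1)
  · rintro ⟨hrS, hc⟩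
    obtain ⟨a, ha, hra⟩ := h.cent x (mem_inf.1 hx).1 c hx1 (mem_inf.1 hx).2 r hrS hc
    rw [show r = r * a * a⁻¹ by group]
    exact mul_mem (mem_sup_left (mem_inf.2 ⟨mul_mem hrS (h.leS ha), hra⟩)) (mem_sup_right (inv_mem ha))

/-- the group of a line is the centraliser of each of its elements outside `A` -/
theorem mem_line_iff' {c : β} {x r : G} (hx : x ∈ lineGroup S A c) (hxA : x ∉ A) :
    r ∈ lineGroup S A c ↔ r ∈ S ∧ Commute r x := by
  obtain ⟨u, hu, a, ha, rfl⟩ := h.mem_line.1 hx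
  have hu1 : u ≠ 1 := fun e => hxA (by rw [e, one_mul]; exact ha)
  rw [h.mem_line_iff hu hu1]
  refine and_congr_right fun hrS => ⟨fun hc => hc.mul_right (h.centre a ha r hrS).symm, fun hc => ?_⟩
  have h1 := hc.mul_right (h.centre a ha r hrS).symm.inv_right
  rwa [mul_inv_cancel_right] at h1

theorem line_eq {c c' : β} {x : G} (hx : x ∈ lineGroup S A c) (hxA : x ∉ A)
    (hx' : x ∈ lineGroup S A c') : lineGroup S A c = lineGroup S A c' := by
  ext r; rw [h.mem_line_iff' hx hxA, h.mem_line_iff' hx' hxA]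

theorem exists_inv_ker {c : β} (hc : kerOf S c ≠ ⊥) : ∃ x ∈ kerOf S c, x ≠ 1 ∧ x * x = 1 := by
  haveI : Fact (Nat.Prime 2) := ⟨Nat.prime_two⟩
  haveI : Nontrivial (kerOf S c) := (nontrivial_iff_ne_bot _).2 hc
  obtain ⟨n, hn, hcard⟩ := (h.two.to_le (inf_le_left : kerOf S c ≤ S)).nontrivial_iff_card.1 inferInstance
  obtain ⟨x, hx⟩ := exists_prime_orderOf_dvd_card' (G := kerOf S c) 2 (hcard ▸ dvd_pow_self 2 hn.ne')
  refine ⟨x, x.2, fun e => ?_, ?_⟩
  · rw [show x = 1 from Subtype.ext e, orderOf_one] at hx; omega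
  · have := congrArg Subtype.val (pow_orderOf_eq_one x)
    rwa [hx, pow_two] at this

theorem ker_sq {c : β} {y : G} (hy : y ∈ kerOf S c) : y * y = 1 := by
  haveI : Fact (Nat.Prime 2) := ⟨Nat.prime_two⟩
  by_cases hy1 : y = 1
  · rw [hy1, one_mul]
  obtain ⟨x, hx, hx1, hxx⟩ := h.exists_inv_ker (c := c) fun e => hy1 (by rwa [e, mem_bot] at hy)
  haveI : Nontrivial A := Finite.one_lt_card_iff_nontrivial.1 (by rw [h.cardA]; linarith [h.four])
  obtain ⟨a, ha1⟩ := exists_ne (1 : A)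
  have hxS := (mem_inf.1 hx).1
  have hxa : x * (a : G) ∈ lineGroup S A c := mul_mem (mem_sup_left hx) (mem_sup_right a.2)
  have hxaA : x * (a : G) ∉ A := fun e => hx1 (h.inter_eq_one hx (by
    have := mul_mem e (inv_mem a.2); rwa [mul_inv_cancel_right] at this))
  obtain ⟨c', hc'⟩ := h.inv _ (h.line_le c hxa) (by
    rw [(h.centre (a : G) a.2 x hxS).mul_mul_mul_comm x (a : G), hxx, h.elem a a.2, one_mul]) hxaA
  have heq := h.line_eq hxa hxaA (mem_sup_left (mem_inf.2 ⟨h.line_le c hxa, hc'⟩))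
  obtain ⟨v, hv, b, hb, hvb⟩ := h.mem_line.1 (heq ▸ mem_sup_left hy : y ∈ lineGroup S A c')
  have hy2 : y * y = v * v := by
    rw [← hvb, (h.centre b hb v (mem_inf.1 hv).1).mul_mul_mul_comm v b, h.elem b hb, mul_one]
  by_contra hne
  obtain ⟨a', ha', hac⟩ := h.line _ (mul_mem (mem_inf.1 hy).1 (mem_inf.1 hy).1) c c' hne
    (mem_inf.1 (mul_mem hy hy)).2 (by rw [hy2]; exact (mem_inf.1 (mul_mem hv hv)).2)
  have h1 : (x * (a : G)) • c = c := by
    have h2 := congrArg (fun p => a'⁻¹ • p) hc'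
    simp only [← hac, inv_smul_smul] at h2
    rwa [← mul_smul, ← mul_smul, mul_assoc a'⁻¹,
      ← (h.centre a' ha' _ (h.line_le c hxa)).eq, ← mul_assoc, inv_mul_cancel, one_mul] at h2
  refine ha1 (Subtype.ext (h.free a a.2 c ?_))
  rw [mul_smul] at h1
  have h3 := congrArg (fun p => x⁻¹ • p) h1
  simp only [inv_smul_smul] at h3
  rw [h3, inv_smul_eq_iff]
  exact (mem_inf.1 hx).2.symm

theorem line_sq {c : β} {r : G} (hr : r ∈ lineGroup S A c) : r * r = 1 := by
  obtain ⟨u, hu, a, ha, rfl⟩ := h.mem_line.1 hr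
  rw [(h.centre a ha u (mem_inf.1 hu).1).mul_mul_mul_comm u a, h.ker_sq hu, h.elem a ha, one_mul]

/-- the points of a line group number `q * q` -/
theorem card_pts {c : β} (hc : kerOf S c ≠ ⊥) :
    Nat.card {c' : β // kerOf S c' ≠ ⊥ ∧ lineGroup S A c' = lineGroup S A c} = q * q := by
  classical
  set P := lineGroup S A c
  set T := {c' : β // kerOf S c' ≠ ⊥ ∧ lineGroup S A c' = P}
  let Y := {p : G × β // p.1 ∈ P ∧ p.1 ∉ A ∧ p.1 • p.2 = p.2}
  have hP := h.card_line c
  have hA : A ≤ P := le_sup_right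
  -- by the element
  have h1 : Nat.card Y = Nat.card {x : G // x ∈ P ∧ x ∉ A} * q := by
    choose pt hpt using fun x : {x : G // x ∈ P ∧ x ∉ A} => h.inv x.1 (h.line_le c x.2.1) (h.line_sq x.2.1) x.2.2
    rw [← h.cardA, ← Nat.card_prod]
    symm
    refine Nat.card_congr (Equiv.ofBijective (fun p => (⟨(p.1.1, (p.2 : G) • pt p.1), p.1.2.1, p.1.2.2, by
      rw [smul_smul, ← (h.centre _ p.2.2 _ (h.line_le c p.1.2.1)).eq, mul_smul, hpt p.1]⟩ : Y))
      ⟨fun p p' e => ?_, fun y => ?_⟩)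
    · have e1 : p.1 = p'.1 := Subtype.ext (congrArg (fun y : Y => y.1.1) e)
      have e2 : (p.2 : G) • pt p.1 = (p'.2 : G) • pt p'.1 := congrArg (fun y : Y => y.1.2) e
      rw [← e1] at e2
      refine Prod.ext e1 (Subtype.ext ?_)
      have := h.free _ (mul_mem (inv_mem p'.2.2) p.2.2) (pt p.1) (by
        rw [mul_smul, e2, inv_smul_smul])
      exact (inv_mul_eq_one.1 this).symm
    · obtain ⟨a, ha, hac⟩ := h.line y.1.1 (h.line_le c y.2.1) (pt ⟨y.1.1, y.2.1, y.2.2.1⟩) y.1.2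
        (fun e => y.2.2.1 (e ▸ one_mem A)) (hpt ⟨y.1.1, y.2.1, y.2.2.1⟩) y.2.2.2
      exact ⟨(⟨y.1.1, y.2.1, y.2.2.1⟩, ⟨a, ha⟩), Subtype.ext (Prod.ext rfl hac)⟩
  have h2 : Nat.card {x : G // x ∈ P ∧ x ∉ A} = Nat.card (kerOf S c) * q - q := by
    rw [← hP, ← h.cardA]
    exact Set.ncard_sdiff (show (A : Set G) ⊆ (P : Set G) from hA) (Set.toFinite _)
  -- by the point
  haveI : Fintype T := Fintype.ofFinite _
  have h3 : Nat.card Y = Nat.card T * (Nat.card (kerOf S c) - 1) := by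
    have e : Y ≃ Σ t : T, {x : kerOf S t.1 // x ≠ 1} :=
      { toFun := fun y => by
          have hmem : y.1.1 ∈ kerOf S y.1.2 := mem_inf.2 ⟨h.line_le c y.2.1, y.2.2.2⟩
          have h0 : y.1.1 ≠ 1 := fun e => y.2.2.1 (e ▸ one_mem A)
          exact ⟨⟨y.1.2, fun e => h0 (by rwa [e, mem_bot] at hmem),
            (h.line_eq (mem_sup_left hmem) y.2.2.1 y.2.1)⟩, ⟨_, hmem⟩, fun e => h0 (congrArg Subtype.val e)⟩
        invFun := fun s => ⟨((s.2.1 : G), s.1.1), s.1.2.2.le (mem_sup_left s.2.1.2),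
          fun e => s.2.2 (Subtype.ext (h.inter_eq_one s.2.1.2 e)), (mem_inf.1 s.2.1.2).2⟩
        left_inv := fun y => rfl
        right_inv := fun s => rfl }
    rw [Nat.card_congr e, Nat.card_sigma]
    have hk : ∀ t : T, Nat.card {x : kerOf S t.1 // x ≠ 1} = Nat.card (kerOf S c) - 1 := fun t => by
      have h4 := h.card_line t.1
      rw [t.2.2, hP] at h4
      haveI : Fintype (kerOf S t.1) := Fintype.ofFinite _
      rw [Nat.eq_of_mul_eq_mul_right (by linarith [h.four]) h4, Nat.card_eq_fintype_card,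
        Fintype.card_subtype_compl, Fintype.card_subtype_eq, Nat.card_eq_fintype_card]
    simp_rw [hk]
    rw [Finset.sum_const, Finset.card_univ, Nat.card_eq_fintype_card (α := T), smul_eq_mul]
  have he : 1 < Nat.card (kerOf S c) := by
    haveI : Nontrivial (kerOf S c) := (nontrivial_iff_ne_bot _).2 hc
    exact Finite.one_lt_card
  rw [h2, h3] at h1
  refine Nat.eq_of_mul_eq_mul_right (show 0 < Nat.card (kerOf S c) - 1 by omega) ?_
  rw [h1, Nat.sub_mul, Nat.mul_sub, mul_one]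
  ring_nf

theorem card_regular : Nat.card S ∣ Nat.card {c : β // kerOf S c = ⊥} := by
  letI : MulAction S {c : β // kerOf S c = ⊥} :=
    { smul := fun g c => ⟨(g : G) • c.1, by
        rw [eq_bot_iff]
        intro x hx
        have h1 : (g : G)⁻¹ * x * g ∈ kerOf S c.1 := mem_inf.2
          ⟨mul_mem (mul_mem (inv_mem g.2) (mem_inf.1 hx).1) g.2, mem_stabilizer_iff.2 (by
            rw [mul_smul, mul_smul, mem_stabilizer_iff.1 (mem_inf.1 hx).2, inv_smul_smul])⟩
        rw [c.2, mem_bot] at h1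
        rw [mem_bot]
        calc x = (g : G) * ((g : G)⁻¹ * x * g) * (g : G)⁻¹ := by group
          _ = 1 := by rw [h1, mul_one, mul_inv_cancel]⟩
      one_smul := fun c => Subtype.ext (one_smul G c.1)
      mul_smul := fun g g' c => Subtype.ext (mul_smul (g : G) g' c.1) }
  refine Cfsg.Lib.PGroups.card_dvd_of_free fun g c e => Subtype.ext ?_
  have hg : (g : G) ∈ kerOf S c.1 := mem_inf.2 ⟨g.2, mem_stabilizer_iff.2 (congrArg Subtype.val e)⟩
  rw [c.2, mem_bot] at hg
  exact hg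

theorem conj_line {g : G} (hg : g ∈ S) (c : β) :
    lineGroup S A (g • c) = (lineGroup S A c).map (MulAut.conj g).toMonoidHom := by
  ext r
  rw [h.mem_line, mem_map]
  constructor
  · rintro ⟨u, hu, a, ha, rfl⟩
    refine ⟨g⁻¹ * u * g * a, mul_mem (mem_sup_left (mem_inf.2
      ⟨mul_mem (mul_mem (inv_mem hg) (mem_inf.1 hu).1) hg, mem_stabilizer_iff.2 (by
        rw [mul_smul, mul_smul, mem_stabilizer_iff.1 (mem_inf.1 hu).2, inv_smul_smul])⟩)) (mem_sup_right ha), ?_⟩
    show g * (g⁻¹ * u * g * a) * g⁻¹ = u * a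
    rw [show g * (g⁻¹ * u * g * a) * g⁻¹ = u * (g * a * g⁻¹) by group, ← (h.centre a ha g hg).eq,
      mul_inv_cancel_right]
  · rintro ⟨r', hr', rfl⟩
    obtain ⟨u, hu, a, ha, rfl⟩ := h.mem_line.1 hr'
    refine ⟨g * u * g⁻¹, mem_inf.2 ⟨mul_mem (mul_mem hg (mem_inf.1 hu).1) (inv_mem hg),
      mem_stabilizer_iff.2 (by rw [mul_smul, mul_smul, inv_smul_smul, mem_stabilizer_iff.1 (mem_inf.1 hu).2])⟩,
      a, ha, ?_⟩
    show g * u * g⁻¹ * a = g * (u * a) * g⁻¹
    rw [show g * (u * a) * g⁻¹ = g * u * g⁻¹ * (g * a * g⁻¹) by group, ← (h.centre a ha g hg).eq,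
      mul_inv_cancel_right]

omit h in
theorem lineGroup_le_normalizer (c : β) :
    lineGroup S A c ≤ normalizer (lineGroup S A c : Set G) := le_normalizer

theorem line_le_R : lineGroup S A c₀ ≤ S ⊓ normalizer (lineGroup S A c₀ : Set G) :=
  le_inf (h.line_le c₀) le_normalizer

theorem card_R : Nat.card ↥(S ⊓ normalizer (lineGroup S A c₀ : Set G)) = Nat.card (kerOf S c₀) * q * q := by
  rw [← Subgroup.card_mul_index ((lineGroup S A c₀).subgroupOf (S ⊓ normalizer (lineGroup S A c₀ : Set G))),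
    Nat.card_congr (subgroupOfEquivOfLe h.line_le_R).toEquiv, ← relIndex, h.index, h.card_line]

theorem decomp {r : G} (hr : r ∈ S ⊓ normalizer (lineGroup S A c₀ : Set G)) :
    ∃ u ∈ kerOf S c₀, ∃ w ∈ W, r = u * w := by
  let f : kerOf S c₀ × W → ↥(S ⊓ normalizer (lineGroup S A c₀ : Set G)) := fun p =>
    ⟨(p.1 : G) * p.2, mul_mem (h.line_le_R (mem_sup_left p.1.2)) (h.Wle p.2.2)⟩
  have hf : Function.Injective f := fun p p' e => by
    have e' : (p.1 : G) * p.2 = (p'.1 : G) * p'.2 := congrArg Subtype.val e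
    have h1 : (p'.1 : G)⁻¹ * p.1 = (p'.2 : G) * (p.2 : G)⁻¹ := by
      rw [inv_mul_eq_iff_eq_mul, ← mul_assoc, ← e', mul_inv_cancel_right]
    have h2 := h.inter_eq_one (mul_mem (inv_mem p'.1.2) p.1.2) (h.meet (mem_inf.2
      ⟨h1 ▸ mul_mem p'.2.2 (inv_mem p.2.2), mem_sup_left (mul_mem (inv_mem p'.1.2) p.1.2)⟩))
    have h3 : (p.1 : G) = p'.1 := (inv_mul_eq_one.1 h2).symm
    rw [h3] at e'
    exact Prod.ext (Subtype.ext h3) (Subtype.ext (mul_left_cancel e'))
  obtain ⟨p, hp⟩ := ((Nat.bijective_iff_injective_and_card f).2 ⟨hf, by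
    rw [Nat.card_prod, h.cardW, h.card_R, mul_assoc]⟩).2 ⟨r, hr⟩
  exact ⟨p.1, p.1.2, p.2, p.2.2, (congrArg Subtype.val hp).symm⟩

theorem sq_mem {r : G} (hr : r ∈ S ⊓ normalizer (lineGroup S A c₀ : Set G)) : r * r ∈ A := by
  obtain ⟨u, hu, w, hw, e⟩ := h.decomp hr
  have h1 : r * r ∈ lineGroup S A c₀ := by
    rw [e, show u * w * (u * w) = u * (w * u * w⁻¹) * (w * w) by group]
    exact mul_mem (mul_mem (mem_sup_left hu)
      ((mem_normalizer_iff.1 (mem_inf.1 (h.Wle hw)).2 u).1 (mem_sup_left hu))) (mem_sup_right (h.sqW w hw))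
  by_contra hA
  have h2 : r ∈ lineGroup S A c₀ :=
    (h.mem_line_iff' h1 hA).2 ⟨(mem_inf.1 hr).1, (Commute.refl r).mul_right (Commute.refl r)⟩
  exact hA (by rw [h.line_sq h2]; exact one_mem A)

theorem comm_mem {r s : G} (hr : r ∈ S ⊓ normalizer (lineGroup S A c₀ : Set G))
    (hs : s ∈ S ⊓ normalizer (lineGroup S A c₀ : Set G)) : r * s * r⁻¹ * s⁻¹ ∈ A := by
  rw [show r * s * r⁻¹ * s⁻¹ = (r * r) * ((r⁻¹ * s) * (r⁻¹ * s)) * (s * s)⁻¹ by group]
  exact mul_mem (mul_mem (h.sq_mem hr) (h.sq_mem (mul_mem (inv_mem hr) hs))) (inv_mem (h.sq_mem hs))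

theorem unique_part {u u' w : G} (hu : u ∈ kerOf S c₀) (hu' : u' ∈ kerOf S c₀) (hw : w ∈ W) (hwA : w ∉ A)
    (h1 : u * w * (u * w) = 1) (h2 : u' * w * (u' * w) = 1) : u = u' := by
  by_contra hne
  have hu2 := h.ker_sq hu
  have hu'2 := h.ker_sq hu'
  have key : ∀ v : G, v * w * (v * w) = 1 → v * v = 1 → w * v * w⁻¹ = v * (w * w)⁻¹ := fun v hv hv2 => by
    have h5 : w * v * w = v := by
      calc w * v * w = v⁻¹ * (v * w * (v * w)) := by group
        _ = v⁻¹ := by rw [hv, mul_one]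
        _ = v := inv_eq_of_mul_eq_one_right hv2
    calc w * v * w⁻¹ = (w * v * w) * (w * w)⁻¹ := by group
      _ = v * (w * w)⁻¹ := by rw [h5]
  have hwS := (mem_inf.1 (h.Wle hw)).1
  have hu'S := (mem_inf.1 hu').1
  have hww := h.sqW w hw
  have h3 : w * (u * u') * w⁻¹ = u * u' := by
    rw [show w * (u * u') * w⁻¹ = (w * u * w⁻¹) * (w * u' * w⁻¹) by group, key u h1 hu2, key u' h2 hu'2,
      mul_assoc, ← mul_assoc ((w * w)⁻¹), (h.centre _ (inv_mem hww) u' hu'S).eq, mul_assoc, ← mul_assoc u]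
    have : (w * w)⁻¹ * (w * w)⁻¹ = 1 := by rw [← mul_inv_rev, h.elem _ hww, inv_one]
    rw [this, mul_one]
  have hp : u * u' ≠ 1 := fun e => hne (by
    rw [eq_inv_of_mul_eq_one_left e, inv_eq_of_mul_eq_one_right hu'2])
  exact hwA (h.meet (mem_inf.2 ⟨hw, (h.mem_line_iff (mul_mem hu hu') hp).2
    ⟨hwS, mul_inv_eq_iff_eq_mul.1 h3⟩⟩))

/-- involutions of the normaliser outside the line group are translations -/
theorem outside_inv {y : G} (hy : y ∈ S ⊓ normalizer (lineGroup S A c₀ : Set G))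
    (hyP : y ∉ lineGroup S A c₀) (hy2 : y * y = 1) :
    y ∈ W ∧ (∀ w ∈ W, w * w = 1) ∧ Nat.card (kerOf S c₀) ≤ q := by
  classical
  set R := S ⊓ normalizer (lineGroup S A c₀ : Set G) with hR
  have hAP : A ≤ lineGroup S A c₀ := le_sup_right
  have hRS : ∀ {r}, r ∈ R → r ∈ S := fun hr => (mem_inf.1 hr).1
  -- the torus gives an involution over each translation
  have step : ∀ {u w : G}, u ∈ kerOf S c₀ → w ∈ W → w ∉ A → u * w * (u * w) = 1 →
      ∀ w' ∈ W, w' ∉ A → u * w' * (u * w') = 1 := by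
    intro u w hu hw hwA he w' hw' hw'A
    obtain ⟨x, hx, hxw⟩ := h.transX w hw w' hw' hwA hw'A
    set a := x * w * x⁻¹ * w'⁻¹ with ha
    have e1 : x * (u * w) * x⁻¹ = a * (u * w') := by
      rw [show x * (u * w) * x⁻¹ = x * u * x⁻¹ * (x * w * x⁻¹) by group, (h.commX x hx u hu).eq,
        mul_inv_cancel_right, show x * w * x⁻¹ = a * w' by rw [ha]; group,
        ← mul_assoc, ← (h.centre a hxw u (mem_inf.1 hu).1).eq, mul_assoc]
    have huw : u * w' ∈ S := mul_mem (mem_inf.1 hu).1 (hRS (h.Wle hw'))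
    have e2 : x * (u * w) * x⁻¹ * (x * (u * w) * x⁻¹) = 1 := by
      rw [show x * (u * w) * x⁻¹ * (x * (u * w) * x⁻¹) = x * (u * w * (u * w)) * x⁻¹ by group, he,
        mul_one, mul_inv_cancel]
    rwa [e1, (h.centre a hxw _ huw).symm.mul_mul_mul_comm a (u * w'), h.elem a hxw, one_mul] at e2
  obtain ⟨u, hu, w, hw, rfl⟩ := h.decomp hy
  have hwA : w ∉ A := fun e => hyP (mul_mem (mem_sup_left hu) (hAP e))
  obtain ⟨c, hc⟩ := h.inv _ (hRS hy) hy2 fun e => hyP (hAP e)
  have hyc : u * w ∈ kerOf S c := mem_inf.2 ⟨hRS hy, hc⟩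
  have hy1 : u * w ≠ 1 := fun e => hyP (by rw [e]; exact one_mem _)
  set C := R ⊓ centralizer ({u * w} : Set G) with hC
  have hidx : C.relIndex R ≤ q := by
    rw [← h.cardA, relIndex, Subgroup.index]
    refine Nat.card_le_card_of_injective
      (Quotient.lift (fun r : R => (⟨r * (u * w) * (r : G)⁻¹ * (u * w)⁻¹, h.comm_mem r.2 hy⟩ : A)) ?_) ?_
    · intro r s hrs
      have hcs := (mem_inf.1 (mem_subgroupOf.1 (QuotientGroup.leftRel_apply.1 hrs))).2
      rw [Subgroup.coe_mul, Subgroup.coe_inv, mem_centralizer_singleton_iff] at hcs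
      refine Subtype.ext ?_
      show (r : G) * (u * w) * (r : G)⁻¹ * (u * w)⁻¹ = s * (u * w) * (s : G)⁻¹ * (u * w)⁻¹
      congr 1
      calc (r : G) * (u * w) * (r : G)⁻¹ = r * ((u * w) * ((r : G)⁻¹ * s)) * (s : G)⁻¹ := by group
        _ = r * (((r : G)⁻¹ * s) * (u * w)) * (s : G)⁻¹ := by rw [hcs]
        _ = s * (u * w) * (s : G)⁻¹ := by group
    · intro a b
      induction a using Quotient.inductionOn
      induction b using Quotient.inductionOn
      rename_i r s
      intro e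
      have e' : (r : G) * (u * w) * (r : G)⁻¹ = s * (u * w) * (s : G)⁻¹ :=
        mul_right_cancel (congrArg Subtype.val e)
      refine Quotient.sound (QuotientGroup.leftRel_apply.2 (mem_subgroupOf.2 (mem_inf.2
        ⟨mul_mem (inv_mem r.2) s.2, mem_centralizer_singleton_iff.2 ?_⟩)))
      show (r : G)⁻¹ * s * (u * w) = u * w * ((r : G)⁻¹ * s)
      calc (r : G)⁻¹ * s * (u * w) = (r : G)⁻¹ * (s * (u * w) * (s : G)⁻¹) * s := by group
        _ = _ := by rw [← e']; group
  have hCR : Nat.card (kerOf S c₀) * q ≤ Nat.card C := by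
    have h1 := Subgroup.card_mul_index (C.subgroupOf R)
    rw [Nat.card_congr (subgroupOfEquivOfLe inf_le_left).toEquiv, ← relIndex, h.card_R] at h1
    refine Nat.le_of_mul_le_mul_right ?_ (show 0 < q by linarith [h.four])
    rw [← h1]
    exact Nat.mul_le_mul_left _ hidx
  -- a second involution in the centraliser
  obtain ⟨r, hrC, hrA, hrA'⟩ : ∃ r ∈ C, r ∉ A ∧ (u * w)⁻¹ * r ∉ A := by
    by_contra hcon
    push Not at hcon
    have hsub : (C : Set G) ⊆ (A : Set G) ∪ (fun a => u * w * a) '' (A : Set G) := fun r hr => by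
      by_cases hrA : r ∈ A
      · exact Or.inl hrA
      · exact Or.inr ⟨_, hcon r hr hrA, mul_inv_cancel_left _ _⟩
    have h1 := (Set.ncard_le_ncard hsub (Set.toFinite _)).trans (Set.ncard_union_le _ _)
    have h2 := Set.ncard_image_le (f := fun a => u * w * a) (s := (A : Set G)) (Set.toFinite _)
    have e1 : (C : Set G).ncard = Nat.card C := (Nat.card_coe_set_eq _).symm
    have e2 : (A : Set G).ncard = q := (Nat.card_coe_set_eq _).symm.trans h.cardA
    have h3 : 4 * q ≤ Nat.card (kerOf S c₀) * q := Nat.mul_le_mul_right q h.fourU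
    have := h.four
    omega
  obtain ⟨hrR, hrc⟩ := mem_inf.1 hrC
  have hcomm : Commute r (u * w) := mem_centralizer_singleton_iff.1 hrc
  have hrc' : r ∈ lineGroup S A c := (h.mem_line_iff hyc hy1).2 ⟨hRS hrR, hcomm⟩
  have hr2 := h.line_sq hrc'
  have hrP : r ∉ lineGroup S A c₀ := fun e => hyP ((h.mem_line_iff' e hrA).2 ⟨hRS hy, hcomm.symm⟩)
  obtain ⟨v, hv, w', hw', hvw⟩ := h.decomp hrR
  have hw'A : w' ∉ A := fun e => hrP (by rw [hvw]; exact mul_mem (mem_sup_left hv) (hAP e))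
  have hvu : v = u := h.unique_part hv hu hw' hw'A (hvw ▸ hr2) (step hu hw hwA hy2 w' hw' hw'A)
  rw [hvu] at hvw
  have hww' : w⁻¹ * w' ∉ A := fun e => hrA' (by
    rw [hvw, show (u * w)⁻¹ * (u * w') = w⁻¹ * w' by group]; exact e)
  have hone : (1 : G) * (w⁻¹ * w') * (1 * (w⁻¹ * w')) = 1 := by
    have h5 := h.line_sq (mul_mem (inv_mem (mem_sup_left hyc : u * w ∈ lineGroup S A c)) hrc')
    rw [hvw, show (u * w)⁻¹ * (u * w') = w⁻¹ * w' by group] at h5
    rwa [one_mul]
  have hu1 : u = 1 := h.unique_part hu (one_mem _) (mul_mem (inv_mem hw) hw') hww'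
    (step hu hw hwA hy2 _ (mul_mem (inv_mem hw) hw') hww') hone
  subst hu1
  rw [one_mul] at hy2 hyP
  have hWsq : ∀ w'' ∈ W, w'' * w'' = 1 := fun w'' hw'' => by
    by_cases hA'' : w'' ∈ A
    · exact h.elem _ hA''
    · have := step (one_mem _) hw hwA (by simpa using hy2) w'' hw'' hA''
      simpa using this
  refine ⟨by rw [one_mul]; exact hw, hWsq, ?_⟩
  have hCW : C ≤ W := fun s hs => by
    obtain ⟨hsR, hsc⟩ := mem_inf.1 hs
    have hcs : Commute s (1 * w) := mem_centralizer_singleton_iff.1 hsc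
    by_cases hsA : s ∈ A
    · exact h.leW hsA
    obtain ⟨v', hv', w'', hw'', hsv⟩ := h.decomp hsR
    have hs2 := h.line_sq ((h.mem_line_iff hyc hy1).2 ⟨hRS hsR, hcs⟩)
    by_cases hw''A : w'' ∈ A
    · exact absurd ((h.mem_line_iff' (show s ∈ lineGroup S A c₀ by
        rw [hsv]; exact mul_mem (mem_sup_left hv') (hAP hw''A)) hsA).2 ⟨hRS (h.Wle hw), by simpa using hcs.symm⟩) hyP
    · rw [hsv, h.unique_part hv' (one_mem _) hw'' hw''A (hsv ▸ hs2) (by simpa using hWsq _ hw''), one_mul]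
      exact hw''
  refine Nat.le_of_mul_le_mul_right ?_ (show 0 < q by linarith [h.four])
  exact hCR.trans ((card_le_of_le hCW).trans h.cardW.le)

theorem points_split :
    q ^ 3 = Nat.card {c : β // kerOf S c ≠ ⊥} + Nat.card {c : β // kerOf S c = ⊥} := by
  classical
  haveI : Fintype β := Fintype.ofFinite β
  rw [← h.points, Nat.card_eq_fintype_card, Nat.card_eq_fintype_card, Nat.card_eq_fintype_card,
    Fintype.card_subtype_compl, Nat.sub_add_cancel (Fintype.card_subtype_le _)]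

/-- if all special points belong to one or two line groups, their number is `q * q` or `2 * (q * q)` -/
theorem card_special {c : β} (hc : kerOf S c ≠ ⊥)
    (hall : ∀ c' : β, kerOf S c' ≠ ⊥ →
      lineGroup S A c' = lineGroup S A c₀ ∨ lineGroup S A c' = lineGroup S A c)
    (h0 : kerOf S c₀ ≠ ⊥) :
    (lineGroup S A c = lineGroup S A c₀ → Nat.card {c' : β // kerOf S c' ≠ ⊥} = q * q) ∧
    (lineGroup S A c ≠ lineGroup S A c₀ → Nat.card {c' : β // kerOf S c' ≠ ⊥} = 2 * (q * q)) := by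
  classical
  refine ⟨fun e => ?_, fun e => ?_⟩
  · rw [← h.card_pts h0]
    refine Nat.card_congr (Equiv.subtypeEquivRight fun c' => ⟨fun hc' => ⟨hc', ?_⟩, fun hc' => hc'.1⟩)
    rcases hall c' hc' with h1 | h1
    · exact h1
    · exact h1.trans e
  · rw [two_mul]
    conv_rhs => arg 1; rw [← h.card_pts h0]
    conv_rhs => arg 2; rw [← h.card_pts hc]
    rw [← Nat.card_sum]
    refine Nat.card_congr
      { toFun := fun c' => if h1 : lineGroup S A c'.1 = lineGroup S A c₀ then Sum.inl ⟨c'.1, c'.2, h1⟩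
          else Sum.inr ⟨c'.1, c'.2, (hall c'.1 c'.2).resolve_left h1⟩
        invFun := Sum.elim (fun t => ⟨t.1, t.2.1⟩) (fun t => ⟨t.1, t.2.1⟩)
        left_inv := fun c' => by
          dsimp only
          split_ifs <;> rfl
        right_inv := fun t => by
          rcases t with ⟨t, ht, ht'⟩ | ⟨t, ht, ht'⟩
          · simp [ht']
          · have : lineGroup S A t ≠ lineGroup S A c₀ := fun e' => e (ht'.symm.trans e')
            simp [this] }

end Data

/-- STEPS 3 AND 4: the translations of the kernel complements contradict the count of points -/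
theorem false_of_data {S A W X : Subgroup G} {c₀ : β} {q : ℕ} (h : Data S A W X c₀ q) : False := by
  classical
  haveI : Fact (Nat.Prime 2) := ⟨Nat.prime_two⟩
  set P₀ := lineGroup S A c₀
  set R := S ⊓ normalizer (P₀ : Set G) with hR
  set e := Nat.card (kerOf S c₀) with he
  have he4 : 4 ≤ e := h.fourU
  have hq4 : 4 ≤ q := h.four
  have h0 : kerOf S c₀ ≠ ⊥ := fun e' => by rw [he, e', Subgroup.card_bot] at he4; omega
  have four_dvd : ∀ {H : Subgroup G}, H ≤ S → 4 ≤ Nat.card H → 4 ∣ Nat.card H := fun {H} hH h4 => by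
    obtain ⟨k, hk⟩ := IsPGroup.iff_card.1 (h.two.to_le hH)
    rw [hk] at h4 ⊢
    exact pow_dvd_pow 2 (show 2 ≤ k by
      by_contra hk2
      have := Nat.pow_le_pow_right (show 0 < 2 by norm_num) (show k ≤ 1 by omega)
      omega)
  have he4d : 4 ∣ e := four_dvd inf_le_left he4
  have hq4d : 4 ∣ q := h.cardA ▸ four_dvd h.leS (h.cardA.symm ▸ hq4)
  have hsplit := h.points_split
  have hreg := h.card_regular
  have hcube : q ^ 3 = q * (q * q) := by ring
  -- a point whose kernel meets `R`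
  have hin : ∀ (c : β) (x : G), x ∈ lineGroup S A c → x ∉ A → x ∈ R →
      lineGroup S A c = P₀ ∨ (x ∈ W ∧ W ≤ lineGroup S A c ∧ e ≤ q) := by
    intro c x hx hxA hxR
    by_cases hxP : x ∈ P₀
    · exact Or.inl (h.line_eq hx hxA hxP)
    obtain ⟨hxW, hW2, heq⟩ := h.outside_inv hxR hxP (h.line_sq hx)
    refine Or.inr ⟨hxW, fun w hw => (h.mem_line_iff' hx hxA).2 ⟨(mem_inf.1 (h.Wle hw)).1, ?_⟩, heq⟩
    have h1 := hW2 _ (mul_mem hw hxW)
    calc w * x = (w * x)⁻¹ := eq_inv_of_mul_eq_one_left h1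
      _ = x * w := by rw [mul_inv_rev, inv_eq_of_mul_eq_one_right (hW2 w hw),
          inv_eq_of_mul_eq_one_right (hW2 x hxW)]
  by_cases hSR : S ≤ normalizer (P₀ : Set G)
  · -- `S = R`
    have hRS : R = S := inf_eq_left.2 hSR
    have hS : Nat.card S = e * (q * q) := by
      have := h.card_R
      rw [← mul_assoc, he, ← this]
      show Nat.card S = Nat.card R
      rw [hRS]
    have key : ∀ c : β, kerOf S c ≠ ⊥ →
        lineGroup S A c = P₀ ∨ ∃ x ∈ W, x ∉ A ∧ x ∈ lineGroup S A c ∧ W ≤ lineGroup S A c := by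
      intro c hc
      obtain ⟨x, hx, hx1, -⟩ := h.exists_inv_ker hc
      have hxA : x ∉ A := fun ha => hx1 (h.inter_eq_one hx ha)
      rcases hin c x (mem_sup_left hx) hxA (hRS.symm ▸ (mem_inf.1 hx).1) with h1 | ⟨h1, h2, -⟩
      · exact Or.inl h1
      · exact Or.inr ⟨x, h1, hxA, mem_sup_left hx, h2⟩
    obtain ⟨m, hm1, hm2, hm⟩ : ∃ m, 1 ≤ m ∧ m ≤ 2 ∧ Nat.card {c : β // kerOf S c ≠ ⊥} = m * (q * q) := by
      by_cases hex : ∃ c : β, kerOf (β := β) S c ≠ ⊥ ∧ lineGroup S A c ≠ P₀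
      · obtain ⟨c, hc, hcP⟩ := hex
        refine ⟨2, by norm_num, le_rfl, (h.card_special hc (fun c' hc' => ?_) h0).2 hcP⟩
        rcases key c' hc' with h1 | ⟨x, hxW, hxA, hxc, -⟩
        · exact Or.inl h1
        · rcases key c hc with h2 | ⟨y, -, -, -, hWc⟩
          · exact absurd h2 hcP
          · exact Or.inr (h.line_eq hxc hxA (hWc hxW))
      · push Not at hex
        exact ⟨1, le_rfl, by norm_num, by rw [one_mul]; exact (h.card_special h0 (fun c' hc' => Or.inl (hex c' hc')) h0).1 rfl⟩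
    obtain ⟨i, hi⟩ := hreg
    rw [hm, hi, hS, hcube, show m * (q * q) + e * (q * q) * i = (m + e * i) * (q * q) by ring] at hsplit
    have h1 : q = m + e * i := Nat.eq_of_mul_eq_mul_right (Nat.mul_pos (by omega) (by omega)) hsplit
    have h2 : 4 ∣ m := by
      rw [h1] at hq4d
      exact (Nat.dvd_add_left (he4d.mul_right i)).1 hq4d
    have := Nat.le_of_dvd (by omega) h2
    omega
  -- an element normalising `R` outside it
  have hgrow : ∀ K : Subgroup G, K ≤ S → K ≠ S → ∃ g ∈ S, g ∈ normalizer (K : Set G) ∧ g ∉ K := by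
    intro K hK hne
    haveI : Group.IsNilpotent S := h.two.isNilpotent
    have hlt := normalizerCondition_of_isNilpotent (G := S) (K.subgroupOf S) (lt_top_iff_ne_top.2 fun e' =>
      hne (le_antisymm hK (subgroupOf_eq_top.1 e')))
    obtain ⟨g, hg, hg'⟩ := SetLike.exists_of_lt hlt
    refine ⟨g, g.2, mem_normalizer_iff.2 fun x => ⟨fun hx => ?_, fun hx => ?_⟩, hg'⟩
    · have := (mem_normalizer_iff.1 hg ⟨x, hK hx⟩).1 hx
      simpa [mem_subgroupOf] using this
    · have hxS : x ∈ S := by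
        have := mul_mem (mul_mem (inv_mem g.2) (hK hx)) g.2
        rwa [show (g : G)⁻¹ * ((g : G) * x * (g : G)⁻¹) * g = x by group] at this
      exact (mem_normalizer_iff.1 hg ⟨x, hxS⟩).2 (by simpa [mem_subgroupOf] using hx)
  have hRS : R ≠ S := fun e' => hSR (e' ▸ inf_le_right)
  obtain ⟨g, hgS, hgN, hgR⟩ := hgrow R inf_le_left hRS
  set P₁ := lineGroup S A (g • c₀)
  have hcard : ∀ k ∈ S, Nat.card (lineGroup S A (k • c₀)) = e * q := fun k hk => by
    rw [h.conj_line hk, card_map_of_injective (MulAut.conj k).injective, h.card_line]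
  have hnorm : ∀ k ∈ S, lineGroup S A (k • c₀) = P₀ → k ∈ R := fun k hk e' => mem_inf.2 ⟨hk,
    mem_normalizer_iff.2 fun x => ⟨fun hx => by
      rw [← e', h.conj_line hk]; exact ⟨x, hx, rfl⟩, fun hx => by
      rw [← e', h.conj_line hk] at hx
      obtain ⟨y, hy, hyx⟩ := hx
      have : y = x := (MulAut.conj k).injective hyx
      exact this ▸ hy⟩⟩
  have hP1ne : P₁ ≠ P₀ := fun e' => hgR (hnorm g hgS e')
  have hP1R : P₁ ≤ R := by
    rintro x hx
    rw [show P₁ = _ from h.conj_line hgS c₀] at hx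
    obtain ⟨y, hy, rfl⟩ := hx
    exact (mem_normalizer_iff.1 hgN y).1 (h.line_le_R hy)
  obtain ⟨x, hx, hxP⟩ : ∃ x ∈ P₁, x ∉ P₀ := SetLike.not_le_iff_exists.1 fun hle =>
    hP1ne (Subgroup.eq_of_le_of_card_ge hle (by rw [hcard g hgS, h.card_line]))
  have hxA : x ∉ A := fun ha => hxP (mem_sup_right ha)
  obtain ⟨hxW, hWP, heq⟩ := (hin _ x hx hxA (hP1R hx)).resolve_left hP1ne
  have hW : W = P₁ := Subgroup.eq_of_le_of_card_ge hWP (by
    rw [hcard g hgS, h.cardW]; exact Nat.mul_le_mul_right q heq)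
  have heq' : e = q := Nat.eq_of_mul_eq_mul_right (show 0 < q by omega)
    (by rw [← h.cardW, hW, hcard g hgS])
  have hR2 : R = P₀ ⊔ P₁ := le_antisymm (fun r hr => by
    obtain ⟨u, hu, w, hw, rfl⟩ := h.decomp hr
    exact mul_mem (mem_sup_left (mem_sup_left hu)) (mem_sup_right (hW ▸ hw))) (sup_le h.line_le_R hP1R)
  have htwo : ∀ c : β, (∃ y ∈ lineGroup S A c, y ∉ A ∧ y ∈ R) →
      lineGroup S A c = P₀ ∨ lineGroup S A c = P₁ := by
    rintro c ⟨y, hy, hyA, hyR⟩
    rcases hin c y hy hyA hyR with h1 | ⟨h1, -, -⟩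
    · exact Or.inl h1
    · exact Or.inr (h.line_eq hy hyA (show y ∈ P₁ from hW.le h1))
  set S₂ := S ⊓ normalizer (R : Set G)
  have hmeet : ∀ k ∈ S, (∃ y ∈ lineGroup S A (k • c₀), y ∉ A) := fun k hk => by
    by_contra hno
    push Not at hno
    have h1 := card_le_of_le (show lineGroup S A (k • c₀) ≤ A from hno)
    rw [hcard k hk, h.cardA] at h1
    have := Nat.mul_le_mul_right q he4
    omega
  have hS2 : ∀ k ∈ S₂, k ∈ R ∨ g⁻¹ * k ∈ R := by
    intro k hk
    obtain ⟨hkS, hkN⟩ := mem_inf.1 hk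
    obtain ⟨y, hy, hyA⟩ := hmeet k hkS
    have hyR : y ∈ R := by
      rw [h.conj_line hkS] at hy
      obtain ⟨y', hy', rfl⟩ := hy
      exact (mem_normalizer_iff.1 hkN y').1 (h.line_le_R hy')
    rcases htwo _ ⟨y, hy, hyA, hyR⟩ with h1 | h1
    · exact Or.inl (hnorm k hkS h1)
    · refine Or.inr (hnorm _ (mul_mem (inv_mem hgS) hkS) ?_)
      rw [mul_smul, h.conj_line (inv_mem hgS), h1, show P₁ = _ from h.conj_line hgS c₀, Subgroup.map_map]
      convert Subgroup.map_id P₀ using 2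
      ext p
      simp [mul_assoc]
  have hgS2 : g ∈ S₂ := mem_inf.2 ⟨hgS, hgN⟩
  have hlines : ∀ k ∈ S, k ∈ normalizer (S₂ : Set G) → ∀ k' ∈ S₂,
      lineGroup S A ((k * k') • c₀) = P₀ ∨ lineGroup S A ((k * k') • c₀) = P₁ := by
    intro k hk hkN k' hk'
    have hkk : k * k' ∈ S := mul_mem hk (mem_inf.1 hk').1
    have hle : lineGroup S A ((k * k') • c₀) ≤ S₂ := by
      rintro p hp
      rw [h.conj_line hkk] at hp
      obtain ⟨p', hp', rfl⟩ := hp
      show k * k' * p' * (k * k')⁻¹ ∈ S₂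
      rw [show k * k' * p' * (k * k')⁻¹ = k * (k' * p' * k'⁻¹) * k⁻¹ by group]
      refine (mem_normalizer_iff.1 hkN _).1 (mem_inf.2 ⟨?_, le_normalizer ?_⟩)
      · exact mul_mem (mul_mem (mem_inf.1 hk').1 (h.line_le c₀ hp')) (inv_mem (mem_inf.1 hk').1)
      · exact (mem_normalizer_iff.1 (mem_inf.1 hk').2 p').1 (h.line_le_R hp')
    refine htwo _ ?_
    by_contra hno
    push Not at hno
    -- otherwise the line group has at most `2 q` elements
    have hsub : ∃ p₀ : G, (lineGroup S A ((k * k') • c₀) : Set G) ⊆ (A : Set G) ∪ (fun a => p₀ * a) '' (A : Set G) := by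
      by_cases hex : ∃ p ∈ lineGroup S A ((k * k') • c₀), p ∉ A
      · obtain ⟨p, hp, hpA⟩ := hex
        refine ⟨p, fun r hr => ?_⟩
        by_cases hrA : r ∈ A
        · exact Or.inl hrA
        refine Or.inr ⟨p⁻¹ * r, ?_, mul_inv_cancel_left _ _⟩
        by_contra hprA
        have hp1 : g⁻¹ * p ∈ R := (hS2 p (hle hp)).resolve_left (hno p hp hpA)
        have hr1 : g⁻¹ * r ∈ R := (hS2 r (hle hr)).resolve_left (hno r hr hrA)
        exact hno _ (mul_mem (inv_mem hp) hr) hprA (by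
          rw [show p⁻¹ * r = (g⁻¹ * p)⁻¹ * (g⁻¹ * r) by group]; exact mul_mem (inv_mem hp1) hr1)
      · push Not at hex
        exact ⟨1, fun r hr => Or.inl (hex r hr)⟩
    obtain ⟨p₀, hsub⟩ := hsub
    have h1 := (Set.ncard_le_ncard hsub (Set.toFinite _)).trans (Set.ncard_union_le _ _)
    have h2 := Set.ncard_image_le (f := fun a => p₀ * a) (s := (A : Set G)) (Set.toFinite _)
    have e1 : (lineGroup S A ((k * k') • c₀) : Set G).ncard = e * q :=
      (Nat.card_coe_set_eq _).symm.trans (hcard _ hkk)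
    have e2 : (A : Set G).ncard = q := (Nat.card_coe_set_eq _).symm.trans h.cardA
    have := Nat.mul_le_mul_right q he4
    omega
  have hSS : S₂ = S := by
    by_contra hne
    obtain ⟨k, hk, hkN, hk2⟩ := hgrow S₂ inf_le_left hne
    have l1 := hlines k hk hkN 1 (one_mem _)
    have l2 := hlines k hk hkN g hgS2
    rw [mul_one] at l1
    have hle : R.map (MulAut.conj k).toMonoidHom ≤ R := by
      conv_lhs => rw [hR2, Subgroup.map_sup, show P₁ = _ from h.conj_line hgS c₀]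
      refine sup_le ?_ ?_
      · rw [← h.conj_line hk]
        rcases l1 with l | l <;> rw [l]
        exacts [h.line_le_R, hP1R]
      · rw [← h.conj_line hgS, ← h.conj_line hk, ← mul_smul]
        rcases l2 with l | l <;> rw [l]
        exacts [h.line_le_R, hP1R]
    refine hk2 (mem_inf.2 ⟨hk, mem_normalizer_iff.2 fun r => ⟨fun hr => hle ⟨r, hr, rfl⟩, fun hr => ?_⟩⟩)
    have heq : R.map (MulAut.conj k).toMonoidHom = R :=
      Subgroup.eq_of_le_of_card_ge hle (card_map_of_injective (MulAut.conj k).injective).ge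
    obtain ⟨y, hy, hyr⟩ := (heq.symm ▸ hr : k * r * k⁻¹ ∈ R.map (MulAut.conj k).toMonoidHom)
    exact (MulAut.conj k).injective hyr ▸ hy
  have hall : ∀ s ∈ S, s ∈ R ∨ g⁻¹ * s ∈ R := fun s hs => hS2 s (hSS.symm ▸ hs)
  have hS : Nat.card S = 2 * (q * (q * q)) := by
    have hidx : R.relIndex S = 2 := by
      rw [relIndex, Subgroup.index_eq_two_iff]
      refine ⟨⟨g, hgS⟩, fun b => ?_⟩
      have hbg : (b : G) * g ∈ R ↔ (b : G) ∉ R := by
        constructor
        · intro h1 h2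
          exact hgR (by have := mul_mem (inv_mem h2) h1; rwa [inv_mul_cancel_left] at this)
        · intro h1
          have h2 := (hall b b.2).resolve_left h1
          have h3 : g * g ∈ R := (hall _ (mul_mem hgS hgS)).resolve_right fun h' => hgR (by
            rwa [inv_mul_cancel_left] at h')
          have h4 : g⁻¹ * (g⁻¹ * b) * g ∈ R := (mem_normalizer_iff''.1 hgN _).1 h2
          have := mul_mem h3 h4
          rwa [show g * g * (g⁻¹ * (g⁻¹ * b) * g) = (b : G) * g by group] at this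
      show Xor' (((b : G) * g) ∈ R) ((b : G) ∈ R)
      by_cases hb : (b : G) ∈ R
      · exact Or.inr ⟨hb, fun h' => hbg.1 h' hb⟩
      · exact Or.inl ⟨hbg.2 hb, hb⟩
    have h1 := Subgroup.card_mul_index (R.subgroupOf S)
    rw [Nat.card_congr (subgroupOfEquivOfLe inf_le_left).toEquiv, ← relIndex, hidx, h.card_R, ← he, heq'] at h1
    rw [← h1]; ring
  -- every special point belongs to `P₀` or `P₁`
  have hspec : ∀ c : β, kerOf S c ≠ ⊥ → lineGroup S A c = P₀ ∨ lineGroup S A c = P₁ := by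
    intro c hc
    by_contra hno
    obtain ⟨x, hx, hx1, hxx⟩ := h.exists_inv_ker hc
    have hkR : ∀ r ∈ kerOf S c, r ∈ R → r = 1 := fun r hr hrR => by
      by_contra hr1
      exact hno (htwo c ⟨r, mem_sup_left hr, fun ha => hr1 (h.inter_eq_one hr ha), hrR⟩)
    have hxg : g⁻¹ * x ∈ R := (hall x (mem_inf.1 hx).1).resolve_left fun h' => hx1 (hkR x hx h')
    have hk2 : Nat.card (kerOf S c) ≤ 2 := by
      have hsub : (kerOf S c : Set G) ⊆ ({1, x} : Set G) := fun r hr => by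
        rcases hall r (mem_inf.1 hr).1 with h1 | h1
        · exact Or.inl (hkR r hr h1)
        · refine Or.inr ?_
          have h3 := hkR (x⁻¹ * r) (mul_mem (inv_mem hx) hr) (by
            rw [show x⁻¹ * r = (g⁻¹ * x)⁻¹ * (g⁻¹ * r) by group]; exact mul_mem (inv_mem hxg) h1)
          exact (inv_mul_eq_one.1 h3).symm
      have h1 := Set.ncard_le_ncard hsub (Set.toFinite _)
      have h2 : ({1, x} : Set G).ncard ≤ 2 := by
        have := Set.ncard_insert_le (1 : G) {x}
        rwa [Set.ncard_singleton] at this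
      rw [← Nat.card_coe_set_eq] at h1
      exact h1.trans h2
    have horb : ∀ c' : β, Nat.card (orbit S c') * Nat.card (kerOf S c') = Nat.card S := fun c' => by
      have h1 := Nat.card_congr (MulAction.orbitProdStabilizerEquivGroup S c')
      rw [Nat.card_prod] at h1
      rw [← h1]
      congr 1
      exact Nat.card_congr
        { toFun := fun r => ⟨⟨r.1, (mem_inf.1 r.2).1⟩, mem_stabilizer_iff.2 (mem_inf.1 r.2).2⟩
          invFun := fun r => ⟨r.1.1, mem_inf.2 ⟨r.1.2, mem_stabilizer_iff.2 (mem_stabilizer_iff.1 r.2 :)⟩⟩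
          left_inv := fun r => rfl
          right_inv := fun r => rfl }
    have h1 := horb c
    rw [hS] at h1
    have h2 : q * (q * q) ≤ Nat.card (orbit S c) := by
      have := Nat.mul_le_mul_left (Nat.card (orbit S c)) hk2
      omega
    have h3 : orbit S c = Set.univ := Set.eq_of_subset_of_ncard_le (Set.subset_univ _) (by
      rw [Set.ncard_univ, h.points, hcube, ← Nat.card_coe_set_eq]; exact h2) (Set.toFinite _)
    have h4 : orbit S c₀ = orbit S c := orbit_eq_iff.2 (h3 ▸ Set.mem_univ _)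
    have h5 := horb c₀
    rw [h4, hS, ← he] at h5
    have h6 := Nat.eq_of_mul_eq_mul_left (show 0 < Nat.card (orbit S c) by
      have : 0 < q * (q * q) := Nat.mul_pos (by omega) (Nat.mul_pos (by omega) (by omega))
      omega) (h5.trans h1.symm)
    omega
  have hc1 : kerOf S (g • c₀) ≠ ⊥ := fun e' => by
    have h1 := hcard g hgS
    rw [h.card_line, e', Subgroup.card_bot, one_mul] at h1
    have := Nat.mul_le_mul_right q he4
    omega
  have hm := (h.card_special hc1 hspec h0).2 hP1ne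
  obtain ⟨i, hi⟩ := hreg
  rw [hm, hi, hS, hcube, show 2 * (q * q) + 2 * (q * (q * q)) * i = (2 + 2 * q * i) * (q * q) by ring] at hsplit
  have h1 : q = 2 + 2 * q * i := Nat.eq_of_mul_eq_mul_right (Nat.mul_pos (by omega) (by omega)) hsplit
  rcases Nat.eq_zero_or_pos i with rfl | hi0
  · omega
  · have := Nat.le_mul_of_pos_right (2 * q) hi0
    omega

end Cfsg.Lib.BenderSE.Crit2.Four
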