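/-
Aschbacher's criterion, a second involution in the kernel of an L2 line (notes/s1175_h5_four.md): every member
at the point preserves the line, the clique is the set of members of the Sylow subgroup, the centraliser of the
clique has elementary point stabilisers with one orbit of the clique as fixed points, and `n - 1 = q³`.
-/
import Cfsg.Agent.BenderSE.Criterion2.Assemble
import Cfsg.Agent.BenderSE.Criterion2.FourFix
import Cfsg.Agent.BenderSE.Criterion2.LineActions
import Cfsg.Agent.BenderSE.Criterion2.LineOdd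
import Cfsg.Agent.Coprime.SolvableBasics

set_option autoImplicit false
set_option linter.unusedSectionVars false
set_option linter.style.haveILetI false

namespace Cfsg.Lib.BenderSE.Crit2

open Subgroup MulAction Cfsg.Lib.InvolCalc Cfsg.Lib.BenderSE.CritDep

universe u

variable {G α : Type u} [Group G] [Finite G] [MulAction G α]

/-- an L2 line of the chosen involution with a second involution `w` in its kernel -/
structure FourSetting (α : Type u) [MulAction G α] (z u : G) (a b : α) (A Q X : Subgroup G) (q j : ℕ)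
    (S : Sylow 2 G) (w : G) : Prop where
  case_ : LineCase α z u a A Q X q j
  one : j = 1
  fixb : u • b = b
  ne : b ≠ a
  leS : Q ≤ (S : Subgroup G)
  memS : u ∈ (S : Subgroup G)
  fixS : ∀ s ∈ S, s • a = a
  kernel_le : kernelNum α u ≤ Nat.card (lineKernel α (S : Subgroup G) u)
  mem : w ∈ lineKernel α (S : Subgroup G) u
  two : orderOf w = 2
  other : w ≠ u

variable {z u : G} {a : α} {A Q X : Subgroup G} {q j : ℕ}

/-- a second kernel involution gives the setting -/
theorem exists_fourSetting (C : LineCase α z u a A Q X q j) (hj : j = 1) {t : G} (ht : orderOf t = 2)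
    (htu : Commute t u) (htF : ∀ p : α, u • p = p → t • p = p) (hne : t ≠ u) :
    ∃ (b : α) (S : Sylow 2 G) (w : G), FourSetting α z u a b A Q X q j S w := by
  have hu := C.chosen.rank.1
  obtain ⟨S, hQS, huS, hSa, hsyl⟩ := exists_line_sylow C.crit C.fixa hu C.data
  obtain ⟨b, hub, hba⟩ := exists_other_fixed C.data hQS hSa
  obtain ⟨k, hk, hkt⟩ := hsyl (zpowers t) (isPGroup_zpowers_of_two ht) (zpowers_le.2 (mem_inf.2
    ⟨mem_centralizer_singleton_iff.2 htu.eq, mem_stabilizer_iff.2 (htF a C.fixa)⟩))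
  obtain ⟨hku, -⟩ := mem_inf.1 hk
  have hku' : Commute k u := mem_centralizer_singleton_iff.1 hku
  have hmax : kernelNum α u ≤ Nat.card (lineKernel α (S : Subgroup G) u) := by
    obtain ⟨V, hV, hVcard⟩ := exists_kernel α u
    obtain ⟨l, hl, hlV⟩ := hsyl V hV.1 fun g hg => mem_inf.2
      ⟨mem_centralizer_singleton_iff.2 (hV.2 g hg).1.eq, mem_stabilizer_iff.2 ((hV.2 g hg).2 a C.fixa)⟩
    obtain ⟨hlu, -⟩ := mem_inf.1 hl
    have hlu' : Commute l u := mem_centralizer_singleton_iff.1 hlu
    rw [← hVcard, ← Subgroup.card_map_of_injective (K := V) (f := (MulAut.conj l⁻¹).toMonoidHom)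
      (MulAut.conj l⁻¹).injective]
    refine Subgroup.card_le_of_le ?_
    rintro _ ⟨g, hg, rfl⟩
    show l⁻¹ * g * l⁻¹⁻¹ ∈ lineKernel α (S : Subgroup G) u
    rw [inv_inv]
    refine mem_lineKernel.2 ⟨hlV g hg, (hlu'.inv_left.mul_left (hV.2 g hg).1).mul_left hlu', fun p hp => ?_⟩
    have hp' : u • l • p = l • p := by rw [smul_smul, ← hlu'.eq, mul_smul, hp]
    rw [mul_smul, mul_smul, (hV.2 g hg).2 _ hp', inv_smul_smul]
  refine ⟨b, S, k⁻¹ * t * k, C, hj, hub, hba, hQS, huS, hSa, hmax, mem_lineKernel.2 ⟨hkt t (mem_zpowers t),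
    (hku'.inv_left.mul_left htu).mul_left hku', fun p hp => ?_⟩, ?_, fun e => hne ?_⟩
  · have hp' : u • k • p = k • p := by rw [smul_smul, ← hku'.eq, mul_smul, hp]
    rw [mul_smul, mul_smul, htF _ hp', inv_smul_smul]
  · rw [show k⁻¹ * t * k = MulAut.conj k⁻¹ t by simp [MulAut.conj_apply], MulEquiv.orderOf_eq, ht]
  · calc t = k * (k⁻¹ * t * k) * k⁻¹ := by group
      _ = u := by rw [e, hku'.eq, mul_inv_cancel_right]

/-- the centraliser of the clique in the Sylow subgroup -/
def sylowCent (S : Sylow 2 G) (A : Subgroup G) : Subgroup G := (S : Subgroup G) ⊓ centralizer (A : Set G)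

theorem mem_sylowCent {S : Sylow 2 G} {g : G} :
    g ∈ sylowCent S A ↔ g ∈ (S : Subgroup G) ∧ ∀ e ∈ A, Commute e g := by
  rw [sylowCent, mem_inf, mem_centralizer_iff]
  exact Iff.rfl

namespace FourSetting

variable {b : α} {S : Sylow 2 G} {w : G} (W : FourSetting α z u a b A Q X q j S w)
include W

theorem crit : Crit G α z := W.case_.crit
theorem hu : orderOf u = 2 := W.case_.chosen.rank.1
theorem hua : u • a = a := W.case_.fixa
theorem line : LineData z u a A Q X q j := W.case_.data

theorem AQ : A = Q := eq_Q_of_one W.line W.leS W.fixS W.one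

theorem AS : A ≤ (S : Subgroup G) := W.line.leQ.trans W.leS

theorem memD {e : G} (he : e ∈ A) (he1 : e ≠ 1) : IsConj z e := (W.line.memA e he he1).1

theorem commA {e e' : G} (he : e ∈ A) (he' : e' ∈ A) : Commute e e' := W.line.centQ e he e' (W.line.leQ he')

theorem commU {e : G} (he : e ∈ A) : Commute e u := commute_of_mem (W.line.Qle (W.line.leQ he))

theorem fixA {e : G} (he : e ∈ A) : e • a = a := W.fixS e (W.AS he)

theorem commW {e : G} (he : e ∈ A) : Commute w e := commute_kernel_Q W.line W.leS W.fixS W.mem (W.line.leQ he)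

theorem le_sylowCent : A ≤ sylowCent S A := fun _ he => mem_sylowCent.2 ⟨W.AS he, fun _ hx => W.commA hx he⟩

theorem mem_u : u ∈ sylowCent S A := mem_sylowCent.2 ⟨W.memS, fun _ he => W.commU he⟩

theorem mem_w : w ∈ sylowCent S A :=
  mem_sylowCent.2 ⟨(mem_lineKernel.1 W.mem).1, fun _ he => (W.commW he).symm⟩

/-- the clique of `u` as an `IsClique` -/
theorem clique : IsClique z u A := fun g hg => by
  rcases eq_or_ne g 1 with rfl | hg1
  · exact ⟨Commute.one_right u, fun e => absurd rfl e⟩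
  · exact ⟨(W.commU hg).symm, fun _ => W.memD hg hg1⟩

theorem card_clique : Nat.card A = cliqueNum z u := by rw [W.line.card, cliqueNum_eq W.crit W.hu W.hua W.line]

/-- the fixed points of `u` are `q + 1` -/
theorem card_fixed : Nat.card (fixedBy α u) = q + 1 := by
  have e : fixedBy α u = fixSet α (zpowers u) := Set.ext fun p => mem_line.symm
  rw [e, W.line.fixed, W.one, pow_one]

theorem eq_one_of_free {e : G} (he : e ∈ A) {c : α} (hc : c ≠ a) (hec : e • c = c) : e = 1 := by
  by_contra he1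
  exact hc (centre_unique W.crit (W.memD he he1) hec (W.fixA he))

variable [Finite α] [FaithfulSMul G α]

/-- every member at `a` preserves the line -/
theorem preserves {d : G} (hd : IsConj z d) (hda : d • a = a) (p : α) : u • d • p = d • p ↔ u • p = p := by
  obtain ⟨hwS, hwu, hwF⟩ := mem_lineKernel.1 W.mem
  have hA := W.clique
  have hcard := W.card_clique
  have hw := W.two
  obtain ⟨-, -, hFw⟩ := W.case_.chosen.kernel_fix W.crit hA hcard hw (fun e he => W.commW he) W.ne.symm W.hua
    W.fixb hwF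
  have huw : orderOf (u * w) = 2 := order_two_of_mul_self
    (by rw [hwu.mul_mul_mul_comm, sq_of_order_two W.hu, sq_of_order_two hw, one_mul])
    fun e => W.other (by rw [← inv_eq_of_mul_eq_one_right e, inv_of_order_two W.hu])
  obtain ⟨-, -, hFuw⟩ := W.case_.chosen.kernel_fix W.crit hA hcard huw
    (fun e he => (W.commU he).symm.mul_left (W.commW he)) W.ne.symm W.hua W.fixb
    fun p hp => by rw [mul_smul, hwF p hp, hp]
  exact preserves_of_four W.crit W.hu hw W.other.symm hwu.symm W.ne.symm W.hua W.fixb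
    (fun p => Set.ext_iff.1 hFw p) (fun p => Set.ext_iff.1 hFuw p) hd hda p

/-- the members of the Sylow subgroup form the clique -/
theorem member_mem {d : G} (hd : IsConj z d) (hdS : d ∈ (S : Subgroup G)) : d ∈ A :=
  member_mem_clique W.line W.leS W.fixS W.crit hd hdS (commute_of_preserves W.crit (sq_of_order_two W.hu)
    W.ne.symm W.hua W.fixb hd (W.preserves hd (W.fixS d hdS)) S.isPGroup' hdS W.memS)

/-- an involution centralising the clique outside it fixes exactly one orbit of the clique besides `a` -/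
theorem involution_fix {x : G} (hx : x ∈ sylowCent S A) (hx2 : orderOf x = 2) (hxA : x ∉ A) :
    ∃ c : α, c ≠ a ∧ x • c = c ∧ RankTwo z x ∧
      (∀ p : α, x • p = p → p = a ∨ ∃ e ∈ A, e • c = p) ∧ Nat.card (fixedBy α x) = q + 1 ∧
      ∃ (B R Y : Subgroup G) (i : ℕ), LineData z x a B R Y q i ∧ i = 1 := by
  have h := W.crit
  obtain ⟨hxS, hxc⟩ := mem_sylowCent.1 hx
  have hxD : ¬ IsConj z x := fun hD => hxA (W.member_mem hD hxS)
  have hxa := W.fixS x hxS
  obtain ⟨c, hca, hxcc⟩ : ∃ c : α, c ≠ a ∧ x • c = c := by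
    obtain ⟨p, p', hne, hp, hp'⟩ := exists_two_fix h hx2 hxD
    by_cases hpa : p = a
    · exact ⟨p', fun e => hne (hpa.trans e.symm), hp'⟩
    · exact ⟨p, hpa, hp⟩
  obtain ⟨hr, hq, hf⟩ := W.case_.chosen.of_clique h W.clique W.card_clique hx2 (fun e he => (hxc e he).symm)
    hca hxcc hxa
  obtain ⟨-, hdata⟩ := W.case_.lines x a c hx2 hxa hxcc hca.symm
  obtain ⟨B, R, Y, r, i, L⟩ := hdata hr.2.2
  have hrq : r = q := by
    rw [← cliqueNum_eq h hx2 hxa L, hq, cliqueNum_eq h W.hu W.hua W.line]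
  subst hrq
  have hfx : Nat.card (fixedBy α x) = r ^ i + 1 := by
    rw [show fixedBy α x = fixSet α (zpowers x) from Set.ext fun p => mem_line.symm, L.fixed]
  rw [hfx, W.card_fixed] at hf
  have h4 := L.four
  have hi : i = 1 := by
    rcases L.jcase with e | e | e
    · exact e
    · exfalso; rw [e] at hf; nlinarith
    · exfalso; rw [e, pow_succ, pow_succ, pow_one] at hf; nlinarith [Nat.mul_le_mul_left r h4]
  subst hi
  rw [pow_one] at hfx
  refine ⟨c, hca, hxcc, hr, fun p hp => ?_, hfx, B, R, Y, 1, L, rfl⟩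
  set orb := (fun e : G => e • c) '' (A : Set G) with horb
  have hsub : insert a orb ⊆ fixedBy α x := by
    rintro y (rfl | ⟨e, he, rfl⟩)
    · exact hxa
    · show x • e • c = e • c
      rw [smul_smul, ← (hxc e he).eq, mul_smul, hxcc]
  have hinj : Set.InjOn (fun e : G => e • c) (A : Set G) := fun e he e' he' hee => by
    refine (inv_mul_eq_one.1 (W.eq_one_of_free (mul_mem (inv_mem he') he) hca ?_)).symm
    rw [mul_smul]
    exact inv_smul_eq_iff.2 hee
  have hna : a ∉ orb := by
    rintro ⟨e, he, hec⟩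
    exact hca (smul_left_cancel e (hec.trans (W.fixA he).symm))
  have heq : insert a orb = fixedBy α x := by
    refine Set.eq_of_subset_of_ncard_le hsub ?_
    rw [Set.ncard_insert_of_notMem hna, horb, Set.InjOn.ncard_image hinj, ← Nat.card_coe_set_eq,
      ← Nat.card_coe_set_eq, hfx, SetLike.coe_sort_coe, W.line.card]
  rcases (heq.symm ▸ hp : p ∈ insert a orb) with rfl | ⟨e, he, rfl⟩
  · exact Or.inl rfl
  · exact Or.inr ⟨e, he, rfl⟩

/-- the involution power of a nontrivial element with a fixed point off `a` -/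
theorem exists_involution {x : G} (hx : x ∈ sylowCent S A) (hx1 : x ≠ 1) {c : α} (hca : c ≠ a)
    (hxc : x • c = c) : ∃ x₀ ∈ zpowers x, orderOf x₀ = 2 ∧ x₀ ∉ A ∧ x₀ • c = c ∧ x₀ ∈ sylowCent S A := by
  obtain ⟨k, hk⟩ := S.isPGroup'.exists_orderOf_eq_pow ⟨x, (mem_sylowCent.1 hx).1⟩
  rw [Subgroup.orderOf_mk] at hk
  obtain ⟨m, rfl⟩ : ∃ m, k = m + 1 := ⟨k - 1, by
    rcases Nat.eq_zero_or_pos k with rfl | hk0
    · exact absurd (orderOf_eq_one_iff.1 (by rw [hk, pow_zero])) hx1
    · omega⟩
  refine ⟨x ^ 2 ^ m, pow_mem (mem_zpowers x) _, ?_, fun hA => ?_, ?_, pow_mem hx _⟩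
  · rw [orderOf_pow' x (by positivity), hk, Nat.gcd_eq_right (pow_dvd_pow 2 (by omega)),
      Nat.pow_div (by omega) (by omega), show m + 1 - m = 1 by omega, pow_one]
  · have h1 : x ^ 2 ^ m = 1 := W.eq_one_of_free hA hca (mem_stabilizer_iff.1 (pow_mem (mem_stabilizer_iff.2 hxc) _))
    have := orderOf_dvd_of_pow_eq_one h1
    rw [hk] at this
    have := Nat.le_of_dvd (by positivity) this
    rw [pow_succ] at this
    have : 0 < 2 ^ m := by positivity
    omega
  · exact mem_stabilizer_iff.1 (pow_mem (mem_stabilizer_iff.2 hxc) _)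

/-- the points fixed by `x` off `a` form one orbit of the clique -/
theorem line_orbit {x : G} (hx : x ∈ sylowCent S A) (hx1 : x ≠ 1) {c c' : α} (hca : c ≠ a) (hca' : c' ≠ a)
    (hxc : x • c = c) (hxc' : x • c' = c') : ∃ e ∈ A, e • c = c' := by
  obtain ⟨x₀, hx₀, h2, hA, hfc, hx₀C⟩ := W.exists_involution hx hx1 hca hxc
  obtain ⟨c₁, -, -, -, horb, -⟩ := W.involution_fix hx₀C h2 hA
  have hfc' : x₀ • c' = c' := mem_stabilizer_iff.1 (zpowers_le.2 (mem_stabilizer_iff.2 hxc') hx₀)
  obtain ⟨e, he, rfl⟩ := (horb c hfc).resolve_left hca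
  obtain ⟨e', he', rfl⟩ := (horb c' hfc').resolve_left hca'
  exact ⟨e' * e⁻¹, mul_mem he' (inv_mem he), by rw [mul_smul, inv_smul_smul]⟩

/-- the centraliser of an element with a fixed point is its point stabiliser times the clique -/
theorem cent_fix {x : G} (hx : x ∈ sylowCent S A) (hx1 : x ≠ 1) {c : α} (hca : c ≠ a) (hxc : x • c = c) {r : G}
    (hr : r ∈ sylowCent S A) (hrx : Commute r x) : ∃ e ∈ A, (r * e) • c = c := by
  have hra := W.fixS r (mem_sylowCent.1 hr).1
  have hrca : r • c ≠ a := fun e => hca (smul_left_cancel r (e.trans hra.symm))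
  obtain ⟨e, he, hec⟩ := W.line_orbit hx hx1 hca hrca hxc (by rw [smul_smul, ← hrx.eq, mul_smul, hxc])
  refine ⟨e⁻¹, inv_mem he, ?_⟩
  rw [← ((mem_sylowCent.1 hr).2 _ (inv_mem he)).eq, mul_smul, ← hec, inv_smul_smul]

/-- point stabilisers in the centraliser of the clique are elementary -/
theorem sq_eq_one {x : G} (hx : x ∈ sylowCent S A) {c : α} (hca : c ≠ a) (hxc : x • c = c) : x * x = 1 := by
  by_contra hne
  set K := sylowCent S A ⊓ stabilizer G c with hK
  have hKp : IsPGroup 2 K := S.isPGroup'.to_le (inf_le_left.trans inf_le_left)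
  set N := closure ((fun k : G => k * k) '' (K : Set G)) with hN
  have hNK : N ≤ K := (closure_le K).2 (by rintro _ ⟨k, hk, rfl⟩; exact mul_mem hk hk)
  haveI : Fact (Nat.Prime 2) := ⟨Nat.prime_two⟩
  -- a central involution of `K` that is a product of squares
  have hnormal : (N.subgroupOf K).Normal := by
    refine (normal_subgroupOf_iff_le_normalizer hNK).2 fun k hk => ?_
    refine Cfsg.Lib.ZStarApps.mem_normalizer_of_maps fun n hn => ?_
    induction hn using closure_induction with
    | mem y hy =>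
      obtain ⟨l, hl, rfl⟩ := hy
      exact subset_closure ⟨k * l * k⁻¹, mul_mem (mul_mem hk hl) (inv_mem hk), by group⟩
    | one => simp
    | mul p p' _ _ ih ih' =>
      rw [show k * (p * p') * k⁻¹ = (k * p * k⁻¹) * (k * p' * k⁻¹) by group]; exact mul_mem ih ih'
    | inv p _ ih => rw [show k * p⁻¹ * k⁻¹ = (k * p * k⁻¹)⁻¹ by group]; exact inv_mem ih
  have hnb : N.subgroupOf K ≠ ⊥ := by
    intro e
    have h1 : (⟨x * x, mul_mem (mem_inf.2 ⟨hx, mem_stabilizer_iff.2 hxc⟩)
        (mem_inf.2 ⟨hx, mem_stabilizer_iff.2 hxc⟩)⟩ : K) ∈ N.subgroupOf K :=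
      mem_subgroupOf.2 (subset_closure ⟨x, mem_inf.2 ⟨hx, mem_stabilizer_iff.2 hxc⟩, rfl⟩)
    rw [e, mem_bot] at h1
    exact hne (congrArg Subtype.val h1)
  haveI := hnormal
  obtain ⟨t, ht, ht2⟩ : ∃ t, t ∈ N.subgroupOf K ⊓ center K ∧ orderOf t = 2 := by
    have hmeet : Nontrivial ↥(N.subgroupOf K ⊓ center K) := by
      rw [nontrivial_iff_ne_bot]
      haveI : Group.IsNilpotent K := hKp.isNilpotent
      exact Cfsg.Lib.Coprime.inf_center_ne_bot _ hnb
    have hdvd : 2 ∣ Nat.card ↥(N.subgroupOf K ⊓ center K) := by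
      obtain ⟨m, hm⟩ := IsPGroup.iff_card.1 (hKp.to_subgroup (N.subgroupOf K ⊓ center K))
      rcases m with - | m
      · rw [pow_zero] at hm
        exact absurd hm (Finite.one_lt_card_iff_nontrivial.2 hmeet).ne'
      · rw [hm]; exact dvd_pow_self 2 (by omega)
    obtain ⟨t, ht⟩ := exists_prime_orderOf_dvd_card' 2 hdvd
    exact ⟨t, t.2, by rwa [Subgroup.orderOf_coe]⟩
  obtain ⟨htN, htZ⟩ := mem_inf.1 ht
  have ht2' : orderOf (t : G) = 2 := by rw [Subgroup.orderOf_coe, ht2]
  have htK : (t : G) ∈ K := t.2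
  have htc : (t : G) • c = c := mem_stabilizer_iff.1 (mem_inf.1 htK).2
  obtain ⟨e₀, he₀, he₀1⟩ := A.bot_or_exists_ne_one.resolve_left fun e => by
    have := W.line.four; rw [← W.line.card, e, Subgroup.card_bot] at this; omega
  have hte : Commute (t : G) e₀ := ((mem_sylowCent.1 (mem_inf.1 htK).1).2 e₀ he₀).symm
  set y := (t : G) * e₀ with hy
  have hyC : y ∈ sylowCent S A := mul_mem (mem_inf.1 htK).1 (W.le_sylowCent he₀)
  have hy2 : orderOf y = 2 := by
    refine order_two_of_mul_self (by rw [hy, hte.symm.mul_mul_mul_comm, sq_of_order_two ht2', one_mul,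
      W.line.elem e₀ he₀]) fun e => he₀1 (W.eq_one_of_free he₀ hca ?_)
    rw [← inv_eq_of_mul_eq_one_right e, inv_of_order_two ht2']
    exact htc
  have hyA : y ∉ A := fun hyA => ne_one_of_order_two ht2' (W.eq_one_of_free
    (by simpa [hy] using mul_mem hyA (inv_mem he₀)) hca htc)
  obtain ⟨c', hc'a, hyc', -, -⟩ := W.involution_fix hyC hy2 hyA
  have hsq : N ≤ stabilizer G c' := by
    refine (closure_le _).2 ?_
    rintro _ ⟨k, hk, rfl⟩
    obtain ⟨hkC, -⟩ := mem_inf.1 hk
    have hky : Commute k y := by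
      have h1 : Commute k (t : G) := congrArg Subtype.val ((mem_center_iff.1 htZ) ⟨k, hk⟩)
      exact h1.mul_right ((mem_sylowCent.1 hkC).2 e₀ he₀).symm
    obtain ⟨e, he, hec⟩ := W.cent_fix hyC (ne_one_of_order_two hy2) hc'a hyc' hkC hky
    refine mem_stabilizer_iff.2 ?_
    have hke : Commute k e := ((mem_sylowCent.1 hkC).2 e he).symm
    have h1 : ((k * e) * (k * e)) • c' = c' := by rw [mul_smul, hec, hec]
    rwa [hke.symm.mul_mul_mul_comm, W.line.elem e he, mul_one] at h1
  refine he₀1 (W.eq_one_of_free he₀ hc'a ?_)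
  have h1 : y • c' = c' := hyc'
  rwa [hy, hte.eq, mul_smul, mem_stabilizer_iff.1 (hsq (mem_subgroupOf.1 htN))] at h1

/-- `n - 1 = q³` -/
theorem card_points : Nat.card α = q ^ 3 + 1 := by
  have h := W.crit
  haveI := W.case_.simple
  obtain ⟨e, he, he1⟩ := A.bot_or_exists_ne_one.resolve_left fun e => by
    have := W.line.four; rw [← W.line.card, e, Subgroup.card_bot] at this; omega
  have heM : e ∈ membersAt z u a := ⟨W.memD he he1, (W.commU he).symm, W.fixA he⟩
  have hv2 : orderOf (u * e) = 2 := by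
    refine order_two_of_mul_self (by rw [(W.commU he).mul_mul_mul_comm, sq_of_order_two W.hu,
      W.line.elem e he, one_mul]) fun e' => he1 (W.eq_one_of_free he W.ne ?_)
    rw [← inv_eq_of_mul_eq_one_right e', inv_of_order_two W.hu, W.fixb]
  have hvA : u * e ∉ A := fun hA => ne_one_of_order_two W.hu (W.eq_one_of_free
    (by simpa using mul_mem hA (inv_mem he)) W.ne W.fixb)
  obtain ⟨c, hca, -, -, -, hfv, B, R, Y, i, L, hi⟩ :=
    W.involution_fix (mul_mem W.mem_u (W.le_sylowCent he)) hv2 hvA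
  have hc := card_membersAt_line h W.case_.nonab W.case_.below W.hu W.hua heM hv2 L hi
  have hnD : ¬ IsConj z u := W.case_.chosen.rank.2.1
  have hall : ∀ d ∈ membersAt z (1 : G) a, ∃ m, Odd m ∧ orderOf (d * u) = 2 * m := by
    intro d hd
    have hodd := odd_commutator_of_preserves h (sq_of_order_two W.hu) W.ne.symm W.hua W.fixb hd.1
      (W.preserves hd.1 hd.2.2)
    have hev : Even (orderOf (d * u)) := by
      rw [← Nat.not_odd_iff_even]
      intro ho
      obtain ⟨g, -, hg⟩ := Cfsg.Lib.InvolCalc.conj_of_odd (orderOf_conj h hd.1) W.hu ho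
      exact hnD (hd.1.trans (isConj_iff.2 ⟨g, hg⟩))
    refine ⟨orderOf (d * u * (d * u)), hodd, ?_⟩
    obtain ⟨m, hm⟩ := hev
    have h2 : orderOf (d * u * (d * u)) = orderOf (d * u) / 2 := by
      rw [← pow_two, orderOf_pow' _ two_ne_zero, Nat.gcd_eq_right ⟨m, by omega⟩]
    omega
  have := points_bound_eq h W.hu W.hua hnD W.fixb W.ne.symm heM hc hall
  rw [W.card_fixed, hfv] at this
  have hq := W.line.four
  obtain ⟨m, rfl⟩ : ∃ m, q = m + 1 := ⟨q - 1, by omega⟩
  simp only [Nat.add_sub_cancel] at this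
  have hle : m + 1 + 1 ≤ Nat.card α := by
    by_contra hlt
    rw [Nat.sub_eq_zero_of_le (by omega)] at this
    have hm : 0 < (m + 1 + 1) * ((m + 1) * m) := Nat.mul_pos (by omega) (Nat.mul_pos (by omega) (by omega))
    omega
  have h3 : Nat.card α = (m + 1 + 1) * ((m + 1) * m) + (m + 1 + 1) := by omega
  rw [h3]
  ring

end FourSetting

end Cfsg.Lib.BenderSE.Crit2
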