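/-
Aschbacher's criterion, a second kernel involution on an L2 line: the kernels at the points of `U A`, and the
torus of each of their lines, lifted into the centraliser of the kernel and the normaliser of `U A`.
-/
import Cfsg.Agent.BenderSE.Criterion2.KernelLine

set_option autoImplicit false
set_option linter.unusedSectionVars false
set_option linter.style.haveILetI false

namespace Cfsg.Lib.BenderSE.Crit2

open Subgroup MulAction Cfsg.Lib.InvolCalc Cfsg.Lib.BenderSE.CritDep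

universe u

variable {G α : Type u} [Group G] [Finite G] [MulAction G α]

/-- the point stabiliser in the centraliser of the clique -/
def kerAt (S : Sylow 2 G) (A : Subgroup G) (c : α) : Subgroup G := sylowCent S A ⊓ stabilizer G c

theorem mem_kerAt {S : Sylow 2 G} {A : Subgroup G} {c : α} {g : G} :
    g ∈ kerAt S A c ↔ g ∈ sylowCent S A ∧ g • c = c := by
  rw [kerAt, mem_inf, mem_stabilizer_iff]

/-- the kernel and the clique: the elements of the centraliser of the clique commuting with `u` -/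
def lineSylow (S : Sylow 2 G) (A : Subgroup G) (u : G) : Subgroup G := sylowCent S A ⊓ centralizer {u}

theorem mem_lineSylow {S : Sylow 2 G} {A : Subgroup G} {u g : G} :
    g ∈ lineSylow S A u ↔ g ∈ sylowCent S A ∧ Commute g u := by
  rw [lineSylow, mem_inf, mem_centralizer_singleton_iff]
  exact Iff.rfl

namespace FourSetting

variable {z u : G} {a b : α} {A Q X : Subgroup G} {q j : ℕ} {S : Sylow 2 G} {w : G}
  [Finite α] [FaithfulSMul G α] (W : FourSetting α z u a b A Q X q j S w)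
include W

theorem commute_ker {c : α} (hca : c ≠ a) {x y : G} (hx : x ∈ kerAt S A c) (hy : y ∈ kerAt S A c) :
    Commute x y := by
  have hsq : ∀ g ∈ kerAt S A c, g * g = 1 := fun g hg =>
    W.sq_eq_one (mem_kerAt.1 hg).1 hca (mem_kerAt.1 hg).2
  have h1 := eq_inv_of_mul_eq_one_left (hsq _ (mul_mem hx hy))
  rw [mul_inv_rev, inv_eq_of_mul_eq_one_right (hsq x hx), inv_eq_of_mul_eq_one_right (hsq y hy)] at h1
  exact h1

/-- the elements fixing `c` fix all fixed points of each other -/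
theorem fix_line {c : α} (hca : c ≠ a) {v x : G} (hv : v ∈ kerAt S A c) (hv1 : v ≠ 1) (hx : x ∈ kerAt S A c)
    {p : α} (hp : v • p = p) : x • p = p := by
  obtain ⟨hvC, hvc⟩ := mem_kerAt.1 hv
  obtain ⟨hxC, hxc⟩ := mem_kerAt.1 hx
  by_cases hpa : p = a
  · rw [hpa]; exact W.fixS x (mem_sylowCent.1 hxC).1
  obtain ⟨e, he, rfl⟩ := W.line_orbit hvC hv1 hca hpa hvc hp
  rw [smul_smul, ← ((mem_sylowCent.1 hxC).2 e he).eq, mul_smul, hxc]

theorem mem_kerAt_u : u ∈ kerAt S A b := mem_kerAt.2 ⟨W.mem_u, W.fixb⟩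

theorem kerAt_eq : kerAt S A b = lineKernel α (S : Subgroup G) u := by
  ext g
  refine ⟨fun hg => mem_lineKernel.2 ⟨(mem_sylowCent.1 (mem_kerAt.1 hg).1).1,
    W.commute_ker W.ne hg W.mem_kerAt_u,
    fun p hp => W.fix_line W.ne W.mem_kerAt_u (ne_one_of_order_two W.hu) hg hp⟩, fun hg => ?_⟩
  refine mem_kerAt.2 ⟨mem_sylowCent.2 ⟨(mem_lineKernel.1 hg).1, fun e he => ?_⟩,
    (mem_lineKernel.1 hg).2.2 b W.fixb⟩
  exact (commute_kernel_Q W.line W.leS W.fixS hg (W.line.leQ he)).symm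

theorem clique_le_line : A ≤ lineSylow S A u := fun _ he => mem_lineSylow.2 ⟨W.le_sylowCent he, W.commU he⟩

/-- in `U A` the clique is a complement of the stabiliser of a fixed point of any element outside it -/
theorem decomp {c : α} (hca : c ≠ a) {v : G} (hv : v ∈ kerAt S A c) (hv1 : v ≠ 1) {r : G}
    (hr : r ∈ sylowCent S A) (hrv : Commute r v) : ∃ k ∈ kerAt S A c, ∃ e ∈ A, r = k * e := by
  obtain ⟨e, he, hec⟩ := W.cent_fix (mem_kerAt.1 hv).1 hv1 hca (mem_kerAt.1 hv).2 hr hrv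
  exact ⟨r * e, mem_kerAt.2 ⟨mul_mem hr (W.le_sylowCent he), hec⟩, e, he, by
    rw [mul_assoc, W.line.elem e he, mul_one]⟩

theorem unique_decomp {c : α} (hca : c ≠ a) {k k' e e' : G} (hk : k ∈ kerAt S A c) (hk' : k' ∈ kerAt S A c)
    (he : e ∈ A) (he' : e' ∈ A) (h : k * e = k' * e') : k = k' ∧ e = e' := by
  have h1 : k'⁻¹ * k = e' * e⁻¹ := by rw [eq_mul_inv_iff_mul_eq, mul_assoc, h, inv_mul_cancel_left]
  have h2 := W.eq_one_of_free (mul_mem he' (inv_mem he)) hca (by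
    rw [← h1]; exact (mem_kerAt.1 (mul_mem (inv_mem hk') hk)).2)
  rw [h2, inv_mul_eq_one] at h1
  exact ⟨h1.symm, (mul_inv_eq_one.1 h2).symm⟩

theorem comm_line {l l' : G} (hl : l ∈ lineSylow S A u) (hl' : l' ∈ lineSylow S A u) : Commute l l' := by
  obtain ⟨hlC, hlu⟩ := mem_lineSylow.1 hl
  obtain ⟨hlC', hlu'⟩ := mem_lineSylow.1 hl'
  have hu1 := ne_one_of_order_two W.hu
  obtain ⟨k, hk, e, he, rfl⟩ := W.decomp W.ne W.mem_kerAt_u hu1 hlC hlu
  obtain ⟨k', hk', e', he', rfl⟩ := W.decomp W.ne W.mem_kerAt_u hu1 hlC' hlu'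
  refine Commute.mul_left (Commute.mul_right (W.commute_ker W.ne hk hk') ?_)
    (Commute.mul_right ((mem_sylowCent.1 (mem_kerAt.1 hk').1).2 e he) (W.commA he he'))
  exact ((mem_sylowCent.1 (mem_kerAt.1 hk).1).2 e' he').symm

theorem sq_line {l : G} (hl : l ∈ lineSylow S A u) : l * l = 1 := by
  obtain ⟨hlC, hlu⟩ := mem_lineSylow.1 hl
  obtain ⟨k, hk, e, he, rfl⟩ := W.decomp W.ne W.mem_kerAt_u (ne_one_of_order_two W.hu) hlC hlu
  rw [((mem_sylowCent.1 (mem_kerAt.1 hk).1).2 e he).mul_mul_mul_comm,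
    W.sq_eq_one (mem_kerAt.1 hk).1 W.ne (mem_kerAt.1 hk).2, W.line.elem e he, one_mul]

/-- the centraliser of an element of `U A` outside the clique is `U A` -/
theorem cent_eq_line {v : G} (hv : v ∈ lineSylow S A u) {c : α} (hca : c ≠ a) (hvc : v • c = c) (hv1 : v ≠ 1)
    {r : G} (hr : r ∈ sylowCent S A) (hrv : Commute r v) : r ∈ lineSylow S A u := by
  have hvK : v ∈ kerAt S A c := mem_kerAt.2 ⟨(mem_lineSylow.1 hv).1, hvc⟩
  obtain ⟨k, hk, e, he, rfl⟩ := W.decomp hca hvK hv1 hr hrv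
  obtain ⟨k₀, hk₀, e₀, he₀, hu0⟩ := W.decomp hca hvK hv1 W.mem_u (mem_lineSylow.1 hv).2.symm
  refine mem_lineSylow.2 ⟨hr, Commute.mul_left ?_ (W.commU he)⟩
  rw [hu0]
  exact (W.commute_ker hca hk hk₀).mul_right ((mem_sylowCent.1 (mem_kerAt.1 hk).1).2 e₀ he₀).symm

theorem kerAt_le_line {v : G} (hv : v ∈ lineSylow S A u) {c : α} (hca : c ≠ a) (hvc : v • c = c) (hv1 : v ≠ 1) :
    kerAt S A c ≤ lineSylow S A u := fun k hk => W.cent_eq_line hv hca hvc hv1 (mem_kerAt.1 hk).1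
      (W.commute_ker hca hk (mem_kerAt.2 ⟨(mem_lineSylow.1 hv).1, hvc⟩))

/-- the kernels in `U A` have one order -/
theorem card_kerAt {v : G} (hv : v ∈ lineSylow S A u) {c : α} (hca : c ≠ a) (hvc : v • c = c) (hv1 : v ≠ 1) :
    Nat.card (lineSylow S A u) = Nat.card (kerAt S A c) * q := by
  have hle := W.kerAt_le_line hv hca hvc hv1
  rw [← W.line.card, ← Nat.card_prod]
  refine (Nat.card_congr (Equiv.ofBijective
    (fun p : kerAt S A c × A => (⟨(p.1 : G) * p.2, mul_mem (hle p.1.2) (W.clique_le_line p.2.2)⟩ :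
      lineSylow S A u)) ⟨fun p p' e => ?_, fun r => ?_⟩)).symm
  · obtain ⟨e1, e2⟩ := W.unique_decomp hca p.1.2 p'.1.2 p.2.2 p'.2.2 (congrArg Subtype.val e)
    exact Prod.ext (Subtype.ext e1) (Subtype.ext e2)
  · obtain ⟨k, hk, e, he, hr⟩ := W.decomp hca (mem_kerAt.2 ⟨(mem_lineSylow.1 hv).1, hvc⟩) hv1
      (mem_lineSylow.1 r.2).1 (W.comm_line r.2 hv)
    exact ⟨(⟨k, hk⟩, ⟨e, he⟩), Subtype.ext hr.symm⟩

/-- TORUS: an element of the line of `v` at `a` has a lift centralising the kernel, normalising `U A` and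
acting on the clique as it acts on the line -/
theorem exists_torus {v : G} (hv : v ∈ lineSylow S A u) (hvA : v ∉ A) {c : α} (hca : c ≠ a) (hvc : v • c = c)
    {x : G} (hxN : x ∈ localGen z v) (hxa : x • a = a) :
    ∃ n : G, n • a = a ∧ (∀ k ∈ kerAt S A c, Commute n k) ∧ (∀ l ∈ lineSylow S A u, n * l * n⁻¹ ∈ lineSylow S A u) ∧
      (∀ e ∈ A, n * e * n⁻¹ ∈ A) ∧
      ∀ e ∈ A, ∀ p : α, v • p = p → (n * e * n⁻¹) • p = (x * e * x⁻¹) • p := by
  classical
  haveI : Fact (Nat.Prime 2) := ⟨Nat.prime_two⟩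
  haveI := W.case_.simple
  have h := W.crit
  have hv1 : v ≠ 1 := fun e => hvA (e ▸ one_mem A)
  have hv2 : orderOf v = 2 := order_two_of_mul_self (W.sq_line hv) hv1
  have hvC := (mem_lineSylow.1 hv).1
  have hva : v • a = a := W.fixS v (mem_sylowCent.1 hvC).1
  obtain ⟨c₀, hc₀a, hvc₀, hrank, -, hfv, B, R, Y, i, L, hi⟩ := W.involution_fix hvC hv2 hvA
  set K := kerAt S A c with hK
  have hvK : v ∈ K := mem_kerAt.2 ⟨hvC, hvc⟩
  have hKp : IsPGroup 2 K := S.isPGroup'.to_le (inf_le_left.trans inf_le_left)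
  have hFK : ∀ p : α, v • p = p → p ∈ fixSet α K := fun p hp k hk => W.fix_line hca hvK hv1 hk hp
  have hAK : ∀ k ∈ K, ∀ e ∈ A, Commute k e := fun k hk e he => ((mem_sylowCent.1 (mem_kerAt.1 hk).1).2 e he).symm
  have hAv : ∀ e ∈ A, Commute e v := fun e he => (hAK v hvK e he).symm
  -- members at `a` commuting with `v` act like elements of the clique
  have hact : ∀ d, IsConj z d → Commute v d → d • a = a →
      ∃ e ∈ A, ∀ p : α, v • p = p → d • p = e • p := by
    intro d hd hdv hda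
    obtain ⟨r, hr, -, hdr⟩ := line_actions h W.case_.nonab W.case_.below hv2 hva L hi ⟨hd, hdv, hda⟩
    -- the actions of the clique exhaust those of the line's clique
    have hone : ∀ e ∈ A, ∃ r ∈ B, ∀ p : α, v • p = p → e • p = r • p := fun e he => by
      rcases eq_or_ne e 1 with rfl | he1
      · exact ⟨1, one_mem B, fun p _ => rfl⟩
      · obtain ⟨r, hr, -, her⟩ := line_actions h W.case_.nonab W.case_.below hv2 hva L hi
          ⟨W.memD he he1, (hAv e he).symm, W.fixA he⟩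
        exact ⟨r, hr, her⟩
    let f : A → B := fun e => ⟨(hone e.1 e.2).choose, (hone e.1 e.2).choose_spec.1⟩
    have hf : Function.Injective f := by
      intro e e' hee
      have h1 : ∀ p : α, v • p = p → (e : G) • p = (e' : G) • p := fun p hp => by
        rw [(hone e.1 e.2).choose_spec.2 p hp, (hone e'.1 e'.2).choose_spec.2 p hp]
        exact congrArg (fun r : B => (r : G) • p) hee
      refine Subtype.ext (inv_mul_eq_one.1 (W.eq_one_of_free (mul_mem (inv_mem e'.2) e.2) hca ?_)).symm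
      rw [mul_smul, h1 c hvc, inv_smul_smul]
    obtain ⟨e, he⟩ := ((Nat.bijective_iff_injective_and_card f).2 ⟨hf, by rw [W.line.card, L.card]⟩).2 ⟨r, hr⟩
    refine ⟨e, e.2, fun p hp => ?_⟩
    rw [hdr p hp, (hone e.1 e.2).choose_spec.2 p hp]
    exact congrArg (fun r : B => (r : G) • p) he.symm
  have hmaps : ∀ g : G, Commute g v → ∀ p : α, v • p = p → v • g • p = g • p := fun g hg p hp => by
    rw [smul_smul, ← hg.eq, mul_smul, hp]
  -- the elements acting on the line like some element centralising the kernel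
  let H : Subgroup G :=
    { carrier := {g | Commute g v ∧ ∃ g', (∀ k ∈ K, Commute g' k) ∧ ∀ p : α, v • p = p → g • p = g' • p}
      one_mem' := ⟨Commute.one_left v, 1, fun k _ => Commute.one_left k, fun p _ => rfl⟩
      mul_mem' := by
        rintro g₁ g₂ ⟨hg₁, g₁', hc₁, h₁⟩ ⟨hg₂, g₂', hc₂, h₂⟩
        refine ⟨hg₁.mul_left hg₂, g₁' * g₂', fun k hk => (hc₁ k hk).mul_left (hc₂ k hk), fun p hp => ?_⟩
        rw [mul_smul, mul_smul, h₂ p hp, h₁ _ (hmaps g₂' (hc₂ v hvK) p hp)]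
      inv_mem' := by
        rintro g ⟨hg, g', hc', h'⟩
        refine ⟨hg.inv_left, g'⁻¹, fun k hk => (hc' k hk).inv_left, fun p hp => inv_smul_eq_iff.2 ?_⟩
        rw [h' _ (hmaps g'⁻¹ (hc' v hvK).inv_left p hp), smul_inv_smul] }
  obtain ⟨e₀, he₀, he₀1⟩ := A.bot_or_exists_ne_one.resolve_left fun e => by
    have := W.line.four; rw [← W.line.card, e, Subgroup.card_bot] at this; omega
  have hNH : localGen z v ≤ H := by
    rw [localGen, closure_le]
    rintro d ⟨hd, hdv⟩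
    obtain ⟨p, hdp, -⟩ := h.uniq d hd
    have hvp : v • p = p := smul_centre h hd (show Commute v d from hdv.symm) hdp
    obtain ⟨d₁, hd₁, hd₁p, hd₁K⟩ := h.central p K hKp (hFK p hvp)
    obtain ⟨g, hgK, hgd⟩ := members_conj h hKp ⟨c, hFK c hvc, a, hFK a hva, hca⟩ (W.memD he₀ he₀1) hd₁
      (fun k hk => hAK k hk e₀ he₀) (fun k hk => (hd₁K k hk).symm)
    have hga : g • a = p := conj_centre h hd₁ hgd (W.fixA he₀) hd₁p
    have hgv : Commute g v := hgK v hvK
    obtain ⟨e, he, hde⟩ := hact (g⁻¹ * d * g) (hd.trans (isConj_iff.2 ⟨g⁻¹, by rw [inv_inv]⟩))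
      ((hgv.inv_left.mul_left hdv).mul_left hgv).symm
      (by rw [mul_smul, mul_smul, hga, hdp, inv_smul_eq_iff, hga])
    refine ⟨hdv, g * e * g⁻¹, fun k hk => ((hgK k hk).mul_left (hAK k hk e he).symm).mul_left (hgK k hk).inv_left,
      fun y hy => ?_⟩
    have := hde _ (hmaps g⁻¹ hgv.inv_left y hy)
    rw [mul_smul, mul_smul, smul_inv_smul, inv_smul_eq_iff] at this
    rw [this, mul_smul, mul_smul]
  obtain ⟨hxv, x', hx'K, hxx'⟩ := hNH hxN
  have hx'a : x' • a = a := by rw [← hxx' a hva, hxa]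
  -- Frattini in the centraliser of the kernel
  let H₁ : Subgroup G := centralizer (K : Set G) ⊓ stabilizer G a
  have memH₁ : ∀ g, g ∈ H₁ → (∀ k ∈ K, Commute g k) ∧ g • a = a := fun g hg =>
    ⟨fun k hk => (mem_centralizer_iff.1 (mem_inf.1 hg).1 k hk).symm, mem_stabilizer_iff.1 (mem_inf.1 hg).2⟩
  let T₁ : Subgroup G :=
    { carrier := {g | g ∈ H₁ ∧ ∃ e ∈ A, ∀ p : α, v • p = p → g • p = e • p}
      one_mem' := ⟨one_mem H₁, 1, one_mem A, fun p _ => rfl⟩
      mul_mem' := by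
        rintro g₁ g₂ ⟨hg₁, e₁, he₁, h₁⟩ ⟨hg₂, e₂, he₂, h₂⟩
        refine ⟨mul_mem hg₁ hg₂, e₁ * e₂, mul_mem he₁ he₂, fun p hp => ?_⟩
        rw [mul_smul, mul_smul, h₂ p hp, h₁ _ (hmaps e₂ (hAv e₂ he₂) p hp)]
      inv_mem' := by
        rintro g ⟨hg, e, he, h'⟩
        refine ⟨inv_mem hg, e⁻¹, inv_mem he, fun p hp => inv_smul_eq_iff.2 ?_⟩
        rw [h' _ (hmaps e⁻¹ (hAv e he).inv_left p hp), smul_inv_smul] }
  have hT₁H : T₁ ≤ H₁ := fun g hg => hg.1
  haveI hnorm : (T₁.subgroupOf H₁).Normal := by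
    refine (normal_subgroupOf_iff_le_normalizer hT₁H).2 fun g hg => ?_
    refine Cfsg.Lib.ZStarApps.mem_normalizer_of_maps ?_
    rintro t ⟨ht, e, he, hte⟩
    obtain ⟨hgK, hga⟩ := memH₁ g hg
    have hgv : Commute g v := hgK v hvK
    have hgai : g⁻¹ • a = a := inv_smul_eq_iff.2 hga.symm
    obtain ⟨e', he', hee'⟩ : ∃ e' ∈ A, ∀ p : α, v • p = p → (g * e * g⁻¹) • p = e' • p := by
      rcases eq_or_ne e 1 with rfl | he1
      · exact ⟨1, one_mem A, fun p _ => by simp⟩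
      · exact hact _ ((W.memD he he1).trans (isConj_iff.2 ⟨g, rfl⟩))
          ((hgv.mul_left (hAv e he)).mul_left hgv.inv_left).symm
          (by rw [mul_smul, mul_smul, hgai, W.fixA he, hga])
    refine ⟨mul_mem (mul_mem hg ht) (inv_mem hg), e', he', fun p hp => ?_⟩
    rw [← hee' p hp, mul_smul, mul_smul, mul_smul, mul_smul, hte _ (hmaps g⁻¹ hgv.inv_left p hp)]
  have hL : lineSylow S A u ≤ T₁ := by
    intro l hl
    obtain ⟨hlC, -⟩ := mem_lineSylow.1 hl
    obtain ⟨k, hk, e, he, rfl⟩ := W.decomp hca hvK hv1 hlC (W.comm_line hl hv)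
    refine ⟨mem_inf.2 ⟨mem_centralizer_iff.2 fun k' hk' => ?_,
      mem_stabilizer_iff.2 (W.fixS _ (mem_sylowCent.1 hlC).1)⟩, e, he, fun p hp => ?_⟩
    · exact ((W.commute_ker hca hk' hk).mul_right (hAK k' hk' e he)).eq
    · rw [mul_smul]
      exact W.fix_line hca hvK hv1 hk (hmaps e (hAv e he) p hp)
  have hUmax : kernelNum α u ≤ Nat.card K := by
    have e1 := W.card_kerAt hv hca hvc hv1
    have e2 := W.card_kerAt (v := u) (mem_lineSylow.2 ⟨W.mem_u, Commute.refl u⟩) W.ne W.fixb (ne_one_of_order_two W.hu)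
    rw [e1, W.kerAt_eq] at e2
    rw [Nat.eq_of_mul_eq_mul_right (by have := W.line.four; omega) e2]
    exact W.kernel_le
  have hLp : IsPGroup 2 (lineSylow S A u) := S.isPGroup'.to_le (inf_le_left.trans inf_le_left)
  obtain ⟨P, hP⟩ := (hLp.of_equiv (subgroupOfEquivOfLe hL).symm).exists_le_sylow
  have hPL : (P : Subgroup T₁) = (lineSylow S A u).subgroupOf T₁ := by
    refine le_antisymm (fun g hg => mem_subgroupOf.2 ?_) hP
    obtain ⟨-, e, he, hge⟩ := g.2
    set V := (P : Subgroup T₁).map T₁.subtype with hV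
    have hVp : IsPGroup 2 V := P.isPGroup'.map _
    have hgV : (g : G) ∈ V := ⟨g, hg, rfl⟩
    have hLV : lineSylow S A u ≤ V := fun l hl => ⟨⟨l, hL hl⟩, hP hl, rfl⟩
    set P₀ := V ⊓ fixingSubgroup G (fixSet α (zpowers v)) with hP₀
    have hKP₀ : K ≤ P₀ := fun k hk => mem_inf.2 ⟨hLV (W.kerAt_le_line hv hca hvc hv1 hk),
      (mem_fixingSubgroup_iff G).2 fun p hp => W.fix_line hca hvK hv1 hk (mem_line.1 hp)⟩
    have hP₀ker : IsKernel α v P₀ := by
      refine ⟨hVp.to_le inf_le_left, fun y hy => ⟨?_, fun p hp =>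
        (mem_fixingSubgroup_iff G).1 (mem_inf.1 hy).2 p (mem_line.2 hp)⟩⟩
      obtain ⟨y', -, rfl⟩ := (mem_inf.1 hy).1
      exact (memH₁ _ y'.2.1).1 v hvK
    have hq : cliqueNum z v = cliqueNum z u := by
      rw [cliqueNum_eq h hv2 hva L, cliqueNum_eq h W.hu W.hua W.line]
    have hKeq : P₀ = K := (Subgroup.eq_of_le_of_card_ge hKP₀ ((le_kernelNum hP₀ker).trans
      ((W.case_.chosen.kernel v hrank hq (by rw [hfv, W.card_fixed])).trans hUmax))).symm
    have hge' : (g : G) * e⁻¹ ∈ P₀ := by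
      refine mem_inf.2 ⟨mul_mem hgV (inv_mem (hLV (W.clique_le_line he))),
        (mem_fixingSubgroup_iff G).2 fun p hp => ?_⟩
      rw [mul_smul, hge _ (hmaps e⁻¹ (hAv e he).inv_left p (mem_line.1 hp)), smul_inv_smul]
    rw [hKeq] at hge'
    rw [show (g : G) = (g : G) * e⁻¹ * e by group]
    exact mul_mem (W.kerAt_le_line hv hca hvc hv1 hge') (W.clique_le_line he)
  -- the lift
  have hx'H : x' ∈ H₁ := mem_inf.2 ⟨mem_centralizer_iff.2 fun k hk => (hx'K k hk).symm.eq,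
    mem_stabilizer_iff.2 hx'a⟩
  let P' : Sylow 2 (T₁.subgroupOf H₁) := P.comapOfInjective (subgroupOfEquivOfLe hT₁H).toMonoidHom
    (MulEquiv.injective _) (by rw [MonoidHom.range_eq_top.2 (MulEquiv.surjective _)]; exact le_top)
  have hfr := Sylow.normalizer_sup_eq_top (N := T₁.subgroupOf H₁) P'
  have hx'top : (⟨x', hx'H⟩ : H₁) ∈ normalizer (((P' : Subgroup _).map (T₁.subgroupOf H₁).subtype) : Set H₁) ⊔
      T₁.subgroupOf H₁ := hfr ▸ Subgroup.mem_top _
  rw [← SetLike.mem_coe, Subgroup.mul_normal, Set.mem_mul] at hx'top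
  obtain ⟨n, hn, t, ht, hnt⟩ := hx'top
  have hx'eq : x' = (n : G) * t := congrArg Subtype.val hnt.symm
  obtain ⟨hnK, hna⟩ := memH₁ n n.2
  obtain ⟨-, e₁, he₁, ht1⟩ := mem_subgroupOf.1 ht
  have hnL : ∀ l ∈ lineSylow S A u, (n : G) * l * (n : G)⁻¹ ∈ lineSylow S A u := by
    intro l hl
    have h1 : (⟨l, hT₁H (hL hl)⟩ : H₁) ∈ (P' : Subgroup _).map (T₁.subgroupOf H₁).subtype := by
      refine ⟨⟨⟨l, hT₁H (hL hl)⟩, mem_subgroupOf.2 (hL hl)⟩, ?_, rfl⟩
      show (subgroupOfEquivOfLe hT₁H) ⟨⟨l, hT₁H (hL hl)⟩, mem_subgroupOf.2 (hL hl)⟩ ∈ (P : Subgroup T₁)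
      rw [hPL]
      exact hl
    obtain ⟨y, hy, hy'⟩ := (mem_normalizer_iff.1 hn _).1 h1
    have hy2 : subgroupOfEquivOfLe hT₁H y ∈ (P : Subgroup T₁) := hy
    rw [hPL, mem_subgroupOf] at hy2
    rw [← show ((y : H₁) : G) = (n : G) * l * (n : G)⁻¹ from congrArg Subtype.val hy']
    exact hy2
  have hnA : ∀ e ∈ A, (n : G) * e * (n : G)⁻¹ ∈ A := fun e he => by
    rcases eq_or_ne e 1 with rfl | he1
    · simp
    · exact W.member_mem ((W.memD he he1).trans (isConj_iff.2 ⟨n, rfl⟩))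
        (mem_sylowCent.1 (mem_lineSylow.1 (hnL e (W.clique_le_line he))).1).1
  refine ⟨n, hna, hnK, hnL, hnA, fun e he p hp => ?_⟩
  -- `n` acts on the line like `x`
  have hnv : Commute (n : G) v := hnK v hvK
  have hex : v • (n : G)⁻¹ • p = (n : G)⁻¹ • p := hmaps _ hnv.inv_left p hp
  have hnp : ∀ y : α, v • y = y → x • y = (n : G) • e₁ • y := fun y hy => by
    rw [hxx' y hy, hx'eq, mul_smul, ht1 y hy]
  have hni : ∀ y : α, v • y = y → x⁻¹ • y = e₁⁻¹ • (n : G)⁻¹ • y := fun y hy => by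
    rw [inv_smul_eq_iff, hnp _ (hmaps e₁⁻¹ (hAv e₁ he₁).inv_left _ (hmaps _ hnv.inv_left y hy)),
      smul_inv_smul, smul_inv_smul]
  rw [mul_smul, mul_smul, mul_smul, mul_smul, hni p hp,
    hnp _ (hmaps e (hAv e he) _ (hmaps e₁⁻¹ (hAv e₁ he₁).inv_left _ hex))]
  congr 1
  rw [← mul_smul e₁ e, (W.commA he₁ he).eq, mul_smul, smul_inv_smul]

end FourSetting

end Cfsg.Lib.BenderSE.Crit2
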