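/-
Aschbacher's criterion, a second kernel involution on an L2 line: the translations of `U A`. They are commutators
of the tori of two lines, as these commute on the clique.
-/
import Cfsg.Agent.BenderSE.Criterion2.KernelTorus

set_option autoImplicit false
set_option linter.unusedSectionVars false
set_option linter.style.haveILetI false

namespace Cfsg.Lib.BenderSE.Crit2

open Subgroup MulAction Cfsg.Lib.InvolCalc Cfsg.Lib.BenderSE.CritDep

universe u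

variable {G α : Type u} [Group G] [Finite G] [MulAction G α]

/-- the elements at `a` normalising the clique and `U A` and acting trivially modulo the clique -/
def trivialMod (a : α) (L A : Subgroup G) : Subgroup G where
  carrier := {g | g • a = a ∧ (∀ l ∈ L, g * l * g⁻¹ ∈ L) ∧ (∀ e ∈ A, g * e * g⁻¹ ∈ A) ∧
    ∀ l ∈ L, g * l * g⁻¹ * l⁻¹ ∈ A}
  one_mem' := ⟨one_smul G a, fun l hl => by simpa, fun e he => by simpa, fun l _ => by simp⟩
  mul_mem' := by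
    rintro g g' ⟨ha, hL, hA, hm⟩ ⟨ha', hL', hA', hm'⟩
    refine ⟨by rw [mul_smul, ha', ha], fun l hl => ?_, fun e he => ?_, fun l hl => ?_⟩
    · rw [show g * g' * l * (g * g')⁻¹ = g * (g' * l * g'⁻¹) * g⁻¹ by group]; exact hL _ (hL' l hl)
    · rw [show g * g' * e * (g * g')⁻¹ = g * (g' * e * g'⁻¹) * g⁻¹ by group]; exact hA _ (hA' e he)
    · rw [show g * g' * l * (g * g')⁻¹ * l⁻¹ =
        g * (g' * l * g'⁻¹) * g⁻¹ * (g' * l * g'⁻¹)⁻¹ * (g' * l * g'⁻¹ * l⁻¹) by group]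
      exact mul_mem (hm _ (hL' l hl)) (hm' l hl)
  inv_mem' := by
    rintro g ⟨ha, hL, hA, hm⟩
    refine ⟨inv_smul_eq_iff.2 ha.symm, fun l hl => ?_, fun e he => ?_, fun l hl => ?_⟩
    · rw [inv_inv]; exact conj_mem_symm hL hl
    · rw [inv_inv]; exact conj_mem_symm hA he
    · have h1 := inv_mem (hm _ (conj_mem_symm hL hl))
      rw [inv_inv]
      rwa [show g * (g⁻¹ * l * g) * g⁻¹ * (g⁻¹ * l * g)⁻¹ = (g⁻¹ * l * g * l⁻¹)⁻¹ by group, inv_inv] at h1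

theorem mem_trivialMod {a : α} {L A : Subgroup G} {g : G} :
    g ∈ trivialMod a L A ↔ g • a = a ∧ (∀ l ∈ L, g * l * g⁻¹ ∈ L) ∧ (∀ e ∈ A, g * e * g⁻¹ ∈ A) ∧
      ∀ l ∈ L, g * l * g⁻¹ * l⁻¹ ∈ A := Iff.rfl

/-- the elements of `trivialMod` centralising the clique -/
def translations (a : α) (L A : Subgroup G) : Subgroup G := trivialMod a L A ⊓ centralizer (A : Set G)

theorem mem_translations {a : α} {L A : Subgroup G} {g : G} :
    g ∈ translations a L A ↔ g ∈ trivialMod a L A ∧ ∀ e ∈ A, Commute e g := by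
  rw [translations, mem_inf, mem_centralizer_iff]
  exact Iff.rfl

/-- `e'` is the partner of `e` for the kernel element `t` -/
def PairsAt (u : G) (a : α) (t e e' : G) : Prop := ∃ c : α, c ≠ a ∧ (u * e) • c = c ∧ (t * e') • c = c

namespace FourSetting

variable {z u : G} {a b : α} {A Q X : Subgroup G} {q j : ℕ} {S : Sylow 2 G} {w : G}
  [Finite α] [FaithfulSMul G α] (W : FourSetting α z u a b A Q X q j S w)
include W

theorem mem_line_u : u ∈ lineSylow S A u := mem_lineSylow.2 ⟨W.mem_u, Commute.refl u⟩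

theorem mem_line_w : w ∈ lineSylow S A u :=
  mem_lineSylow.2 ⟨W.mem_w, (mem_lineKernel.1 W.mem).2.1⟩

theorem mem_ker_w : w ∈ kerAt S A b := by rw [W.kerAt_eq]; exact W.mem

theorem commX {x y : G} (hx : x ∈ X) (hy : y ∈ X) : Commute x y := by
  haveI := W.line.cyclicX
  obtain ⟨g, hg⟩ := IsCyclic.exists_generator (α := X)
  obtain ⟨i, hi⟩ := mem_zpowers_iff.1 (hg ⟨x, hx⟩)
  obtain ⟨k, hk⟩ := mem_zpowers_iff.1 (hg ⟨y, hy⟩)
  have h1 : Commute (g ^ i) (g ^ k) := Commute.zpow_zpow_self g i k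
  rw [hi, hk] at h1
  exact congrArg Subtype.val h1.eq

/-- elements of the centraliser of a kernel normalising `U A` are trivial modulo the clique -/
theorem mem_trivialMod_of {c : α} (hca : c ≠ a) {v : G} (hv : v ∈ lineSylow S A u) (hvc : v • c = c) (hv1 : v ≠ 1)
    {n : G} (hna : n • a = a) (hnK : ∀ k ∈ kerAt S A c, Commute n k)
    (hnL : ∀ l ∈ lineSylow S A u, n * l * n⁻¹ ∈ lineSylow S A u) (hnA : ∀ e ∈ A, n * e * n⁻¹ ∈ A) :
    n ∈ trivialMod a (lineSylow S A u) A := by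
  refine mem_trivialMod.2 ⟨hna, hnL, hnA, fun l hl => ?_⟩
  obtain ⟨k, hk, e, he, rfl⟩ := W.decomp hca (mem_kerAt.2 ⟨(mem_lineSylow.1 hv).1, hvc⟩) hv1
    (mem_lineSylow.1 hl).1 (W.comm_line hl hv)
  have hke : Commute k e := ((mem_sylowCent.1 (mem_kerAt.1 hk).1).2 e he).symm
  rw [show n * (k * e) * n⁻¹ * (k * e)⁻¹ = (n * k * n⁻¹) * ((n * e * n⁻¹) * e⁻¹) * k⁻¹ by group, (hnK k hk).eq,
    mul_inv_cancel_right]
  have hmem := mul_mem (hnA e he) (inv_mem he)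
  rw [((mem_sylowCent.1 (mem_kerAt.1 hk).1).2 _ hmem).symm.eq, mul_inv_cancel_right]
  exact hmem

/-- the torus of the chosen line -/
theorem exists_line_torus {x : G} (hx : x ∈ X) :
    ∃ n ∈ trivialMod a (lineSylow S A u) A, (∀ k ∈ kerAt S A b, Commute n k) ∧
      ∀ e ∈ A, n * e * n⁻¹ = x * e * x⁻¹ := by
  have huA : u ∉ A := fun hA => ne_one_of_order_two W.hu (W.eq_one_of_free hA W.ne W.fixb)
  obtain ⟨n, hna, hnK, hnL, hnA, hact⟩ := W.exists_torus W.mem_line_u huA W.ne W.fixb (W.line.Xle hx)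
    (mem_stabilizer_iff.1 (W.line.Xfix hx))
  refine ⟨n, W.mem_trivialMod_of W.ne W.mem_line_u W.fixb (ne_one_of_order_two W.hu) hna hnK hnL hnA, hnK,
    fun e he => ?_⟩
  have hxe := (mem_normalizer_iff.1 (W.line.normA hx) e).1 he
  refine (inv_mul_eq_one.1 (W.eq_one_of_free (mul_mem (inv_mem hxe) (hnA e he)) W.ne ?_)).symm
  rw [mul_smul, hact e he b W.fixb, inv_smul_smul]

theorem exists_pair {e : G} (he : e ∈ A) : ∃ e' ∈ A, PairsAt u a w e e' := by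
  rcases eq_or_ne e 1 with rfl | he1
  · exact ⟨1, one_mem A, b, W.ne, by rw [mul_one, W.fixb], by
      rw [mul_one]; exact (mem_kerAt.1 W.mem_ker_w).2⟩
  have hv : u * e ∈ lineSylow S A u := mul_mem W.mem_line_u (W.clique_le_line he)
  have hvA : u * e ∉ A := fun hA => ne_one_of_order_two W.hu (W.eq_one_of_free
    (by simpa using mul_mem hA (inv_mem he)) W.ne W.fixb)
  have hv1 : u * e ≠ 1 := fun h => hvA (h ▸ one_mem A)
  obtain ⟨c, hca, hvc, -⟩ :=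
    W.involution_fix (mem_lineSylow.1 hv).1 (order_two_of_mul_self (W.sq_line hv) hv1) hvA
  obtain ⟨e', he', hec⟩ := W.cent_fix (mem_lineSylow.1 hv).1 hv1 hca hvc W.mem_w (W.comm_line W.mem_line_w hv)
  exact ⟨e', he', c, hca, hvc, hec⟩

theorem pair_unique {t e e' e'' : G} (ht : t ∈ sylowCent S A) (he : e ∈ A) (he' : e' ∈ A) (he'' : e'' ∈ A)
    (h1 : PairsAt u a t e e') (h2 : PairsAt u a t e e'') : e' = e'' := by
  obtain ⟨c, hca, hvc, htc⟩ := h1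
  obtain ⟨d, hda, hvd, htd⟩ := h2
  have hv : u * e ∈ sylowCent S A := mul_mem W.mem_u (W.le_sylowCent he)
  have hv1 : u * e ≠ 1 := fun h => ne_one_of_order_two W.hu (W.eq_one_of_free
    (by rw [eq_inv_of_mul_eq_one_left h]; exact inv_mem he) W.ne W.fixb)
  obtain ⟨f, hf, rfl⟩ := W.line_orbit hv hv1 hca hda hvc hvd
  have hte : t * e'' ∈ sylowCent S A := mul_mem ht (W.le_sylowCent he'')
  rw [smul_smul, ← ((mem_sylowCent.1 hte).2 f hf).eq, mul_smul, smul_left_cancel_iff] at htd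
  refine inv_mul_eq_one.1 (W.eq_one_of_free (mul_mem (inv_mem he') he'') hca ?_)
  rw [show e'⁻¹ * e'' = (t * e')⁻¹ * (t * e'') by group, mul_smul, htd]
  exact inv_smul_eq_iff.2 htc.symm

theorem pair_conj {t e e' g : G} (hg : g ∈ trivialMod a (lineSylow S A u) A) (hP : PairsAt u a t e e') :
    PairsAt u a t (u⁻¹ * (g * u * g⁻¹) * (g * e * g⁻¹)) (t⁻¹ * (g * t * g⁻¹) * (g * e' * g⁻¹)) := by
  obtain ⟨c, hca, hvc, htc⟩ := hP
  refine ⟨g • c, fun h => hca (smul_left_cancel g (h.trans (mem_trivialMod.1 hg).1.symm)), ?_, ?_⟩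
  · rw [show u * (u⁻¹ * (g * u * g⁻¹) * (g * e * g⁻¹)) = g * (u * e) * g⁻¹ by group, mul_smul, mul_smul,
      inv_smul_smul, hvc]
  · rw [show t * (t⁻¹ * (g * t * g⁻¹) * (g * e' * g⁻¹)) = g * (t * e') * g⁻¹ by group, mul_smul, mul_smul,
      inv_smul_smul, htc]

/-- the shift of an element trivial modulo the clique -/
theorem shift_mem {g l : G} (hg : g ∈ trivialMod a (lineSylow S A u) A) (hl : l ∈ lineSylow S A u) :
    l⁻¹ * (g * l * g⁻¹) ∈ A := by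
  obtain ⟨-, hL, -, hm⟩ := mem_trivialMod.1 hg
  have h1 := hm l hl
  rwa [(W.comm_line (inv_mem hl) (hL l hl)).eq]

/-- TRANSLATION: some element trivial modulo the clique and centralising it moves `u` -/
theorem exists_translation :
    ∃ y ∈ translations a (lineSylow S A u) A, ¬ Commute y u := by
  classical
  have h := W.crit
  haveI := W.case_.simple
  obtain ⟨e₁, he₁, he₁1⟩ := A.bot_or_exists_ne_one.resolve_left fun e => by
    have := W.line.four; rw [← W.line.card, e, Subgroup.card_bot] at this; omega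
  obtain ⟨e₁', he₁', hP₁⟩ := W.exists_pair he₁
  have hwA := W.mem_w
  -- the partner is neither `1` nor `e₁`
  have key : ∀ c : α, c ≠ a → (u * e₁) • c = c → ∀ t ∈ kerAt S A b, t ≠ 1 → t • c ≠ c := by
    intro c hca hvc t ht ht1 htc
    have huc : u • c = c := W.fix_line W.ne ht ht1 W.mem_kerAt_u htc
    rw [← (W.commU he₁).eq, mul_smul, huc] at hvc
    exact he₁1 (W.eq_one_of_free he₁ hca hvc)
  have hne1 : e₁' ≠ 1 := by
    rintro rfl
    obtain ⟨c, hca, hvc, hwc⟩ := hP₁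
    rw [mul_one] at hwc
    exact key c hca hvc w W.mem_ker_w (ne_one_of_order_two W.two) hwc
  have hne : e₁' ≠ e₁ := by
    rintro rfl
    obtain ⟨c, hca, hvc, hwc⟩ := hP₁
    refine key c hca hvc (w * u) (mul_mem W.mem_ker_w W.mem_kerAt_u)
      (fun e => W.other (by rw [eq_inv_of_mul_eq_one_left e, inv_of_order_two W.hu])) ?_
    rw [show w * u = (w * e₁') * (u * e₁') by
      rw [(W.commW he₁).symm.symm.eq, mul_assoc, ← mul_assoc w, W.comm_line W.mem_line_w W.mem_line_u |>.eq,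
        ← mul_assoc, ← mul_assoc, (W.commU he₁).eq, mul_assoc u e₁', (W.commW he₁).symm.eq, ← mul_assoc,
        mul_assoc (u * w), W.line.elem _ he₁, mul_one], mul_smul, hvc, hwc]
  obtain ⟨x₀, hx₀, hx₀e⟩ := W.line.transA e₁ he₁ e₁' he₁' he₁1 hne1
  have hnorm : ∀ {x e : G}, x ∈ X → e ∈ A → x * e * x⁻¹ ∈ A := fun hx he =>
    (mem_normalizer_iff.1 (W.line.normA hx) _).1 he
  -- the partner of every element is its image under `x₀`
  have hpair : ∀ e ∈ A, PairsAt u a w e (x₀ * e * x₀⁻¹) := by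
    intro e he
    rcases eq_or_ne e 1 with rfl | he1
    · rw [mul_one, mul_inv_cancel]
      exact ⟨b, W.ne, by rw [mul_one, W.fixb], by rw [mul_one]; exact (mem_kerAt.1 W.mem_ker_w).2⟩
    obtain ⟨x, hx, rfl⟩ := W.line.transA e₁ he₁ e he he₁1 he1
    obtain ⟨n, hn, hnK, hne⟩ := W.exists_line_torus hx
    have h1 := W.pair_conj hn hP₁
    rw [(hnK u W.mem_kerAt_u).eq, mul_inv_cancel_right, inv_mul_cancel, one_mul, (hnK w W.mem_ker_w).eq,
      mul_inv_cancel_right, inv_mul_cancel, one_mul, hne e₁ he₁, hne e₁' he₁', ← hx₀e] at h1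
    rwa [show x₀ * (x * e₁ * x⁻¹) * x₀⁻¹ = x * (x₀ * e₁ * x₀⁻¹) * x⁻¹ by
      rw [show x₀ * (x * e₁ * x⁻¹) * x₀⁻¹ = (x₀ * x) * e₁ * (x₀ * x)⁻¹ by group, (W.commX hx₀ hx).eq]; group]
  -- the torus of the line of `u e₁`
  have hv : u * e₁ ∈ lineSylow S A u := mul_mem W.mem_line_u (W.clique_le_line he₁)
  have hvA : u * e₁ ∉ A := fun hA => ne_one_of_order_two W.hu (W.eq_one_of_free
    (by simpa using mul_mem hA (inv_mem he₁)) W.ne W.fixb)
  have hv1 : u * e₁ ≠ 1 := fun h => hvA (h ▸ one_mem A)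
  have hv2 : orderOf (u * e₁) = 2 := order_two_of_mul_self (W.sq_line hv) hv1
  obtain ⟨c, hca, hvc, -, -, -, B, R, Y, i, L, hi⟩ := W.involution_fix (mem_lineSylow.1 hv).1 hv2 hvA
  have hva : (u * e₁) • a = a := by rw [mul_smul, W.fixA he₁, W.hua]
  have hev : ∀ p : α, (u * e₁) • p = p → ∀ g : G, Commute g (u * e₁) → (u * e₁) • g • p = g • p :=
    fun p hp g hg => by rw [smul_smul, ← hg.eq, mul_smul, hp]
  obtain ⟨r₀, hr₀, hr₀1, hr₀e⟩ := line_actions h W.case_.nonab W.case_.below hv2 hva L hi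
    ⟨W.memD he₁ he₁1, ((W.commU he₁).mul_right (Commute.refl e₁)).symm, W.fixA he₁⟩
  obtain ⟨r, hr, hr1, hrr₀⟩ : ∃ r ∈ B, r ≠ 1 ∧ r ≠ r₀ := by
    by_contra hno
    push Not at hno
    have hsub : (B : Set G) ⊆ ({1, r₀} : Set G) := fun g hg => by
      rcases eq_or_ne g 1 with rfl | hg1
      · exact Set.mem_insert _ _
      · exact Set.mem_insert_of_mem _ (hno g hg hg1)
    have h1 := Set.ncard_le_ncard hsub
    rw [← Nat.card_coe_set_eq, SetLike.coe_sort_coe, L.card] at h1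
    have := h1.trans (Set.ncard_insert_le _ _)
    rw [Set.ncard_singleton] at this
    have := L.four
    omega
  obtain ⟨y, hy, hyr⟩ := L.transA r₀ hr₀ r hr hr₀1 hr1
  obtain ⟨n, hna, hnK, hnL, hnA, hnact⟩ := W.exists_torus hv hvA hca hvc (L.Xle hy)
    (mem_stabilizer_iff.1 (L.Xfix hy))
  have hn := W.mem_trivialMod_of hca hv hvc hv1 hna hnK hnL hnA
  have hmoves : n * e₁ * n⁻¹ ≠ e₁ := by
    intro he
    have hyv : Commute y (u * e₁) := L.centX y hy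
    have h1 : r • c = r₀ • c := by
      rw [← hyr, mul_smul, mul_smul, ← hr₀e _ (hev c hvc _ hyv.inv_left), ← mul_smul, ← mul_smul,
        ← hnact e₁ he₁ c hvc, he, hr₀e c hvc]
    have hrc : (u * e₁) • r₀ • c = r₀ • c := hev c hvc r₀ (commute_of_mem (L.Qle (L.leQ hr₀)))
    exact hrr₀ ((L.regQ c (mem_line.2 hvc) (r₀ • c) (mem_line.2 hrc) hca
      (fun e => hca (smul_left_cancel r₀ (e.trans (L.memA r₀ hr₀ hr₀1).2.2.symm)))).unique
        ⟨L.leQ hr, h1⟩ ⟨L.leQ hr₀, rfl⟩)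
  set d := u⁻¹ * (n * u * n⁻¹) with hd
  set d' := w⁻¹ * (n * w * n⁻¹) with hd'
  have hdA : d ∈ A := W.shift_mem hn W.mem_line_u
  have hd'A : d' ∈ A := W.shift_mem hn W.mem_line_w
  have hd1 : d ≠ 1 := by
    intro e
    rw [hd, inv_mul_eq_one] at e
    have h1 : n * (u * e₁) * n⁻¹ = u * e₁ := by
      rw [(hnK _ (mem_kerAt.2 ⟨(mem_lineSylow.1 hv).1, hvc⟩)).eq, mul_inv_cancel_right]
    rw [show n * (u * e₁) * n⁻¹ = (n * u * n⁻¹) * (n * e₁ * n⁻¹) by group, ← e] at h1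
    exact hmoves (mul_left_cancel h1)
  have hrel : ∀ e ∈ A, d' * (n * (x₀ * e * x₀⁻¹) * n⁻¹) = x₀ * (d * (n * e * n⁻¹)) * x₀⁻¹ := fun e he =>
    W.pair_unique W.mem_w (mul_mem hdA (hnA e he)) (mul_mem hd'A (hnA _ (hnorm hx₀ he)))
      (hnorm hx₀ (mul_mem hdA (hnA e he))) (W.pair_conj hn (hpair e he)) (hpair _ (mul_mem hdA (hnA e he)))
  have hd'eq : d' = x₀ * d * x₀⁻¹ := by simpa using hrel 1 (one_mem A)
  have hcomm : ∀ e ∈ A, n * (x₀ * e * x₀⁻¹) * n⁻¹ = x₀ * (n * e * n⁻¹) * x₀⁻¹ := fun e he => by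
    have h1 := hrel e he
    rw [hd'eq, show x₀ * (d * (n * e * n⁻¹)) * x₀⁻¹ = x₀ * d * x₀⁻¹ * (x₀ * (n * e * n⁻¹) * x₀⁻¹) by group] at h1
    exact mul_left_cancel h1
  obtain ⟨n₀, hn₀, hn₀K, hn₀e⟩ := W.exists_line_torus hx₀
  refine ⟨n₀ * n * n₀⁻¹ * n⁻¹, mem_translations.2 ⟨mul_mem (mul_mem (mul_mem hn₀ hn) (inv_mem hn₀)) (inv_mem hn),
    fun e he => ?_⟩, fun hc => ?_⟩
  · obtain ⟨-, -, hnA', -⟩ := mem_trivialMod.1 (inv_mem hn)
    obtain ⟨-, -, hn₀A', -⟩ := mem_trivialMod.1 (inv_mem hn₀)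
    set f := n⁻¹ * e * n⁻¹⁻¹ with hf
    set f' := n₀⁻¹ * f * n₀⁻¹⁻¹ with hf'
    have hf'A : f' ∈ A := hn₀A' f (hnA' e he)
    have h1 : n₀ * n * n₀⁻¹ * n⁻¹ * e * (n₀ * n * n₀⁻¹ * n⁻¹)⁻¹ = e := by
      calc n₀ * n * n₀⁻¹ * n⁻¹ * e * (n₀ * n * n₀⁻¹ * n⁻¹)⁻¹ = n₀ * (n * f' * n⁻¹) * n₀⁻¹ := by
            rw [hf', hf]; group
        _ = n * (x₀ * f' * x₀⁻¹) * n⁻¹ := by rw [hn₀e _ (hnA f' hf'A), hcomm f' hf'A]
        _ = n * (n₀ * f' * n₀⁻¹) * n⁻¹ := by rw [hn₀e f' hf'A]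
        _ = e := by rw [hf', hf]; group
    exact (mul_inv_eq_iff_eq_mul.1 h1).symm
  · -- the commutator shifts `u` by `x₀ d x₀⁻¹ d`
    have hn₀u : Commute n₀ u := hn₀K u W.mem_kerAt_u
    have hxne : x₀ * d * x₀⁻¹ ≠ d := by
      intro e
      refine hne ?_
      obtain ⟨x, hx, hxd⟩ := W.line.transA d hdA e₁ he₁ hd1 he₁1
      rw [← hx₀e, ← hxd, show x₀ * (x * d * x⁻¹) * x₀⁻¹ = x₀ * x * d * (x₀ * x)⁻¹ by group, (W.commX hx₀ hx).eq,
        show x * x₀ * d * (x * x₀)⁻¹ = x * (x₀ * d * x₀⁻¹) * x⁻¹ by group, e]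
    have hu' : n * u * n⁻¹ = u * d := by rw [hd]; group
    have hconj : n₀ * n * n₀⁻¹ * n⁻¹ * (u * d) * (n₀ * n * n₀⁻¹ * n⁻¹)⁻¹ = u * (x₀ * d * x₀⁻¹) := by
      calc n₀ * n * n₀⁻¹ * n⁻¹ * (u * d) * (n₀ * n * n₀⁻¹ * n⁻¹)⁻¹
          = n₀ * n * (n₀⁻¹ * u * n₀) * n⁻¹ * n₀⁻¹ := by rw [← hu']; group
        _ = n₀ * (n * u * n⁻¹) * n₀⁻¹ := by
            rw [mul_assoc n₀⁻¹ u, ← hn₀u.eq, inv_mul_cancel_left]; group
        _ = u * (x₀ * d * x₀⁻¹) := by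
            rw [hu', show n₀ * (u * d) * n₀⁻¹ = n₀ * u * n₀⁻¹ * (n₀ * d * n₀⁻¹) by group, hn₀u.eq,
              mul_inv_cancel_right, hn₀e d hdA]
    set y := n₀ * n * n₀⁻¹ * n⁻¹ with hy
    have hyd : Commute d y := by
      obtain ⟨-, -, hnA', -⟩ := mem_trivialMod.1 (inv_mem hn)
      obtain ⟨-, -, hn₀A', -⟩ := mem_trivialMod.1 (inv_mem hn₀)
      set f := n⁻¹ * d * n⁻¹⁻¹ with hf
      set f' := n₀⁻¹ * f * n₀⁻¹⁻¹ with hf'
      have hf'A : f' ∈ A := hn₀A' f (hnA' d hdA)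
      have h1 : y * d * y⁻¹ = d := by
        calc y * d * y⁻¹ = n₀ * (n * f' * n⁻¹) * n₀⁻¹ := by rw [hy, hf', hf]; group
          _ = n * (x₀ * f' * x₀⁻¹) * n⁻¹ := by rw [hn₀e _ (hnA f' hf'A), hcomm f' hf'A]
          _ = n * (n₀ * f' * n₀⁻¹) * n⁻¹ := by rw [hn₀e f' hf'A]
          _ = d := by rw [hf', hf]; group
      exact (mul_inv_eq_iff_eq_mul.1 h1).symm
    refine hxne (mul_left_cancel (a := u) ?_)
    rw [← hconj, show y * (u * d) * y⁻¹ = y * u * y⁻¹ * (y * d * y⁻¹) by group, hc.eq, mul_inv_cancel_right,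
      ← hyd.eq, mul_inv_cancel_right]

theorem exists_translation_to {e : G} (he : e ∈ A) :
    ∃ y ∈ translations a (lineSylow S A u) A, y * u * y⁻¹ = u * e := by
  rcases eq_or_ne e 1 with rfl | he1
  · exact ⟨1, one_mem _, by simp⟩
  obtain ⟨y, hy, hyu⟩ := W.exists_translation
  obtain ⟨hyT, hyA⟩ := mem_translations.1 hy
  set d := u⁻¹ * (y * u * y⁻¹) with hd
  have hdA : d ∈ A := W.shift_mem hyT W.mem_line_u
  have hd1 : d ≠ 1 := fun h => hyu (mul_inv_eq_iff_eq_mul.1 (inv_mul_eq_one.1 h).symm)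
  obtain ⟨x, hx, hxe⟩ := W.line.transA d hdA e he hd1 he1
  obtain ⟨n, hn, hnK, hne⟩ := W.exists_line_torus hx
  refine ⟨n * y * n⁻¹, mem_translations.2 ⟨mul_mem (mul_mem hn hyT) (inv_mem hn), fun f hf => ?_⟩, ?_⟩
  · obtain ⟨-, -, hnA', -⟩ := mem_trivialMod.1 (inv_mem hn)
    have h1 : Commute (n * (n⁻¹ * f * n⁻¹⁻¹) * n⁻¹) (n * y * n⁻¹) :=
      (hyA _ (hnA' f hf)).map (MulAut.conj n).toMonoidHom
    rwa [show n * (n⁻¹ * f * n⁻¹⁻¹) * n⁻¹ = f by group] at h1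
  · have hnu := hnK u W.mem_kerAt_u
    rw [show n * y * n⁻¹ * u * (n * y * n⁻¹)⁻¹ = n * y * (n⁻¹ * u * n) * y⁻¹ * n⁻¹ by group, mul_assoc n⁻¹ u,
      ← hnu.eq, inv_mul_cancel_left, show n * y * u * y⁻¹ * n⁻¹ = n * u * n⁻¹ * (n * d * n⁻¹) by rw [hd]; group,
      hnu.eq, mul_inv_cancel_right, hne d hdA, hxe]

/-- translations commuting with `u` centralise the kernel -/
theorem translation_commute {y : G} (hy : y ∈ translations a (lineSylow S A u) A) (hyu : Commute y u) {t : G}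
    (ht : t ∈ kerAt S A b) : Commute y t := by
  obtain ⟨hyT, -⟩ := mem_translations.1 hy
  obtain ⟨htC, htb⟩ := mem_kerAt.1 ht
  have hya := (mem_trivialMod.1 hyT).1
  have hyb : u • y • b = y • b := by rw [smul_smul, ← hyu.eq, mul_smul, W.fixb]
  have hyba : y • b ≠ a := fun e => W.ne (smul_left_cancel y (e.trans hya.symm))
  obtain ⟨f, hf, hfb⟩ := W.line_orbit W.mem_u (ne_one_of_order_two W.hu) W.ne hyba W.fixb hyb
  have htL : t ∈ lineSylow S A u := mem_lineSylow.2 ⟨htC, W.commute_ker W.ne ht W.mem_kerAt_u⟩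
  set d := t⁻¹ * (y * t * y⁻¹) with hd
  have hdA : d ∈ A := W.shift_mem hyT htL
  have h1 : t • d • f • b = f • b := by
    rw [smul_smul, show t * d = y * t * y⁻¹ by rw [hd]; group, hfb, mul_smul, mul_smul, inv_smul_smul, htb]
  have htf : t • f • b = f • b := by rw [smul_smul, ← ((mem_sylowCent.1 htC).2 f hf).eq, mul_smul, htb]
  have h2 : d = 1 := W.eq_one_of_free hdA hyba (by rw [← hfb]; exact smul_left_cancel t (h1.trans htf.symm))
  rw [hd, inv_mul_eq_one] at h2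
  exact mul_inv_eq_iff_eq_mul.1 h2.symm

/-- a 2-group of translations commuting with `u` lies in `U A` -/
theorem translation_le_line {V : Subgroup G} (hV : IsPGroup 2 V) (hLV : lineSylow S A u ≤ V)
    (hVT : V ≤ translations a (lineSylow S A u) A) {y : G} (hy : y ∈ V) (hyu : Commute y u) :
    y ∈ lineSylow S A u := by
  have hya : ∀ g ∈ translations a (lineSylow S A u) A, g • a = a := fun g hg =>
    (mem_trivialMod.1 (mem_translations.1 hg).1).1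
  have hyb : u • y • b = y • b := by rw [smul_smul, ← hyu.eq, mul_smul, W.fixb]
  have hyba : y • b ≠ a := fun e => W.ne (smul_left_cancel y (e.trans (hya y (hVT hy)).symm))
  obtain ⟨f, hf, hfb⟩ := W.line_orbit W.mem_u (ne_one_of_order_two W.hu) W.ne hyba W.fixb hyb
  set P₀ := V ⊓ centralizer {u} ⊓ fixingSubgroup G (fixSet α (zpowers u)) with hP₀
  have hUP : kerAt S A b ≤ P₀ := fun k hk => mem_inf.2 ⟨mem_inf.2
    ⟨hLV (mem_lineSylow.2 ⟨(mem_kerAt.1 hk).1, W.commute_ker W.ne hk W.mem_kerAt_u⟩),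
      mem_centralizer_singleton_iff.2 (W.commute_ker W.ne hk W.mem_kerAt_u).eq⟩,
    (mem_fixingSubgroup_iff G).2 fun p hp =>
      W.fix_line W.ne W.mem_kerAt_u (ne_one_of_order_two W.hu) hk (mem_line.1 hp)⟩
  have hker : IsKernel α u P₀ := ⟨hV.to_le (inf_le_left.trans inf_le_left), fun g hg =>
    ⟨mem_centralizer_singleton_iff.1 (mem_inf.1 (mem_inf.1 hg).1).2, fun p hp =>
      (mem_fixingSubgroup_iff G).1 (mem_inf.1 hg).2 p (mem_line.2 hp)⟩⟩
  have heq : kerAt S A b = P₀ := Subgroup.eq_of_le_of_card_ge hUP ((le_kernelNum hker).trans (by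
    rw [W.kerAt_eq]; exact W.kernel_le))
  obtain ⟨-, hyA⟩ := mem_translations.1 (hVT hy)
  have hyf : y * f⁻¹ ∈ P₀ := by
    refine mem_inf.2 ⟨mem_inf.2 ⟨mul_mem hy (inv_mem (hLV (W.clique_le_line hf))),
      mem_centralizer_singleton_iff.2 (hyu.mul_left (W.commU hf).inv_left).eq⟩,
      (mem_fixingSubgroup_iff G).2 fun p hp => ?_⟩
    have hp' := mem_line.1 hp
    by_cases hpa : p = a
    · rw [hpa, mul_smul, inv_smul_eq_iff.2 (W.fixA hf).symm, hya y (hVT hy)]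
    · obtain ⟨g, hg, rfl⟩ := W.line_orbit W.mem_u (ne_one_of_order_two W.hu) W.ne hpa W.fixb hp'
      rw [smul_smul, ← ((hyA g hg).mul_right (W.commA hg hf).inv_right).eq, mul_smul]
      congr 1
      rw [(hyA f hf).inv_left.symm.eq, mul_smul, ← hfb, inv_smul_smul]
  rw [← heq] at hyf
  rw [show y = y * f⁻¹ * f by group]
  exact mul_mem (mem_lineSylow.2 ⟨(mem_kerAt.1 hyf).1, W.commute_ker W.ne hyf W.mem_kerAt_u⟩)
    (W.clique_le_line hf)

/-- THE TRANSLATIONS: a 2-group of them, inducing all shifts, normalised by a torus -/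
theorem exists_translations :
    ∃ (P : Subgroup G) (n : G), IsPGroup 2 P ∧ lineSylow S A u ≤ P ∧ P ≤ translations a (lineSylow S A u) A ∧
      (∀ y ∈ P, Commute y u → y ∈ lineSylow S A u) ∧ (∀ e ∈ A, ∃ y ∈ P, y * u * y⁻¹ = u * e) ∧
      n ∈ trivialMod a (lineSylow S A u) A ∧ (∀ k ∈ kerAt S A b, Commute n k) ∧ (∀ y ∈ P, n * y * n⁻¹ ∈ P) ∧
      ∀ e ∈ A, ∀ e' ∈ A, e ≠ 1 → e' ≠ 1 → ∃ i : ℕ, n ^ i * e * (n ^ i)⁻¹ = e' := by
  classical
  haveI : Fact (Nat.Prime 2) := ⟨Nat.prime_two⟩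
  set L := lineSylow S A u with hL
  set T := translations a L A with hT
  have hLT : L ≤ T := by
    intro l hl
    obtain ⟨hlC, -⟩ := mem_lineSylow.1 hl
    refine mem_translations.2 ⟨mem_trivialMod.2 ⟨W.fixS l (mem_sylowCent.1 hlC).1,
      fun l' hl' => mul_mem (mul_mem hl hl') (inv_mem hl), fun e he => ?_, fun l' hl' => ?_⟩,
      (mem_sylowCent.1 hlC).2⟩
    · rw [← ((mem_sylowCent.1 hlC).2 e he).eq, mul_inv_cancel_right]; exact he
    · rw [(W.comm_line hl hl').eq, mul_inv_cancel_right, mul_inv_cancel]; exact one_mem A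
  have hLp : IsPGroup 2 L := S.isPGroup'.to_le (inf_le_left.trans inf_le_left)
  obtain ⟨P₁, hP₁⟩ := (hLp.of_equiv (subgroupOfEquivOfLe hLT).symm).exists_le_sylow
  set P := (P₁ : Subgroup T).map T.subtype with hPdef
  have hPp : IsPGroup 2 P := P₁.isPGroup'.map _
  have hLP : L ≤ P := fun l hl => ⟨⟨l, hLT hl⟩, hP₁ hl, rfl⟩
  have hPT : P ≤ T := map_subtype_le _
  have hconjP : ∀ g ∈ T, ∀ e ∈ A, g * u * g⁻¹ = u * e → ∀ k ∈ T, (k⁻¹ * g * k) * u * (k⁻¹ * g * k)⁻¹ = u * e := by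
    intro g hg e he hge k hk
    obtain ⟨hkT, hkA⟩ := mem_translations.1 hk
    obtain ⟨-, hgA⟩ := mem_translations.1 hg
    set d := u⁻¹ * (k * u * k⁻¹) with hd
    have hdA : d ∈ A := W.shift_mem hkT W.mem_line_u
    calc (k⁻¹ * g * k) * u * (k⁻¹ * g * k)⁻¹ = k⁻¹ * (g * u * g⁻¹ * (g * d * g⁻¹)) * k := by rw [hd]; group
      _ = k⁻¹ * (u * (d * e)) * k := by
        rw [hge, ← (hgA d hdA).eq, mul_inv_cancel_right, mul_assoc u, (W.commA he hdA).eq]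
      _ = u * (k⁻¹ * e * k) := by rw [hd]; group
      _ = u * e := by rw [mul_assoc k⁻¹ e, (hkA e he).eq, inv_mul_cancel_left]
  have honto : ∀ e ∈ A, ∃ y ∈ P, y * u * y⁻¹ = u * e := by
    intro e he
    obtain ⟨y, hy, hye⟩ := W.exists_translation_to he
    obtain ⟨-, hyA⟩ := mem_translations.1 hy
    -- an odd power of `y` has 2-power order and the same shift
    obtain ⟨i, m, hm, hord⟩ := Nat.exists_eq_two_pow_mul_odd (orderOf_pos y).ne'
    have hpow : ∀ r : ℕ, y ^ r * u * (y ^ r)⁻¹ = u * e ^ r := by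
      intro r
      induction r with
      | zero => simp
      | succ r ih =>
        calc y ^ (r + 1) * u * (y ^ (r + 1))⁻¹ = y * (y ^ r * u * (y ^ r)⁻¹) * y⁻¹ := by rw [pow_succ']; group
          _ = (y * u * y⁻¹) * (y * e ^ r * y⁻¹) := by rw [ih]; group
          _ = u * e ^ (r + 1) := by
            rw [hye, ← (hyA _ (pow_mem he r)).eq, mul_inv_cancel_right, mul_assoc, ← pow_succ']
    have hem : e ^ m = e := by
      obtain ⟨l, rfl⟩ := hm
      rw [pow_succ, pow_mul, pow_two, W.line.elem e he, one_pow, one_mul]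
    have hy' : IsPGroup 2 (zpowers (y ^ m)) := IsPGroup.of_card (n := i) (by
      rw [Nat.card_zpowers, orderOf_pow' y (Nat.pos_iff_ne_zero.1 hm.pos),
        Nat.gcd_eq_right (hord ▸ dvd_mul_left m _), hord, Nat.mul_div_cancel _ hm.pos])
    have hzT : zpowers (y ^ m) ≤ T := zpowers_le.2 (pow_mem hy m)
    obtain ⟨R, hR⟩ := (hy'.of_equiv (subgroupOfEquivOfLe hzT).symm).exists_le_sylow
    obtain ⟨k, rfl⟩ := MulAction.exists_smul_eq T P₁ R
    obtain ⟨s, hs, hse⟩ := hR (show (⟨y ^ m, pow_mem hy m⟩ : T) ∈ (zpowers (y ^ m)).subgroupOf T from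
      mem_zpowers (y ^ m))
    refine ⟨(k : G)⁻¹ * y ^ m * k, ⟨s, hs, ?_⟩,
      hconjP _ (pow_mem hy m) e he ((hpow m).trans (by rw [hem])) k k.2⟩
    have h1 : (k : G) * (s : G) * (k : G)⁻¹ = y ^ m := congrArg Subtype.val hse
    show (s : G) = _
    rw [← h1]; group
  -- the torus
  haveI := W.line.cyclicX
  obtain ⟨g, hg⟩ := IsCyclic.exists_generator (α := X)
  obtain ⟨n₁, hn₁, hn₁K, hn₁e⟩ := W.exists_line_torus g.2
  have hn₁T : ∀ y ∈ T, n₁ * y * n₁⁻¹ ∈ T := by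
    intro y hy
    obtain ⟨hyT, hyA⟩ := mem_translations.1 hy
    refine mem_translations.2 ⟨mul_mem (mul_mem hn₁ hyT) (inv_mem hn₁), fun f hf => ?_⟩
    obtain ⟨-, -, hnA', -⟩ := mem_trivialMod.1 (inv_mem hn₁)
    have h1 : Commute (n₁ * (n₁⁻¹ * f * n₁⁻¹⁻¹) * n₁⁻¹) (n₁ * y * n₁⁻¹) :=
      (hyA _ (hnA' f hf)).map (MulAut.conj n₁).toMonoidHom
    rwa [show n₁ * (n₁⁻¹ * f * n₁⁻¹⁻¹) * n₁⁻¹ = f by group] at h1
  have hP'T : P.map (MulAut.conj n₁).toMonoidHom ≤ T := by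
    rintro _ ⟨y, hy, rfl⟩
    exact hn₁T y (hPT hy)
  obtain ⟨R, hR⟩ := ((hPp.map _).of_equiv (subgroupOfEquivOfLe hP'T).symm).exists_le_sylow
  obtain ⟨k, hk⟩ := MulAction.exists_smul_eq T R P₁
  have hkP : ∀ y ∈ P, (k : G) * (n₁ * y * n₁⁻¹) * (k : G)⁻¹ ∈ P := by
    intro y hy
    refine ⟨k * ⟨n₁ * y * n₁⁻¹, hn₁T y (hPT hy)⟩ * k⁻¹, ?_, rfl⟩
    rw [SetLike.mem_coe, ← hk, Sylow.coe_subgroup_smul]
    exact ⟨⟨n₁ * y * n₁⁻¹, hn₁T y (hPT hy)⟩, hR ⟨y, hy, rfl⟩, rfl⟩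
  obtain ⟨hkT, hkA⟩ := mem_translations.1 k.2
  obtain ⟨s, hs, hsk⟩ := honto _ (W.shift_mem hkT W.mem_line_u)
  obtain ⟨hsT, hsA⟩ := mem_translations.1 (hPT hs)
  set n := s⁻¹ * (k : G) * n₁ with hn
  have hskT : s⁻¹ * (k : G) ∈ T := mul_mem (inv_mem (hPT hs)) k.2
  have hsku : Commute (s⁻¹ * (k : G)) u := by
    refine mul_inv_eq_iff_eq_mul.1 ?_
    rw [show s⁻¹ * (k : G) * u * (s⁻¹ * (k : G))⁻¹ = s⁻¹ * (u * (u⁻¹ * (k * u * (k : G)⁻¹))) * s by group, ← hsk]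
    group
  have hne : ∀ e ∈ A, n * e * n⁻¹ = g * e * (g : G)⁻¹ := by
    intro e he
    obtain ⟨-, -, hA₁, -⟩ := mem_trivialMod.1 hn₁
    obtain ⟨-, hskA⟩ := mem_translations.1 hskT
    rw [hn, show s⁻¹ * (k : G) * n₁ * e * (s⁻¹ * (k : G) * n₁)⁻¹ =
        s⁻¹ * (k : G) * (n₁ * e * n₁⁻¹) * (s⁻¹ * (k : G))⁻¹ by group, ← (hskA _ (hA₁ e he)).eq,
      mul_inv_cancel_right, hn₁e e he]
  refine ⟨P, n, hPp, hLP, hPT, fun y hy hyu => W.translation_le_line hPp hLP hPT hy hyu, honto,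
    mul_mem (mul_mem (inv_mem hsT) hkT) hn₁, fun c hc => ?_, fun y hy => ?_, fun e he e' he' he1 he'1 => ?_⟩
  · exact (W.translation_commute hskT hsku hc).mul_left (hn₁K c hc)
  · rw [hn, show s⁻¹ * (k : G) * n₁ * y * (s⁻¹ * (k : G) * n₁)⁻¹ =
      s⁻¹ * ((k : G) * (n₁ * y * n₁⁻¹) * (k : G)⁻¹) * s by group]
    exact mul_mem (mul_mem (inv_mem hs) (hkP y hy)) hs
  · obtain ⟨x, hx, rfl⟩ := W.line.transA e he e' he' he1 he'1
    obtain ⟨i, hi⟩ := (isOfFinOrder_of_finite g).mem_powers_iff_mem_zpowers.2 (hg ⟨x, hx⟩)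
    refine ⟨i, ?_⟩
    have hpw : ∀ r : ℕ, n ^ r * e * (n ^ r)⁻¹ = (g : G) ^ r * e * ((g : G) ^ r)⁻¹ := by
      intro r
      induction r with
      | zero => simp
      | succ r ih =>
        have hm : (g : G) ^ r * e * ((g : G) ^ r)⁻¹ ∈ A :=
          (mem_normalizer_iff.1 (W.line.normA (pow_mem g.2 r)) e).1 he
        rw [pow_succ', pow_succ', show n * n ^ r * e * (n * n ^ r)⁻¹ = n * (n ^ r * e * (n ^ r)⁻¹) * n⁻¹ by group,
          ih, hne _ hm]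
        group
    rw [hpw, ← SubgroupClass.coe_pow, show g ^ i = (⟨x, hx⟩ : X) from hi]

end FourSetting

end Cfsg.Lib.BenderSE.Crit2
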