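/-
Aschbacher's criterion, a second kernel involution on an L2 line: the translations give the data of the count
(FourCount), so the kernel of the chosen L2 line has one involution.
-/
import Cfsg.Agent.BenderSE.Criterion2.FourCount
import Cfsg.Agent.BenderSE.Criterion2.KernelTranslation
import Mathlib.GroupTheory.GroupAction.SubMulAction.OfStabilizer

set_option autoImplicit false
set_option linter.unusedSectionVars false
set_option linter.style.haveILetI false

namespace Cfsg.Lib.BenderSE.Crit2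

open Subgroup MulAction Cfsg.Lib.InvolCalc Cfsg.Lib.BenderSE.CritDep Four

universe u

variable {G α : Type u} [Group G] [Finite G] [MulAction G α] [Finite α] [FaithfulSMul G α]
  {z u : G} {a b : α} {A Q X : Subgroup G} {q j : ℕ} {S : Sylow 2 G} {w : G}

namespace FourSetting

/-- THE END: the count of the points kills the setting -/
theorem contradiction (W₁ : FourSetting α z u a b A Q X q j S w) : False := by
  classical
  haveI : Fact (Nat.Prime 2) := ⟨Nat.prime_two⟩
  obtain ⟨P, n, hPp, hLP, hPT, hPu, honto, hn, hnK, hnP, hntrans⟩ := W₁.exists_translations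
  set L := lineSylow S A u with hL
  have hPa : ∀ y ∈ P, y • a = a := fun y hy => (mem_trivialMod.1 (mem_translations.1 (hPT hy)).1).1
  have hPA : ∀ y ∈ P, ∀ e ∈ A, Commute e y := fun y hy => (mem_translations.1 (hPT hy)).2
  -- a Sylow subgroup through the translations
  obtain ⟨-, S₀, -, -, -, -, hS₀⟩ := W₁.crit.exists_central a
  obtain ⟨k₀, hk₀, hk₀P⟩ := exists_conj_into (K := stabilizer G a) S₀ (fun s hs => mem_stabilizer_iff.2 (hS₀ s hs))
    hPp (fun y hy => mem_stabilizer_iff.2 (hPa y hy))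
  set S' := k₀ • S₀
  have hPS : P ≤ (S' : Subgroup G) := fun y hy => by
    rw [Sylow.coe_subgroup_smul]
    exact ⟨k₀⁻¹ * y * k₀, hk₀P y hy, show k₀ * (k₀⁻¹ * y * k₀) * k₀⁻¹ = y by group⟩
  have hAP : A ≤ P := fun e he => hLP (W₁.clique_le_line he)
  have hUS : kerAt S A b ≤ (S' : Subgroup G) := fun k hk =>
    hPS (hLP (mem_lineSylow.2 ⟨(mem_kerAt.1 hk).1, W₁.commute_ker W₁.ne hk W₁.mem_kerAt_u⟩))
  have hlk : lineKernel α (S : Subgroup G) u ≤ lineKernel α (S' : Subgroup G) u := fun g hg =>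
    mem_lineKernel.2 ⟨hUS (by rw [W₁.kerAt_eq]; exact hg), (mem_lineKernel.1 hg).2⟩
  have V : FourSetting α z u a b A Q X q j S' w :=
    { case_ := W₁.case_
      one := W₁.one
      fixb := W₁.fixb
      ne := W₁.ne
      leS := by rw [← W₁.AQ]; exact hAP.trans hPS
      memS := hPS (hLP W₁.mem_line_u)
      fixS := by
        intro s hs
        have hs' : s ∈ ((k₀ • S₀ : Sylow 2 G) : Subgroup G) := hs
        rw [Sylow.coe_subgroup_smul] at hs'
        obtain ⟨x, hx, rfl⟩ := hs'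
        exact mem_stabilizer_iff.1 (mul_mem (mul_mem hk₀ (mem_stabilizer_iff.2 (hS₀ x hx))) (inv_mem hk₀))
      kernel_le := W₁.kernel_le.trans (Subgroup.card_le_of_le hlk)
      mem := hlk W₁.mem
      two := W₁.two
      other := W₁.other }
  have hLsub : L ≤ lineSylow S' A u := fun l hl => by
    obtain ⟨hlC, hlu⟩ := mem_lineSylow.1 hl
    exact mem_lineSylow.2 ⟨mem_sylowCent.2 ⟨hPS (hLP hl), (mem_sylowCent.1 hlC).2⟩, hlu⟩
  have hLeq : lineSylow S' A u = L := by
    refine (Subgroup.eq_of_le_of_card_ge hLsub ?_).symm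
    have hker : IsKernel α u (lineKernel α (S' : Subgroup G) u) :=
      ⟨S'.isPGroup'.to_le (inf_le_left.trans inf_le_left), fun g hg => (mem_lineKernel.1 hg).2⟩
    rw [V.card_kerAt V.mem_line_u V.ne V.fixb (ne_one_of_order_two V.hu),
      W₁.card_kerAt W₁.mem_line_u W₁.ne W₁.fixb (ne_one_of_order_two W₁.hu), V.kerAt_eq, W₁.kerAt_eq]
    exact Nat.mul_le_mul_right _ ((le_kernelNum hker).trans W₁.kernel_le)
  have hbK : kerAt S' A b = kerAt S A b := by
    rw [V.kerAt_eq, W₁.kerAt_eq]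
    exact (Subgroup.eq_of_le_of_card_ge hlk ((le_kernelNum (show IsKernel α u (lineKernel α (S' : Subgroup G) u) from
      ⟨S'.isPGroup'.to_le (inf_le_left.trans inf_le_left), fun g hg => (mem_lineKernel.1 hg).2⟩)).trans W₁.kernel_le)).symm
  have hPC : P ≤ sylowCent S' A := fun y hy => mem_sylowCent.2 ⟨hPS hy, hPA y hy⟩
  -- shifts
  let sh : G → G := fun y => u⁻¹ * (y * u * y⁻¹)
  have hshA : ∀ y ∈ P, sh y ∈ A := fun y hy =>
    W₁.shift_mem (mem_translations.1 (hPT hy)).1 W₁.mem_line_u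
  have hsh : ∀ y : G, y * u * y⁻¹ = u * sh y := fun y => by simp only [sh]; group
  have hshmul : ∀ y ∈ P, ∀ y' ∈ P, sh (y * y') = sh y * sh y' := fun y hy y' hy' => by
    have e1 : y * sh y' * y⁻¹ = sh y' := by
      rw [← (hPA y hy _ (hshA y' hy')).eq, mul_inv_cancel_right]
    calc sh (y * y') = u⁻¹ * (y * (y' * u * y'⁻¹) * y⁻¹) := by simp only [sh]; group
      _ = u⁻¹ * (y * u * y⁻¹ * (y * sh y' * y⁻¹)) := by rw [hsh y']; group
      _ = sh y * sh y' := by rw [e1, hsh y]; group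
  have hsh1 : ∀ y ∈ P, sh y = 1 → y ∈ L := fun y hy h1 => hPu y hy (mul_inv_eq_iff_eq_mul.1 (by
    rw [hsh y, h1, mul_one]))
  have hshL : ∀ l ∈ L, sh l = 1 := fun l hl => by
    simp only [sh, (mem_lineSylow.1 hl).2.eq]
    group
  -- squares
  have hsq : ∀ y ∈ P, y * y ∈ A := by
    intro y hy
    have hl : y * y ∈ L := hsh1 _ (mul_mem hy hy) (by rw [hshmul y hy y hy]; exact W₁.line.elem _ (hshA y hy))
    by_contra hA
    have h1 : y * y ≠ 1 := fun e => hA (e ▸ one_mem A)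
    have hlS : y * y ∈ sylowCent S' A := hPC (mul_mem hy hy)
    obtain ⟨c, hca, hlc, -⟩ := V.involution_fix hlS (order_two_of_mul_self (W₁.sq_line hl) h1) hA
    obtain ⟨e, he, hec⟩ := V.cent_fix hlS h1 hca hlc (hPC hy) ((Commute.refl y).mul_right (Commute.refl y))
    have h2 := V.sq_eq_one (mul_mem (hPC hy) (V.le_sylowCent he)) hca hec
    rw [(hPA y hy e he).mul_mul_mul_comm, W₁.line.elem e he, mul_one] at h2
    exact h1 h2
  have hAc : ∀ e ∈ A, ∀ y ∈ P, Commute e y := fun e he y hy => hPA y hy e he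
  have hcom : ∀ y ∈ P, ∀ y' ∈ P, y * y' * y⁻¹ * y'⁻¹ ∈ A := by
    intro y hy y' hy'
    have hc : Commute (y⁻¹ * y⁻¹) y' := hAc _ (by
      rw [← mul_inv_rev]; exact inv_mem (hsq y hy)) y' hy'
    have e : y * y' * y⁻¹ * y'⁻¹ = (y * y') * (y * y') * (y⁻¹ * y⁻¹) * (y'⁻¹ * y'⁻¹) := by
      rw [mul_assoc (y * y' * (y * y')) (y⁻¹ * y⁻¹), ← mul_assoc (y⁻¹ * y⁻¹) y'⁻¹, hc.inv_right.eq]
      group
    rw [e]
    exact mul_mem (mul_mem (hsq _ (mul_mem hy hy')) (by rw [← mul_inv_rev]; exact inv_mem (hsq y hy)))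
      (by rw [← mul_inv_rev]; exact inv_mem (hsq y' hy'))
  -- the torus on the shifts
  obtain ⟨hna, hnL, hnA, hnm⟩ := mem_trivialMod.1 hn
  have hnu : Commute n u := hnK u W₁.mem_kerAt_u
  have hfree : ∀ e ∈ A, n * e * n⁻¹ = e → e = 1 := by
    intro e he hne
    by_contra he1
    have hall : ∀ i : ℕ, Commute (n ^ i) e := fun i => (show Commute n e from mul_inv_eq_iff_eq_mul.1 hne).pow_left i
    have hsub : (A : Set G) ⊆ ({1, e} : Set G) := fun g hg => by
      rcases eq_or_ne g 1 with rfl | hg1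
      · exact Set.mem_insert _ _
      · obtain ⟨i, rfl⟩ := hntrans e he g hg he1 hg1
        rw [(hall i).eq, mul_inv_cancel_right]
        exact Set.mem_insert_of_mem _ rfl
    have h1 := Set.ncard_le_ncard hsub
    rw [← Nat.card_coe_set_eq, SetLike.coe_sort_coe, W₁.line.card] at h1
    have := h1.trans (Set.ncard_insert_le _ _)
    rw [Set.ncard_singleton] at this
    have := W₁.line.four
    omega
  have hshn : ∀ y ∈ P, sh (n * y * n⁻¹) = n * sh y * n⁻¹ := fun y hy => by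
    have e1 : n⁻¹ * u * n = u := by rw [mul_assoc, ← hnu.eq, inv_mul_cancel_left]
    calc sh (n * y * n⁻¹) = u⁻¹ * (n * (y * (n⁻¹ * u * n) * y⁻¹) * n⁻¹) := by simp only [sh]; group
      _ = u⁻¹ * (n * u * n⁻¹) * (n * sh y * n⁻¹) := by rw [e1, hsh y]; group
      _ = n * sh y * n⁻¹ := by rw [hnu.eq, mul_inv_cancel_right, inv_mul_cancel, one_mul]
  let d : G → G := fun p => n * p * n⁻¹ * p⁻¹
  have hdP : ∀ p ∈ P, d p ∈ P := fun p hp => mul_mem (hnP p hp) (inv_mem hp)
  have hdsh : ∀ p ∈ P, sh (d p) = n * sh p * n⁻¹ * sh p := fun p hp => by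
    have e1 : sh p⁻¹ = sh p := by
      have h1 := hshmul p hp p⁻¹ (inv_mem hp)
      rw [mul_inv_cancel, show sh 1 = 1 by simp [sh]] at h1
      rw [← inv_eq_of_mul_eq_one_right h1.symm, inv_eq_of_mul_eq_one_right (W₁.line.elem _ (hshA p hp))]
    rw [hshmul _ (hnP p hp) _ (inv_mem hp), hshn p hp, e1]
  have hdinj : ∀ p ∈ P, sh (d p) = 1 → p ∈ L := fun p hp h1 => by
    rw [hdsh p hp] at h1
    refine hsh1 p hp (hfree _ (hshA p hp) ?_)
    rw [eq_inv_of_mul_eq_one_left h1, inv_eq_of_mul_eq_one_right (W₁.line.elem _ (hshA p hp))]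
  let W₀ : Subgroup G :=
    { carrier := {s | s ∈ P ∧ ∃ p ∈ P, s * (d p)⁻¹ ∈ A}
      one_mem' := ⟨one_mem P, 1, one_mem P, by simp [d]⟩
      mul_mem' := by
        rintro s₁ s₂ ⟨hs₁, p₁, hp₁, h₁⟩ ⟨hs₂, p₂, hp₂, h₂⟩
        refine ⟨mul_mem hs₁ hs₂, p₁ * p₂, mul_mem hp₁ hp₂, ?_⟩
        have hc := hcom p₁ hp₁ _ (hdP p₂ hp₂)
        have e : s₁ * s₂ * (d (p₁ * p₂))⁻¹ =
            s₁ * ((s₂ * (d p₂)⁻¹) * (p₁ * d p₂ * p₁⁻¹ * (d p₂)⁻¹)⁻¹) * (d p₁)⁻¹ := by simp only [d]; group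
        rw [e, ← (hAc _ (mul_mem h₂ (inv_mem hc)) s₁ hs₁).eq, mul_assoc]
        exact mul_mem (mul_mem h₂ (inv_mem hc)) h₁
      inv_mem' := by
        rintro s ⟨hs, p, hp, h'⟩
        refine ⟨inv_mem hs, p, hp, ?_⟩
        have hss := inv_mem (hsq s hs)
        rw [show s⁻¹ * (d p)⁻¹ = (s * s)⁻¹ * (s * (d p)⁻¹) by group]
        exact mul_mem hss h' }
  have memW : ∀ s, s ∈ W₀ ↔ s ∈ P ∧ ∃ p ∈ P, s * (d p)⁻¹ ∈ A := fun s => Iff.rfl
  have hAW : A ≤ W₀ := fun e he => (memW e).2 ⟨hAP he, 1, one_mem P, by simpa [d] using he⟩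
  have hmeet : ∀ s ∈ W₀, s ∈ L → s ∈ A := by
    intro s hs hsL
    obtain ⟨hsP, p, hp, hp'⟩ := (memW s).1 hs
    have hd : d p ∈ L := by
      have h1 := mul_mem (inv_mem (W₁.clique_le_line hp')) hsL
      rwa [mul_inv_rev, inv_inv, mul_assoc, inv_mul_cancel, mul_one] at h1
    have hpL := hdinj p hp (hshL _ hd)
    have h2 : d p ∈ A := hnm p hpL
    have := mul_mem hp' h2
    rwa [inv_mul_cancel_right] at this
  have hWsh : ∀ e ∈ A, ∃ s ∈ W₀, sh s = e := by
    intro e he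
    let f : A → A := fun x => ⟨n * x * n⁻¹ * x, mul_mem (hnA x x.2) x.2⟩
    have hf : Function.Injective f := by
      intro x y hxy
      have h1 : n * x * n⁻¹ * x = n * y * n⁻¹ * y := congrArg Subtype.val hxy
      refine Subtype.ext (inv_mul_eq_one.1 (hfree _ (mul_mem (inv_mem x.2) y.2) ?_))
      have e2 : n * ((x : G)⁻¹ * y) * n⁻¹ = (n * x * n⁻¹)⁻¹ * (n * y * n⁻¹) := by group
      rw [e2, show n * (y : G) * n⁻¹ = n * x * n⁻¹ * x * (y : G)⁻¹ by rw [h1, mul_inv_cancel_right],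
        ← mul_assoc, ← mul_assoc, inv_mul_cancel, one_mul]
      rw [(W₁.commA x.2 (inv_mem y.2)).eq, inv_eq_of_mul_eq_one_right (W₁.line.elem y y.2),
        inv_eq_of_mul_eq_one_right (W₁.line.elem x x.2), (W₁.commA y.2 x.2).eq]
    obtain ⟨x, hx⟩ := (Finite.injective_iff_surjective.1 hf) ⟨e, he⟩
    obtain ⟨p, hp, hpx⟩ := honto x x.2
    refine ⟨d p, (memW _).2 ⟨hdP p hp, p, hp, by rw [mul_inv_cancel]; exact one_mem A⟩, ?_⟩
    rw [hdsh p hp, show sh p = (x : G) by simp only [sh]; rw [hpx, inv_mul_cancel_left]]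
    exact congrArg Subtype.val hx
  have hcardW : Nat.card W₀ = q * q := by
    choose s hs hse using hWsh
    rw [← W₁.line.card, ← Nat.card_prod]
    refine (Nat.card_congr (Equiv.ofBijective (fun p : A × A => (⟨s p.1 p.1.2 * p.2,
      mul_mem (hs p.1 p.1.2) (hAW p.2.2)⟩ : W₀)) ⟨fun p p' e => ?_, fun r => ?_⟩)).symm
    · have e' : s p.1 p.1.2 * (p.2 : G) = s p'.1 p'.1.2 * p'.2 := congrArg Subtype.val e
      have hval : ∀ r : A × A, sh (s r.1 r.1.2 * r.2) = r.1 := fun r => by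
        rw [hshmul _ ((memW _).1 (hs r.1 r.1.2)).1 _ (hAP r.2.2), hse r.1 r.1.2,
          hshL _ (W₁.clique_le_line r.2.2), mul_one]
      have h1 : (p.1 : G) = p'.1 := by rw [← hval p, e', hval p']
      obtain ⟨x, y⟩ := p
      obtain ⟨x', y'⟩ := p'
      obtain rfl : x = x' := Subtype.ext h1
      exact Prod.ext rfl (Subtype.ext (mul_left_cancel e'))
    · have hrP := ((memW _).1 r.2).1
      have he := hshA r hrP
      have hm : (s _ he)⁻¹ * (r : G) ∈ A := by
        refine hmeet _ (mul_mem (inv_mem (hs _ he)) r.2) (hsh1 _ (mul_mem (inv_mem ((memW _).1 (hs _ he)).1) hrP) ?_)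
        have h1 := hshmul _ ((memW _).1 (hs _ he)).1 _ (mul_mem (inv_mem ((memW _).1 (hs _ he)).1) hrP)
        rw [mul_inv_cancel_left, hse] at h1
        exact mul_eq_left.1 h1.symm
      exact ⟨(⟨_, he⟩, ⟨_, hm⟩), Subtype.ext (mul_inv_cancel_left _ _)⟩
  -- the normaliser of `U A` is `P`
  have hnorm : ∀ r ∈ sylowCent S' A, (∀ l ∈ L, r * l * r⁻¹ ∈ L) → r ∈ P := by
    intro r hr hrL
    have hra : r • a = a := V.fixS r (mem_sylowCent.1 hr).1
    have hrb : r • b ≠ a := fun e => W₁.ne (smul_left_cancel r (e.trans hra.symm))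
    have hv : r * u * r⁻¹ ∈ lineSylow S' A u := hLeq.symm ▸ hrL u W₁.mem_line_u
    have hvb : (r * u * r⁻¹) • r • b = r • b := by rw [mul_smul, mul_smul, inv_smul_smul, W₁.fixb]
    have hv1 : r * u * r⁻¹ ≠ 1 := fun e => ne_one_of_order_two W₁.hu (conj_eq_one_iff.1 e)
    obtain ⟨k, hk, e, he, hue⟩ := V.decomp hrb (mem_kerAt.2 ⟨(mem_lineSylow.1 hv).1, hvb⟩) hv1 V.mem_u
      (V.comm_line V.mem_line_u hv)
    obtain ⟨y, hy, hye⟩ := honto e⁻¹ (inv_mem he)
    have hkb : k • r • b = r • b := (mem_kerAt.1 hk).2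
    have hky : k = y * u * y⁻¹ := by rw [hye, hue, mul_inv_cancel_right]
    have hya := hPa y hy
    have hyb : y • b ≠ a := fun e => W₁.ne (smul_left_cancel y (e.trans hya.symm))
    have hkyb : k • y • b = y • b := by rw [hky, mul_smul, mul_smul, inv_smul_smul, W₁.fixb]
    have hk1 : k ≠ 1 := fun h => ne_one_of_order_two W₁.hu (conj_eq_one_iff.1 (hky ▸ h))
    obtain ⟨f, hf, hfy⟩ := V.line_orbit (mem_kerAt.1 hk).1 hk1 hyb hrb hkyb hkb
    have hm : (f * y)⁻¹ * r ∈ kerAt S' A b := mem_kerAt.2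
      ⟨mul_mem (inv_mem (hPC (mul_mem (hAP hf) hy))) hr, by
        rw [mul_smul, inv_smul_eq_iff, mul_smul, hfy]⟩
    rw [hbK] at hm
    rw [show r = f * y * ((f * y)⁻¹ * r) by group]
    exact mul_mem (mul_mem (hAP hf) hy)
      (hLP (mem_lineSylow.2 ⟨(mem_kerAt.1 hm).1, W₁.commute_ker W₁.ne hm W₁.mem_kerAt_u⟩))
  -- the count, inside the stabiliser of `a`
  set M := stabilizer G a
  let β := SubMulAction.ofStabilizer G a
  haveI : Finite β := Subtype.finite
  let c₀ : β := ⟨b, (SubMulAction.mem_ofStabilizer_iff G a).2 W₁.ne⟩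
  have hne : ∀ c : β, (c : α) ≠ a := fun c => (SubMulAction.mem_ofStabilizer_iff G a).1 c.2
  have hsmul : ∀ (g : M) (c : β), g • c = c ↔ (g : G) • (c : α) = c := fun g c =>
    ⟨fun h => congrArg Subtype.val h, fun h => Subtype.ext h⟩
  have hWa : W₀ ≤ M := fun s hs => mem_stabilizer_iff.2 (hPa s ((memW s).1 hs).1)
  have hPM : P ≤ M := fun s hs => mem_stabilizer_iff.2 (hPa s hs)
  let nM : M := ⟨n, mem_stabilizer_iff.2 hna⟩
  set SA : Subgroup M := (sylowCent S' A).subgroupOf M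
  set A' : Subgroup M := A.subgroupOf M
  set W' : Subgroup M := W₀.subgroupOf M
  set X' : Subgroup M := zpowers nM
  have memSA : ∀ g : M, g ∈ SA ↔ (g : G) ∈ sylowCent S' A := fun _ => Iff.rfl
  have memA' : ∀ g : M, g ∈ A' ↔ (g : G) ∈ A := fun _ => Iff.rfl
  have memK : ∀ g : M, g ∈ kerOf SA c₀ ↔ (g : G) ∈ kerAt S A b := fun g => by
    rw [← hbK, mem_kerAt]
    exact and_congr Iff.rfl (hsmul g c₀)
  have hLM : ∀ l ∈ L, l ∈ M := fun l hl => hPM (hLP hl)
  have memL : ∀ g : M, g ∈ lineGroup SA A' c₀ ↔ (g : G) ∈ L := by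
    intro g
    constructor
    · intro hg
      have hle : lineGroup SA A' c₀ ≤ L.subgroupOf M := sup_le
        (fun k hk => mem_subgroupOf.2 (mem_lineSylow.2 ⟨(mem_kerAt.1 ((memK k).1 hk)).1,
          W₁.commute_ker W₁.ne ((memK k).1 hk) W₁.mem_kerAt_u⟩))
        (fun k hk => mem_subgroupOf.2 (W₁.clique_le_line hk))
      exact hle hg
    · intro hg
      obtain ⟨k, hk, e, he, hge⟩ := W₁.decomp W₁.ne W₁.mem_kerAt_u (ne_one_of_order_two W₁.hu)
        (mem_lineSylow.1 hg).1 (mem_lineSylow.1 hg).2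
      have hkL : k ∈ L := mem_lineSylow.2 ⟨(mem_kerAt.1 hk).1, W₁.commute_ker W₁.ne hk W₁.mem_kerAt_u⟩
      rw [show g = (⟨k, hLM k hkL⟩ : M) * ⟨e, hLM e (W₁.clique_le_line he)⟩ from Subtype.ext hge]
      exact mul_mem (mem_sup_left ((memK _).2 hk)) (mem_sup_right he)
  have memR : ∀ g : M, g ∈ SA ⊓ normalizer (lineGroup SA A' c₀ : Set M) ↔ (g : G) ∈ P := by
    intro g
    constructor
    · intro hg
      obtain ⟨hgS, hgN⟩ := mem_inf.1 hg
      refine hnorm _ hgS fun l hl => ?_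
      have := (mem_normalizer_iff.1 hgN ⟨l, hLM l hl⟩).1 ((memL _).2 hl)
      exact (memL _).1 this
    · intro hg
      refine mem_inf.2 ⟨hPC hg, Cfsg.Lib.ZStarApps.mem_normalizer_of_maps fun l hl => (memL _).2 ?_⟩
      exact (mem_trivialMod.1 (mem_translations.1 (hPT hg)).1).2.1 _ ((memL l).1 hl)
  have hcardP : Nat.card P = Nat.card L * q := by
    choose y hy hye using honto
    rw [← W₁.line.card, ← Nat.card_prod]
    refine (Nat.card_congr (Equiv.ofBijective (fun p : L × A => (⟨y p.2 p.2.2 * p.1,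
      mul_mem (hy p.2 p.2.2) (hLP p.1.2)⟩ : P)) ⟨fun p p' e => ?_, fun r => ?_⟩)).symm
    · have e' : y p.2 p.2.2 * (p.1 : G) = y p'.2 p'.2.2 * p'.1 := congrArg Subtype.val e
      have hval : ∀ r : L × A, sh (y r.2 r.2.2 * r.1) = r.2 := fun r => by
        rw [hshmul _ (hy r.2 r.2.2) _ (hLP r.1.2), hshL _ r.1.2, mul_one]
        simp only [sh]
        rw [hye, inv_mul_cancel_left]
      have h1 : (p.2 : G) = p'.2 := by rw [← hval p, e', hval p']
      obtain ⟨x, x₂⟩ := p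
      obtain ⟨x', x₂'⟩ := p'
      obtain rfl : x₂ = x₂' := Subtype.ext h1
      exact Prod.ext (Subtype.ext (mul_left_cancel e')) rfl
    · have he := hshA r r.2
      have hm : (y _ he)⁻¹ * (r : G) ∈ L := by
        refine hsh1 _ (mul_mem (inv_mem (hy _ he)) r.2) ?_
        have h1 := hshmul _ (hy _ he) _ (mul_mem (inv_mem (hy _ he)) r.2)
        rw [mul_inv_cancel_left, show sh (y _ he) = sh r by simp only [sh]; rw [hye, inv_mul_cancel_left]] at h1
        exact mul_eq_left.1 h1.symm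
      exact ⟨(⟨_, hm⟩, ⟨_, he⟩), Subtype.ext (mul_inv_cancel_left _ _)⟩
  have hL0 : lineGroup SA A' c₀ = L.subgroupOf M := Subgroup.ext fun g => (memL g).trans mem_subgroupOf.symm
  have hR0 : SA ⊓ normalizer (lineGroup SA A' c₀ : Set M) = P.subgroupOf M :=
    Subgroup.ext fun g => (memR g).trans mem_subgroupOf.symm
  have hcardK : 4 ≤ Nat.card (kerOf SA c₀) := by
    have hmemu := W₁.mem_kerAt_u
    have hmemw := W₁.mem_ker_w
    have hS4 : ({1, u, w, u * w} : Set G) ⊆ kerAt S A b := by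
      rintro x (rfl | rfl | rfl | rfl)
      exacts [one_mem _, hmemu, hmemw, mul_mem hmemu hmemw]
    have e1 : Nat.card (kerOf SA c₀) = Nat.card (kerAt S A b) :=
      Nat.card_congr
        { toFun := fun g => ⟨(g.1 : G), (memK g.1).1 g.2⟩
          invFun := fun k => ⟨⟨k.1, hLM _ (mem_lineSylow.2
            ⟨(mem_kerAt.1 k.2).1, W₁.commute_ker W₁.ne k.2 W₁.mem_kerAt_u⟩)⟩, (memK _).2 k.2⟩
          left_inv := fun g => rfl
          right_inv := fun k => rfl }
    rw [e1, ← SetLike.coe_sort_coe, Nat.card_coe_set_eq]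
    refine le_trans (le_of_eq ?_) (Set.ncard_le_ncard hS4)
    have h1u : (1 : G) ≠ u := (ne_one_of_order_two W₁.hu).symm
    have h1w : (1 : G) ≠ w := (ne_one_of_order_two W₁.two).symm
    have huw : u ≠ w := W₁.other.symm
    have h1uw : (1 : G) ≠ u * w := fun h => huw (by rw [eq_inv_of_mul_eq_one_left h.symm, inv_of_order_two W₁.two])
    rw [Set.ncard_insert_of_notMem (by simp [h1u, h1w, h1uw]), Set.ncard_insert_of_notMem, Set.ncard_pair]
    · exact fun h => h1u (mul_eq_right.1 h.symm).symm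
    · simp [huw, h1w.symm]
  have D : Four.Data SA A' W' X' c₀ q :=
    { two := (S'.isPGroup'.to_le inf_le_left).comap_of_injective M.subtype Subtype.val_injective
      leS := fun g hg => V.le_sylowCent hg
      centre := fun e he r hr => Subtype.ext ((mem_sylowCent.1 hr).2 e he)
      elem := fun e he => Subtype.ext (W₁.line.elem e he)
      cardA := by
        rw [Nat.card_congr (subgroupOfEquivOfLe (hAP.trans hPM)).toEquiv, W₁.line.card]
      four := W₁.line.four
      free := fun e he c hc => Subtype.ext (W₁.eq_one_of_free he (hne c) ((hsmul e c).1 hc))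
      points := by
        rw [show Nat.card β = Nat.card α - 1 from SubMulAction.nat_card_ofStabilizer_eq G a, W₁.card_points,
          Nat.add_sub_cancel]
      abel := fun x hx r hr c hxc hrc => Subtype.ext (V.commute_ker (hne c)
        (mem_kerAt.2 ⟨hx, (hsmul x c).1 hxc⟩) (mem_kerAt.2 ⟨hr, (hsmul r c).1 hrc⟩))
      cent := fun x hx c hx1 hxc r hr hrx => by
        obtain ⟨e, he, hec⟩ := V.cent_fix hx (fun h => hx1 (Subtype.ext h)) (hne c) ((hsmul x c).1 hxc) hr
          (congrArg Subtype.val hrx.eq)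
        exact ⟨⟨e, hPM (hAP he)⟩, he, (hsmul _ c).2 hec⟩
      line := fun x hx c c' hx1 hxc hxc' => by
        obtain ⟨e, he, hec⟩ := V.line_orbit hx (fun h => hx1 (Subtype.ext h)) (hne c) (hne c') ((hsmul x c).1 hxc)
          ((hsmul x c').1 hxc')
        exact ⟨⟨e, hPM (hAP he)⟩, he, Subtype.ext hec⟩
      inv := fun x hx hx2 hxA => by
        obtain ⟨c, hca, hxc, -⟩ := V.involution_fix hx (order_two_of_mul_self (congrArg Subtype.val hx2)
          fun h => hxA (show (x : G) ∈ A by rw [show (x : G) = 1 from h]; exact one_mem A)) hxA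
        exact ⟨⟨c, (SubMulAction.mem_ofStabilizer_iff G a).2 hca⟩, (hsmul x _).2 hxc⟩
      fourU := hcardK
      index := by
        rw [hR0, hL0]
        have h1 := Subgroup.card_mul_index ((L.subgroupOf M).subgroupOf (P.subgroupOf M))
        rw [Nat.card_congr (subgroupOfEquivOfLe (show L.subgroupOf M ≤ P.subgroupOf M from fun g hg => hLP hg)).toEquiv,
          Nat.card_congr (subgroupOfEquivOfLe (show L ≤ M from hLM)).toEquiv,
          Nat.card_congr (subgroupOfEquivOfLe hPM).toEquiv, hcardP] at h1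
        exact Nat.eq_of_mul_eq_mul_left Nat.card_pos h1
      Wle := fun g hg => by rw [hR0]; exact ((memW _).1 hg).1
      leW := fun g hg => hAW hg
      meet := fun g hg => hmeet _ (mem_inf.1 hg).1 ((memL g).1 (mem_inf.1 hg).2)
      cardW := by rw [Nat.card_congr (subgroupOfEquivOfLe hWa).toEquiv, hcardW]
      sqW := fun g hg => hsq _ ((memW _).1 hg).1
      commX := fun x hx k hk => by
        obtain ⟨i, rfl⟩ := mem_zpowers_iff.1 hx
        exact (show Commute nM k from Subtype.ext (hnK _ ((memK k).1 hk))).zpow_left i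
      normA := zpowers_le.2 (Cfsg.Lib.ZStarApps.mem_normalizer_of_maps fun g hg => hnA _ hg)
      normW := zpowers_le.2 (Cfsg.Lib.ZStarApps.mem_normalizer_of_maps fun g hg => by
        obtain ⟨hgP, p, hp, hp'⟩ := (memW _).1 hg
        refine (memW _).2 ⟨hnP _ hgP, n * p * n⁻¹, hnP p hp, ?_⟩
        have h1 : n * ((g : G) * (d p)⁻¹) * n⁻¹ ∈ A := hnA _ hp'
        rw [show n * ((g : G) * (d p)⁻¹) * n⁻¹ = n * g * n⁻¹ * (d (n * p * n⁻¹))⁻¹ by simp only [d]; group] at h1
        exact h1)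
      transX := fun s hs s' hs' hsA hs'A => by
        have hsP := ((memW _).1 hs).1
        have hs'P := ((memW _).1 hs').1
        have hne1 : ∀ t : M, t ∈ W' → t ∉ A' → sh (t : G) ≠ 1 := fun t ht htA h =>
          htA (hmeet _ ht (hsh1 _ ((memW _).1 ht).1 h))
        obtain ⟨i, hi⟩ := hntrans _ (hshA _ hsP) _ (hshA _ hs'P) (hne1 s hs hsA) (hne1 s' hs' hs'A)
        have hpow : ∀ r : ℕ, n ^ r * s * (n ^ r)⁻¹ ∈ W₀ ∧ sh (n ^ r * s * (n ^ r)⁻¹) = n ^ r * sh s * (n ^ r)⁻¹ := by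
          intro r
          induction r with
          | zero => simpa using (show (s : G) ∈ W₀ from hs)
          | succ r ih =>
            have e1 : n ^ (r + 1) * s * (n ^ (r + 1))⁻¹ = n * (n ^ r * s * (n ^ r)⁻¹) * n⁻¹ := by
              rw [pow_succ']; group
            obtain ⟨hgP, p, hp, hp'⟩ := (memW _).1 ih.1
            refine ⟨?_, ?_⟩
            · rw [e1]
              refine (memW _).2 ⟨hnP _ hgP, n * p * n⁻¹, hnP p hp, ?_⟩
              have h1 := hnA _ hp'
              rwa [show n * (n ^ r * (s : G) * (n ^ r)⁻¹ * (d p)⁻¹) * n⁻¹ =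
                n * (n ^ r * (s : G) * (n ^ r)⁻¹) * n⁻¹ * (d (n * p * n⁻¹))⁻¹ by simp only [d]; group] at h1
            · rw [e1, hshn _ hgP, ih.2, pow_succ']; group
        obtain ⟨h1, h2⟩ := hpow i
        refine ⟨nM ^ i, pow_mem (mem_zpowers nM) i, ?_⟩
        show (n ^ i * (s : G) * (n ^ i)⁻¹) * (s' : G)⁻¹ ∈ A
        have hP2 := mul_mem ((memW _).1 h1).1 (inv_mem hs'P)
        refine hmeet _ (mul_mem h1 (inv_mem hs')) (hsh1 _ hP2 ?_)
        have h3 := hshmul _ hP2 _ hs'P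
        rw [inv_mul_cancel_right, h2, show n ^ i * sh (s : G) * (n ^ i)⁻¹ = sh (s' : G) from hi] at h3
        exact mul_eq_right.1 h3.symm }
  exact Four.false_of_data D

end FourSetting

/-- OPEN 1 for L2 lines: the kernel of the chosen involution has one involution -/
theorem kernel_one_of_line {a : α} (C : LineCase α z u a A Q X q j) (hj : j = 1) {t : G} (ht : orderOf t = 2)
    (htu : Commute t u) (htF : ∀ p : α, u • p = p → t • p = p) : t = u := by
  by_contra hne
  obtain ⟨b, S, w, W⟩ := exists_fourSetting C hj ht htu htF hne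
  exact W.contradiction

end Cfsg.Lib.BenderSE.Crit2
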