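/-
Aschbacher's criterion: a member of `D` preserving the fixed set of an involution `u` centralises `u` modulo the odd core of
the pointwise stabiliser, so its product with `u` has order twice an odd number (exactness of the bound B2).
-/
import Cfsg.Agent.BenderSE.Criterion2.Basic
import Cfsg.Agent.InvolCalc.ZStarApps

set_option autoImplicit false
set_option linter.unusedSectionVars false
set_option linter.style.haveILetI false

namespace Cfsg.Lib.BenderSE.Crit2

open Subgroup MulAction Cfsg.Lib.InvolCalc Cfsg.Lib.StrongEmb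

variable {G α : Type*} [Group G] [MulAction G α] [Finite G] {z : G}

/-- the commutator of `u` with a member preserving its fixed set has odd order -/
theorem odd_commutator_of_preserves (h : Crit G α z) {u : G} (hu : u * u = 1) {x y : α} (hxy : x ≠ y)
    (hux : u • x = x) (huy : u • y = y) {d : G} (hd : IsConj z d)
    (hpres : ∀ p : α, u • (d • p) = d • p ↔ u • p = p) : Odd (orderOf ((d * u) * (d * u))) := by
  have hd2 := orderOf_conj h hd
  have hdd : d * d = 1 := sq_of_order_two hd2
  -- the elements acting on the fixed set as `1` or as `d`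
  let K : Subgroup G :=
    { carrier := {g | (∀ p : α, u • p = p → g • p = p) ∨ (∀ p : α, u • p = p → g • p = d • p)}
      one_mem' := Or.inl fun p _ => one_smul _ _
      mul_mem' := fun {a b} ha hb => by
        rcases ha with ha | ha <;> rcases hb with hb | hb
        · exact Or.inl fun p hp => by rw [mul_smul, hb p hp, ha p hp]
        · exact Or.inr fun p hp => by rw [mul_smul, hb p hp, ha _ ((hpres p).2 hp)]
        · exact Or.inr fun p hp => by rw [mul_smul, hb p hp, ha p hp]
        · exact Or.inl fun p hp => by rw [mul_smul, hb p hp, ha _ ((hpres p).2 hp), smul_smul, hdd, one_smul]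
      inv_mem' := fun {a} ha => by
        rcases ha with ha | ha
        · exact Or.inl fun p hp => inv_smul_eq_iff.2 (ha p hp).symm
        · exact Or.inr fun p hp => inv_smul_eq_iff.2 (by rw [ha _ ((hpres p).2 hp), smul_smul, hdd, one_smul]) }
  have hdK : d ∈ K := Or.inr fun p _ => rfl
  have huK : u ∈ K := Or.inl fun p hp => hp
  have hiso : Cfsg.IsIsolatedInvolution (⟨d, hdK⟩ : K) := by
    refine ⟨by rw [Subgroup.orderOf_mk, hd2], fun g hg => ?_⟩
    by_contra hne
    set w := (g : G) * d * (g : G)⁻¹
    have hw : IsConj z w := hd.trans (isConj_iff.2 ⟨g, rfl⟩)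
    have hwp : ∀ p : α, u • p = p → w • p = d • p := by
      intro p hp
      rcases g.2 with hg' | hg'
      · rw [mul_smul, mul_smul, inv_smul_eq_iff.2 (hg' p hp).symm, hg' _ ((hpres p).2 hp)]
      · have h1 : (g : G)⁻¹ • p = d • p :=
          inv_smul_eq_iff.2 (by rw [hg' _ ((hpres p).2 hp), smul_smul, hdd, one_smul])
        rw [mul_smul, mul_smul, h1, smul_smul d, hdd, one_smul, hg' p hp]
    have hcd : Commute d w := (congrArg Subtype.val hg.eq : _)
    have hfix : ∀ p : α, u • p = p → (d * w) • p = p := fun p hp => by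
      rw [mul_smul, hwp p hp, smul_smul, hdd, one_smul]
    exact hxy (h.comm d w hd hw hcd (fun e => hne (Subtype.ext e.symm)) x y (hfix x hux) (hfix y huy))
  have h1 := Cfsg.Lib.ZStarApps.zstarProp hiso ⟨u, huK⟩
  have h2 := Cfsg.Lib.ZStarApps.odd_card_pPrimeCore.of_dvd_nat (Subgroup.orderOf_dvd_natCard _ h1)
  rw [← Subgroup.orderOf_coe] at h2
  have e : (d * u * d⁻¹ * u⁻¹ : G) = (d * u) * (d * u) := by
    rw [inv_of_order_two hd2, inv_eq_of_mul_eq_one_right hu]; group
  rw [← e]
  exact h2

/-- such a member centralises `u` if they lie in a common 2-group -/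
theorem commute_of_preserves (h : Crit G α z) {u : G} (hu : u * u = 1) {x y : α} (hxy : x ≠ y)
    (hux : u • x = x) (huy : u • y = y) {d : G} (hd : IsConj z d)
    (hpres : ∀ p : α, u • (d • p) = d • p ↔ u • p = p) {S : Subgroup G} (hS : IsPGroup 2 S)
    (hdS : d ∈ S) (huS : u ∈ S) : Commute d u := by
  haveI : Fact (Nat.Prime 2) := ⟨Nat.prime_two⟩
  have hodd := odd_commutator_of_preserves h hu hxy hux huy hd hpres
  obtain ⟨k, hk⟩ := IsPGroup.iff_orderOf.1 hS ⟨(d * u) * (d * u), mul_mem (mul_mem hdS huS) (mul_mem hdS huS)⟩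
  rw [Subgroup.orderOf_mk] at hk
  have h1 : (d * u) * (d * u) = 1 := by
    rw [← orderOf_eq_one_iff]
    rcases Nat.eq_zero_or_pos k with rfl | hk0
    · rw [hk, pow_zero]
    · rw [hk] at hodd
      exact absurd hodd (Nat.not_odd_iff_even.2 ((Nat.even_pow).2 ⟨even_two, hk0.ne'⟩))
  have hdi : d⁻¹ = d := inv_of_order_two (orderOf_conj h hd)
  have hui : u⁻¹ = u := inv_eq_of_mul_eq_one_right hu
  show d * u = u * d
  calc d * u = (d * u)⁻¹ := eq_inv_of_mul_eq_one_left h1
    _ = u * d := by rw [mul_inv_rev, hdi, hui]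

end Cfsg.Lib.BenderSE.Crit2
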