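/-
Aschbacher's criterion (notes/s1175_h1_audit.md A1): the subgroup of the hypothesis may be taken maximal, so every
non-trivial normal subgroup of it has that subgroup as its normaliser, and the coset action is primitive.
-/
import Cfsg.Agent.InvolCalc.StronglyEmbedded
import Mathlib.GroupTheory.PGroup
import Mathlib.GroupTheory.GroupAction.Primitive

set_option autoImplicit false
set_option linter.unusedSectionVars false
set_option linter.style.haveILetI false

namespace Cfsg.Lib.BenderSE.Crit2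

open Subgroup MulAction

universe u

variable {G : Type u} [Group G] [Finite G] {z : G}

/-- an overgroup of `M` inherits the second hypothesis -/
theorem self_of_le {M K : Subgroup G} (hMK : M ≤ K) (hz : orderOf z = 2) (hzM : z ∈ M)
    (h1 : ∃ S : Sylow 2 G, z ∈ S ∧ ∀ s ∈ S, Commute s z)
    (h2 : ∀ g : G, g * z * g⁻¹ ∈ M → g ∈ M) {g : G} (hg : g * z * g⁻¹ ∈ K) : g ∈ K := by
  haveI : Fact (Nat.Prime 2) := ⟨Nat.prime_two⟩
  obtain ⟨S, -, hS⟩ := h1
  have hSM : (S : Subgroup G) ≤ M := fun s hs => h2 s (by rwa [(hS s hs).eq, mul_inv_cancel_right])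
  have hnd : ¬ 2 ∣ Nat.card (K ⧸ M.subgroupOf K) := fun hd =>
    S.not_dvd_index ((hd.trans (relIndex_dvd_index_of_le hMK)).trans (index_dvd_of_le hSM))
  set w : K := ⟨g * z * g⁻¹, hg⟩ with hw
  have hwp : IsPGroup 2 (zpowers w) := IsPGroup.of_card (n := 1) (by
    rw [Nat.card_zpowers, hw, orderOf_mk, show g * z * g⁻¹ = MulAut.conj g z from rfl, MulEquiv.orderOf_eq, hz, pow_one])
  obtain ⟨x, hx⟩ := hwp.nonempty_fixed_point_of_prime_not_dvd_card (K ⧸ M.subgroupOf K) hnd
  obtain ⟨k, rfl⟩ := QuotientGroup.mk_surjective x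
  have h : (k⁻¹ * w * k : K) ∈ M.subgroupOf K := by
    have h' : w • (QuotientGroup.mk k : K ⧸ M.subgroupOf K) = QuotientGroup.mk k := hx ⟨w, mem_zpowers w⟩
    rw [MulAction.Quotient.smul_mk, eq_comm, QuotientGroup.eq] at h'
    simpa [mul_assoc] using h'
  rw [mem_subgroupOf] at h
  have h3 : (k : G)⁻¹ * g ∈ M := h2 _ (by
    push_cast at h
    rwa [show (k : G)⁻¹ * g * z * ((k : G)⁻¹ * g)⁻¹ = (k : G)⁻¹ * (g * z * g⁻¹) * k by group])
  simpa using mul_mem k.2 (hMK h3)

/-- the subgroup of the criterion may be taken maximal -/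
theorem exists_maximal (M : Subgroup G) (hM : M ≠ ⊤) (hz : orderOf z = 2) (hzM : z ∈ M)
    (h1 : ∃ S : Sylow 2 G, z ∈ S ∧ ∀ s ∈ S, Commute s z)
    (h2 : ∀ g : G, g * z * g⁻¹ ∈ M → g ∈ M)
    (h3 : ∀ g : G, Commute z (g * z * g⁻¹) → g * z * g⁻¹ ≠ z →
      centralizer ({z * (g * z * g⁻¹)} : Set G) ≤ M) :
    ∃ K : Subgroup G, IsCoatom K ∧ M ≤ K ∧ z ∈ K ∧ (∀ g : G, g * z * g⁻¹ ∈ K → g ∈ K) ∧
      ∀ g : G, Commute z (g * z * g⁻¹) → g * z * g⁻¹ ≠ z → centralizer ({z * (g * z * g⁻¹)} : Set G) ≤ K := by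
  obtain ⟨K, hMK, hK⟩ := Finite.exists_le_maximal (p := fun K : Subgroup G => K ≠ ⊤) (a := M) hM
  refine ⟨K, ⟨hK.1, fun L hL => ?_⟩, hMK, hMK hzM, fun g hg => self_of_le hMK hz hzM h1 h2 hg,
    fun g ha hb => (h3 g ha hb).trans hMK⟩
  by_contra hLt
  exact hL.not_ge (hK.2 hLt hL.le)

/-- a maximal subgroup of a simple group is the normaliser of each of its non-trivial normal subgroups -/
theorem normalizer_eq_of_coatom [IsSimpleGroup G] {M N : Subgroup G} (hM : IsCoatom M) (hNM : N ≤ M)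
    (hn : M ≤ normalizer (N : Set G)) (hN : N ≠ ⊥) : normalizer (N : Set G) = M := by
  rcases hn.lt_or_eq with h | h
  · exfalso
    haveI : N.Normal := normalizer_eq_top_iff.1 (hM.2 _ h)
    rcases IsSimpleGroup.eq_bot_or_eq_top_of_normal N inferInstance with e | e
    · exact hN e
    · exact hM.1 (top_le_iff.1 (e ▸ hNM))
  · exact h.symm

/-- a subgroup normalised by a maximal subgroup and by an element outside it is trivial or everything -/
theorem eq_bot_or_top_of_normalised [IsSimpleGroup G] {M N : Subgroup G} (hM : IsCoatom M)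
    (hn : M ≤ normalizer (N : Set G)) {g : G} (hg : g ∉ M) (hgN : g ∈ normalizer (N : Set G)) : N = ⊥ ∨ N = ⊤ := by
  have h : M < normalizer (N : Set G) := lt_of_le_of_ne hn fun e => hg (e ▸ hgN)
  exact IsSimpleGroup.eq_bot_or_eq_top_of_normal N (normalizer_eq_top_iff.1 (hM.2 _ h))

end Cfsg.Lib.BenderSE.Crit2
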