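/-
Pairings of the natural module of a torus (notes/s1175_h6_final.md, pairing lemma): on a finite field
`F` of characteristic two, seen as the module of its multiplicative group, an invariant biadditive map
into a trivial module is zero if `|F| ≥ 8`, an equivariant alternating one into `F` is zero, and so is
an invariant additive map into a trivial module if `|F| ≥ 4`.
-/
import Mathlib

set_option autoImplicit false
set_option linter.style.haveILetI false
set_option linter.unusedSectionVars false

namespace Cfsg.Lib.BenderSE.Crit2.Pairing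

universe u v

variable {F : Type u} [Field F] [Fintype F] {W : Type v} [AddCommGroup W]

/-- an element away from `0`, `1` and the roots of `x² + x + 1` -/
theorem exists_generic (h2 : (2 : F) = 0) (hcard : 4 < Fintype.card F) :
    ∃ s : F, s ≠ 0 ∧ s ≠ 1 ∧ 1 + s + s⁻¹ ≠ 0 := by
  classical
  by_contra h
  push Not at h
  have hroot : ∀ s : F, s ≠ 0 → s ≠ 1 → s * s + s + 1 = 0 := fun s h0 h1 => by
    have := congrArg (fun x => s * x) (h s h0 h1)
    simp only [mul_add, mul_one, mul_inv_cancel₀ h0, mul_zero] at this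
    linear_combination this
  have hsub : (Finset.univ : Finset F) ⊆ {0, 1} ∪ (Finset.univ.filter fun s => s * s + s + 1 = 0) := by
    intro s _
    by_cases h0 : s = 0
    · simp [h0]
    by_cases h1 : s = 1
    · simp [h1]
    exact Finset.mem_union_right _ (Finset.mem_filter.2 ⟨Finset.mem_univ _, hroot s h0 h1⟩)
  have hle : (Finset.univ.filter fun s : F => s * s + s + 1 = 0).card ≤ 2 := by
    by_cases he : (Finset.univ.filter fun s : F => s * s + s + 1 = 0) = ∅
    · simp [he]
    obtain ⟨r, hr⟩ := Finset.nonempty_iff_ne_empty.2 he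
    refine (Finset.card_le_card (fun s hs => ?_ : _ ⊆ ({r, r + 1} : Finset F))).trans Finset.card_le_two
    rw [Finset.mem_filter] at hr hs
    have h3 : (s - r) * (s - (r + 1)) = 0 := by linear_combination hs.2 - hr.2 + (r * r - r * s + r - s) * h2
    rcases mul_eq_zero.1 h3 with e | e
    · simp [sub_eq_zero.1 e]
    · simp [sub_eq_zero.1 e]
  have := Finset.card_le_card hsub
  have h4 := (this.trans (Finset.card_union_le _ _)).trans (add_le_add Finset.card_le_two hle)
  rw [Finset.card_univ] at h4
  omega

/-- L1: no invariant pairing into a trivial module once `|F| ≥ 8` -/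
theorem biadd_eq_zero (h2 : (2 : F) = 0) (hcard : 4 < Fintype.card F) (b : F →+ F →+ W)
    (hinv : ∀ c : F, c ≠ 0 → ∀ x y : F, b (c * x) (c * y) = b x y) : b = 0 := by
  obtain ⟨s, hs0, hs1, hs⟩ := exists_generic h2 hcard
  have hs' : 1 + s ≠ 0 := fun h => hs1 (by linear_combination h - h2)
  have key : ∀ c : F, b 1 ((1 + s + s⁻¹) * c) = 0 := fun c => by
    have h := hinv _ hs' 1 c
    have e1 : b (1 + s) ((1 + s) * c) = b 1 c + b 1 (s * c) + (b s c + b s (s * c)) := by
      rw [map_add, AddMonoidHom.add_apply, add_mul, one_mul, map_add, map_add]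
    have e2 : b s c = b 1 (s⁻¹ * c) := by
      have := hinv s hs0 1 (s⁻¹ * c)
      rwa [mul_one, ← mul_assoc, mul_inv_cancel₀ hs0, one_mul] at this
    have e3 : b s (s * c) = b 1 c := by simpa using hinv s hs0 1 c
    rw [mul_one, e1, e2, e3] at h
    rw [add_mul, add_mul, one_mul, map_add, map_add]
    calc b 1 c + b 1 (s * c) + b 1 (s⁻¹ * c)
        = (b 1 c + b 1 (s * c) + (b 1 (s⁻¹ * c) + b 1 c)) - b 1 c := by abel
      _ = 0 := by rw [h, sub_self]
  have h1 : ∀ c : F, b 1 c = 0 := fun c => by
    have := key ((1 + s + s⁻¹)⁻¹ * c)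
    rwa [← mul_assoc, mul_inv_cancel₀ hs, one_mul] at this
  refine AddMonoidHom.ext fun x => AddMonoidHom.ext fun y => ?_
  by_cases hx : x = 0
  · simp [hx]
  · have := hinv x hx 1 (x⁻¹ * y)
    rw [mul_one, ← mul_assoc, mul_inv_cancel₀ hx, one_mul, h1] at this
    simpa using this

/-- L2: no equivariant alternating product on the natural module -/
theorem alternating_eq_zero (h2 : (2 : F) = 0) (b : F →+ F →+ F) (halt : ∀ x : F, b x x = 0)
    (hinv : ∀ c : F, c ≠ 0 → ∀ x y : F, b (c * x) (c * y) = c * b x y) : b = 0 := by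
  have hsq : ∀ s : F, b 1 (s * s) = 0 := fun s => by
    by_cases hs0 : s = 0
    · simp [hs0]
    by_cases hs1 : s = 1
    · simp [hs1, halt]
    have hs' : 1 + s ≠ 0 := fun h => hs1 (by linear_combination h - h2)
    have h := hinv _ hs' 1 s
    have e1 : b (1 + s) ((1 + s) * s) = b 1 s + b 1 (s * s) + (b s s + b s (s * s)) := by
      rw [map_add, AddMonoidHom.add_apply, add_mul, one_mul, map_add, map_add]
    have e3 : b s (s * s) = s * b 1 s := by simpa using hinv s hs0 1 s
    rw [mul_one, e1, e3, halt, zero_add] at h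
    linear_combination h
  haveI : CharP F 2 := CharTwo.of_one_ne_zero_of_two_eq_zero one_ne_zero h2
  have h1 : ∀ c : F, b 1 c = 0 := fun c => by
    obtain ⟨s, rfl⟩ := (frobeniusEquiv F 2).surjective c
    rw [frobeniusEquiv_apply, frobenius_def, sq]
    exact hsq s
  refine AddMonoidHom.ext fun x => AddMonoidHom.ext fun y => ?_
  by_cases hx : x = 0
  · simp [hx]
  · have := hinv x hx 1 (x⁻¹ * y)
    rw [mul_one, ← mul_assoc, mul_inv_cancel₀ hx, one_mul, h1, mul_zero] at this
    simpa using this

/-- L3: no invariant additive map into a trivial module once `|F| ≥ 4` -/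
theorem add_eq_zero (h2 : (2 : F) = 0) (hcard : 2 < Fintype.card F) (f : F →+ W)
    (hinv : ∀ c : F, c ≠ 0 → ∀ x : F, f (c * x) = f x) : f = 0 := by
  classical
  obtain ⟨s, hs⟩ : ∃ s : F, s ∉ ({0, 1} : Finset F) := by
    by_contra h
    push Not at h
    have h4 := (Finset.card_le_card (fun s _ => h s : (Finset.univ : Finset F) ⊆ {0, 1})).trans Finset.card_le_two
    rw [Finset.card_univ] at h4
    omega
  simp only [Finset.mem_insert, Finset.mem_singleton, not_or] at hs
  have hs' : 1 + s ≠ 0 := fun h => hs.2 (by linear_combination h - h2)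
  refine AddMonoidHom.ext fun x => ?_
  have h := hinv _ hs' x
  rw [add_mul, one_mul, map_add, hinv s hs.1] at h
  simpa using h

end Cfsg.Lib.BenderSE.Crit2.Pairing
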