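/-
The module lemma for lines of Suzuki and unitary type: on a module of exponent two let `x` have odd order and
one non-zero fixed vector `u₀`; an odd group normalised by `x` and preserving a biadditive map either fixes
`u₀` or makes the orbit of `u₀` isotropic.  (The orbit spans a finite field on which `x` is a field
automorphism with prime fixed field, so of odd order, while invariance needs the automorphism `k ↦ k⁻¹`.)
-/
import Mathlib
import Cfsg.Agent.OddChar.PF.OddOrder

set_option autoImplicit false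
set_option linter.style.haveILetI false
set_option linter.unusedSectionVars false

namespace Cfsg.Lib.BenderSE.Crit2.RootModule

universe u v w

section Ring

theorem card_lt_of_not_surj {a : Type u} {b : Type v} [Finite b] (f : a → b) (hf : Function.Injective f)
    (h : ¬ Function.Surjective f) : Nat.card a < Nat.card b := by
  haveI := Finite.of_injective f hf
  refine lt_of_le_of_ne (Nat.card_le_card_of_injective f hf) fun e => h ?_
  exact ((Nat.bijective_iff_injective_and_card f).2 ⟨hf, e⟩).2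

/-- in characteristic two, a ring of finite order with `r ^ 2 ^ m = r` and an automorphism `σ` of odd prime order
fixing only `0` and `1` is a field with `σ` generating a Galois group of odd order, or all units are trivial -/
theorem auto_eq_one {R : Type u} [CommRing R] [Finite R] [Nontrivial R] [CharP R 2] {m : ℕ} (hm : 1 ≤ m)
    (hpow : ∀ r : R, r ^ 2 ^ m = r) (σ : R ≃+* R) {ℓ : ℕ} (hℓp : ℓ.Prime) (hℓ : Odd ℓ) (hσ : σ ^ ℓ = 1)
    (hfix : ∀ r : R, σ r = r → r = 0 ∨ r = 1) :
    (∀ k : R, IsUnit k → k = 1) ∨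
      (IsField R ∧ ∀ τ : R ≃+* R, (∀ r, τ (τ r) = r) → ∀ r, τ r = r) := by
  classical
  haveI := Fintype.ofFinite R
  by_cases hF : IsField R
  · right
    refine ⟨hF, fun τ hτ r => ?_⟩
    letI : Field R := hF.toField
    letI : Algebra (ZMod 2) R := ZMod.algebra R 2
    let toA : (R ≃+* R) → (R ≃ₐ[ZMod 2] R) := fun e => AlgEquiv.ofRingEquiv (f := e) fun c => by
      have : (algebraMap (ZMod 2) R) = e.toRingHom.comp (algebraMap (ZMod 2) R) := Subsingleton.elim _ _
      exact (RingHom.congr_fun this c).symm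
    set s := toA σ with hs
    haveI : FiniteDimensional (ZMod 2) R := Module.Finite.of_finite
    have hspow : ∀ (n : ℕ) (y : R), (s ^ n) y = (σ ^ n) y := by
      intro n
      induction n with
      | zero => intro y; rfl
      | succ n ih => intro y; rw [pow_succ, pow_succ]; exact ih (σ y)
    have hsord : orderOf s ∣ ℓ := orderOf_dvd_of_pow_eq_one (AlgEquiv.ext fun y => by
      rw [hspow, hσ]; rfl)
    have hbot : IntermediateField.fixedField (Subgroup.zpowers s) = ⊥ := by
      refine eq_bot_iff.2 fun y hy => ?_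
      have h1 : σ y = y := hy ⟨s, Subgroup.mem_zpowers s⟩
      rcases hfix y h1 with rfl | rfl
      · exact zero_mem _
      · exact one_mem _
    have hcard : Module.finrank (ZMod 2) R = orderOf s := by
      rw [← Nat.card_zpowers, ← IntermediateField.finrank_fixedField_eq_card (Subgroup.zpowers s), hbot,
        IntermediateField.finrank_bot']
    have hgal : Nat.card (R ≃ₐ[ZMod 2] R) = orderOf s := by
      rw [IsGalois.card_aut_eq_finrank, hcard]
    have hodd : Odd (orderOf (toA τ)) :=
      (hℓ.of_dvd_nat (dvd_trans (hgal ▸ orderOf_dvd_natCard (toA τ)) hsord))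
    have h2 : orderOf (toA τ) ∣ 2 := orderOf_dvd_of_pow_eq_one (AlgEquiv.ext fun y => by
      rw [pow_two]; exact hτ y)
    have h1 : orderOf (toA τ) = 1 := by
      rcases (Nat.dvd_prime Nat.prime_two).1 h2 with h | h
      · exact h
      · rw [h] at hodd; exact absurd hodd (by decide)
    exact AlgEquiv.congr_fun (orderOf_eq_one_iff.1 h1) r
  left
  -- a primitive idempotent
  have hN : 1 ≤ 2 ^ m - 1 := by have := Nat.le_self_pow (n := m) (by omega) 2; omega
  obtain ⟨r₀, hr₀, hnu⟩ : ∃ r : R, r ≠ 0 ∧ ¬ IsUnit r := by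
    by_contra h
    push Not at h
    exact hF ⟨exists_pair_ne R, mul_comm, fun {r} hr => ⟨((h r hr).unit⁻¹ : Rˣ), (h r hr).mul_val_inv⟩⟩
  have hidem : ∀ r : R, r ^ (2 ^ m - 1) * r = r ∧ IsIdempotentElem (r ^ (2 ^ m - 1)) := fun r => by
    have h1 : r ^ (2 ^ m - 1) * r = r := by
      rw [← pow_succ, show 2 ^ m - 1 + 1 = 2 ^ m by omega]; exact hpow r
    refine ⟨h1, ?_⟩
    unfold IsIdempotentElem
    calc r ^ (2 ^ m - 1) * r ^ (2 ^ m - 1) = r ^ (2 ^ m - 1) * r * r ^ (2 ^ m - 1 - 1) := by
          rw [mul_assoc, ← pow_succ', show 2 ^ m - 1 - 1 + 1 = 2 ^ m - 1 by omega]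
      _ = r * r ^ (2 ^ m - 1 - 1) := by rw [h1]
      _ = r ^ (2 ^ m - 1) := by rw [← pow_succ', show 2 ^ m - 1 - 1 + 1 = 2 ^ m - 1 by omega]
  -- choose a nonzero idempotent with the fewest multiples
  obtain ⟨e, ⟨he, he0⟩, hmin⟩ := Set.exists_min_image {e : R | IsIdempotentElem e ∧ e ≠ 0}
    (fun e => Nat.card {r : R // r * e = r}) (Set.toFinite _) ⟨1, IsIdempotentElem.one, one_ne_zero⟩
  have hprim : ∀ f : R, IsIdempotentElem f → e * f = 0 ∨ e * f = e := by
    intro f hf
    by_contra h
    push Not at h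
    obtain ⟨h0, hne⟩ := h
    have hef : IsIdempotentElem (e * f) := IsIdempotentElem.mul he hf
    refine absurd (hmin (e * f) ⟨hef, h0⟩) (not_le.2 ?_)
    refine card_lt_of_not_surj
      (fun r : {r : R // r * (e * f) = r} => (⟨r.1, by
        calc r.1 * e = r.1 * (e * f) * e := by rw [r.2]
          _ = r.1 * (e * e * f) := by ring
          _ = r.1 := by rw [he, r.2]⟩ : {r : R // r * e = r}))
      (fun a b hab => Subtype.ext (congrArg Subtype.val hab :)) fun hsurj => hne ?_
    obtain ⟨⟨r, hr⟩, hre⟩ := hsurj ⟨e, he⟩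
    obtain rfl : r = e := congrArg Subtype.val hre
    rwa [← mul_assoc, he] at hr
  -- the translates
  have hσi : ∀ i : ℕ, IsIdempotentElem ((σ ^ i) e) := fun i => by
    show (σ ^ i) e * (σ ^ i) e = (σ ^ i) e
    rw [← map_mul, he]
  have hσe : σ e ≠ e := by
    intro h
    rcases hfix e h with h1 | h1
    · exact he0 h1
    refine hnu ?_
    rcases hprim _ (hidem r₀).2 with h2 | h2 <;> rw [h1, one_mul] at h2
    · exact absurd (by rw [← (hidem r₀).1, h2, zero_mul] : r₀ = 0) hr₀
    · rw [← Nat.sub_add_cancel hN, pow_succ] at h2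
      exact IsUnit.of_mul_eq_one_right _ h2
  have hpers : ∀ i : ℕ, ¬ ℓ ∣ i → (σ ^ i) e ≠ e := by
    intro i hi h
    obtain ⟨n, hn⟩ : ∃ n, i * n % ℓ = 1 % ℓ :=
      Nat.exists_mul_mod_eq_of_coprime 1 (Nat.Coprime.symm ((hℓp.coprime_iff_not_dvd).2 hi)) hℓp.ne_zero |>.imp
        fun _ hx => hx.2
    have hfixn : ∀ j : ℕ, (σ ^ (i * j)) e = e := by
      intro j
      induction j with
      | zero => rfl
      | succ j ih => rw [mul_add, mul_one, pow_add, RingAut.mul_apply, h, ih]
    have h1 : σ ^ (i * n) = σ := by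
      rw [← Nat.div_add_mod (i * n) ℓ, pow_add, pow_mul, hσ, one_pow, one_mul, hn,
        Nat.mod_eq_of_lt hℓp.one_lt, pow_one]
    exact hσe (h1 ▸ hfixn n)
  have horth : ∀ i, ¬ ℓ ∣ i → e * (σ ^ i) e = 0 := by
    intro i hi
    rcases hprim _ (hσi i) with h | h
    · exact h
    exfalso
    -- `e ≤ σ ^ i e`, and both have equally many multiples
    let f : {r : R // r * e = r} → {r : R // r * (σ ^ i) e = r} := fun r => ⟨r.1, by
      calc r.1 * (σ ^ i) e = r.1 * e * (σ ^ i) e := by rw [r.2]
        _ = r.1 * (e * (σ ^ i) e) := mul_assoc _ _ _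
        _ = r.1 := by rw [h, r.2]⟩
    let g : {r : R // r * e = r} ≃ {r : R // r * (σ ^ i) e = r} :=
      { toFun := fun r => ⟨(σ ^ i) r.1, by rw [← map_mul, r.2]⟩
        invFun := fun r => ⟨(σ ^ i).symm r.1, (σ ^ i).injective (by
          rw [map_mul, RingEquiv.apply_symm_apply, r.2])⟩
        left_inv := fun r => Subtype.ext (RingEquiv.symm_apply_apply _ _)
        right_inv := fun r => Subtype.ext (RingEquiv.apply_symm_apply _ _) }
    have hf : Function.Bijective f := (Fintype.bijective_iff_injective_and_card f).2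
      ⟨fun a b hab => Subtype.ext (congrArg Subtype.val hab :), Fintype.card_congr g⟩
    obtain ⟨⟨r, hr⟩, hre⟩ := hf.2 ⟨(σ ^ i) e, hσi i⟩
    obtain rfl : r = (σ ^ i) e := congrArg Subtype.val hre
    rw [mul_comm, h] at hr
    exact hpers i hi hr.symm
  have hsumfix : ∀ t : R, σ (∑ i ∈ Finset.range ℓ, (σ ^ i) t) = ∑ i ∈ Finset.range ℓ, (σ ^ i) t := by
    intro t
    have hp : (σ ^ ℓ) t = t := by rw [hσ]; rfl
    rw [map_sum]
    have h0 : ∀ i, σ ((σ ^ i) t) = (σ ^ (i + 1)) t := fun i => by rw [pow_succ']; rfl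
    rw [Finset.sum_congr rfl fun i _ => h0 i]
    have h1 := Finset.sum_range_succ' (fun i => (σ ^ i) t) ℓ
    rw [Finset.sum_range_succ, hp] at h1
    exact (add_right_cancel h1).symm
  have hproj : ∀ t : R, e * ∑ i ∈ Finset.range ℓ, (σ ^ i) (e * t) = e * t := by
    intro t
    rw [Finset.mul_sum, Finset.sum_eq_single 0]
    · show e * (e * t) = e * t
      rw [← mul_assoc, he]
    · intro i hi hi0
      rw [map_mul, ← mul_assoc, horth i (fun hd => hi0 (Nat.eq_zero_of_dvd_of_lt hd (Finset.mem_range.1 hi))),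
        zero_mul]
    · exact fun h => absurd (Finset.mem_range.2 hℓp.pos) h
  have hsmall : ∀ t : R, e * t = 0 ∨ e * t = e := by
    intro t
    rcases hfix _ (hsumfix (e * t)) with h | h
    · exact Or.inl (by rw [← hproj t, h, mul_zero])
    · exact Or.inr (by rw [← hproj t, h, mul_one])
  have hone : ∑ i ∈ Finset.range ℓ, (σ ^ i) e = 1 := by
    rcases hfix _ (hsumfix e) with h | h
    · have := hproj 1
      rw [mul_one, h, mul_zero] at this
      exact absurd this.symm he0
    · exact h
  intro k hk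
  have hek : ∀ k : R, IsUnit k → e * k = e := fun k hk => by
    rcases hsmall k with h | h
    · exact absurd ((hk.mul_left_eq_zero).1 h) he0
    · exact h
  rw [← mul_one k, ← hone, Finset.mul_sum]
  refine Finset.sum_congr rfl fun i _ => ?_
  have h1 := congrArg (σ ^ i) (hek _ (hk.map (σ ^ i).symm.toRingHom.toMonoidHom))
  rw [map_mul] at h1
  simpa [mul_comm] using h1

end Ring


section Module

variable {L : Type u} [Group L] [Finite L] {V : Type v} [AddCommGroup V] [Finite V] [DistribMulAction L V]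
  {W : Type w} [AddCommGroup W]

/-- the commutative case: the orbit of `u₀` generates `V` -/
theorem fixed_of_commutative (h2 : ∀ v : V, v + v = 0) (K : Subgroup L) (hK : Odd (Nat.card K)) {x : L}
    (hnorm : x ∈ Subgroup.normalizer (K : Set L)) {ℓ : ℕ} (hℓp : ℓ.Prime) (hℓ : Odd ℓ)
    (hxℓ : ∀ v : V, x ^ ℓ • v = v) {u₀ : V} (hfix : ∀ v : V, x • v = v → v = 0 ∨ v = u₀)
    (hxu : x • u₀ = u₀) (hcomm : ∀ k ∈ K, ∀ k' ∈ K, ∀ v : V, k • k' • v = k' • k • v)
    (hgen : AddSubgroup.closure {v : V | ∃ k ∈ K, k • u₀ = v} = ⊤)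
    (β : V →+ V →+ W) (hinv : ∀ k ∈ K, ∀ v v' : V, β (k • v) (k • v') = β v v')
    (hperp : ∀ k ∈ K, β u₀ (k • u₀) = 0 → k • u₀ = u₀) : ∀ k ∈ K, k • u₀ = u₀ := by
  classical
  intro k₀ hk₀
  by_contra hmove
  have hu0 : u₀ ≠ 0 := fun h => hmove (by rw [h, smul_zero])
  set act : L →* AddMonoid.End V := DistribMulAction.toAddMonoidEnd L V with hact
  have act_apply : ∀ (g : L) (v : V), act g v = g • v := fun g v => rfl
  set S : Set (AddMonoid.End V) := act '' (K : Set L) with hS
  have hScomm : ∀ f ∈ S, ∀ f' ∈ S, f * f' = f' * f := by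
    rintro _ ⟨k, hk, rfl⟩ _ ⟨k', hk', rfl⟩
    exact AddMonoidHom.ext fun v => hcomm k hk k' hk' v
  set R : Subring (AddMonoid.End V) := Subring.closure S with hR
  letI : CommRing R := Subring.closureCommRingOfComm hScomm
  have hmem : ∀ k ∈ K, act k ∈ R := fun k hk => Subring.subset_closure ⟨k, hk, rfl⟩
  haveI : Nontrivial R := ⟨⟨0, 1, fun h => hu0 (by
    have := congrArg (fun r : R => (r : AddMonoid.End V) u₀) h
    exact this.symm)⟩⟩
  haveI : CharP R 2 := CharTwo.of_one_ne_zero_of_two_eq_zero one_ne_zero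
    (Subtype.ext (AddMonoidHom.ext fun v => by
      show ((2 : R) : AddMonoid.End V) v = 0
      rw [show (2 : R) = 1 + 1 from one_add_one_eq_two.symm]
      exact h2 v))
  haveI : Finite (AddMonoid.End V) := Finite.of_injective (fun f : AddMonoid.End V => (f : V → V))
    fun a b h => AddMonoidHom.ext (congrFun h)
  haveI : Finite R := Finite.of_injective (fun r : R => (r : AddMonoid.End V)) Subtype.coe_injective
  -- every element is a root of `T ^ (2 ^ m) - T`
  set N := Nat.card K with hN
  set m := N.totient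
  have hm : 1 ≤ m := Nat.totient_pos.2 hK.pos
  have hkpow : ∀ k ∈ K, k ^ 2 ^ m = k := fun k hk => by
    have hmod : 2 ^ m ≡ 1 [MOD N] := Nat.ModEq.pow_totient (Nat.coprime_two_left.2 hK)
    have hd : orderOf k ∣ N := K.orderOf_dvd_natCard hk
    conv_rhs => rw [← pow_one k]
    exact pow_eq_pow_iff_modEq.2 (hmod.of_dvd hd)
  have hpow : ∀ r : R, r ^ 2 ^ m = r := by
    rintro ⟨r, hr⟩
    induction hr using Subring.closure_induction with
    | mem f hf =>
      obtain ⟨k, hk, rfl⟩ := hf
      exact Subtype.ext (by rw [Subring.coe_pow, ← map_pow, hkpow k hk])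
    | zero => exact zero_pow (pow_ne_zero _ two_ne_zero)
    | one => exact one_pow _
    | add a b ha hb iha ihb =>
      have := add_pow_char_pow (p := 2) (n := m) (⟨a, ha⟩ : R) ⟨b, hb⟩
      rw [iha, ihb] at this
      exact this
    | neg a ha iha =>
      have : (⟨-a, neg_mem ha⟩ : R) = ⟨a, ha⟩ := Subtype.ext (AddMonoidHom.ext fun v =>
        (eq_neg_of_add_eq_zero_left (h2 (a v))).symm)
      rw [this, iha]
    | mul a b ha hb iha ihb =>
      have := mul_pow (⟨a, ha⟩ : R) ⟨b, hb⟩ (2 ^ m)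
      rw [iha, ihb] at this
      exact this
  -- conjugation by `x`
  have hxR : ∀ f ∈ R, act x * f * act x⁻¹ ∈ R := by
    intro f hf
    induction hf using Subring.closure_induction with
    | mem f hf =>
      obtain ⟨k, hk, rfl⟩ := hf
      rw [← map_mul, ← map_mul]
      exact hmem _ ((Subgroup.mem_normalizer_iff.1 hnorm k).1 hk)
    | zero => simp
    | one => rw [mul_one, ← map_mul, mul_inv_cancel, map_one]; exact one_mem _
    | add a b ha hb iha ihb => rw [mul_add, add_mul]; exact add_mem iha ihb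
    | neg a ha iha => rw [mul_neg, neg_mul]; exact neg_mem iha
    | mul a b ha hb iha ihb =>
      have e : act x * (a * b) * act x⁻¹ = act x * a * act x⁻¹ * (act x * b * act x⁻¹) := by
        calc act x * (a * b) * act x⁻¹ = act x * a * (act x⁻¹ * act x) * (b * act x⁻¹) := by
              rw [← map_mul, inv_mul_cancel, map_one, mul_one]; simp only [mul_assoc]
          _ = _ := by simp only [mul_assoc]
      rw [e]
      exact mul_mem iha ihb
  let σf : R →+* R :=
    { toFun := fun f => ⟨act x * f * act x⁻¹, hxR f f.2⟩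
      map_one' := Subtype.ext (by
        show act x * 1 * act x⁻¹ = 1
        rw [mul_one, ← map_mul, mul_inv_cancel, map_one])
      map_mul' := fun a b => Subtype.ext (by
        show act x * ((a : AddMonoid.End V) * b) * act x⁻¹ = act x * a * act x⁻¹ * (act x * b * act x⁻¹)
        symm
        calc act x * (a : AddMonoid.End V) * act x⁻¹ * (act x * b * act x⁻¹)
            = act x * a * (act x⁻¹ * act x) * (b * act x⁻¹) := by simp only [mul_assoc]
          _ = _ := by rw [← map_mul, inv_mul_cancel, map_one, mul_one]; simp only [mul_assoc])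
      map_zero' := Subtype.ext (by
        show act x * 0 * act x⁻¹ = 0
        rw [mul_zero, zero_mul])
      map_add' := fun a b => Subtype.ext (by
        show act x * ((a : AddMonoid.End V) + b) * act x⁻¹ = act x * a * act x⁻¹ + act x * b * act x⁻¹
        rw [mul_add, add_mul]) }
  have σf_inj : Function.Injective σf := fun a b h => by
    have h' : act x * (a : AddMonoid.End V) * act x⁻¹ = act x * b * act x⁻¹ := congrArg Subtype.val h
    refine Subtype.ext (AddMonoidHom.ext fun v => ?_)
    have h'' := congrArg (fun f : AddMonoid.End V => f (x • v)) h'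
    have e : ∀ c : AddMonoid.End V, (act x * c * act x⁻¹) (x • v) = x • c v := fun c => by
      show x • c (x⁻¹ • x • v) = x • c v
      rw [inv_smul_smul]
    exact MulAction.injective x ((e a).symm.trans (h''.trans (e b)))
  let σ : R ≃+* R := RingEquiv.ofBijective σf (Finite.injective_iff_bijective.1 σf_inj)
  have hσap : ∀ (r : R) (v : V), (σ r : AddMonoid.End V) v = x • (r : AddMonoid.End V) (x⁻¹ • v) :=
    fun r v => rfl
  have hσpow : ∀ (n : ℕ) (r : R) (v : V),
      ((σ ^ n) r : AddMonoid.End V) v = x ^ n • (r : AddMonoid.End V) ((x ^ n)⁻¹ • v) := by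
    intro n
    induction n with
    | zero => intro r v; simp
    | succ n ih =>
      intro r v
      rw [pow_succ', RingAut.mul_apply, hσap, ih, pow_succ', mul_inv_rev, mul_smul x, mul_smul]
  have hσℓ : σ ^ ℓ = 1 := RingEquiv.ext fun r => Subtype.ext (AddMonoidHom.ext fun v => by
    show ((σ ^ ℓ) r : AddMonoid.End V) v = (r : AddMonoid.End V) v
    rw [hσpow, hxℓ, show (x ^ ℓ)⁻¹ • v = v from inv_smul_eq_iff.2 (hxℓ v).symm])
  -- the orbit map is injective
  have hcommR : ∀ (r : R) (k : L), k ∈ K → ∀ v : V, (r : AddMonoid.End V) (k • v) = k • (r : AddMonoid.End V) v :=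
    fun r k hk v => by
      have h := congrArg (fun f : R => (f : AddMonoid.End V) v) (mul_comm r ⟨act k, hmem k hk⟩)
      exact h
  have hev : ∀ r r' : R, (r : AddMonoid.End V) u₀ = (r' : AddMonoid.End V) u₀ → r = r' := by
    intro r r' h
    suffices H : ∀ v : V, (r : AddMonoid.End V) v = (r' : AddMonoid.End V) v from Subtype.ext (AddMonoidHom.ext H)
    intro v
    have hv : v ∈ AddSubgroup.closure {v : V | ∃ k ∈ K, k • u₀ = v} := by rw [hgen]; trivial
    induction hv using AddSubgroup.closure_induction with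
    | mem w hw => obtain ⟨k, hk, rfl⟩ := hw; rw [hcommR r k hk, hcommR r' k hk, h]
    | zero => rw [map_zero, map_zero]
    | add a b _ _ iha ihb => rw [map_add, map_add, iha, ihb]
    | neg a _ iha => rw [map_neg, map_neg, iha]
  have hfixσ : ∀ r : R, σ r = r → r = 0 ∨ r = 1 := by
    intro r hr
    have h1 := hσap r u₀
    rw [hr, show x⁻¹ • u₀ = u₀ from inv_smul_eq_iff.2 hxu.symm] at h1
    rcases hfix _ h1.symm with h | h
    · exact Or.inl (hev r 0 h)
    · exact Or.inr (hev r 1 h)
  rcases auto_eq_one hm hpow σ hℓp hℓ hσℓ hfixσ with hunit | ⟨hF, hinvol⟩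
  · apply hmove
    have hu : IsUnit (⟨act k₀, hmem k₀ hk₀⟩ : R) := IsUnit.of_mul_eq_one (⟨act k₀⁻¹, hmem _ (inv_mem hk₀)⟩ : R)
      (Subtype.ext (by
        show act k₀ * act k₀⁻¹ = 1
        rw [← map_mul, mul_inv_cancel, map_one]))
    have h := congrArg (fun r : R => (r : AddMonoid.End V) u₀) (hunit _ hu)
    exact h
  -- the adjoint
  have hne : β u₀ (k₀ • u₀) ≠ 0 := fun h => hmove (hperp k₀ hk₀ h)
  have hadj : ∀ r : R, ∃ r' : R,
      ∀ v v' : V, β ((r : AddMonoid.End V) v) v' = β v ((r' : AddMonoid.End V) v') := by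
    rintro ⟨r, hr⟩
    induction hr using Subring.closure_induction with
    | mem f hf =>
      obtain ⟨k, hk, rfl⟩ := hf
      refine ⟨⟨act k⁻¹, hmem _ (inv_mem hk)⟩, fun v v' => ?_⟩
      show β (k • v) v' = β v (k⁻¹ • v')
      rw [← hinv k hk v (k⁻¹ • v'), smul_inv_smul]
    | zero => exact ⟨0, fun v v' => by simp⟩
    | one => exact ⟨1, fun v v' => rfl⟩
    | add a b ha hb iha ihb =>
      obtain ⟨a', ha'⟩ := iha
      obtain ⟨b', hb'⟩ := ihb
      refine ⟨a' + b', fun v v' => ?_⟩
      show β (a v + b v) v' = β v ((a' : AddMonoid.End V) v' + (b' : AddMonoid.End V) v')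
      rw [map_add, AddMonoidHom.add_apply, map_add]
      exact congrArg₂ (· + ·) (ha' v v') (hb' v v')
    | neg a ha iha =>
      obtain ⟨a', ha'⟩ := iha
      refine ⟨-a', fun v v' => ?_⟩
      show β (-(a v)) v' = β v (-((a' : AddMonoid.End V) v'))
      rw [map_neg, AddMonoidHom.neg_apply, map_neg]
      exact congrArg Neg.neg (ha' v v')
    | mul a b ha hb iha ihb =>
      obtain ⟨a', ha'⟩ := iha
      obtain ⟨b', hb'⟩ := ihb
      refine ⟨b' * a', fun v v' => ?_⟩
      show β (a (b v)) v' = β v ((b' : AddMonoid.End V) ((a' : AddMonoid.End V) v'))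
      exact (ha' (b v) v').trans (hb' v _)
  letI : Field R := hF.toField
  have huniq : ∀ r' r'' : R, (∀ v v' : V, β v ((r' : AddMonoid.End V) v') = β v ((r'' : AddMonoid.End V) v')) →
      r' = r'' := by
    intro r' r'' h
    by_contra hr
    have hz : ∀ v v' : V, β v (((r' - r'' : R) : AddMonoid.End V) v') = 0 := fun v v' => by
      show β v ((r' : AddMonoid.End V) v' - (r'' : AddMonoid.End V) v') = 0
      rw [map_sub, h, sub_self]
    apply hne
    have h1 := hz u₀ (((r' - r'')⁻¹ : R) |>.1 (k₀ • u₀))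
    have h2' : ((r' - r'' : R) : AddMonoid.End V) ((((r' - r'')⁻¹ : R) : AddMonoid.End V) (k₀ • u₀)) = k₀ • u₀ := by
      have := congrArg (fun r : R => (r : AddMonoid.End V) (k₀ • u₀)) (mul_inv_cancel₀ (sub_ne_zero.2 hr))
      exact this
    rwa [h2'] at h1
  choose adj hadj' using hadj
  let τf : R →+* R :=
    { toFun := adj
      map_one' := huniq _ _ fun v v' => (hadj' 1 v v').symm
      map_mul' := fun a b => huniq _ _ fun v v' => by
        rw [← hadj' (a * b) v v', mul_comm (adj a) (adj b)]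
        exact ((hadj' a _ v').trans (hadj' b v _))
      map_zero' := huniq _ _ fun v v' => by
        rw [← hadj' 0 v v']
        show β (0 : V) v' = β v (0 : V)
        simp
      map_add' := fun a b => huniq _ _ fun v v' => by
        rw [← hadj' (a + b) v v']
        show β ((a : AddMonoid.End V) v + (b : AddMonoid.End V) v) v' =
          β v ((adj a : AddMonoid.End V) v' + (adj b : AddMonoid.End V) v')
        rw [map_add, AddMonoidHom.add_apply, map_add, hadj', hadj'] }
  have hτk : ∀ (k : L) (hk : k ∈ K), τf ⟨act k, hmem k hk⟩ = ⟨act k⁻¹, hmem _ (inv_mem hk)⟩ := fun k hk =>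
    huniq _ _ fun v v' => by
      refine (hadj' ⟨act k, hmem k hk⟩ v v').symm.trans ?_
      show β (k • v) v' = β v (k⁻¹ • v')
      rw [← hinv k hk v (k⁻¹ • v'), smul_inv_smul]
  have hττ : ∀ r : R, τf (τf r) = r := by
    rintro ⟨r, hr⟩
    induction hr using Subring.closure_induction with
    | mem f hf =>
      obtain ⟨k, hk, rfl⟩ := hf
      rw [hτk k hk, hτk _ (inv_mem hk)]
      exact Subtype.ext (congrArg act (inv_inv k))
    | zero => exact (congrArg τf (map_zero τf)).trans (map_zero τf)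
    | one => exact (congrArg τf (map_one τf)).trans (map_one τf)
    | add a b ha hb iha ihb =>
      rw [show (⟨a + b, add_mem ha hb⟩ : R) = ⟨a, ha⟩ + ⟨b, hb⟩ from rfl, map_add, map_add, iha, ihb]
    | neg a ha iha => rw [show (⟨-a, neg_mem ha⟩ : R) = -⟨a, ha⟩ from rfl, map_neg, map_neg, iha]
    | mul a b ha hb iha ihb =>
      rw [show (⟨a * b, mul_mem ha hb⟩ : R) = ⟨a, ha⟩ * ⟨b, hb⟩ from rfl, map_mul, map_mul, iha, ihb]
  let τ : R ≃+* R := RingEquiv.ofBijective τf
    ⟨Function.LeftInverse.injective hττ, Function.RightInverse.surjective hττ⟩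
  have h1 := hinvol τ hττ ⟨act k₀, hmem k₀ hk₀⟩
  have h1' : act k₀⁻¹ = act k₀ := congrArg Subtype.val ((hτk k₀ hk₀).symm.trans h1)
  apply hmove
  obtain ⟨j, hj⟩ := hK
  have h2k : act (k₀ * k₀) = 1 := by
    rw [map_mul]; nth_rewrite 1 [← h1']; rw [← map_mul, inv_mul_cancel, map_one]
  have hk1 : act k₀ = 1 := by
    have e : (k₀ * k₀) ^ (j + 1) = k₀ := by
      rw [← pow_two, ← pow_mul, show 2 * (j + 1) = (2 * j + 1) + 1 by ring, pow_succ, ← hj]
      rw [show k₀ ^ N = 1 from orderOf_dvd_iff_pow_eq_one.1 (K.orderOf_dvd_natCard hk₀), one_mul]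
    rw [← e, map_pow, h2k, one_pow]
  rw [← act_apply, hk1]
  rfl

/-- THE MODULE LEMMA: an odd group normalised by `x`, on whose orbit of `u₀` the map `β` separates, fixes `u₀` -/
theorem fixed_of_odd (h2 : ∀ v : V, v + v = 0) {x : L} {ℓ : ℕ} (hℓp : ℓ.Prime) (hℓ : Odd ℓ)
    (hxℓ : ∀ v : V, x ^ ℓ • v = v) {u₀ : V} (hfix : ∀ v : V, x • v = v → v = 0 ∨ v = u₀) (hxu : x • u₀ = u₀)
    (β : V →+ V →+ W) : ∀ (K : Subgroup L), Odd (Nat.card K) → x ∈ Subgroup.normalizer (K : Set L) →
      (∀ k ∈ K, ∀ v v' : V, β (k • v) (k • v') = β v v') →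
      (∀ k ∈ K, β u₀ (k • u₀) = 0 → k • u₀ = u₀) → ∀ k ∈ K, k • u₀ = u₀ := by
  classical
  intro K
  induction hn : Nat.card K using Nat.strong_induction_on generalizing K with
  | _ n ih =>
  intro hodd hnorm hinv hperp
  by_cases hK : K = ⊥
  · intro k hk
    rw [hK, Subgroup.mem_bot] at hk
    rw [hk, one_smul]
  subst hn
  haveI : Nontrivial K := (Subgroup.nontrivial_iff_ne_bot K).2 hK
  haveI : Group.IsSolvable K := Cfsg.Agent.PF.isSolvable_of_odd K hodd
  set K' : Subgroup L := ⁅K, K⁆ with hK'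
  have hK'le : K' ≤ K := by
    refine Subgroup.commutator_le.2 fun a ha b hb => ?_
    exact mul_mem (mul_mem (mul_mem ha hb) (inv_mem ha)) (inv_mem hb)
  have hlt : Nat.card K' < Nat.card K := by
    have h1 : (_root_.commutator K).map K.subtype = K' := Subgroup.map_subtype_commutator K
    rw [← h1, Subgroup.card_map_of_injective K.subtype_injective]
    refine lt_of_le_of_ne (Subgroup.card_le_card_group _) fun e => ?_
    exact (Group.IsSolvable.commutator_lt_top_of_nontrivial K).ne (Subgroup.eq_top_of_card_eq _ e)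
  have hn' : x ∈ Subgroup.normalizer (K' : Set L) := by
    rw [Subgroup.mem_normalizer_iff_map_conj_eq, hK', Subgroup.map_commutator, Subgroup.mem_normalizer_iff_map_conj_eq.1 hnorm]
  have hfix' : ∀ c ∈ K', c • u₀ = u₀ := ih _ hlt K' rfl
    (hodd.of_dvd_nat (Subgroup.card_dvd_of_le hK'le)) hn' (fun k hk => hinv k (hK'le hk))
    fun k hk => hperp k (hK'le hk)
  set V₀ : AddSubgroup V := AddSubgroup.closure {v : V | ∃ k ∈ K, k • u₀ = v} with hV₀
  have maps : ∀ g : L, (∀ k ∈ K, g • k • u₀ ∈ V₀) → ∀ v ∈ V₀, g • v ∈ V₀ := fun g hg v hv => by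
    induction hv using AddSubgroup.closure_induction with
    | mem w hw => obtain ⟨k, hk, rfl⟩ := hw; exact hg k hk
    | zero => rw [smul_zero]; exact zero_mem _
    | add a b _ _ iha ihb => rw [smul_add]; exact add_mem iha ihb
    | neg a _ iha => rw [smul_neg]; exact neg_mem iha
  let N : Subgroup L :=
    { carrier := {g | (∀ v ∈ V₀, g • v ∈ V₀) ∧ ∀ v ∈ V₀, g⁻¹ • v ∈ V₀}
      one_mem' := ⟨fun v hv => by rwa [one_smul], fun v hv => by rwa [inv_one, one_smul]⟩
      mul_mem' := fun {a b} ha hb => ⟨fun v hv => by rw [mul_smul]; exact ha.1 _ (hb.1 v hv),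
        fun v hv => by rw [mul_inv_rev, mul_smul]; exact hb.2 _ (ha.2 v hv)⟩
      inv_mem' := fun {a} ha => ⟨ha.2, fun v hv => by rw [inv_inv]; exact ha.1 v hv⟩ }
  have hKN : K ≤ N := fun k hk => ⟨maps k fun k' hk' => AddSubgroup.subset_closure
      ⟨k * k', mul_mem hk hk', mul_smul _ _ _⟩,
    maps k⁻¹ fun k' hk' => AddSubgroup.subset_closure ⟨k⁻¹ * k', mul_mem (inv_mem hk) hk', mul_smul _ _ _⟩⟩
  have hxN : x ∈ N := by
    refine ⟨maps x fun k hk => AddSubgroup.subset_closure
      ⟨x * k * x⁻¹, (Subgroup.mem_normalizer_iff.1 hnorm k).1 hk, ?_⟩,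
      maps x⁻¹ fun k hk => AddSubgroup.subset_closure
      ⟨x⁻¹ * k * x, (Subgroup.mem_normalizer_iff.1 hnorm _).2 (by
        rwa [show x * (x⁻¹ * k * x) * x⁻¹ = k by group]), ?_⟩⟩
    · rw [mul_smul, mul_smul, inv_smul_eq_iff.2 hxu.symm]
    · rw [mul_smul, mul_smul, hxu]
  letI : DistribMulAction N V₀ :=
    { smul := fun g v => ⟨(g : L) • (v : V), g.2.1 v v.2⟩
      one_smul := fun v => Subtype.ext (one_smul L (v : V))
      mul_smul := fun g g' v => Subtype.ext (mul_smul (g : L) g' (v : V))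
      smul_zero := fun g => Subtype.ext (smul_zero (g : L))
      smul_add := fun g v w => Subtype.ext (smul_add (g : L) (v : V) w) }
  have hu₀ : u₀ ∈ V₀ := AddSubgroup.subset_closure ⟨1, one_mem K, one_smul _ _⟩
  have triv : ∀ c ∈ K', ∀ v ∈ V₀, c • v = v := fun c hc v hv => by
    induction hv using AddSubgroup.closure_induction with
    | mem w hw =>
      obtain ⟨k, hk, rfl⟩ := hw
      have hc' : k⁻¹ * c * k ∈ K' := by
        have h := Subgroup.Normal.conj_mem (inferInstance : (_root_.commutator K).Normal)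
        obtain ⟨c', hc', rfl⟩ : c ∈ (_root_.commutator K).map K.subtype := by rwa [Subgroup.map_subtype_commutator]
        rw [hK', ← Subgroup.map_subtype_commutator]
        refine ⟨⟨k, hk⟩⁻¹ * c' * ⟨k, hk⟩, ?_, rfl⟩
        have h' := h c' hc' ⟨k, hk⟩⁻¹
        rwa [inv_inv] at h'
      rw [smul_smul, show c * k = k * (k⁻¹ * c * k) by group, mul_smul, hfix' _ hc']
    | zero => rw [smul_zero]
    | add a b _ _ iha ihb => rw [smul_add, iha, ihb]
    | neg a _ iha => rw [smul_neg, iha]
  have key := fixed_of_commutative (L := N) (V := V₀) (W := W) (x := ⟨x, hxN⟩) (u₀ := ⟨u₀, hu₀⟩)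
    (fun v => Subtype.ext (h2 v)) (K.subgroupOf N)
    (by rw [Nat.card_congr (Subgroup.subgroupOfEquivOfLe hKN).toEquiv]; exact hodd)
    (Subgroup.mem_normalizer_iff.2 fun g => by
      simp only [Subgroup.mem_subgroupOf, Subgroup.coe_mul, Subgroup.coe_inv]
      exact Subgroup.mem_normalizer_iff.1 hnorm (g : L))
    hℓp hℓ (fun v => Subtype.ext (by show (x ^ ℓ) • (v : V) = v; exact hxℓ v))
    (fun v hv => by
      rcases hfix v (congrArg Subtype.val hv) with h | h
      · exact Or.inl (Subtype.ext h)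
      · exact Or.inr (Subtype.ext h))
    (Subtype.ext hxu)
    (fun k hk k' hk' v => by
      refine Subtype.ext ?_
      show (k : L) • (k' : L) • (v : V) = (k' : L) • (k : L) • (v : V)
      have hc : ((k' : L) * k)⁻¹ * ((k : L) * k') ∈ K' := by
        have := Subgroup.commutator_mem_commutator (inv_mem (Subgroup.mem_subgroupOf.1 hk))
          (inv_mem (Subgroup.mem_subgroupOf.1 hk'))
        rwa [commutatorElement_def, inv_inv, inv_inv, show (k : L)⁻¹ * (k' : L)⁻¹ * k * k' =
          ((k' : L) * k)⁻¹ * ((k : L) * k') by group] at this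
      rw [← mul_smul, ← mul_smul, show (k : L) * k' = (k' : L) * k * (((k' : L) * k)⁻¹ * ((k : L) * k')) by group,
        mul_smul, triv _ hc v v.2])
    (by
      refine eq_top_iff.2 fun v _ => ?_
      suffices H : ∀ w, ∀ hw : w ∈ V₀, (⟨w, hw⟩ : V₀) ∈ AddSubgroup.closure
          {v : V₀ | ∃ k ∈ K.subgroupOf N, k • (⟨u₀, hu₀⟩ : V₀) = v} from H v v.2
      intro w hw
      induction hw using AddSubgroup.closure_induction with
      | mem w hw =>
        obtain ⟨k, hk, rfl⟩ := hw
        exact AddSubgroup.subset_closure ⟨⟨k, hKN hk⟩, hk, rfl⟩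
      | zero => exact zero_mem _
      | add a b ha hb iha ihb => exact add_mem iha ihb
      | neg a ha iha => exact neg_mem iha)
    (((β.comp V₀.subtype).flip.comp V₀.subtype).flip)
    (fun k hk v v' => hinv k (Subgroup.mem_subgroupOf.1 hk) v v')
    (fun k hk h => Subtype.ext (hperp k (Subgroup.mem_subgroupOf.1 hk) h))
  intro k hk
  exact congrArg Subtype.val (key ⟨k, hKN hk⟩ hk)

end Module

end Cfsg.Lib.BenderSE.Crit2.RootModule
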